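import Groth.Agent.Lib.Helper70.Catenary2
import Groth.Prelude.Def_W4stktopologysheavesDim
import Mathlib.Order.RelSeries
import Mathlib.Order.Cover
import Mathlib.Topology.Sober
import Mathlib.Topology.Sets.Closeds
import Mathlib.RingTheory.Spectrum.Prime.Topology

set_option autoImplicit false

namespace Groth.Agent.Lib.Helper44

open Groth.Agent.Lib.Helper70 TopologicalSpace
open scoped SetRel

universe u v

theorem head_insertNth {α : Type*} {r : SetRel α α} (p : RelSeries r) (i : Fin p.length) (a : α)
    (h1 : p (Fin.castSucc i) ~[r] a) (h2 : a ~[r] p i.succ) :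
    (p.insertNth i a h1 h2).head = p.head := by
  show (Fin.castSucc i.succ).insertNth (α := fun _ => α) a p.toFun 0 = p.toFun 0
  have h0 : (0 : Fin (p.length + 1 + 1)) < Fin.castSucc i.succ := by
    rw [Fin.lt_def]; simp
  rw [Fin.insertNth_apply_below h0]
  simp

theorem last_insertNth {α : Type*} {r : SetRel α α} (p : RelSeries r) (i : Fin p.length) (a : α)
    (h1 : p (Fin.castSucc i) ~[r] a) (h2 : a ~[r] p i.succ) :
    (p.insertNth i a h1 h2).last = p.last := by
  show (Fin.castSucc i.succ).insertNth (α := fun _ => α) a p.toFun (Fin.last _) =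
    p.toFun (Fin.last _)
  have h0 : Fin.castSucc i.succ < (Fin.last (p.length + 1)) := by
    rw [Fin.lt_def]; simp
  rw [Fin.insertNth_apply_above h0]
  simp only [eq_rec_constant]
  congr 1

/-- In a catenary poset, every chain between the endpoints of a saturated chain is at most as
long as the saturated chain. -/
theorem PosetCat.length_le_of_saturated {P : Type u} [PartialOrder P] (hP : PosetCat P)
    (s : LTSeries P) (hs : ∀ i : Fin s.length, s (Fin.castSucc i) ⋖ s (Fin.succ i))
    (c : LTSeries P) (h1 : c.head = s.head) (h2 : c.last = s.last) : c.length ≤ s.length := by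
  obtain ⟨n, hn⟩ := hP.1 s.head s.last s.head_le_last
  have key : ∀ k : ℕ, ∀ c : LTSeries P, c.head = s.head → c.last = s.last →
      n ≤ c.length + k → c.length ≤ s.length := by
    intro k
    induction k with
    | zero =>
      intro c h1 h2 hk
      by_cases hc : ∀ i : Fin c.length, c (Fin.castSucc i) ⋖ c (Fin.succ i)
      · exact (hP.2 c s h1 h2 hc hs).le
      · exfalso
        push Not at hc
        obtain ⟨i, hi⟩ := hc
        have hlt : c (Fin.castSucc i) < c (Fin.succ i) := c.strictMono (Fin.castSucc_lt_succ)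
        obtain ⟨x, hx1, hx2⟩ := (not_covBy_iff hlt).1 hi
        have := hn (c.insertNth i x hx1 hx2) ((head_insertNth c i x hx1 hx2).trans h1)
          ((last_insertNth c i x hx1 hx2).trans h2)
        simp only [RelSeries.insertNth_length] at this
        omega
    | succ k ih =>
      intro c h1 h2 hk
      by_cases hc : ∀ i : Fin c.length, c (Fin.castSucc i) ⋖ c (Fin.succ i)
      · exact (hP.2 c s h1 h2 hc hs).le
      · push Not at hc
        obtain ⟨i, hi⟩ := hc
        have hlt : c (Fin.castSucc i) < c (Fin.succ i) := c.strictMono (Fin.castSucc_lt_succ)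
        obtain ⟨x, hx1, hx2⟩ := (not_covBy_iff hlt).1 hi
        have := ih (c.insertNth i x hx1 hx2) ((head_insertNth c i x hx1 hx2).trans h1)
          ((last_insertNth c i x hx1 hx2).trans h2)
          (by simp only [RelSeries.insertNth_length]; omega)
        simp only [RelSeries.insertNth_length] at this
        omega
  exact key n c h1 h2 (by omega)

/-- Transport of `PosetCat` along a surjective strictly antitone map. -/
theorem PosetCat.of_anti {P : Type u} {Q : Type v} [PartialOrder P] [PartialOrder Q]
    (g : Q → P) (hg : ∀ a b : Q, a < b ↔ g b < g a) (hsurj : Function.Surjective g)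
    (hP : PosetCat P) : PosetCat Q := by
  have hanti : StrictAnti g := fun a b h => (hg a b).1 h
  let rev : LTSeries Q → LTSeries P := fun s =>
    LTSeries.mk s.length (fun i => g (s i.rev)) (by
      intro i j hij
      exact hanti (s.strictMono (Fin.rev_lt_rev.2 hij)))
  have hrev_head : ∀ s : LTSeries Q, (rev s).head = g s.last := by
    intro s
    show g (s (Fin.rev 0)) = g (s (Fin.last _))
    rw [Fin.rev_zero]
  have hrev_last : ∀ s : LTSeries Q, (rev s).last = g s.head := by
    intro s
    show g (s (Fin.rev (Fin.last _))) = g (s 0)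
    rw [Fin.rev_last]
  have hcov : ∀ x y : Q, x ⋖ y → g y ⋖ g x := by
    intro x y hxy
    refine ⟨hanti hxy.lt, ?_⟩
    intro c h1 h2
    obtain ⟨z, rfl⟩ := hsurj c
    exact hxy.2 ((hg _ _).2 h2) ((hg _ _).2 h1)
  have hrev_cov : ∀ s : LTSeries Q, (∀ i : Fin s.length, s (Fin.castSucc i) ⋖ s (Fin.succ i)) →
      ∀ i : Fin (rev s).length, (rev s) (Fin.castSucc i) ⋖ (rev s) (Fin.succ i) := by
    intro s hs i
    show g (s (Fin.rev (Fin.castSucc i))) ⋖ g (s (Fin.rev (Fin.succ i)))
    rw [Fin.rev_castSucc, Fin.rev_succ]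
    exact hcov _ _ (hs (Fin.rev i))
  constructor
  · intro p q hpq
    have hle : g q ≤ g p := by
      rcases hpq.eq_or_lt with rfl | h
      · exact le_rfl
      · exact (hanti h).le
    obtain ⟨n, hn⟩ := hP.1 (g q) (g p) hle
    refine ⟨n, fun s hs1 hs2 => ?_⟩
    exact hn (rev s) ((hrev_head s).trans (by rw [hs2])) ((hrev_last s).trans (by rw [hs1]))
  · intro s t h1 h2 hs ht
    exact hP.2 (rev s) (rev t) ((hrev_head s).trans ((congrArg g h2).trans (hrev_head t).symm))
      ((hrev_last s).trans ((congrArg g h1).trans (hrev_last t).symm))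
      (hrev_cov s hs) (hrev_cov t ht)

theorem PosetCat.dual {P : Type u} [PartialOrder P] (hP : PosetCat P) : PosetCat Pᵒᵈ :=
  PosetCat.of_anti (OrderDual.ofDual) (fun _ _ => Iff.rfl) (fun x => ⟨OrderDual.toDual x, rfl⟩) hP

theorem PosetCat.of_dual {P : Type u} [PartialOrder P] (hP : PosetCat Pᵒᵈ) : PosetCat P :=
  PosetCat.of_anti (OrderDual.toDual) (fun _ _ => Iff.rfl) (fun x => ⟨OrderDual.ofDual x, rfl⟩) hP

/-- The prelude's catenary spaces are those whose poset of irreducible closed subsets is catenary. -/
theorem isCatenarySpace_iff_posetCat (X : Type u) [TopologicalSpace X] :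
    PtTop.IsCatenarySpace X ↔ PosetCat (IrreducibleCloseds X) := by
  constructor
  · intro hX
    constructor
    · intro p q hpq
      obtain ⟨n, hn⟩ := ENat.ne_top_iff_exists.1 (hX p q hpq).1
      refine ⟨n, fun s hs1 hs2 => ?_⟩
      have h : (s.length : ℕ∞) ≤ PtTop.codim p (q : Set X) :=
        le_iSup₂_of_le (f := fun (s : LTSeries (IrreducibleCloseds X))
          (_ : s.head = p ∧ (s.last : Set X) ⊆ (q : Set X)) => (s.length : ℕ∞)) s
          ⟨hs1, by rw [hs2]⟩ le_rfl
      rw [← hn] at h
      exact_mod_cast h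
    · intro s t h1 h2 hs ht
      have hs' := (hX s.head s.last s.head_le_last).2 s rfl rfl hs
      have ht' := (hX s.head s.last s.head_le_last).2 t h1.symm h2.symm ht
      exact_mod_cast hs'.trans ht'.symm
  · intro (hP : PosetCat (IrreducibleCloseds X)) T T' hle
    obtain ⟨n, hn⟩ := hP.1 T T' hle
    -- any chain from `T` with last member inside `T'` extends to one ending at `T'`
    have ext : ∀ c : LTSeries (IrreducibleCloseds X), c.head = T → (c.last : Set X) ⊆ (T' : Set X) →
        ∃ c' : LTSeries (IrreducibleCloseds X), c'.head = T ∧ c'.last = T' ∧ c.length ≤ c'.length := by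
      intro c hc1 hc2
      by_cases h : c.last = T'
      · exact ⟨c, hc1, h, le_rfl⟩
      · have hlt : c.last < T' := lt_of_le_of_ne (show c.last ≤ T' from hc2) h
        refine ⟨c.snoc T' hlt, ?_, ?_, ?_⟩
        · rw [RelSeries.head_snoc]; exact hc1
        · rw [RelSeries.last_snoc]
        · rw [RelSeries.snoc_length]; omega
    constructor
    · apply ne_top_of_le_ne_top (ENat.natCast_ne_top n)
      refine iSup₂_le fun c hc => ?_
      obtain ⟨c', h1, h2, h3⟩ := ext c hc.1 hc.2
      exact_mod_cast h3.trans (hn c' h1 h2)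
    · intro s hs1 hs2 hsat
      apply le_antisymm
      · exact le_iSup₂_of_le (f := fun (s : LTSeries (IrreducibleCloseds X))
          (_ : s.head = T ∧ (s.last : Set X) ⊆ (T' : Set X)) => (s.length : ℕ∞)) s
          ⟨hs1, by rw [hs2]⟩ le_rfl
      · refine iSup₂_le fun c hc => ?_
        obtain ⟨c', h1, h2, h3⟩ := ext c hc.1 hc.2
        have := PosetCat.length_le_of_saturated hP s hsat c' (h1.trans hs1.symm) (h2.trans hs2.symm)
        exact_mod_cast h3.trans this


/-- The closure of a point, as an irreducible closed subset. -/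
def ptClosure {X : Type u} [TopologicalSpace X] (x : X) : IrreducibleCloseds X :=
  ⟨closure {x}, isIrreducible_singleton.closure, isClosed_closure⟩

theorem ptClosure_le_iff {X : Type u} [TopologicalSpace X] (x : X) (T : IrreducibleCloseds X) :
    ptClosure x ≤ T ↔ x ∈ (T : Set X) := by
  constructor
  · intro h
    exact h (subset_closure (Set.mem_singleton x))
  · intro h
    exact T.isClosed'.closure_subset_iff.2 (Set.singleton_subset_iff.2 h)

theorem ptClosure_le_ptClosure_iff {X : Type u} [TopologicalSpace X] (x y : X) :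
    ptClosure x ≤ ptClosure y ↔ y ⤳ x := by
  rw [ptClosure_le_iff, specializes_iff_mem_closure]
  rfl

/-- The order embedding of a prime spectrum into the (dual of the) poset of irreducible closed
subsets, attached to a topological embedding. -/
noncomputable def specEmb {X : Type u} [TopologicalSpace X] {R : Type v} [CommRing R]
    (f : PrimeSpectrum R → X) (hf : Topology.IsEmbedding f) :
    PrimeSpectrum R ↪o (IrreducibleCloseds X)ᵒᵈ :=
  OrderEmbedding.ofMapLEIff (fun p => OrderDual.toDual (ptClosure (f p))) (by
    intro p q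
    rw [OrderDual.toDual_le_toDual, ptClosure_le_ptClosure_iff, hf.isInducing.specializes_iff,
      PrimeSpectrum.le_iff_specializes])

theorem specEmb_apply {X : Type u} [TopologicalSpace X] {R : Type v} [CommRing R]
    (f : PrimeSpectrum R → X) (hf : Topology.IsEmbedding f) (p : PrimeSpectrum R) :
    specEmb f hf p = OrderDual.toDual (ptClosure (f p)) := rfl

theorem specEmb_lower {X : Type u} [TopologicalSpace X] [QuasiSober X] {R : Type v} [CommRing R]
    (f : PrimeSpectrum R → X) (hf : Topology.IsEmbedding f)
    (hgen : StableUnderGeneralization (Set.range f))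
    (a : PrimeSpectrum R) (r : (IrreducibleCloseds X)ᵒᵈ) (h : r ≤ specEmb f hf a) :
    ∃ c, specEmb f hf c = r := by
  have h' : ptClosure (f a) ≤ OrderDual.ofDual r := h
  rw [ptClosure_le_iff] at h'
  obtain ⟨t, ht⟩ := QuasiSober.sober (OrderDual.ofDual r).isIrreducible' (OrderDual.ofDual r).isClosed'
  have ht' : closure {t} = ((OrderDual.ofDual r : IrreducibleCloseds X) : Set X) := ht
  have hspec : t ⤳ f a := by
    rw [specializes_iff_mem_closure, ht']; exact h'
  obtain ⟨c, rfl⟩ := hgen hspec ⟨a, rfl⟩
  refine ⟨c, ?_⟩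
  rw [specEmb_apply]
  apply OrderDual.ofDual.injective
  apply SetLike.coe_injective
  exact ht'

theorem isCatenary_of_isCatenarySpace {X : Type u} [TopologicalSpace X] [QuasiSober X]
    {R : Type u} [CommRing R] (f : PrimeSpectrum R → X) (hf : Topology.IsEmbedding f)
    (hgen : StableUnderGeneralization (Set.range f)) (hX : PtTop.IsCatenarySpace X) :
    CAlg.IsCatenary R := by
  rw [isCatenary_iff_posetCat]
  rw [isCatenarySpace_iff_posetCat] at hX
  refine PosetCat.of_embedding (specEmb f hf) ?_ (PosetCat.dual hX)
  intro a b r _ hrb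
  exact specEmb_lower f hf hgen b r hrb

theorem isCatenarySpace_of_cover {X : Type u} [TopologicalSpace X] [QuasiSober X]
    (h : ∀ x : X, ∃ (R : Type u) (_ : CommRing R) (f : PrimeSpectrum R → X),
      Topology.IsEmbedding f ∧ StableUnderGeneralization (Set.range f) ∧ x ∈ Set.range f ∧
        CAlg.IsCatenary R) : PtTop.IsCatenarySpace X := by
  rw [isCatenarySpace_iff_posetCat]
  apply PosetCat.of_dual
  apply PosetCat.of_cover_lower.{u, u}
  intro q
  obtain ⟨t, ht⟩ := QuasiSober.sober (OrderDual.ofDual q).isIrreducible' (OrderDual.ofDual q).isClosed'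
  have ht' : closure {t} = ((OrderDual.ofDual q : IrreducibleCloseds X) : Set X) := ht
  obtain ⟨R, _, f, hf, hgen, ⟨a, rfl⟩, hR⟩ := h t
  refine ⟨PrimeSpectrum R, inferInstance, specEmb f hf, hR, ?_, a, ?_⟩
  · intro a r hr
    exact specEmb_lower f hf hgen a r hr
  · rw [specEmb_apply]
    apply OrderDual.ofDual.injective
    apply SetLike.coe_injective
    exact ht'

end Groth.Agent.Lib.Helper44
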