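import Mathlib.RingTheory.WittVector.Teichmuller
import Mathlib.RingTheory.WittVector.Truncated
import Mathlib.Algebra.MvPolynomial.Counit

set_option autoImplicit false

namespace Groth.Agent.Lib.Helper44

open WittVector MvPolynomial

variable (p : ℕ) {R S : Type*} [hp : Fact p.Prime] [CommRing R] [CommRing S]

def scaleFun (r : R) (x : WittVector p R) : WittVector p R :=
  WittVector.mk p (fun n => r ^ p ^ n * x.coeff n)

theorem ghostComponent_scaleFun (r : R) (x : WittVector p R) (n : ℕ) :
    ghostComponent n (scaleFun p r x) = r ^ p ^ n * ghostComponent n x := by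
  rw [ghostComponent_apply, ghostComponent_apply, aeval_wittPolynomial, aeval_wittPolynomial,
    Finset.mul_sum]
  refine Finset.sum_congr rfl fun i hi => ?_
  have hi' : i ≤ n := Nat.lt_succ_iff.mp (Finset.mem_range.mp hi)
  simp only [scaleFun, WittVector.coeff_mk]
  rw [mul_pow, ← pow_mul, ← pow_add, Nat.add_sub_cancel' hi']
  ring

theorem map_scaleFun (f : R →+* S) (r : R) (x : WittVector p R) :
    WittVector.map f (scaleFun p r x) = scaleFun p (f r) (WittVector.map f x) := by
  ext n
  simp [scaleFun, WittVector.map_coeff]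

theorem scaleFun_eq_aux₁ {σ : Type*} (r : MvPolynomial σ ℚ) (x : WittVector p (MvPolynomial σ ℚ)) :
    scaleFun p r x = teichmuller p r * x := by
  apply (ghostMap.bijective_of_invertible p (MvPolynomial σ ℚ)).1
  rw [map_mul]
  ext1 n
  simp only [Pi.mul_apply, ghostMap_apply, ghostComponent_scaleFun, ghostComponent_teichmuller]

theorem scaleFun_eq_aux₂ {σ : Type*} (r : MvPolynomial σ ℤ) (x : WittVector p (MvPolynomial σ ℤ)) :
    scaleFun p r x = teichmuller p r * x := by
  refine map_injective (MvPolynomial.map (Int.castRingHom ℚ))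
    (MvPolynomial.map_injective _ Int.cast_injective) ?_
  simp only [scaleFun_eq_aux₁, map_scaleFun, map_mul, map_teichmuller]

theorem scaleFun_eq (r : R) (x : WittVector p R) :
    scaleFun p r x = teichmuller p r * x := by
  rcases counit_surjective R r with ⟨r, rfl⟩
  rcases WittVector.map_surjective (counit R) (counit_surjective R) x with ⟨x, rfl⟩
  rw [← map_teichmuller, ← map_mul, ← map_scaleFun, scaleFun_eq_aux₂]

theorem teichmuller_mul_coeff (r : R) (x : WittVector p R) (n : ℕ) :
    (teichmuller p r * x).coeff n = r ^ p ^ n * x.coeff n := by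
  rw [← scaleFun_eq]
  rfl

theorem mul_teichmuller_coeff (r : R) (x : WittVector p R) (n : ℕ) :
    (x * teichmuller p r).coeff n = x.coeff n * r ^ p ^ n := by
  rw [mul_comm, teichmuller_mul_coeff, mul_comm]

theorem truncate_teichmuller_mul_coeff (m : ℕ) (r : R) (a : TruncatedWittVector p m R) (j : Fin m) :
    (WittVector.truncate m (teichmuller p r) * a).coeff j = r ^ p ^ (j : ℕ) * a.coeff j := by
  obtain ⟨x, rfl⟩ := WittVector.truncate_surjective (p := p) m R a
  rw [← map_mul, WittVector.coeff_truncate, WittVector.coeff_truncate, teichmuller_mul_coeff]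

theorem mul_truncate_teichmuller_coeff (m : ℕ) (r : R) (a : TruncatedWittVector p m R) (j : Fin m) :
    (a * WittVector.truncate m (teichmuller p r)).coeff j = a.coeff j * r ^ p ^ (j : ℕ) := by
  rw [mul_comm, truncate_teichmuller_mul_coeff, mul_comm]

end Groth.Agent.Lib.Helper44
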