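/-
Extensions of places in finite extensions of function fields (prelude `Def_W4bk4goldsch23Ext`):
basic facts on `IsOverWith`, `IsOver`, `ramIdx`; the place below a given place.
Author: helper44
-/
import Groth.Prelude.Def_W4bk4goldsch23Ext
import Groth.Agent.Lib.Helper88.FunFldLocal
import Mathlib.RingTheory.Algebraic.Basic
import Mathlib.FieldTheory.Minpoly.Field
import Mathlib.GroupTheory.SpecificGroups.Cyclic

set_option autoImplicit false

namespace Groth.Agent.Lib.Helper44.FFExt

open FunFld WithZero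
open Groth.Agent.Lib.Helper88.FF

variable {k K K' : Type*} [Field k] [Field K] [Field K'] [Algebra k K] [Algebra K K'] [Algebra k K']

lemma zm0_pow_injective {e : ℕ} (he : e ≠ 0) : Function.Injective (fun a : ℤᵐ⁰ => a ^ e) := by
  intro a b hab
  exact (pow_left_inj₀ (zero_le (a := a)) (zero_le (a := b)) he).1 hab

lemma exp_pow' (n : ℤ) (e : ℕ) : (exp n : ℤᵐ⁰) ^ e = exp ((e : ℤ) * n) := by
  rw [← exp_nsmul, nsmul_eq_mul]

lemma isOverWith_pos {Q : Place k K'} {P : Place k K} {e : ℕ} (h : IsOverWith Q P e) : 0 < e := by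
  rcases Nat.eq_zero_or_pos e with rfl | he
  · exfalso
    have := h 0
    simp at this
  · exact he

lemma isOverWith_ne_zero {Q : Place k K'} {P : Place k K} {e : ℕ} (h : IsOverWith Q P e) :
    e ≠ 0 := (isOverWith_pos h).ne'

lemma isOverWith_ord_eq {Q : Place k K'} {P : Place k K} {e : ℕ} (h : IsOverWith Q P e) (x : K) :
    Q.ord (algebraMap K K' x) = e * P.ord x := by
  unfold Place.ord
  rw [h x, log_pow, nsmul_eq_mul]
  ring

lemma isOverWith_unique {Q : Place k K'} {P : Place k K} {e e' : ℕ} (h : IsOverWith Q P e)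
    (h' : IsOverWith Q P e') : e = e' := by
  obtain ⟨t, ht⟩ := exists_uniformizer P
  have h1 := h t
  rw [h' t, ht, exp_pow', exp_pow', exp_inj] at h1
  have : (e' : ℤ) = e := by linarith
  exact_mod_cast this.symm

lemma ramIdx_eq {Q : Place k K'} {P : Place k K} {e : ℕ} (h : IsOverWith Q P e) :
    ramIdx Q P = e := by
  classical
  have hex : IsOver Q P := ⟨e, h⟩
  unfold ramIdx
  rw [dif_pos hex]
  exact isOverWith_unique (Nat.find_spec hex) h

lemma isOverWith_ramIdx {Q : Place k K'} {P : Place k K} (h : IsOver Q P) :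
    IsOverWith Q P (ramIdx Q P) := by
  obtain ⟨e, he⟩ := h
  rw [ramIdx_eq he]
  exact he

lemma ramIdx_pos {Q : Place k K'} {P : Place k K} (h : IsOver Q P) : 0 < ramIdx Q P :=
  isOverWith_pos (isOverWith_ramIdx h)

lemma ramIdx_eq_zero {Q : Place k K'} {P : Place k K} (h : ¬ IsOver Q P) : ramIdx Q P = 0 := by
  classical
  unfold ramIdx
  rw [dif_neg h]

lemma isOverWith_val_le_one_iff {Q : Place k K'} {P : Place k K} {e : ℕ} (h : IsOverWith Q P e)
    (x : K) : Q.1 (algebraMap K K' x) ≤ 1 ↔ P.1 x ≤ 1 := by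
  rw [h x]
  exact pow_le_one_iff_of_nonneg zero_le (isOverWith_ne_zero h)

lemma isOverWith_val_lt_one_iff {Q : Place k K'} {P : Place k K} {e : ℕ} (h : IsOverWith Q P e)
    (x : K) : Q.1 (algebraMap K K' x) < 1 ↔ P.1 x < 1 := by
  rw [h x]
  exact pow_lt_one_iff_of_nonneg zero_le (isOverWith_ne_zero h)

/-- Places are determined by their valuation. -/
lemma place_ext {P P' : Place k K} (h : ∀ x, P.1 x = P'.1 x) : P = P' :=
  Subtype.ext (Valuation.ext h)

/-- The place below a given place is unique. -/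
lemma isOver_unique_below {Q : Place k K'} {P P' : Place k K} (h : IsOver Q P) (h' : IsOver Q P') :
    P = P' := by
  obtain ⟨e, he⟩ := h
  obtain ⟨e', he'⟩ := h'
  obtain ⟨t, ht⟩ := exists_uniformizer P
  obtain ⟨t', ht'⟩ := exists_uniformizer P'
  -- `e * ord_P x = e' * ord_P' x` for all `x`
  have key : ∀ x : K, (e : ℤ) * P.ord x = e' * P'.ord x := fun x => by
    rw [← isOverWith_ord_eq he, ← isOverWith_ord_eq he']
  have h1 : P.ord t = 1 := by
    unfold Place.ord; rw [ht]; simp
  have h2 : P'.ord t' = 1 := by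
    unfold Place.ord; rw [ht']; simp
  have k1 := key t
  have k2 := key t'
  rw [h1, mul_one] at k1
  rw [h2, mul_one] at k2
  have hepos : (0 : ℤ) < e := by exact_mod_cast isOverWith_pos he
  have he'pos : (0 : ℤ) < e' := by exact_mod_cast isOverWith_pos he'
  -- `e = e' * a`, `e' = e * b` so `a * b = 1`
  have hab : P'.ord t * P.ord t' = 1 := by
    have : (e : ℤ) * (P'.ord t * P.ord t') = e * 1 := by
      calc (e : ℤ) * (P'.ord t * P.ord t') = (e * P.ord t') * P'.ord t := by ring
        _ = e' * P'.ord t := by rw [k2]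
        _ = e * 1 := by rw [← k1, mul_one]
    exact mul_left_cancel₀ hepos.ne' this
  have ha : 0 < P'.ord t := by
    by_contra hcon
    push Not at hcon
    have : (e : ℤ) ≤ 0 := by rw [k1]; exact mul_nonpos_of_nonneg_of_nonpos he'pos.le hcon
    omega
  have ha1 : P'.ord t = 1 := by
    rcases Int.eq_one_or_neg_one_of_mul_eq_one hab with h | h
    · exact h
    · omega
  have hee' : (e : ℤ) = e' := by rw [k1, ha1, mul_one]
  apply place_ext
  intro x
  rcases eq_or_ne x 0 with rfl | hx
  · simp
  · rw [val_eq_exp_neg_ord P hx, val_eq_exp_neg_ord P' hx, exp_inj, neg_inj]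
    have := key x
    rw [hee'] at this
    exact mul_left_cancel₀ he'pos.ne' this


lemma val_eq_one_of_le_of_inv_le {Q : Place k K'} {y : K'} (hy : y ≠ 0) (h1 : Q.1 y ≤ 1)
    (h2 : Q.1 y⁻¹ ≤ 1) : Q.1 y = 1 := by
  apply le_antisymm h1
  rw [map_inv₀] at h2
  have hy0 : Q.1 y ≠ 0 := (Valuation.ne_zero_iff Q.1).2 hy
  have := (inv_le_one₀ (zero_lt_iff.2 hy0)).1 h2
  exact this

lemma ord_eq_zero_of_val_eq_one {Q : Place k K'} {y : K'} (h : Q.1 y = 1) : Q.ord y = 0 := by
  unfold Place.ord; rw [h]; simp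

lemma ord_uniformizer {P : Place k K} {t : K} (ht : P.1 t = exp (-1 : ℤ)) : P.ord t = 1 := by
  unfold Place.ord; rw [ht]; simp

/-- Same valuation ring on `K` implies lying over. -/
theorem isOver_of_val_le_one_iff (Q : Place k K') (P : Place k K)
    (h : ∀ x : K, Q.1 (algebraMap K K' x) ≤ 1 ↔ P.1 x ≤ 1) : IsOver Q P := by
  obtain ⟨t, ht⟩ := exists_uniformizer P
  have ht0 : t ≠ 0 := by
    rintro rfl
    rw [map_zero] at ht
    exact exp_ne_zero ht.symm
  have hinj : Function.Injective (algebraMap K K') := (algebraMap K K').injective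
  have hne : ∀ {x : K}, x ≠ 0 → algebraMap K K' x ≠ 0 := fun hx =>
    (map_ne_zero_iff _ hinj).2 hx
  have hPt : P.ord t = 1 := ord_uniformizer ht
  -- units of `P` are units of `Q`
  have hunit : ∀ u : K, u ≠ 0 → P.ord u = 0 → Q.ord (algebraMap K K' u) = 0 := by
    intro u hu hu0
    have h1 : P.1 u ≤ 1 := (val_le_one_iff P hu).2 hu0.ge
    have h2 : P.1 u⁻¹ ≤ 1 := by
      rw [val_le_one_iff P (inv_ne_zero hu), ord_inv, hu0, neg_zero]
    apply ord_eq_zero_of_val_eq_one
    apply val_eq_one_of_le_of_inv_le (hne hu) ((h u).2 h1)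
    rw [← map_inv₀]
    exact (h u⁻¹).2 h2
  have hQt : 0 < Q.ord (algebraMap K K' t) := by
    rw [← val_lt_one_iff Q (hne ht0)]
    by_contra hcon
    push Not at hcon
    have h1 : Q.1 (algebraMap K K' t⁻¹) ≤ 1 := by
      rw [map_inv₀, map_inv₀]
      exact inv_le_one_of_one_le₀ hcon
    have h2 := (h t⁻¹).1 h1
    rw [val_le_one_iff P (inv_ne_zero ht0), ord_inv, hPt] at h2
    omega
  obtain ⟨e, he⟩ : ∃ e : ℕ, (e : ℤ) = Q.ord (algebraMap K K' t) :=
    ⟨(Q.ord (algebraMap K K' t)).toNat, Int.toNat_of_nonneg hQt.le⟩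
  have hepos : 0 < e := by
    have : (0 : ℤ) < e := he ▸ hQt
    exact_mod_cast this
  have key : ∀ x : K, x ≠ 0 → Q.ord (algebraMap K K' x) = e * P.ord x := by
    intro x hx
    set n := P.ord x with hn
    have hu0 : x * t ^ (-n) ≠ 0 := mul_ne_zero hx (zpow_ne_zero _ ht0)
    have hu : P.ord (x * t ^ (-n)) = 0 := by
      rw [ord_mul P hx (zpow_ne_zero _ ht0), ord_zpow, hPt, ← hn]; ring
    have hxu : x = (x * t ^ (-n)) * t ^ n := by
      rw [mul_assoc, ← zpow_add₀ ht0]; simp
    have h3 := hunit _ hu0 hu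
    calc Q.ord (algebraMap K K' x)
        = Q.ord (algebraMap K K' (x * t ^ (-n)) * (algebraMap K K' t) ^ n) := by
          rw [← map_zpow₀, ← map_mul, ← hxu]
      _ = Q.ord (algebraMap K K' (x * t ^ (-n))) + n * Q.ord (algebraMap K K' t) := by
          rw [ord_mul Q (hne hu0) (zpow_ne_zero _ (hne ht0)), ord_zpow]
      _ = e * n := by rw [h3, ← he]; ring
  refine ⟨e, fun x => ?_⟩
  rcases eq_or_ne x 0 with rfl | hx
  · simp [hepos.ne']
  · rw [val_eq_exp_neg_ord Q (hne hx), val_eq_exp_neg_ord P hx, exp_pow', key x hx]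
    congr 1
    ring

section tower
variable {K'' : Type*} [Field K''] [Algebra K' K''] [Algebra K K''] [Algebra k K'']
  [IsScalarTower K K' K'']

theorem isOverWith_trans {Q'' : Place k K''} {Q' : Place k K'} {P : Place k K} {e1 e2 : ℕ}
    (h1 : IsOverWith Q' P e1) (h2 : IsOverWith Q'' Q' e2) : IsOverWith Q'' P (e1 * e2) := by
  intro x
  rw [IsScalarTower.algebraMap_apply K K' K'', h2, h1, pow_mul]

theorem isOver_trans {Q'' : Place k K''} {Q' : Place k K'} {P : Place k K}
    (h1 : IsOver Q' P) (h2 : IsOver Q'' Q') : IsOver Q'' P := by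
  obtain ⟨e1, h1⟩ := h1
  obtain ⟨e2, h2⟩ := h2
  exact ⟨_, isOverWith_trans h1 h2⟩

theorem ramIdx_trans {Q'' : Place k K''} {Q' : Place k K'} {P : Place k K}
    (h1 : IsOver Q' P) (h2 : IsOver Q'' Q') : ramIdx Q'' P = ramIdx Q' P * ramIdx Q'' Q' :=
  ramIdx_eq (isOverWith_trans (isOverWith_ramIdx h1) (isOverWith_ramIdx h2))

end tower


section below

variable [IsScalarTower k K K']

omit [Algebra k K] [IsScalarTower k K K'] in
/-- A place of an algebraic extension is nontrivial on the base field. -/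
theorem exists_val_lt_one_below [Algebra.IsAlgebraic K K'] (Q : Place k K') :
    ∃ x : K, x ≠ 0 ∧ Q.1 (algebraMap K K' x) < 1 := by
  by_contra hcon
  push Not at hcon
  have hinj : Function.Injective (algebraMap K K') := (algebraMap K K').injective
  have hne : ∀ {x : K}, x ≠ 0 → algebraMap K K' x ≠ 0 := fun hx =>
    (map_ne_zero_iff _ hinj).2 hx
  have hone : ∀ x : K, x ≠ 0 → Q.1 (algebraMap K K' x) = 1 := by
    intro x hx
    apply le_antisymm _ (hcon x hx)
    have := hcon x⁻¹ (inv_ne_zero hx)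
    rw [map_inv₀, map_inv₀] at this
    have h0 : Q.1 (algebraMap K K' x) ≠ 0 := (Valuation.ne_zero_iff Q.1).2 (hne hx)
    exact (one_le_inv₀ (zero_lt_iff.2 h0)).1 this
  let A : Subalgebra K K' :=
    { carrier := {w | Q.1 w ≤ 1}
      mul_mem' := fun {a b} ha hb => by
        show Q.1 (a * b) ≤ 1
        rw [map_mul]; exact mul_le_one' ha hb
      add_mem' := fun {a b} ha hb => (Q.1.map_add a b).trans (max_le ha hb)
      algebraMap_mem' := fun x => by
        show Q.1 (algebraMap K K' x) ≤ 1
        rcases eq_or_ne x 0 with rfl | hx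
        · simp
        · exact (hone x hx).le }
  obtain ⟨y, hy⟩ := exists_uniformizer Q
  have hy0 : y ≠ 0 := by
    rintro rfl
    rw [map_zero] at hy
    exact exp_ne_zero hy.symm
  have hyA : y ∈ A := by
    show Q.1 y ≤ 1
    rw [hy]; exact exp_le_exp.2 (by norm_num) |>.trans_eq exp_zero
  have hint : IsIntegral K y := (Algebra.IsAlgebraic.isAlgebraic y).isIntegral
  have hp := minpoly.aeval K y
  have ha0 := minpoly.coeff_zero_ne_zero hint hy0
  rw [← Polynomial.divX_mul_X_add (minpoly K y), map_add, map_mul, Polynomial.aeval_X,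
    Polynomial.aeval_C] at hp
  have hzA : Polynomial.aeval y (minpoly K y).divX ∈ A := by
    have h1 : Polynomial.aeval y (minpoly K y).divX ∈ Algebra.adjoin K ({y} : Set K') :=
      Polynomial.aeval_mem_adjoin_singleton K y
    exact Algebra.adjoin_le (Set.singleton_subset_iff.2 hyA) h1
  have hz : Q.1 (Polynomial.aeval y (minpoly K y).divX) ≤ 1 := hzA
  have h1 : algebraMap K K' ((minpoly K y).coeff 0) =
      -(Polynomial.aeval y (minpoly K y).divX * y) := eq_neg_of_add_eq_zero_right hp
  have h2 := hone _ ha0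
  rw [h1, Valuation.map_neg, map_mul, hy] at h2
  have h3 : Q.1 (Polynomial.aeval y (minpoly K y).divX) * exp (-1 : ℤ) < 1 := by
    calc Q.1 (Polynomial.aeval y (minpoly K y).divX) * exp (-1 : ℤ)
        ≤ 1 * exp (-1 : ℤ) := mul_le_mul' hz le_rfl
      _ = exp (-1 : ℤ) := one_mul _
      _ < 1 := by rw [← exp_zero]; exact exp_lt_exp.2 (by norm_num)
  exact h3.ne h2

/-- Every place of an algebraic extension lies over a (unique) place of the base field. -/
theorem exists_isOver_below [Algebra.IsAlgebraic K K'] (Q : Place k K') :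
    ∃ P : Place k K, IsOver Q P := by
  classical
  have hinj : Function.Injective (algebraMap K K') := (algebraMap K K').injective
  have hne : ∀ {x : K}, x ≠ 0 → algebraMap K K' x ≠ 0 := fun hx =>
    (map_ne_zero_iff _ hinj).2 hx
  -- the order function on `K`
  let o : K → ℤ := fun x => Q.ord (algebraMap K K' x)
  have o_mul : ∀ x y : K, x ≠ 0 → y ≠ 0 → o (x * y) = o x + o y := by
    intro x y hx hy
    show Q.ord (algebraMap K K' (x * y)) = _
    rw [map_mul, ord_mul Q (hne hx) (hne hy)]
  have o_zpow : ∀ (x : K) (n : ℤ), o (x ^ n) = n * o x := by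
    intro x n
    show Q.ord (algebraMap K K' (x ^ n)) = _
    rw [map_zpow₀, ord_zpow]
  have o_one : o 1 = 0 := by
    show Q.ord (algebraMap K K' 1) = 0
    rw [map_one, ord_one]
  have hex : ∃ n : ℕ, 0 < n ∧ ∃ x : K, x ≠ 0 ∧ o x = n := by
    obtain ⟨x, hx0, hx1⟩ := exists_val_lt_one_below (K := K) Q
    have hpos : 0 < o x := (val_lt_one_iff Q (hne hx0)).1 hx1
    refine ⟨(o x).toNat, by omega, x, hx0, (Int.toNat_of_nonneg hpos.le).symm⟩
  set e := Nat.find hex with he
  obtain ⟨hepos, t, ht0, hte⟩ := Nat.find_spec hex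
  rw [← he] at hepos hte
  have hemin : ∀ n : ℕ, 0 < n → (∃ x : K, x ≠ 0 ∧ o x = n) → e ≤ n :=
    fun n hn hx => Nat.find_min' hex ⟨hn, hx⟩
  have hez : (0 : ℤ) < e := by exact_mod_cast hepos
  have hdvd : ∀ x : K, x ≠ 0 → (e : ℤ) ∣ o x := by
    intro x hx
    have hmod : o x % e = 0 := by
      by_contra hr
      have hr1 : 0 ≤ o x % e := Int.emod_nonneg _ hez.ne'
      have hr2 : o x % e < e := Int.emod_lt_of_pos _ hez
      have hr0 : 0 < o x % e := lt_of_le_of_ne hr1 (Ne.symm hr)
      have hy0 : x * t ^ (-(o x / e)) ≠ 0 := mul_ne_zero hx (zpow_ne_zero _ ht0)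
      have hy : o (x * t ^ (-(o x / e))) = o x % e := by
        rw [o_mul _ _ hx (zpow_ne_zero _ ht0), o_zpow, hte]
        have := Int.emod_add_mul_ediv (o x) e
        linarith
      have := hemin (o x % e).toNat (by omega) ⟨_, hy0, by rw [hy]; omega⟩
      omega
    exact Int.dvd_of_emod_eq_zero hmod
  have hdiv : ∀ x : K, x ≠ 0 → (e : ℤ) * (o x / e) = o x := fun x hx =>
    Int.mul_ediv_cancel' (hdvd x hx)
  -- the valuation below
  let v : Valuation K ℤᵐ⁰ :=
    { toFun := fun x => if x = 0 then 0 else exp (-(o x / e))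
      map_zero' := by simp
      map_one' := by
        simp only [one_ne_zero, if_false]
        rw [o_one]; simp
      map_mul' := by
        intro x y
        rcases eq_or_ne x 0 with rfl | hx
        · simp
        rcases eq_or_ne y 0 with rfl | hy
        · simp
        simp only [mul_ne_zero hx hy, hx, hy, if_false]
        rw [← exp_add, exp_inj, o_mul x y hx hy, Int.add_ediv_of_dvd_left (hdvd x hx)]
        ring
      map_add_le_max' := by
        intro x y
        rcases eq_or_ne x 0 with rfl | hx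
        · simp
        rcases eq_or_ne y 0 with rfl | hy
        · simp
        rcases eq_or_ne (x + y) 0 with hxy | hxy
        · simp [hxy]
        simp only [hxy, hx, hy, if_false]
        have h1 := Q.1.map_add (algebraMap K K' x) (algebraMap K K' y)
        rw [← map_add] at h1
        rw [le_max_iff] at h1 ⊢
        rcases h1 with h1 | h1
        · left
          rw [val_eq_exp_neg_ord Q (hne hxy), val_eq_exp_neg_ord Q (hne hx), exp_le_exp] at h1
          rw [exp_le_exp]
          have : o x ≤ o (x + y) := by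
            show Q.ord _ ≤ Q.ord _
            linarith
          have := Int.ediv_le_ediv hez this
          linarith
        · right
          rw [val_eq_exp_neg_ord Q (hne hxy), val_eq_exp_neg_ord Q (hne hy), exp_le_exp] at h1
          rw [exp_le_exp]
          have : o y ≤ o (x + y) := by
            show Q.ord _ ≤ Q.ord _
            linarith
          have := Int.ediv_le_ediv hez this
          linarith }
  have hv : ∀ x : K, x ≠ 0 → v x = exp (-(o x / e)) := by
    intro x hx
    show (if x = 0 then (0 : ℤᵐ⁰) else exp (-(o x / e))) = _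
    rw [if_neg hx]
  have hk : ∀ c : k, v (algebraMap k K c) ≤ 1 := by
    intro c
    rcases eq_or_ne (algebraMap k K c) 0 with h0 | h0
    · rw [h0, map_zero]; exact zero_le
    · rw [hv _ h0]
      have : o (algebraMap k K c) = 0 := by
        show Q.ord (algebraMap K K' (algebraMap k K c)) = 0
        rw [← IsScalarTower.algebraMap_apply k K K', ord_algebraMap]
      rw [this]; simp
  have hsurj : Function.Surjective v := by
    intro γ
    rcases eq_or_ne γ 0 with rfl | hγ
    · exact ⟨0, map_zero _⟩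
    · refine ⟨t ^ (-(log γ)), ?_⟩
      rw [hv _ (zpow_ne_zero _ ht0), o_zpow, hte]
      rw [show -log γ * (e : ℤ) / e = -log γ from Int.mul_ediv_cancel _ hez.ne']
      rw [neg_neg, exp_log hγ]
  refine ⟨⟨v, hk, hsurj⟩, e, fun x => ?_⟩
  rcases eq_or_ne x 0 with rfl | hx
  · simp [hepos.ne']
  · show Q.1 (algebraMap K K' x) = v x ^ e
    rw [hv x hx, exp_pow', val_eq_exp_neg_ord Q (hne hx), exp_inj]
    have := hdiv x hx
    show -o x = _
    linarith

end below

end Groth.Agent.Lib.Helper44.FFExt
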