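/-
Extensions of places, part 2: a finite extension `K'` of a function field `K/k` is a function field
over the algebraic closure of `k` in `K'`; valuation subrings of `K'` containing `k` are places;
existence of a place above a given place.
Author: helper44
-/
import Groth.Agent.Lib.Helper44.FunFldExt
import Groth.Agent.Lib.Helper88.FunFldExist
import Mathlib.FieldTheory.IntermediateField.Adjoin.Algebra
import Mathlib.FieldTheory.AlgebraicClosure
import Mathlib.RingTheory.Valuation.LocalSubring

set_option autoImplicit false

namespace Groth.Agent.Lib.Helper44.FFExt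

open FunFld WithZero
open Groth.Agent.Lib.Helper88.FF

variable {k K K' : Type*} [Field k] [Field K] [Field K'] [Algebra k K] [Algebra K K'] [Algebra k K']

/-- Integral elements over a ring on which a valuation is `≤ 1` have valuation `≤ 1`. -/
lemma val_le_one_of_isIntegral {R L Γ : Type*} [CommRing R] [Field L] [Algebra R L]
    [LinearOrderedCommGroupWithZero Γ] (v : Valuation L Γ)
    (h : ∀ r : R, v (algebraMap R L r) ≤ 1) {x : L} (hx : IsIntegral R x) : v x ≤ 1 := by
  obtain ⟨f, hm, hf⟩ := hx
  by_cases hn : f.natDegree = 0
  · rw [Polynomial.Monic.natDegree_eq_zero hm] at hn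
    subst hn
    simp at hf
  simp only [Polynomial.eval₂_eq_sum_range, Finset.sum_range_succ, hm.coeff_natDegree, map_one,
    one_mul, add_eq_zero_iff_eq_neg] at hf
  apply_fun v at hf
  simp only [Valuation.map_neg, map_pow] at hf
  contrapose! hf
  refine ne_of_lt (v.map_sum_lt ?_ ?_)
  · simp [hn, (hf.trans' (zero_lt_one)).ne']
  · simp only [Finset.mem_range, map_mul, map_pow]
    intro _ hi
    exact mul_lt_of_le_one_of_lt (h _) <| pow_lt_pow_right₀ hf hi

section FF

variable [IsScalarTower k K K'] [FiniteDimensional K K']

/-- A finite extension `K'` of a function field `K/k` is a function field over the algebraic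
closure of `k` in `K'`. -/
theorem isFunctionField_algebraicClosure (hK : IsFunctionField k K) :
    IsFunctionField (algebraicClosure k K') K' := by
  obtain ⟨⟨x, hx, hfin⟩, -⟩ := hK
  have hinj : Function.Injective (algebraMap K K') := (algebraMap K K').injective
  set x' : K' := algebraMap K K' x with hx'
  have hx'tr : Transcendental k x' := (transcendental_algebraMap_iff hinj).2 hx
  have hx'tr' : Transcendental (algebraicClosure k K') x' := hx'tr.extendScalars _
  refine ⟨⟨x', hx'tr', ?_⟩, ?_⟩
  · -- finite generation
    have h1 : Algebra.EssFiniteType k (IntermediateField.adjoin k ({x} : Set K)) := by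
      rw [IntermediateField.essFiniteType_iff]
      exact ⟨{x}, by simp⟩
    have h2 : Algebra.EssFiniteType k K :=
      Algebra.EssFiniteType.comp k (IntermediateField.adjoin k ({x} : Set K)) K
    have h3 : Algebra.EssFiniteType k K' := Algebra.EssFiniteType.comp k K K'
    have h4 : Algebra.EssFiniteType (algebraicClosure k K') K' :=
      Algebra.EssFiniteType.of_comp k (algebraicClosure k K') K'
    have h5 : Algebra.EssFiniteType
        (IntermediateField.adjoin (algebraicClosure k K') ({x'} : Set K')) K' :=
      Algebra.EssFiniteType.of_comp (algebraicClosure k K')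
        (IntermediateField.adjoin (algebraicClosure k K') ({x'} : Set K')) K'
    -- algebraicity
    set E := IntermediateField.adjoin (algebraicClosure k K') ({x'} : Set K') with hE
    have hmem : ∀ a : IntermediateField.adjoin k ({x} : Set K), algebraMap K K' a ∈ E := by
      intro a
      have h6 : algebraMap K K' a ∈
          (IntermediateField.adjoin k ({x} : Set K)).map (IsScalarTower.toAlgHom k K K') :=
        ⟨a, a.2, rfl⟩
      rw [IntermediateField.adjoin_map, Set.image_singleton, IsScalarTower.toAlgHom_apply] at h6
      have hxE : x' ∈ E := IntermediateField.subset_adjoin _ _ (Set.mem_singleton _)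
      have h7 : IntermediateField.adjoin k ({x'} : Set K') ≤ E.restrictScalars k := by
        rw [IntermediateField.adjoin_le_iff, Set.singleton_subset_iff]
        exact hxE
      exact h7 h6
    let f : IntermediateField.adjoin k ({x} : Set K) →+* E :=
      (algebraMap (IntermediateField.adjoin k ({x} : Set K)) K').codRestrict
        E.toSubfield.toSubring hmem
    let _ : Algebra (IntermediateField.adjoin k ({x} : Set K)) E := f.toAlgebra
    have : IsScalarTower (IntermediateField.adjoin k ({x} : Set K)) E K' :=
      IsScalarTower.of_algebraMap_eq (fun _ => rfl)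
    have : Algebra.IsAlgebraic (IntermediateField.adjoin k ({x} : Set K)) K :=
      Algebra.IsAlgebraic.of_finite _ _
    have : Algebra.IsAlgebraic K K' := Algebra.IsAlgebraic.of_finite _ _
    have : Algebra.IsAlgebraic (IntermediateField.adjoin k ({x} : Set K)) K' :=
      Algebra.IsAlgebraic.trans (IntermediateField.adjoin k ({x} : Set K)) K K'
    have : Algebra.IsAlgebraic E K' :=
      Algebra.IsAlgebraic.extendScalars (R := IntermediateField.adjoin k ({x} : Set K))
        (algebraMap (IntermediateField.adjoin k ({x} : Set K)) E).injective
    exact Algebra.finite_of_essFiniteType_of_isAlgebraic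
  · intro y hy
    have hy' : IsAlgebraic k y := hy.restrictScalars k
    exact ⟨⟨y, mem_algebraicClosure_iff.2 hy'⟩, rfl⟩

end FF


section places

variable [IsScalarTower k K K'] [FiniteDimensional K K']

/-- A place of `K'/k` viewed as a place over the algebraic closure of `k` in `K'`. -/
noncomputable def toAlgClosurePlace (Q : Place k K') : Place (algebraicClosure k K') K' :=
  ⟨Q.1, fun c => by
    apply val_le_one_of_isIntegral (R := k) Q.1 Q.2.1
    exact mem_algebraicClosure_iff'.1 c.2, Q.2.2⟩

/-- A place over the algebraic closure of `k` in `K'` viewed as a place over `k`. -/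
noncomputable def ofAlgClosurePlace (Q : Place (algebraicClosure k K') K') : Place k K' :=
  ⟨Q.1, fun c => by
    rw [IsScalarTower.algebraMap_apply k (algebraicClosure k K') K']
    exact Q.2.1 _, Q.2.2⟩

omit [IsScalarTower k K K'] [FiniteDimensional K K'] in
@[simp] lemma toAlgClosurePlace_val (Q : Place k K') : (toAlgClosurePlace Q).1 = Q.1 := rfl

omit [IsScalarTower k K K'] [FiniteDimensional K K'] in
@[simp] lemma ofAlgClosurePlace_val (Q : Place (algebraicClosure k K') K') :
    (ofAlgClosurePlace Q).1 = Q.1 := rfl

/-- Valuation subrings of a finite extension of a function field which contain `k` and are proper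
are valuation rings of places. -/
theorem exists_place_of_valuationSubring' (hK : IsFunctionField k K) (V : ValuationSubring K')
    (hkV : ∀ c : k, algebraMap k K' c ∈ V) {x : K'} (hxV : x ∉ V) :
    ∃ Q : Place k K', ∀ w : K', Q.1 w ≤ 1 ↔ w ∈ V := by
  have hK' := isFunctionField_algebraicClosure (K' := K') hK
  have hk'V : ∀ c : algebraicClosure k K', algebraMap (algebraicClosure k K') K' c ∈ V := by
    intro c
    rw [← ValuationSubring.valuation_le_one_iff]
    apply val_le_one_of_isIntegral (R := k) V.valuation
      (fun r => (ValuationSubring.valuation_le_one_iff V _).2 (hkV r))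
    exact mem_algebraicClosure_iff'.1 c.2
  obtain ⟨P, hP⟩ := exists_place_of_valuationSubring hK' V hk'V hxV
  exact ⟨ofAlgClosurePlace P, hP⟩

/-- Every place of a function field has a place above it in a finite extension. -/
theorem exists_isOver_above (hK : IsFunctionField k K) (P : Place k K) :
    ∃ Q : Place k K', IsOver Q P := by
  have hinj : Function.Injective (algebraMap K K') := (algebraMap K K').injective
  obtain ⟨B, hB⟩ := (P.O.toLocalSubring.map (algebraMap K K')).exists_le_valuationSubring
  obtain ⟨hle, hloc⟩ := hB
  -- `B ∩ K = O_P`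
  have hBK : ∀ x : K, algebraMap K K' x ∈ B ↔ P.1 x ≤ 1 := by
    intro x
    constructor
    · intro hx
      by_contra hcon
      push Not at hcon
      have hx0 : x ≠ 0 := by
        rintro rfl
        simp at hcon
      have hxinv : P.1 x⁻¹ ≤ 1 := by
        rw [map_inv₀]
        exact inv_le_one_of_one_le₀ hcon.le
      have hmem : algebraMap K K' x⁻¹ ∈ (P.O.toLocalSubring.map (algebraMap K K')).toSubring :=
        ⟨x⁻¹, (Valuation.mem_valuationSubring_iff P.1 _).2 hxinv, rfl⟩
      have hunit : IsUnit (Subring.inclusion hle ⟨algebraMap K K' x⁻¹, hmem⟩) := by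
        rw [isUnit_iff_exists_inv]
        refine ⟨⟨algebraMap K K' x, hx⟩, ?_⟩
        apply Subtype.ext
        show algebraMap K K' x⁻¹ * algebraMap K K' x = 1
        rw [← map_mul, inv_mul_cancel₀ hx0, map_one]
      have hunit' := hloc.map_nonunit _ hunit
      rw [isUnit_iff_exists_inv] at hunit'
      obtain ⟨⟨_, z, hz, rfl⟩, hz'⟩ := hunit'
      have hz'' : algebraMap K K' x⁻¹ * algebraMap K K' z = 1 := congrArg Subtype.val hz'
      rw [← map_mul, ← map_one (algebraMap K K')] at hz''
      have hzx : x⁻¹ * z = 1 := hinj hz''
      have : z = x := by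
        field_simp at hzx
        exact hzx
      subst this
      exact absurd ((Valuation.mem_valuationSubring_iff P.1 _).1 hz) (not_le.2 hcon)
    · intro hx
      exact hle ⟨x, (Valuation.mem_valuationSubring_iff P.1 _).2 hx, rfl⟩
  obtain ⟨t, ht⟩ := exists_uniformizer P
  have ht0 : t ≠ 0 := by
    rintro rfl
    rw [map_zero] at ht
    exact exp_ne_zero ht.symm
  have htB : algebraMap K K' t⁻¹ ∉ B := by
    rw [hBK, map_inv₀, ht, ← exp_neg, neg_neg, not_le, ← exp_zero]
    exact exp_lt_exp.2 (by norm_num)
  have hkB : ∀ c : k, algebraMap k K' c ∈ B := by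
    intro c
    rw [IsScalarTower.algebraMap_apply k K K', hBK]
    exact P.2.1 c
  obtain ⟨Q, hQ⟩ := exists_place_of_valuationSubring' hK B hkB htB
  exact ⟨Q, isOver_of_val_le_one_iff Q P (fun x => (hQ _).trans (hBK x))⟩

end places

end Groth.Agent.Lib.Helper44.FFExt
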