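/-
Extensions of places, part 3: field-degree bookkeeping for a finite extension `K'` of a function
field `K/k` and the algebraic closure `A` of `k` in `K'`:
`[K : k(x)] [K' : K] = [A : k] [K' : A(x)]`, and `A/k` is finite.
Author: helper44
-/
import Groth.Agent.Lib.Helper44.FunFldExt2
import Mathlib.FieldTheory.LinearDisjoint

set_option autoImplicit false

namespace Groth.Agent.Lib.Helper44.FFExt

open FunFld Polynomial

variable {k L : Type*} [Field k] [Field L] [Algebra k L]

/-- A `k`-linearly independent family of an intermediate field `A` stays linearly independent over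
`k(x)` when `x` is transcendental over `A`. -/
theorem linearIndependent_adjoin_of_transcendental (A : IntermediateField k L) {x : L}
    (hx : Transcendental A x) {ι : Type*} (c : ι → A) (hc : LinearIndependent k c) :
    LinearIndependent (IntermediateField.adjoin k ({x} : Set L)) (fun i => (c i : L)) := by
  classical
  rw [linearIndependent_iff']
  intro s g hg i hi
  -- write each coefficient as a quotient of polynomials in `x`
  have hrep : ∀ j, ∃ r d : k[X], aeval x d ≠ 0 ∧ (g j : L) * aeval x d = aeval x r := by
    intro j
    obtain ⟨r, d, hrd⟩ := (IntermediateField.mem_adjoin_simple_iff k (g j : L)).1 (g j).2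
    by_cases hd : aeval x d = 0
    · refine ⟨0, 1, by simp, ?_⟩
      rw [hrd, hd]; simp
    · refine ⟨r, d, hd, ?_⟩
      rw [hrd, div_mul_cancel₀ _ hd]
  choose r d hd hrd using hrep
  -- common denominator
  have hD : aeval x (∏ j ∈ s, d j) ≠ 0 := by
    rw [map_prod]
    exact Finset.prod_ne_zero_iff.2 (fun j _ => hd j)
  set R : ι → k[X] := fun j => r j * ∏ l ∈ s.erase j, d l with hR
  have hgR : ∀ j ∈ s, (g j : L) * aeval x (∏ l ∈ s, d l) = aeval x (R j) := by
    intro j hj
    rw [← Finset.mul_prod_erase s d hj, map_mul, ← mul_assoc, hrd j, hR, map_mul]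
  have hsum : ∑ j ∈ s, aeval x (R j) * (c j : L) = 0 := by
    have h1 : (∑ j ∈ s, g j • (c j : L)) * aeval x (∏ l ∈ s, d l) = 0 := by
      rw [hg, zero_mul]
    rw [Finset.sum_mul] at h1
    rw [← h1]
    apply Finset.sum_congr rfl
    intro j hj
    rw [← hgR j hj]
    show _ = ((g j : L) * (c j : L)) * _
    ring
  -- polynomial over `A`
  set T : A[X] := ∑ j ∈ s, C (c j) * (R j).map (algebraMap k A) with hT
  have hT0 : aeval x T = 0 := by
    rw [hT, map_sum, ← hsum]
    apply Finset.sum_congr rfl
    intro j _
    rw [map_mul, aeval_C, aeval_map_algebraMap, mul_comm]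
    rfl
  have hTz : T = 0 := by
    by_contra hne
    exact hx ⟨T, hne, hT0⟩
  have hcoef : ∀ n j, j ∈ s → (R j).coeff n = 0 := by
    intro n
    have h2 : ∑ j ∈ s, (R j).coeff n • c j = 0 := by
      have h3 := congrArg (fun p : A[X] => p.coeff n) hTz
      simp only [hT, finsetSum_coeff, coeff_C_mul, coeff_map, coeff_zero] at h3
      rw [← h3]
      apply Finset.sum_congr rfl
      intro j _
      rw [Algebra.smul_def, mul_comm]
    exact linearIndependent_iff'.1 hc s (fun j => (R j).coeff n) h2
  have hRi : R i = 0 := Polynomial.ext (fun n => by rw [hcoef n i hi, coeff_zero])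
  have h4 := hgR i hi
  rw [hRi, map_zero] at h4
  have h5 : (g i : L) = 0 := (mul_eq_zero.1 h4).resolve_right hD
  exact Subtype.ext h5


lemma finrank_eq_of_bij {R R' M : Type*} [Field R] [Field R'] [AddCommGroup M] [Module R M]
    [Module R' M] (i : R → R') (hi : Function.Bijective i)
    (hc : ∀ (r : R) (m : M), r • m = i r • m) :
    Module.finrank R M = Module.finrank R' M := by
  have := rank_eq_of_equiv_equiv i (AddEquiv.refl M) hi (fun r m => hc r m)
  unfold Module.finrank
  rw [this]

section degree

variable {K K' : Type*} [Field K] [Field K'] [Algebra k K] [Algebra K K'] [Algebra k K']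
  [IsScalarTower k K K']

/-- `[K : k(x)] [K' : K] = [A : k] [K' : A(x)]` for `A` the algebraic closure of `k` in `K'`. -/
theorem finrank_mul_eq {x : K} (hx : Transcendental k x) :
    Module.finrank (IntermediateField.adjoin k ({x} : Set K)) K * Module.finrank K K' =
      Module.finrank k (algebraicClosure k K') *
        Module.finrank (IntermediateField.adjoin (algebraicClosure k K')
          ({algebraMap K K' x} : Set K')) K' := by
  have hinj : Function.Injective (algebraMap K K') := (algebraMap K K').injective
  set x' : K' := algebraMap K K' x with hx'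
  set A := algebraicClosure k K' with hA
  set L := IntermediateField.adjoin k ({x'} : Set K') with hL
  have hx'tr : Transcendental k x' := (transcendental_algebraMap_iff hinj).2 hx
  have hx'trA : Transcendental A x' := hx'tr.extendScalars _
  -- step (4): tower
  have h4 : Module.finrank (IntermediateField.adjoin k ({x} : Set K)) K * Module.finrank K K' =
      Module.finrank (IntermediateField.adjoin k ({x} : Set K)) K' :=
    Module.finrank_mul_finrank (IntermediateField.adjoin k ({x} : Set K)) K K'
  -- step (5): `k(x) ≃ L`
  have hmapL : (IntermediateField.adjoin k ({x} : Set K)).map (IsScalarTower.toAlgHom k K K') = L := by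
    rw [IntermediateField.adjoin_map, Set.image_singleton, IsScalarTower.toAlgHom_apply]
  have hmem : ∀ a : IntermediateField.adjoin k ({x} : Set K), algebraMap K K' a ∈ L := by
    intro a
    rw [← hmapL]
    exact ⟨a, a.2, rfl⟩
  have h5 : Module.finrank (IntermediateField.adjoin k ({x} : Set K)) K' = Module.finrank L K' := by
    refine finrank_eq_of_bij (fun a => ⟨algebraMap K K' a, hmem a⟩) ⟨?_, ?_⟩ ?_
    · intro a b hab
      exact Subtype.ext (hinj (congrArg Subtype.val hab))
    · rintro ⟨b, hb⟩
      rw [← hmapL] at hb
      obtain ⟨a, ha, rfl⟩ := hb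
      exact ⟨⟨a, ha⟩, rfl⟩
    · intro r m
      rw [IntermediateField.smul_def, IntermediateField.smul_def, Algebra.smul_def, smul_eq_mul]
  -- steps (1)-(3)
  set E₂ := IntermediateField.adjoin L (A : Set K') with hE₂
  have h1 : Module.finrank L E₂ * Module.finrank E₂ K' = Module.finrank L K' :=
    Module.finrank_mul_finrank L E₂ K'
  have hLD : A.LinearDisjoint L := by
    refine IntermediateField.LinearDisjoint.of_basis_left (Module.Free.chooseBasis k A) ?_
    exact linearIndependent_adjoin_of_transcendental A hx'trA _
      (Module.Free.chooseBasis k A).linearIndependent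
  have h2 : Module.finrank L E₂ = Module.finrank k A := by
    have := hLD.adjoin_rank_eq_rank_left_of_isAlgebraic_left
    unfold Module.finrank
    rw [this]
  have hcar : ∀ y : K', y ∈ E₂ ↔
      y ∈ IntermediateField.adjoin A ({x'} : Set K') := by
    intro y
    have e1 : E₂.restrictScalars k = IntermediateField.adjoin k ((L : Set K') ∪ (A : Set K')) :=
      IntermediateField.restrictScalars_adjoin k L (A : Set K')
    have e2 : (IntermediateField.adjoin A ({x'} : Set K')).restrictScalars k =
        IntermediateField.adjoin k ((A : Set K') ∪ {x'}) :=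
      IntermediateField.restrictScalars_adjoin k A ({x'} : Set K')
    have e3 : IntermediateField.adjoin k ((L : Set K') ∪ (A : Set K')) =
        IntermediateField.adjoin k ((A : Set K') ∪ {x'}) := by
      apply le_antisymm
      · rw [IntermediateField.adjoin_le_iff]
        rintro z (hz | hz)
        · have : L ≤ IntermediateField.adjoin k ((A : Set K') ∪ {x'}) :=
            IntermediateField.adjoin.mono k _ _ Set.subset_union_right
          exact this hz
        · exact IntermediateField.subset_adjoin k _ (Or.inl hz)
      · rw [IntermediateField.adjoin_le_iff]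
        rintro z (hz | hz)
        · exact IntermediateField.subset_adjoin k _ (Or.inr hz)
        · rw [Set.mem_singleton_iff] at hz
          subst hz
          apply IntermediateField.subset_adjoin k _
          left
          exact IntermediateField.subset_adjoin k _ (Set.mem_singleton _)
    have m1 : y ∈ E₂ ↔ y ∈ E₂.restrictScalars k := Iff.rfl
    have m2 : y ∈ IntermediateField.adjoin A ({x'} : Set K') ↔
        y ∈ (IntermediateField.adjoin A ({x'} : Set K')).restrictScalars k := Iff.rfl
    rw [m1, m2, e1, e2, e3]
  have h3 : Module.finrank E₂ K' =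
      Module.finrank (IntermediateField.adjoin A ({x'} : Set K')) K' := by
    refine finrank_eq_of_bij (fun a => ⟨a.1, (hcar a.1).1 a.2⟩) ⟨?_, ?_⟩ ?_
    · intro a b hab
      have h := congrArg
        (fun z : ↥(IntermediateField.adjoin A ({x'} : Set K')) => (z : K')) hab
      exact Subtype.ext h
    · rintro ⟨b, hb⟩
      exact ⟨⟨b, (hcar b).2 hb⟩, rfl⟩
    · intro r m
      rw [IntermediateField.smul_def, IntermediateField.smul_def]
  rw [h4, h5, ← h1, h2, h3]

/-- The algebraic closure of `k` in a finite extension of a function field `K/k` is finite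
over `k`. -/
theorem finiteDimensional_algebraicClosure [FiniteDimensional K K'] (hK : IsFunctionField k K) :
    FiniteDimensional k (algebraicClosure k K') := by
  obtain ⟨⟨x, hx, hfin⟩, -⟩ := hK
  have h := finrank_mul_eq (K' := K') hx
  have h1 : 0 < Module.finrank (IntermediateField.adjoin k ({x} : Set K)) K := Module.finrank_pos
  have h2 : 0 < Module.finrank K K' := Module.finrank_pos
  have h3 : 0 < Module.finrank k (algebraicClosure k K') := by
    by_contra hcon
    have : Module.finrank k (algebraicClosure k K') = 0 := by omega
    rw [this, zero_mul] at h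
    have := Nat.mul_pos h1 h2
    omega
  exact Module.finite_of_finrank_pos h3

end degree

end Groth.Agent.Lib.Helper44.FFExt
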