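/-
Extensions of places, part 4: finiteness of the set of places above a place and the fundamental
equality `∑ e(Q|P) deg Q = [K' : K] deg P`.
Author: helper44
-/
import Groth.Agent.Lib.Helper44.FunFldExt3
import Groth.Agent.Lib.Helper88.FunFldRiemann

set_option autoImplicit false

namespace Groth.Agent.Lib.Helper44.FFExt

open FunFld WithZero
open Groth.Agent.Lib.Helper88.FF

variable {k K K' : Type*} [Field k] [Field K] [Field K'] [Algebra k K] [Algebra K K'] [Algebra k K']

/-- An element of a function field whose only zero is a given place. -/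
theorem exists_single_zero (hK : IsFunctionField k K) (P : Place k K) :
    ∃ x : K, x ∉ Set.range (algebraMap k K) ∧ 0 < P.ord x ∧
      ∀ P₁ : Place k K, 0 < P₁.ord x → P₁ = P := by
  classical
  set g : ℕ := genus k K with hg
  set D : Divisor k K := Finsupp.single P ((g : ℤ) + 1) with hD
  have hdeg : D.deg = ((g : ℤ) + 1) * P.deg := deg_single P _
  have hPdeg : (1 : ℤ) ≤ P.deg := by exact_mod_cast deg_pos hK P
  have hδ := delta_le_genus hK D
  unfold delta at hδ
  have hell : 2 ≤ ell D := by
    have : (2 : ℤ) ≤ ell D := by nlinarith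
    exact_mod_cast this
  -- a nonconstant element of `L(D)`
  obtain ⟨z, hzL, hzc⟩ : ∃ z ∈ L D, z ∉ Set.range (algebraMap k K) := by
    by_contra hcon
    push Not at hcon
    have hle : L D ≤ L (0 : Divisor k K) := by
      intro y hy
      rw [L_zero_eq hK, Submodule.mem_one]
      exact hcon y hy
    have := finiteDimensional_L hK (0 : Divisor k K)
    have h1 := Submodule.finrank_mono hle
    have h2 : ell (0 : Divisor k K) = 1 := ell_zero hK
    unfold ell at hell h2
    omega
  have hz0 : z ≠ 0 := by
    rintro rfl
    exact hzc ⟨0, map_zero _⟩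
  have hreg : ∀ P₁ : Place k K, P₁ ≠ P → 0 ≤ P₁.ord z := by
    intro P₁ hP₁
    have h1 := hzL P₁
    rw [hD, Finsupp.single_apply, if_neg (Ne.symm hP₁), exp_zero] at h1
    exact (val_le_one_iff P₁ hz0).1 h1
  obtain ⟨Q, hQ⟩ := exists_pole hK hzc
  have hQP : Q = P := by
    by_contra hne
    have := hreg Q hne
    omega
  subst hQP
  refine ⟨z⁻¹, ?_, ?_, ?_⟩
  · rintro ⟨c, hc⟩
    apply hzc
    refine ⟨c⁻¹, ?_⟩
    rw [map_inv₀, hc, inv_inv]
  · rw [ord_inv]; omega
  · intro P₁ hP₁
    rw [ord_inv] at hP₁
    by_contra hne
    have := hreg P₁ hne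
    omega

section FF

variable [IsScalarTower k K K'] [FiniteDimensional K K']

omit [FiniteDimensional K K'] in
lemma toAlgClosurePlace_injective :
    Function.Injective (toAlgClosurePlace : Place k K' → Place (algebraicClosure k K') K') := by
  intro Q₁ Q₂ h
  apply Subtype.ext
  exact congrArg (fun Q : Place (algebraicClosure k K') K' => Q.1) h

omit [FiniteDimensional K K'] in
lemma toAlgClosurePlace_ofAlgClosurePlace (Q : Place (algebraicClosure k K') K') :
    toAlgClosurePlace (ofAlgClosurePlace Q) = Q := Subtype.ext rfl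

omit [FiniteDimensional K K'] in
lemma toAlgClosurePlace_ord (Q : Place k K') (y : K') : (toAlgClosurePlace Q).ord y = Q.ord y := rfl

/-- The places above `P` are the zeros (over the algebraic closure of `k`) of an element of `K`
whose only zero is `P`. -/
lemma isOver_iff_ord_pos {P : Place k K} {x : K} (hx0 : 0 < P.ord x)
    (hx : ∀ P₁ : Place k K, 0 < P₁.ord x → P₁ = P) (Q : Place k K') :
    IsOver Q P ↔ 0 < Q.ord (algebraMap K K' x) := by
  constructor
  · rintro ⟨e, he⟩
    rw [isOverWith_ord_eq he]
    have := isOverWith_pos he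
    positivity
  · intro h
    haveI : Algebra.IsAlgebraic K K' := Algebra.IsAlgebraic.of_finite _ _
    obtain ⟨P₁, e, he⟩ := exists_isOver_below (K := K) Q
    rw [isOverWith_ord_eq he] at h
    have hpos : 0 < P₁.ord x := by
      have := isOverWith_pos he
      have he' : (0 : ℤ) < e := by exact_mod_cast this
      by_contra hcon
      push Not at hcon
      have := mul_nonpos_of_nonneg_of_nonpos he'.le hcon
      omega
    rw [← hx P₁ hpos]
    exact ⟨e, he⟩

/-- Finitely many places lie above a given place. -/
theorem finite_isOver (hK : IsFunctionField k K) (P : Place k K) :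
    {Q : Place k K' | IsOver Q P}.Finite := by
  obtain ⟨x, hxc, hx0, hx⟩ := exists_single_zero hK P
  have hK' := isFunctionField_algebraicClosure (K' := K') hK
  have hinj : Function.Injective (algebraMap K K') := (algebraMap K K').injective
  have hxtr : Transcendental k x := transcendental_of_not_mem_range hK hxc
  have hx'tr : Transcendental k (algebraMap K K' x) := (transcendental_algebraMap_iff hinj).2 hxtr
  have hx'trA : Transcendental (algebraicClosure k K') (algebraMap K K' x) :=
    hx'tr.extendScalars _
  have hfin := finite_zeros hK' (not_mem_range_of_transcendental hx'trA)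
  refine (hfin.preimage (toAlgClosurePlace_injective.injOn)).subset ?_
  intro Q hQ
  exact (isOver_iff_ord_pos hx0 hx Q).1 hQ

omit [IsScalarTower k K K'] [FiniteDimensional K K'] [Algebra K K'] in
/-- Degrees over `k` and over the algebraic closure of `k` in `K'`. -/
lemma deg_eq_finrank_mul_deg (Q : Place k K') :
    Q.deg = Module.finrank k (algebraicClosure k K') * (toAlgClosurePlace Q).deg := by
  let i1 : Algebra k (IsLocalRing.ResidueField (toAlgClosurePlace Q).O) := Place.algRes Q
  have i2 : IsScalarTower k (algebraicClosure k K')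
      (IsLocalRing.ResidueField (toAlgClosurePlace Q).O) :=
    IsScalarTower.of_algebraMap_eq (fun c => rfl)
  have h := @Module.finrank_mul_finrank k (algebraicClosure k K')
    (IsLocalRing.ResidueField (toAlgClosurePlace Q).O) _ _ _ Algebra.toModule Algebra.toModule
    Algebra.toModule i2 _ _ _ _
  exact h.symm

/-- **Fundamental equality**: `∑_{Q | P} e(Q|P) deg Q = [K' : K] deg P`. -/
theorem sum_ramIdx_mul_deg (hK : IsFunctionField k K) (P : Place k K)
    (Qs : Finset (Place k K')) (hQs : ∀ Q, Q ∈ Qs ↔ IsOver Q P) :
    ∑ Q ∈ Qs, ramIdx Q P * Q.deg = Module.finrank K K' * P.deg := by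
  classical
  obtain ⟨x, hxc, hx0, hx⟩ := exists_single_zero hK P
  have hK' := isFunctionField_algebraicClosure (K' := K') hK
  have hinj : Function.Injective (algebraMap K K') := (algebraMap K K').injective
  have hxtr : Transcendental k x := transcendental_of_not_mem_range hK hxc
  have hx'tr : Transcendental k (algebraMap K K' x) := (transcendental_algebraMap_iff hinj).2 hxtr
  have hx'trA : Transcendental (algebraicClosure k K') (algebraMap K K' x) :=
    hx'tr.extendScalars _
  set x' : K' := algebraMap K K' x with hx'
  set m : ℤ := P.ord x with hm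
  -- (I) in `K`
  have hI : m * (P.deg : ℤ) =
      (Module.finrank (IntermediateField.adjoin k ({x} : Set K)) K : ℤ) := by
    rw [← deg_zeroDiv_eq hK hxtr]
    have hval : ∀ P₁ : Place k K, (FunFld.div k x ⊔ 0) P₁ = max (P₁.ord x) 0 := by
      intro P₁
      rw [Finsupp.sup_apply, div_apply hK]
      rfl
    have hsub : (FunFld.div k x ⊔ 0 : Divisor k K).support ⊆ {P} := by
      intro P₁ hP₁
      rw [Finsupp.mem_support_iff, hval] at hP₁
      rw [Finset.mem_singleton]
      apply hx
      by_contra hcon
      push Not at hcon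
      exact hP₁ (max_eq_right hcon)
    rw [deg_eq_sum_of_support_subset _ hsub, Finset.sum_singleton, hval, max_eq_left hx0.le]
  -- (II) in `K'` over the algebraic closure of `k`
  have hII : ∑ Q ∈ Qs, ((ramIdx Q P : ℤ) * m) * ((toAlgClosurePlace Q).deg : ℤ) =
      (Module.finrank (IntermediateField.adjoin (algebraicClosure k K') ({x'} : Set K')) K' : ℤ) := by
    rw [← deg_zeroDiv_eq hK' hx'trA]
    have hval : ∀ Q' : Place (algebraicClosure k K') K',
        (FunFld.div (algebraicClosure k K') x' ⊔ 0) Q' = max (Q'.ord x') 0 := by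
      intro Q'
      rw [Finsupp.sup_apply, div_apply hK']
      rfl
    have hsub : (FunFld.div (algebraicClosure k K') x' ⊔ 0 :
        Divisor (algebraicClosure k K') K').support ⊆ Qs.image toAlgClosurePlace := by
      intro Q' hQ'
      rw [Finsupp.mem_support_iff, hval] at hQ'
      have hpos : 0 < Q'.ord x' := by
        by_contra hcon
        push Not at hcon
        exact hQ' (max_eq_right hcon)
      rw [Finset.mem_image]
      refine ⟨ofAlgClosurePlace Q', ?_, toAlgClosurePlace_ofAlgClosurePlace Q'⟩
      rw [hQs, isOver_iff_ord_pos hx0 hx]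
      exact hpos
    rw [deg_eq_sum_of_support_subset _ hsub,
      Finset.sum_image (fun a _ b _ h => toAlgClosurePlace_injective h)]
    apply Finset.sum_congr rfl
    intro Q hQ
    have hover := isOverWith_ramIdx ((hQs Q).1 hQ)
    rw [hval, toAlgClosurePlace_ord, hx', isOverWith_ord_eq hover, ← hm]
    have hpos : (0 : ℤ) ≤ (ramIdx Q P : ℤ) * m := by positivity
    rw [max_eq_left hpos]
  -- (IV)
  have hIV := finrank_mul_eq (K' := K') hxtr
  have hIV' : (Module.finrank (IntermediateField.adjoin k ({x} : Set K)) K : ℤ) *
      (Module.finrank K K' : ℤ) =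
      (Module.finrank k (algebraicClosure k K') : ℤ) *
        (Module.finrank (IntermediateField.adjoin (algebraicClosure k K') ({x'} : Set K')) K' : ℤ) := by
    exact_mod_cast hIV
  -- combine
  have hmain : (∑ Q ∈ Qs, ((ramIdx Q P * Q.deg : ℕ) : ℤ)) * m =
      ((Module.finrank K K' * P.deg : ℕ) : ℤ) * m := by
    calc (∑ Q ∈ Qs, ((ramIdx Q P * Q.deg : ℕ) : ℤ)) * m
        = (Module.finrank k (algebraicClosure k K') : ℤ) *
            ∑ Q ∈ Qs, ((ramIdx Q P : ℤ) * m) * ((toAlgClosurePlace Q).deg : ℤ) := by
          rw [Finset.sum_mul, Finset.mul_sum]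
          apply Finset.sum_congr rfl
          intro Q _
          rw [deg_eq_finrank_mul_deg Q]
          push_cast
          ring
      _ = (Module.finrank (IntermediateField.adjoin k ({x} : Set K)) K : ℤ) *
            (Module.finrank K K' : ℤ) := by rw [hII, hIV']
      _ = ((Module.finrank K K' * P.deg : ℕ) : ℤ) * m := by
          rw [← hI]; push_cast; ring
  have hm0 : m ≠ 0 := hx0.ne'
  have := mul_right_cancel₀ hm0 hmain
  have h2 : ((∑ Q ∈ Qs, ramIdx Q P * Q.deg : ℕ) : ℤ) = ((Module.finrank K K' * P.deg : ℕ) : ℤ) := by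
    rw [← this]; push_cast; rfl
  exact_mod_cast h2

end FF

end Groth.Agent.Lib.Helper44.FFExt
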