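/-
Extensions of places, part 5: the conorm of divisors.
Author: helper44
-/
import Groth.Agent.Lib.Helper44.FunFldExt4
import Groth.Agent.Lib.Helper88.FunFldZeros

set_option autoImplicit false

namespace Groth.Agent.Lib.Helper44.FFExt

open FunFld WithZero
open Groth.Agent.Lib.Helper88.FF

variable {k K K' : Type*} [Field k] [Field K] [Field K'] [Algebra k K] [Algebra K K'] [Algebra k K']

variable (K') in
open scoped Classical in
/-- The conorm of a single place. -/
noncomputable def conormSingle (P : Place k K) : Divisor k K' :=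
  if h : {Q : Place k K' | IsOver Q P}.Finite then
    h.toFinset.sum (fun Q => (ramIdx Q P : ℤ) • Finsupp.single Q 1) else 0

lemma conorm_eq_sum (D : Divisor k K) :
    conorm K' D = D.sum fun P n => n • conormSingle K' P := rfl

lemma conormSingle_apply {P : Place k K} (hfin : {Q : Place k K' | IsOver Q P}.Finite)
    (Q : Place k K') : conormSingle K' P Q = ramIdx Q P := by
  classical
  unfold conormSingle
  rw [dif_pos hfin, Finsupp.finsetSum_apply]
  simp only [Finsupp.smul_apply, Finsupp.single_apply, smul_eq_mul, mul_ite, mul_one, mul_zero]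
  rw [Finset.sum_ite_eq']
  split_ifs with h
  · rfl
  · rw [Set.Finite.mem_toFinset] at h
    rw [ramIdx_eq_zero h]
    rfl

lemma conorm_apply (hfin : ∀ P : Place k K, {Q : Place k K' | IsOver Q P}.Finite)
    (D : Divisor k K) (Q : Place k K') :
    conorm K' D Q = ∑ P ∈ D.support, D P * ramIdx Q P := by
  rw [conorm_eq_sum, Finsupp.sum, Finsupp.finsetSum_apply]
  apply Finset.sum_congr rfl
  intro P _
  rw [Finsupp.smul_apply, conormSingle_apply (hfin P), smul_eq_mul]

/-- The coefficient of the conorm at a place `Q` above `P₀`. -/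
lemma conorm_apply_of_isOver (hfin : ∀ P : Place k K, {Q : Place k K' | IsOver Q P}.Finite)
    (D : Divisor k K) {Q : Place k K'} {P₀ : Place k K} (h : IsOver Q P₀) :
    conorm K' D Q = ramIdx Q P₀ * D P₀ := by
  classical
  rw [conorm_apply hfin]
  have hz : ∀ P ∈ D.support, P ≠ P₀ → D P * ramIdx Q P = 0 := by
    intro P _ hP
    have : ¬ IsOver Q P := fun h' => hP (isOver_unique_below h' h)
    rw [ramIdx_eq_zero this]; simp
  by_cases hP₀ : P₀ ∈ D.support
  · rw [Finset.sum_eq_single_of_mem P₀ hP₀ hz, mul_comm]
  · rw [Finsupp.notMem_support_iff.1 hP₀, mul_zero]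
    apply Finset.sum_eq_zero
    intro P hP
    apply hz P hP
    rintro rfl
    exact hP₀ hP

lemma deg_zsmul (n : ℤ) (D : Divisor k K) : (n • D).deg = n * D.deg := by
  rw [← degHom_apply, map_zsmul, degHom_apply, smul_eq_mul]

section FF

variable [IsScalarTower k K K'] [FiniteDimensional K K']

lemma deg_conormSingle (hK : IsFunctionField k K) (P : Place k K) :
    (conormSingle K' P).deg = (Module.finrank K K' : ℤ) * P.deg := by
  classical
  have hfin := finite_isOver (K' := K') hK P
  have h := sum_ramIdx_mul_deg hK P hfin.toFinset (fun Q => by rw [Set.Finite.mem_toFinset]; rfl)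
  unfold conormSingle
  rw [dif_pos hfin, deg_sum]
  have h' : ((∑ Q ∈ hfin.toFinset, ramIdx Q P * Q.deg : ℕ) : ℤ) =
      ((Module.finrank K K' * P.deg : ℕ) : ℤ) := by rw [h]
  push_cast at h'
  rw [← h']
  apply Finset.sum_congr rfl
  intro Q _
  rw [deg_zsmul, deg_single, one_mul]

/-- `deg N*(D) = [K' : K] deg D`. -/
theorem deg_conorm (hK : IsFunctionField k K) (D : Divisor k K) :
    (conorm K' D).deg = (Module.finrank K K' : ℤ) * D.deg := by
  rw [conorm_eq_sum, Finsupp.sum, deg_sum]
  have hD : D.deg = ∑ P ∈ D.support, D P * (P.deg : ℤ) := rfl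
  rw [hD, Finset.mul_sum]
  apply Finset.sum_congr rfl
  intro P _
  rw [deg_zsmul, deg_conormSingle hK]
  ring

/-- Finiteness of zeros and poles in a finite extension of a function field. -/
theorem finite_support_ord' (hK : IsFunctionField k K) (y : K') :
    (Function.support fun Q : Place k K' => Q.ord y).Finite := by
  have hK' := isFunctionField_algebraicClosure (K' := K') hK
  have hfin := finite_support_ord hK' y
  refine (hfin.preimage (toAlgClosurePlace_injective.injOn)).subset ?_
  intro Q hQ
  exact hQ

theorem div_apply' (hK : IsFunctionField k K) (y : K') (Q : Place k K') :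
    FunFld.div k y Q = Q.ord y := by
  unfold FunFld.div
  rw [dif_pos (finite_support_ord' hK y)]
  rfl

/-- `(x)_{K'} = N*((x)_K)`. -/
theorem div_algebraMap_eq_conorm (hK : IsFunctionField k K) (x : K) :
    FunFld.div k (algebraMap K K' x) = conorm K' (FunFld.div k x) := by
  ext Q
  haveI : Algebra.IsAlgebraic K K' := Algebra.IsAlgebraic.of_finite _ _
  obtain ⟨P₀, hP₀⟩ := exists_isOver_below (K := K) Q
  rw [div_apply' hK, conorm_apply_of_isOver (fun P => finite_isOver hK P) _ hP₀, div_apply hK,
    isOverWith_ord_eq (isOverWith_ramIdx hP₀)]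

end FF

end Groth.Agent.Lib.Helper44.FFExt
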