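/-
The divisor of a tuple of functions (`FunFld.mapDiv`): evaluation formula.
Author: helper44
-/
import Groth.Prelude.Def_W4bk4goldsch45
import Groth.Agent.Lib.Helper88.FunFldZeros

set_option autoImplicit false

namespace Groth.Agent.Lib.Helper44.FFExt

open FunFld WithZero
open Groth.Agent.Lib.Helper88.FF

variable {k K : Type*} [Field k] [Field K] [Algebra k K]

/-- If each `φ i` has finitely many zeros and poles, the coefficient of `mapDiv k φ` at `P` is
`- min_i ord_P (φ i)`. -/
theorem mapDiv_apply_of_finite {ι : Type*} [Fintype ι] [Nonempty ι] (φ : ι → K)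
    (hfin : ∀ i, (Function.support fun P : Place k K => P.ord (φ i)).Finite) (P : Place k K) :
    mapDiv k φ P = -Finset.univ.inf' Finset.univ_nonempty (fun i => P.ord (φ i)) := by
  classical
  have hsupp : (Function.support fun P : Place k K =>
      -Finset.univ.inf' Finset.univ_nonempty (fun i => P.ord (φ i))).Finite := by
    refine (Set.finite_iUnion hfin).subset ?_
    intro P hP
    rw [Function.mem_support] at hP
    by_contra hcon
    apply hP
    rw [Set.mem_iUnion, not_exists] at hcon
    have h0 : ∀ i, P.ord (φ i) = 0 := by
      intro i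
      have := hcon i
      rw [Function.mem_support, not_not] at this
      exact this
    simp [h0]
  unfold mapDiv
  rw [dif_pos hsupp]
  rfl

theorem mapDiv_apply {ι : Type*} [Fintype ι] [Nonempty ι] (hK : IsFunctionField k K) (φ : ι → K)
    (P : Place k K) :
    mapDiv k φ P = -Finset.univ.inf' Finset.univ_nonempty (fun i => P.ord (φ i)) :=
  mapDiv_apply_of_finite φ (fun i => finite_support_ord hK (φ i)) P

end Groth.Agent.Lib.Helper44.FFExt
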