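import Mathlib

/-! Alternating polynomials in two sets of variables are spanned by the alternants `Δ_p`, and the
alternants of strictly increasing exponent sequences are linearly independent. (helper44) -/

set_option autoImplicit false
set_option linter.style.haveILetI false
set_option linter.unusedSectionVars false

universe u

namespace Groth.Agent.Lib.Helper44.Alternants

open MvPolynomial

variable {k : Type u} [Field k] {n : ℕ}

/-- the action of a permutation on the variables -/
noncomputable def ρ (k : Type u) [Field k] {n : ℕ} (σ : Equiv.Perm (Fin n)) :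
    MvPolynomial (Fin n × Fin 2) k →ₐ[k] MvPolynomial (Fin n × Fin 2) k :=
  rename (fun v : Fin n × Fin 2 => (σ v.1, v.2))

theorem ρ_mul (σ τ : Equiv.Perm (Fin n)) (f : MvPolynomial (Fin n × Fin 2) k) :
    ρ k σ (ρ k τ f) = ρ k (σ * τ) f := by
  unfold ρ
  rw [rename_rename]
  rfl

/-- the monomial with exponent pairs `p` -/
noncomputable def mono (k : Type u) [Field k] {n : ℕ} (p : Fin n → ℕ × ℕ) :
    MvPolynomial (Fin n × Fin 2) k :=
  ∏ i, (X (i, 0) ^ (p i).1 * X (i, 1) ^ (p i).2)

/-- the alternant -/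
noncomputable def Δ (k : Type u) [Field k] {n : ℕ} (p : Fin n → ℕ × ℕ) :
    MvPolynomial (Fin n × Fin 2) k :=
  (Matrix.of fun i j : Fin n =>
    (X (i, 0) : MvPolynomial (Fin n × Fin 2) k) ^ (p j).1 * X (i, 1) ^ (p j).2).det

/-- the exponent vector -/
noncomputable def expo (p : Fin n → ℕ × ℕ) : (Fin n × Fin 2) →₀ ℕ :=
  Finsupp.equivFunOnFinite.symm (fun v => if v.2 = 0 then (p v.1).1 else (p v.1).2)

theorem expo_apply_zero (p : Fin n → ℕ × ℕ) (i : Fin n) : expo p (i, 0) = (p i).1 := by
  simp [expo]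

theorem expo_apply_one (p : Fin n → ℕ × ℕ) (i : Fin n) : expo p (i, 1) = (p i).2 := by
  simp [expo]

theorem expo_injective : Function.Injective (expo (n := n)) := by
  intro p q h
  funext i
  apply Prod.ext
  · rw [← expo_apply_zero p i, ← expo_apply_zero q i, h]
  · rw [← expo_apply_one p i, ← expo_apply_one q i, h]

theorem mono_eq (p : Fin n → ℕ × ℕ) : mono k p = monomial (expo p) 1 := by
  rw [monomial_eq, C_1, one_mul, Finsupp.prod_fintype _ _ (fun _ => pow_zero _),
    Fintype.prod_prod_type]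
  unfold mono
  refine Finset.prod_congr rfl fun i _ => ?_
  rw [Fin.prod_univ_two, expo_apply_zero, expo_apply_one]

/-- the exponent pairs of a monomial -/
def pOf (m : (Fin n × Fin 2) →₀ ℕ) : Fin n → ℕ × ℕ := fun i => (m (i, 0), m (i, 1))

theorem expo_pOf (m : (Fin n × Fin 2) →₀ ℕ) : expo (pOf m) = m := by
  ext ⟨i, c⟩
  rcases Fin.exists_fin_two.mp ⟨c, rfl⟩ with rfl | rfl
  · rw [expo_apply_zero]
    rfl
  · rw [expo_apply_one]
    rfl

theorem ρ_mono (σ : Equiv.Perm (Fin n)) (p : Fin n → ℕ × ℕ) :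
    ρ k σ (mono k p) = ∏ i, (X (σ i, 0) ^ (p i).1 * X (σ i, 1) ^ (p i).2) := by
  unfold ρ mono
  simp only [map_prod, map_mul, map_pow, rename_X]

theorem ρ_mono' (σ : Equiv.Perm (Fin n)) (p : Fin n → ℕ × ℕ) :
    ρ k σ (mono k p) = mono k (p ∘ σ.symm) := by
  rw [ρ_mono]
  unfold mono
  rw [← Equiv.prod_comp σ (fun j => (X (j, 0) : MvPolynomial (Fin n × Fin 2) k) ^
    ((p ∘ σ.symm) j).1 * X (j, 1) ^ ((p ∘ σ.symm) j).2)]
  refine Finset.prod_congr rfl fun i _ => ?_
  simp

theorem Δ_eq (p : Fin n → ℕ × ℕ) :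
    Δ k p = ∑ τ : Equiv.Perm (Fin n), ((Equiv.Perm.sign τ : ℤˣ) : ℤ) • ρ k τ (mono k p) := by
  unfold Δ
  rw [Matrix.det_apply]
  refine Finset.sum_congr rfl fun τ _ => ?_
  rw [Units.smul_def, ρ_mono]
  rfl

/-- the alternants are alternating -/
theorem ρ_Δ (σ : Equiv.Perm (Fin n)) (p : Fin n → ℕ × ℕ) :
    ρ k σ (Δ k p) = ((Equiv.Perm.sign σ : ℤˣ) : ℤ) • Δ k p := by
  rw [Δ_eq, map_sum, Finset.smul_sum]
  rw [← Equiv.sum_comp (Equiv.mulLeft σ) (fun τ => ((Equiv.Perm.sign σ : ℤˣ) : ℤ) •
    ((Equiv.Perm.sign τ : ℤˣ) : ℤ) • ρ k τ (mono k p))]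
  refine Finset.sum_congr rfl fun τ _ => ?_
  rw [map_zsmul, ρ_mul, Equiv.coe_mulLeft, smul_smul]
  congr 1
  rw [Equiv.Perm.sign_mul, Units.val_mul, ← mul_assoc, ← Units.val_mul, Int.units_mul_self,
    Units.val_one, one_mul]

/-- the antisymmetrisation map -/
noncomputable def alt (k : Type u) [Field k] (n : ℕ) :
    MvPolynomial (Fin n × Fin 2) k →ₗ[k] MvPolynomial (Fin n × Fin 2) k :=
  ∑ τ : Equiv.Perm (Fin n), ((Equiv.Perm.sign τ : ℤˣ) : ℤ) • (ρ k τ).toLinearMap

theorem alt_apply (f : MvPolynomial (Fin n × Fin 2) k) :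
    alt k n f = ∑ τ : Equiv.Perm (Fin n), ((Equiv.Perm.sign τ : ℤˣ) : ℤ) • ρ k τ f := by
  unfold alt
  rw [LinearMap.sum_apply]
  rfl

theorem alt_mem_span (f : MvPolynomial (Fin n × Fin 2) k) :
    alt k n f ∈ Submodule.span k (Set.range (Δ k (n := n))) := by
  rw [f.as_sum, map_sum]
  refine Submodule.sum_mem _ fun m _ => ?_
  have h1 : monomial m (coeff m f) = coeff m f • mono k (pOf m) := by
    rw [mono_eq, expo_pOf, smul_monomial, smul_eq_mul, mul_one]
  rw [h1, map_smul]
  apply Submodule.smul_mem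
  apply Submodule.subset_span
  refine ⟨pOf m, ?_⟩
  rw [Δ_eq, alt_apply]

/-- **alternating polynomials are combinations of alternants** -/
theorem alternating_iff [CharZero k] (f : MvPolynomial (Fin n × Fin 2) k) :
    (∀ σ : Equiv.Perm (Fin n), ρ k σ f = ((Equiv.Perm.sign σ : ℤˣ) : ℤ) • f) ↔
      f ∈ Submodule.span k (Set.range (Δ k (n := n))) := by
  constructor
  · intro hf
    have h1 : alt k n f = (Nat.factorial n : k) • f := by
      rw [alt_apply]
      have h2 : ∀ τ : Equiv.Perm (Fin n), ((Equiv.Perm.sign τ : ℤˣ) : ℤ) • ρ k τ f = f := by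
        intro τ
        rw [hf τ, smul_smul, ← Units.val_mul, Int.units_mul_self, Units.val_one, one_smul]
      rw [Finset.sum_congr rfl fun τ _ => h2 τ, Finset.sum_const, Finset.card_univ,
        Fintype.card_perm, Fintype.card_fin, ← Nat.cast_smul_eq_nsmul k]
    have h3 : (Nat.factorial n : k) ≠ 0 := Nat.cast_ne_zero.mpr (Nat.factorial_ne_zero n)
    have h4 : f = (Nat.factorial n : k)⁻¹ • alt k n f := by
      rw [h1, smul_smul, inv_mul_cancel₀ h3, one_smul]
    rw [h4]
    exact Submodule.smul_mem _ _ (alt_mem_span f)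
  · intro hf σ
    induction hf using Submodule.span_induction with
    | mem x hx =>
      obtain ⟨p, rfl⟩ := hx
      exact ρ_Δ σ p
    | zero => simp
    | add x y _ _ hx hy => rw [map_add, hx, hy, smul_add]
    | smul c x _ hx => rw [map_smul, hx, smul_comm]

/-- the coefficients of an alternant of a strictly increasing sequence -/
theorem coeff_Δ (p q : {p : Fin n → ℕ ×ₗ ℕ // StrictMono p}) :
    coeff (expo (fun j => ofLex (q.1 j))) (Δ k (fun j => ofLex (p.1 j))) =
      if p = q then 1 else 0 := by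
  classical
  rw [Δ_eq, coeff_sum]
  have hterm : ∀ τ : Equiv.Perm (Fin n),
      coeff (expo (fun j => ofLex (q.1 j))) (((Equiv.Perm.sign τ : ℤˣ) : ℤ) •
        ρ k τ (mono k (fun j => ofLex (p.1 j)))) =
      if τ = 1 ∧ p = q then 1 else 0 := by
    intro τ
    rw [ρ_mono', mono_eq, coeff_smul, coeff_monomial]
    by_cases h : expo ((fun j => ofLex (p.1 j)) ∘ τ.symm) = expo (fun j => ofLex (q.1 j))
    · have h1 := expo_injective h
      have h2 : p.1 ∘ τ.symm = q.1 := by
        funext j
        have := congrFun h1 j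
        simp only [Function.comp_apply] at this
        exact ofLex_inj.mp this
      have h3 : Set.range p.1 = Set.range q.1 := by
        rw [← h2, Set.range_comp, Set.range_eq_univ.mpr τ.symm.surjective, Set.image_univ]
      have hpq : p.1 = q.1 := (p.2.range_inj q.2).mp h3
      have hτ : τ = 1 := by
        ext j
        have h4 := congrFun h2 (τ j)
        rw [← hpq] at h4
        simp only [Function.comp_apply, Equiv.symm_apply_apply] at h4
        have := p.2.injective h4
        simp [← this]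
      rw [if_pos h, if_pos ⟨hτ, Subtype.ext hpq⟩, hτ]
      simp
    · rw [if_neg h, smul_zero, if_neg]
      rintro ⟨hτ, hpq⟩
      apply h
      rw [hτ, hpq]
      rfl
  rw [Finset.sum_congr rfl fun τ _ => hterm τ]
  by_cases hpq : p = q
  · rw [if_pos hpq, Finset.sum_eq_single (1 : Equiv.Perm (Fin n))]
    · rw [if_pos ⟨rfl, hpq⟩]
    · intro τ _ hτ
      rw [if_neg (fun h => hτ h.1)]
    · intro h
      exact absurd (Finset.mem_univ _) h
  · rw [if_neg hpq]
    apply Finset.sum_eq_zero
    intro τ _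
    rw [if_neg (fun h => hpq h.2)]

/-- **the alternants of strictly increasing sequences are linearly independent** -/
theorem linearIndependent_Δ :
    LinearIndependent k (fun p : {p : Fin n → ℕ ×ₗ ℕ // StrictMono p} =>
      Δ k (fun j => ofLex (p.1 j))) := by
  classical
  rw [linearIndependent_iff']
  intro s g hg p hp
  have h1 := congrArg (coeff (expo (fun j => ofLex (p.1 j)))) hg
  rw [coeff_sum, coeff_zero] at h1
  have h2 : ∀ q ∈ s, coeff (expo (fun j => ofLex (p.1 j)))
      (g q • Δ k (fun j => ofLex (q.1 j))) = if q = p then g q else 0 := by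
    intro q _
    rw [coeff_smul, coeff_Δ, smul_eq_mul]
    split_ifs <;> simp
  rw [Finset.sum_congr rfl h2, Finset.sum_ite_eq' s p, if_pos hp] at h1
  exact h1

end Groth.Agent.Lib.Helper44.Alternants
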