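import Mathlib

/-!
# The closure of a point in its fibre

For a closed immersion `ι : Z ⟶ X` from a reduced scheme with image the closure of a point `z`,
and any morphism `f : X ⟶ S`, the base change `Z ×_S Spec κ(f z)` is integral and its image in
the fibre `X ×_S Spec κ(f z)` is the closure of the point over `z`.
-/

set_option autoImplicit false
set_option linter.style.haveILetI false
universe u
open CategoryTheory CategoryTheory.Limits AlgebraicGeometry

namespace Groth.Agent.Lib.Helper44.FibreClosure

/-- On an integral scheme the cospecialization maps of stalks are injective. -/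
theorem stalkSpecializes_injective {X : Scheme.{u}} [IsIntegral X] {x' x : X} (h : x' ⤳ x) :
    Function.Injective (X.presheaf.stalkSpecializes h) := by
  have hη : genericPoint X ⤳ x' := (genericPoint_spec X).specializes trivial
  have hcomp := X.presheaf.stalkSpecializes_comp hη h
  have hinj : Function.Injective (X.presheaf.stalkSpecializes (hη.trans h)) :=
    IsFractionRing.injective (X.presheaf.stalk x) X.functionField
  intro a b hab
  apply hinj
  rw [← hcomp, CommRingCat.comp_apply, CommRingCat.comp_apply, hab]

/-- the stalk at a point equal to the generic point is a field -/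
theorem isField_stalk_of_eq_genericPoint {X : Scheme.{u}} [IsIntegral X] (x : X)
    (hx : x = genericPoint X) : IsField (X.presheaf.stalk x) := by
  subst hx
  exact Field.toIsField X.functionField

/-- a reduced scheme with a closed immersion onto the closure of a point is integral, and the
preimage of the point is its generic point. -/
theorem isIntegral_of_range_eq_closure {X Z : Scheme.{u}} (z : X) (ι : Z ⟶ X)
    [IsClosedImmersion ι] [IsReduced Z] (hZ : Set.range ι = closure {z}) :
    ∃ ζ : Z, ι ζ = z ∧ closure ({ζ} : Set Z) = Set.univ := by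
  have hz : z ∈ Set.range ι := hZ ▸ subset_closure (Set.mem_singleton z)
  obtain ⟨ζ, hζ⟩ := hz
  refine ⟨ζ, hζ, ?_⟩
  rw [ι.isEmbedding.isInducing.closure_eq_preimage_closure_image, Set.image_singleton, hζ, ← hZ]
  ext y
  simp

theorem irreducibleSpace_of_closure_eq_univ {T : Type*} [TopologicalSpace T] (ζ : T)
    (h : closure ({ζ} : Set T) = Set.univ) : IrreducibleSpace T := by
  rw [irreducibleSpace_def]
  show IsIrreducible (Set.univ : Set T)
  rw [← h]
  exact isIrreducible_singleton.closure

theorem main {X S Z : Scheme.{u}} (f : X ⟶ S) (z : X) (ι : Z ⟶ X) [IsClosedImmersion ι]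
    [IsReduced Z] (hZ : Set.range ι = closure {z}) :
    IsIntegral (pullback (ι ≫ f) (S.fromSpecResidueField (f z))) ∧
    ∃ ξ : ↥(pullback (ι ≫ f) (S.fromSpecResidueField (f z))),
      pullback.fst f (S.fromSpecResidueField (f z))
        (pullback.map (ι ≫ f) (S.fromSpecResidueField (f z)) f (S.fromSpecResidueField (f z)) ι
          (𝟙 _) (𝟙 S) (Category.comp_id _) ((Category.comp_id _).trans (Category.id_comp _).symm)
          ξ) = z ∧
      Set.range (pullback.map (ι ≫ f) (S.fromSpecResidueField (f z)) f
        (S.fromSpecResidueField (f z)) ι (𝟙 _) (𝟙 S) (Category.comp_id _)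
        ((Category.comp_id _).trans (Category.id_comp _).symm)) =
      closure {pullback.map (ι ≫ f) (S.fromSpecResidueField (f z)) f
        (S.fromSpecResidueField (f z)) ι (𝟙 _) (𝟙 S) (Category.comp_id _)
        ((Category.comp_id _).trans (Category.id_comp _).symm) ξ} := by
  obtain ⟨ζ, hζz, hζ⟩ := isIntegral_of_range_eq_closure z ι hZ
  haveI : IrreducibleSpace ↥Z := irreducibleSpace_of_closure_eq_univ ζ hζ
  haveI : IsIntegral Z := isIntegral_of_irreducibleSpace_of_isReduced Z
  have hζgen : ζ = genericPoint Z := by
    have h1 : IsGenericPoint ζ (Set.univ : Set Z) := hζ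
    exact h1.eq (genericPoint_spec Z)
  set j := S.fromSpecResidueField (f z) with hj
  set P := pullback (ι ≫ f) j with hP
  set p1 : P ⟶ Z := pullback.fst (ι ≫ f) j with hp1
  -- a point over ζ
  obtain ⟨pt⟩ : Nonempty ↥(Spec (S.residueField (f z))) := inferInstance
  have hpt : (ι ≫ f) ζ = j pt := by
    rw [hj, Scheme.fromSpecResidueField_apply, Scheme.Hom.comp_apply, hζz]
  obtain ⟨ξ, hξ1, -⟩ := Scheme.Pullback.exists_preimage_pullback (f := ι ≫ f) (g := j) ζ pt hpt
  -- ξ is a generic point of P
  have hξcl : closure ({ξ} : Set ↥P) = Set.univ := by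
    ext y
    simp only [Set.mem_univ, iff_true]
    rw [← specializes_iff_mem_closure, ← p1.isEmbedding.isInducing.specializes_iff]
    rw [hξ1, hζgen]
    exact genericPoint_specializes _
  haveI : IrreducibleSpace ↥P := irreducibleSpace_of_closure_eq_univ ξ hξcl
  -- stalk maps of p1 are bijective
  have hbij : ∀ y : ↥P, Function.Bijective (p1.stalkMap y) := by
    intro y
    refine ⟨?_, p1.stalkMap_surjective y⟩
    have hsp : ξ ⤳ y := by
      rw [specializes_iff_mem_closure, hξcl]; trivial
    have hinj1 : Function.Injective (Z.presheaf.stalkSpecializes (p1.base.hom.map_specializes hsp)) :=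
      stalkSpecializes_injective _
    have hfield : IsField (Z.presheaf.stalk (p1 ξ)) :=
      isField_stalk_of_eq_genericPoint _ (hξ1.trans hζgen)
    have hinj2 : Function.Injective (p1.stalkMap ξ) := by
      letI := hfield.toField
      exact RingHom.injective (p1.stalkMap ξ).hom
    intro a b hab
    apply hinj1
    apply hinj2
    rw [p1.stalkSpecializes_stalkMap_apply ξ y hsp, p1.stalkSpecializes_stalkMap_apply ξ y hsp, hab]
  haveI : ∀ y : ↥P, _root_.IsReduced (P.presheaf.stalk y) := by
    intro y
    let e : Z.presheaf.stalk (p1 y) ≃+* P.presheaf.stalk y :=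
      RingEquiv.ofBijective (p1.stalkMap y).hom (hbij y)
    exact isReduced_of_injective e.symm.toRingHom e.symm.injective
  haveI : IsReduced P := isReduced_of_isReduced_stalk P
  have hint : IsIntegral P := isIntegral_of_irreducibleSpace_of_isReduced P
  refine ⟨hint, ξ, ?_, ?_⟩
  · rw [← Scheme.Hom.comp_apply, pullback.lift_fst, Scheme.Hom.comp_apply]
    change ι (p1 ξ) = z
    rw [hξ1, hζz]
  · set m := pullback.map (ι ≫ f) j f j ι (𝟙 _) (𝟙 S) (Category.comp_id _)
      ((Category.comp_id _).trans (Category.id_comp _).symm) with hm
    have hsq : IsPullback m p1 (pullback.fst f j) ι := by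
      refine IsPullback.of_right ?_ ?_ (IsPullback.of_hasPullback f j).flip
      · have : m ≫ pullback.snd f j = pullback.snd (ι ≫ f) j := by
          rw [hm, pullback.lift_snd, Category.comp_id]
        rw [this]
        exact (IsPullback.of_hasPullback (ι ≫ f) j).flip
      · rw [hm, pullback.lift_fst]
    haveI : IsClosedImmersion m :=
      MorphismProperty.of_isPullback (P := @IsClosedImmersion) hsq.flip inferInstance
    apply Set.Subset.antisymm
    · rintro _ ⟨y, rfl⟩
      have hsp : ξ ⤳ y := by
        rw [specializes_iff_mem_closure, hξcl]; trivial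
      rw [← specializes_iff_mem_closure]
      exact hsp.map m.continuous
    · exact closure_minimal (Set.singleton_subset_iff.2 ⟨ξ, rfl⟩) m.isClosedEmbedding.isClosed_range

end Groth.Agent.Lib.Helper44.FibreClosure
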