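import Mathlib
import Groth.Agent.Lib.Helper35.PLinear

/-!
# Trace of `F = φ^f` on the fixed points of the `p`-linear extension `φ_K`

For a finite field `k` with `q = p^f` elements, a `p`-linear endomorphism `φ` of a finite-dimensional
`k`-vector space `V`, and an algebraically closed extension `K` of `k`: the fixed points `W` of
`φ_K` in `K ⊗ V` form a finite-dimensional `F_p`-space stable under `F_K`, and
`tr(F_K | W) = tr(F | V)`.
-/

set_option autoImplicit false
set_option linter.style.haveILetI false
set_option linter.unusedSectionVars false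
set_option linter.unusedVariables false

namespace Groth.Agent.Lib.Helper44.FixTrace

open TensorProduct
open Groth.Agent.Lib.Helper35.PLinear

universe u

section sigma

variable {p : ℕ} [Fact p.Prime] (k : Type u) [Field k] [Fintype k] [CharP k p]
  (K : Type u) [Field K] [Algebra k K]
  (V : Type u) [AddCommGroup V] [Module k V]

/-- `μ ↦ μ^q` as a `k`-linear endomorphism of `K`, `q = p^f = card k`. -/
noncomputable def frobq (f : ℕ) (hq : Fintype.card k = p ^ f) : K →ₗ[k] K :=
  haveI : CharP K p := charP_of_injective_algebraMap (algebraMap k K).injective p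
  { toFun := fun μ => μ ^ (p ^ f)
    map_add' := fun a b => add_pow_char_pow a b p f
    map_smul' := fun a μ => by
      simp only [RingHom.id_apply, Algebra.smul_def, mul_pow]
      congr 1
      rw [← map_pow, ← hq, FiniteField.pow_card] }

theorem frobq_apply (f : ℕ) (hq : Fintype.card k = p ^ f) (μ : K) :
    frobq k K f hq μ = μ ^ (p ^ f) := rfl

theorem frobq_injective (f : ℕ) (hq : Fintype.card k = p ^ f) :
    Function.Injective (frobq k K f hq) := by
  rw [← LinearMap.ker_eq_bot, LinearMap.ker_eq_bot']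
  intro μ h
  rw [frobq_apply] at h
  exact pow_eq_zero_iff (pow_ne_zero _ (Fact.out : p.Prime).ne_zero) |>.mp h

/-- `σ = Frob_q ⊗ id` on `K ⊗ V`. -/
noncomputable def sigma (f : ℕ) (hq : Fintype.card k = p ^ f) : K ⊗[k] V →ₗ[k] K ⊗[k] V :=
  LinearMap.rTensor V (frobq k K f hq)

theorem sigma_tmul (f : ℕ) (hq : Fintype.card k = p ^ f) (μ : K) (v : V) :
    sigma k K V f hq (μ ⊗ₜ[k] v) = (μ ^ (p ^ f)) ⊗ₜ[k] v := by
  simp [sigma, frobq_apply]

theorem sigma_injective (f : ℕ) (hq : Fintype.card k = p ^ f) :
    Function.Injective (sigma k K V f hq) :=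
  Module.Flat.rTensor_preserves_injective_linearMap _ (frobq_injective k K f hq)

end sigma

section main

variable {p : ℕ} [Fact p.Prime] (k : Type u) [Field k] [Fintype k] [CharP k p]
  (f : ℕ) (hq : Fintype.card k = p ^ f)
  (K : Type u) [Field K] [Algebra k K]
  (V : Type u) [AddCommGroup V] [Module k V]
  (φ : V →ₛₗ[frobenius k p] V) (F : V →ₗ[k] V) (hF : ∀ x, F x = (⇑φ)^[f] x)
  (φK : K ⊗[k] V →+ K ⊗[k] V) (hφK : ∀ (μ : K) (v : V), φK (μ ⊗ₜ[k] v) = (μ ^ p) ⊗ₜ[k] φ v)

include hφK in
theorem phiK_smul (a : K) (y : K ⊗[k] V) : φK (a • y) = a ^ p • φK y := by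
  induction y using TensorProduct.induction_on with
  | zero => simp
  | tmul μ v =>
    rw [TensorProduct.smul_tmul', hφK, hφK, smul_eq_mul, mul_pow, TensorProduct.smul_tmul',
      smul_eq_mul]
  | add x y hx hy => rw [smul_add, map_add, hx, hy, map_add, smul_add]

/-- `φK` as a `p`-linear map over `K`. -/
noncomputable def phiKs [CharP K p]
    (h : ∀ (a : K) (y : K ⊗[k] V), φK (a • y) = a ^ p • φK y) :
    K ⊗[k] V →ₛₗ[frobenius K p] K ⊗[k] V :=
  { toFun := φK
    map_add' := φK.map_add
    map_smul' := fun a v => by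
      change φK (a • v) = frobenius K p a • φK v
      rw [h, frobenius_def] }

include hF hφK in
theorem phiK_comm (y : K ⊗[k] V) : φK (F.baseChange K y) = F.baseChange K (φK y) := by
  induction y using TensorProduct.induction_on with
  | zero => simp
  | tmul μ v =>
    have h1 : φ ((⇑φ)^[f] v) = (⇑φ)^[f] (φ v) := by
      rw [← Function.iterate_succ_apply' (⇑φ) f v, Function.iterate_succ_apply]
    rw [LinearMap.baseChange_tmul, hφK, hφK, LinearMap.baseChange_tmul, hF, hF, h1]
  | add x y hx hy => rw [map_add, map_add, hx, hy, map_add, map_add]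

theorem iterate_phiK_add (n : ℕ) (x y : K ⊗[k] V) :
    (⇑φK)^[n] (x + y) = (⇑φK)^[n] x + (⇑φK)^[n] y := by
  induction n generalizing x y with
  | zero => rfl
  | succ n ih => rw [Function.iterate_succ_apply, map_add, ih, ← Function.iterate_succ_apply,
      ← Function.iterate_succ_apply]

theorem iterate_phiK_zero (n : ℕ) : (⇑φK)^[n] (0 : K ⊗[k] V) = 0 := by
  induction n with
  | zero => rfl
  | succ n ih => rw [Function.iterate_succ_apply, map_zero, ih]

include hφK in
theorem iterate_phiK_tmul (n : ℕ) (μ : K) (v : V) :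
    (⇑φK)^[n] (μ ⊗ₜ[k] v) = (μ ^ (p ^ n)) ⊗ₜ[k] ((⇑φ)^[n] v) := by
  induction n generalizing μ v with
  | zero => simp
  | succ n ih =>
    rw [Function.iterate_succ_apply, hφK, ih, Function.iterate_succ_apply, ← pow_mul, pow_succ']

include hF hφK in
theorem sigma_FK (y : K ⊗[k] V) :
    sigma k K V f hq (F.baseChange K y) = (⇑φK)^[f] y := by
  induction y using TensorProduct.induction_on with
  | zero => rw [map_zero, map_zero, iterate_phiK_zero]
  | tmul μ v =>
    rw [LinearMap.baseChange_tmul, sigma_tmul, iterate_phiK_tmul k K V φ φK hφK, hF]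
  | add x y hx hy => rw [map_add, map_add, hx, hy, iterate_phiK_add]

include hF hφK in
theorem iterate_comm (n : ℕ) (y : K ⊗[k] V) :
    (⇑φK)^[n] (F.baseChange K y) = F.baseChange K ((⇑φK)^[n] y) := by
  induction n generalizing y with
  | zero => rfl
  | succ n ih =>
    rw [Function.iterate_succ_apply, phiK_comm k f K V φ F hF φK hφK, ih,
      ← Function.iterate_succ_apply]

include hF hφK in
theorem iterate_comm2 (n j : ℕ) (y : K ⊗[k] V) :
    (⇑φK)^[n] ((⇑(F.baseChange K))^[j] y) = (⇑(F.baseChange K))^[j] ((⇑φK)^[n] y) := by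
  induction j generalizing y with
  | zero => rfl
  | succ j ih =>
    rw [Function.iterate_succ_apply, ih, iterate_comm k f K V φ F hF φK hφK,
      ← Function.iterate_succ_apply]

include hF hφK in
theorem sigma_iterate_FK (j : ℕ) (y : K ⊗[k] V) :
    (⇑(sigma k K V f hq))^[j] ((⇑(F.baseChange K))^[j] y) = (⇑φK)^[f * j] y := by
  induction j generalizing y with
  | zero => rfl
  | succ j ih =>
    rw [Function.iterate_succ_apply, Function.iterate_succ_apply',
      sigma_FK k f hq K V φ F hF φK hφK, iterate_comm2 k f K V φ F hF φK hφK, ih,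
      ← Function.iterate_add_apply, Nat.mul_succ]

theorem iterate_sigma_zero (m : ℕ) : (⇑(sigma k K V f hq))^[m] 0 = 0 := by
  induction m with
  | zero => rfl
  | succ m ih => rw [Function.iterate_succ_apply, map_zero]; exact ih

include hq hF hφK in
/-- If an iterate of `φK` kills `y`, then so does an iterate of `F_K` (when `f ≥ 1`). -/
theorem iterate_FK_eq_zero (hf : 0 < f) (m : ℕ) (y : K ⊗[k] V) (hy : (⇑φK)^[m] y = 0) :
    (⇑(F.baseChange K))^[m] y = 0 := by
  have h1 := sigma_iterate_FK k f hq K V φ F hF φK hφK m y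
  have h2 : (⇑φK)^[f * m] y = 0 := by
    obtain ⟨c, hc⟩ : ∃ c, f * m = c + m := ⟨(f - 1) * m, by
      obtain ⟨g, rfl⟩ : ∃ g, f = g + 1 := ⟨f - 1, by omega⟩
      simp [Nat.succ_mul]⟩
    rw [hc, Function.iterate_add_apply, hy, iterate_phiK_zero]
  rw [h2] at h1
  have hinj : Function.Injective (⇑(sigma k K V f hq))^[m] :=
    (sigma_injective k K V f hq).iterate m
  apply hinj
  rw [h1, iterate_sigma_zero]

end main

section trace

variable {p : ℕ} [Fact p.Prime] (K : Type u) [Field K] [CharP K p]
  (E : Type u) [AddCommGroup E] [Module K E]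
  (F₀ : Type*) [Field F₀] [CharP F₀ p] [Module F₀ E] (j : F₀ →+* K)
  (hj : ∀ (r : F₀) (y : E), r • y = j r • y)
  (Φ : E →ₛₗ[frobenius K p] E)
  (W : Submodule F₀ E) (hW : ∀ y, y ∈ W ↔ Φ y = y)

include hj hW in
theorem linind {ι : Type*} [Fintype ι] (e : ι → W)
    (he : LinearIndependent F₀ e) :
    LinearIndependent K (fun i => ((e i : W) : E)) := by
  refine linearIndependent_of_fixed Φ
    (fun i => ((e i : W) : E)) (fun i => (hW _).mp (e i).2) ?_
  intro c hc i
  have h2 : ((c i : ℤ) : F₀) = 0 := by
    refine Fintype.linearIndependent_iff.mp he (fun i => ((c i : ℤ) : F₀)) ?_ i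
    apply Subtype.ext
    rw [Submodule.coe_sum, Submodule.coe_zero, ← hc]
    refine Finset.sum_congr rfl (fun i _ => ?_)
    rw [Submodule.coe_smul, hj, ← Int.cast_smul_eq_zsmul K]
    congr 1
    simp
  exact (CharP.intCast_eq_zero_iff F₀ p (c i)).mp h2

include hj hW in
theorem finite_W [FiniteDimensional K E] : Module.Finite F₀ ↥W := by
  rw [← Module.rank_lt_aleph0_iff]
  have h : Module.rank F₀ ↥W ≤ (Module.finrank K E : ℕ) := by
    apply rank_le
    intro s hs
    have := (linind K E F₀ j hj Φ W hW (fun i : s => (i : W)) hs).fintype_card_le_finrank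
    simpa using this
  exact lt_of_le_of_lt h Cardinal.natCast_lt_aleph0

theorem restrict_pow_coe (FK : E →ₗ[K] E) (S : Submodule K E)
    (hS : Set.MapsTo FK S S) (n : ℕ) (x : S) :
    ((((FK.restrict hS) ^ n) x : S) : E) = (⇑FK)^[n] (x : E) := by
  induction n with
  | zero => rfl
  | succ n ih =>
    rw [pow_succ', Module.End.mul_apply, LinearMap.coe_restrict_apply, ih,
      Function.iterate_succ_apply']

include hj hW in
theorem trace_W [IsAlgClosed K] [FiniteDimensional K E] (FK : E →ₗ[K] E)
    (hcomm : ∀ y, Φ (FK y) = FK (Φ y))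
    (hnil : ∀ (m : ℕ) (y : E), (⇑Φ)^[m] y = 0 → (⇑FK)^[m] y = 0)
    (G : W →ₗ[F₀] W) (hG : ∀ y : W, ((G y : W) : E) = FK y) :
    j (LinearMap.trace F₀ W G) = LinearMap.trace K E FK := by
  classical
  haveI : Module.Finite F₀ ↥W := finite_W K E F₀ j hj Φ W hW
  have hc : IsCompl (fixedSpan Φ) (nilSpan Φ) := isCompl_fixedSpan_nilSpan Φ
  have h0 : ∀ x ∈ fixedSpan Φ, FK x ∈ fixedSpan Φ := by
    intro x hx
    have : (fixedSpan Φ).map FK ≤ fixedSpan Φ := by
      rw [fixedSpan, Submodule.map_span_le]
      intro v hv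
      apply Submodule.subset_span
      show Φ (FK v) = FK v
      rw [hcomm, (hv : Φ v = v)]
    exact this (Submodule.mem_map_of_mem hx)
  have hiter : ∀ (m : ℕ) (y : E), (⇑Φ)^[m] (FK y) = FK ((⇑Φ)^[m] y) := by
    intro m
    induction m with
    | zero => intro y; rfl
    | succ m ih =>
      intro y
      rw [Function.iterate_succ_apply, hcomm, ih, ← Function.iterate_succ_apply]
  have hn : ∀ x ∈ nilSpan Φ, FK x ∈ nilSpan Φ := by
    intro x hx
    obtain ⟨m, hm⟩ := exists_iterate_eq_zero_of_mem_nilSpan Φ hx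
    apply Submodule.subset_span
    refine ⟨m, ?_⟩
    rw [hiter, hm, map_zero]
  -- internal direct sum
  let N : Bool → Submodule K E := fun b => cond b (fixedSpan Φ) (nilSpan Φ)
  have hint : DirectSum.IsInternal N := by
    rw [DirectSum.isInternal_submodule_iff_isCompl N (i := true) (j := false) (by decide)
      (by ext b; cases b <;> simp)]
    exact hc
  have hN : ∀ b, Set.MapsTo FK (N b) (N b) := by
    intro b; cases b
    · exact fun x hx => hn x hx
    · exact fun x hx => h0 x hx
  haveI : ∀ b, Module.Finite K (N b) := fun b => by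
    cases b
    · show Module.Finite K (nilSpan Φ); infer_instance
    · show Module.Finite K (fixedSpan Φ); infer_instance
  haveI : ∀ b, Module.Free K (N b) := fun b => by
    cases b
    · show Module.Free K (nilSpan Φ); infer_instance
    · show Module.Free K (fixedSpan Φ); infer_instance
  rw [LinearMap.trace_eq_sum_trace_restrict hint hN, Fintype.sum_bool]
  -- nilpotent part
  have hnilp : LinearMap.trace K (N false) (FK.restrict (hN false)) = 0 := by
    have hnp : IsNilpotent (FK.restrict (hN false)) := by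
      rw [Module.End.isNilpotent_iff_of_finite]
      intro x
      obtain ⟨m, hm⟩ := exists_iterate_eq_zero_of_mem_nilSpan Φ (x.2 : (x : E) ∈ nilSpan Φ)
      refine ⟨m, ?_⟩
      apply Subtype.ext
      rw [restrict_pow_coe, hnil m _ hm]
      rfl
    exact (LinearMap.isNilpotent_trace_of_isNilpotent hnp).eq_zero
  rw [hnilp, add_zero]
  -- fixed part: basis
  haveI : Module.Free F₀ ↥W := Module.Free.of_divisionRing F₀ ↥W
  let b := Module.Free.chooseBasis F₀ ↥W
  have hbfix : ∀ i, Φ ((b i : W) : E) = ((b i : W) : E) := fun i => (hW _).mp (b i).2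
  let w : Module.Free.ChooseBasisIndex F₀ ↥W → (N true) :=
    fun i => ⟨((b i : W) : E), Submodule.subset_span (hbfix i)⟩
  have hli : LinearIndependent K w := by
    have := linind K E F₀ j hj Φ W hW (fun i => b i) b.linearIndependent
    exact LinearIndependent.of_comp (N true).subtype this
  have hsp : ⊤ ≤ Submodule.span K (Set.range w) := by
    intro x _
    have hx : (x : E) ∈ Submodule.span K (Set.range fun i => ((b i : W) : E)) := by
      have hle : fixedSpan Φ ≤ Submodule.span K (Set.range fun i => ((b i : W) : E)) := by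
        rw [fixedSpan, Submodule.span_le]
        intro v hv
        have hvW : v ∈ W := (hW v).mpr hv
        have := b.sum_repr ⟨v, hvW⟩
        have h2 : v = ∑ i, j (b.repr ⟨v, hvW⟩ i) • ((b i : W) : E) := by
          have h3 := congrArg (fun y : W => (y : E)) this
          simp only [Submodule.coe_sum, Submodule.coe_smul] at h3
          exact h3.symm.trans (Finset.sum_congr rfl (fun i _ => hj _ _))
        rw [h2]
        exact Submodule.sum_mem _ (fun i _ => Submodule.smul_mem _ _
          (Submodule.subset_span ⟨i, rfl⟩))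
      exact hle x.2
    obtain ⟨c, hc⟩ := (Submodule.mem_span_range_iff_exists_fun K).mp hx
    have : x = ∑ i, c i • w i := by
      apply Subtype.ext
      rw [Submodule.coe_sum, ← hc]
      rfl
    rw [this]
    exact Submodule.sum_mem _ (fun i _ => Submodule.smul_mem _ _ (Submodule.subset_span ⟨i, rfl⟩))
  let B : Module.Basis (Module.Free.ChooseBasisIndex F₀ ↥W) K (N true) := Module.Basis.mk hli hsp
  have hB : ∀ i, ((B i : N true) : E) = ((b i : W) : E) := by
    intro i
    rw [Module.Basis.mk_apply]
  rw [LinearMap.trace_eq_matrix_trace K B, LinearMap.trace_eq_matrix_trace F₀ b,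
    Matrix.trace, Matrix.trace, map_sum]
  refine Finset.sum_congr rfl (fun i _ => ?_)
  rw [Matrix.diag_apply, Matrix.diag_apply, LinearMap.toMatrix_apply, LinearMap.toMatrix_apply]
  -- FK (B i) = Σ_l j(repr (G (b i)) l) • B l
  have hexp : (FK.restrict (hN true)) (B i) = ∑ l, j (b.repr (G (b i)) l) • B l := by
    apply Subtype.ext
    rw [LinearMap.coe_restrict_apply, hB, ← hG, Submodule.coe_sum]
    have := b.sum_repr (G (b i))
    have h3 := congrArg (fun y : W => (y : E)) this
    simp only [Submodule.coe_sum, Submodule.coe_smul] at h3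
    rw [← h3]
    refine Finset.sum_congr rfl (fun l _ => ?_)
    rw [Submodule.coe_smul, hB, hj]
  rw [hexp, Module.Basis.repr_sum_self]

end trace

end Groth.Agent.Lib.Helper44.FixTrace
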