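/-
Extensions of places, part 6: `e(Q|P) ≤ [K' : K]`, and the rational function field is a function
field.
Author: helper44
-/
import Groth.Agent.Lib.Helper44.FunFldExt5
import Mathlib.FieldTheory.RatFunc.IntermediateField
import Mathlib.FieldTheory.RatFunc.Degree

set_option autoImplicit false

namespace Groth.Agent.Lib.Helper44.FFExt

open FunFld WithZero
open Groth.Agent.Lib.Helper88.FF

section ramle

variable {k K K' : Type*} [Field k] [Field K] [Field K'] [Algebra k K] [Algebra K K'] [Algebra k K']

/-- The ramification index is bounded by the degree of the extension. -/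
theorem isOverWith_le_finrank [FiniteDimensional K K'] {Q : Place k K'} {P : Place k K} {e : ℕ}
    (h : IsOverWith Q P e) : e ≤ Module.finrank K K' := by
  classical
  obtain ⟨t, ht⟩ := Q.2.2 (exp (-1 : ℤ))
  have ht0 : t ≠ 0 := by
    rintro rfl
    rw [map_zero] at ht
    exact exp_ne_zero ht.symm
  have hval : ∀ (c : K) (i : ℕ), c ≠ 0 →
      Q.1 (c • t ^ i) = exp (-((e : ℤ) * P.ord c + i)) := by
    intro c i hc
    rw [Algebra.smul_def, map_mul, map_pow, ht, h c, val_eq_exp_neg_ord P hc, ← exp_nsmul,
      ← exp_nsmul, ← exp_add]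
    congr 1
    simp only [nsmul_eq_mul]
    ring
  have hli : LinearIndependent K (fun i : Fin e => t ^ (i : ℕ)) := by
    rw [Fintype.linearIndependent_iff]
    intro g hg
    by_contra hcon
    push Not at hcon
    obtain ⟨i₁, hi₁⟩ := hcon
    set S := Finset.univ.filter (fun i : Fin e => g i ≠ 0) with hS
    have hSne : S.Nonempty := ⟨i₁, by simp [hS, hi₁]⟩
    obtain ⟨i₀, hi₀S, hmax⟩ :=
      Finset.exists_max_image S (fun i => Q.1 (g i • t ^ (i : ℕ))) hSne
    have hi₀ : g i₀ ≠ 0 := by
      have := hi₀S
      simp only [hS, Finset.mem_filter, Finset.mem_univ, true_and] at this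
      exact this
    have key : Q.1 (∑ i, g i • t ^ (i : ℕ)) = Q.1 (g i₀ • t ^ (i₀ : ℕ)) := by
      apply Valuation.map_sum_eq_of_lt _ (Finset.mem_univ i₀)
      intro j hj
      rw [Finset.mem_sdiff, Finset.mem_singleton] at hj
      by_cases hgj : g j = 0
      · rw [hgj, zero_smul, map_zero, hval _ _ hi₀]
        exact exp_pos
      · have hjS : j ∈ S := by simp [hS, hgj]
        refine lt_of_le_of_ne (hmax j hjS) ?_
        rw [hval _ _ hgj, hval _ _ hi₀]
        intro heq
        have heq' := exp_injective heq
        apply hj.2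
        have hjlt : ((j : ℕ) : ℤ) < e := by exact_mod_cast j.2
        have hilt : ((i₀ : ℕ) : ℤ) < e := by exact_mod_cast i₀.2
        have hj0 : (0 : ℤ) ≤ ((j : ℕ) : ℤ) := Int.natCast_nonneg _
        have hi0 : (0 : ℤ) ≤ ((i₀ : ℕ) : ℤ) := Int.natCast_nonneg _
        have hd : (e : ℤ) * (P.ord (g j) - P.ord (g i₀)) = (i₀ : ℕ) - (j : ℕ) := by
          linarith
        have hz : P.ord (g j) - P.ord (g i₀) = 0 := by
          by_contra hne
          rcases lt_or_gt_of_ne hne with hlt | hgt
          · have : (e : ℤ) * (P.ord (g j) - P.ord (g i₀)) ≤ (e : ℤ) * (-1) := by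
              apply mul_le_mul_of_nonneg_left _ (by linarith)
              linarith
            linarith
          · have : (e : ℤ) * 1 ≤ (e : ℤ) * (P.ord (g j) - P.ord (g i₀)) := by
              apply mul_le_mul_of_nonneg_left _ (by linarith)
              linarith
            linarith
        rw [hz, mul_zero] at hd
        apply Fin.ext
        have : ((i₀ : ℕ) : ℤ) = ((j : ℕ) : ℤ) := by linarith
        exact_mod_cast this.symm
    rw [hg, map_zero, hval _ _ hi₀] at key
    exact exp_ne_zero key.symm
  have := hli.fintype_card_le_finrank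
  simpa using this

theorem ramIdx_le_finrank [FiniteDimensional K K'] {Q : Place k K'} {P : Place k K}
    (h : IsOver Q P) : ramIdx Q P ≤ Module.finrank K K' :=
  isOverWith_le_finrank (isOverWith_ramIdx h)

end ramle

section ratfunc

variable (k : Type*) [Field k]

/-- The rational function field is a function field of one variable. -/
theorem isFunctionField_ratFunc : IsFunctionField k (RatFunc k) := by
  refine ⟨⟨RatFunc.X, RatFunc.transcendental_X, ?_⟩, ?_⟩
  · have htop : IntermediateField.adjoin k ({RatFunc.X} : Set (RatFunc k)) = ⊤ := RatFunc.adjoin_X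
    rw [htop]
    refine Module.Finite.of_surjective
      (Algebra.linearMap (⊤ : IntermediateField k (RatFunc k)) (RatFunc k)) ?_
    intro x
    exact ⟨⟨x, IntermediateField.mem_top⟩, rfl⟩
  · intro y hy
    by_contra hcon
    have : ¬ ∃ c, y = RatFunc.C c := by
      rintro ⟨c, rfl⟩
      exact hcon ⟨c, by rw [RatFunc.algebraMap_eq_C]⟩
    exact RatFunc.transcendental_of_ne_C _ this hy

end ratfunc

end Groth.Agent.Lib.Helper44.FFExt
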