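/-
Quadratic extensions: unramified places (unit discriminant), and totally ramified places
(a generator of odd order).
Author: helper44
-/
import Groth.Agent.Lib.Helper44.FunFldRamLe

set_option autoImplicit false

namespace Groth.Agent.Lib.Helper44.FFExt

open FunFld WithZero
open Groth.Agent.Lib.Helper88.FF

variable {k K K' : Type*} [Field k] [Field K] [Field K'] [Algebra k K] [Algebra K K'] [Algebra k K']

/-- In an extension of degree two, `1, y` span as soon as `y` is not in the base field. -/
theorem exists_add_mul_eq (hdeg : Module.finrank K K' = 2) {y : K'}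
    (hy : y ∉ Set.range (algebraMap K K')) (w : K') :
    ∃ a b : K, w = algebraMap K K' a + algebraMap K K' b * y := by
  have hli : LinearIndependent K ![(1 : K'), y] := by
    rw [LinearIndependent.pair_iff]
    intro s t hst
    have ht : t = 0 := by
      by_contra ht
      apply hy
      refine ⟨-s / t, ?_⟩
      have h1 : algebraMap K K' s + algebraMap K K' t * y = 0 := by
        rw [← hst, Algebra.smul_def, Algebra.smul_def, mul_one]
      have ht' : algebraMap K K' t ≠ 0 := (map_ne_zero _).2 ht
      rw [map_div₀, map_neg]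
      field_simp
      linear_combination -h1
    subst ht
    rw [zero_smul, add_zero, Algebra.smul_def, mul_one] at hst
    exact ⟨(map_eq_zero _).1 hst, rfl⟩
  haveI : FiniteDimensional K K' := Module.finite_of_finrank_pos (by rw [hdeg]; norm_num)
  have hspan := hli.span_eq_top_of_card_eq_finrank' (by simp [hdeg])
  have hw : w ∈ Submodule.span K (Set.range ![(1 : K'), y]) := by
    rw [hspan]; trivial
  have hrange : Set.range ![(1 : K'), y] = {1, y} := by
    ext x
    simp only [Matrix.range_cons, Matrix.range_empty, Set.union_empty, Set.union_singleton,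
      Set.mem_insert_iff, Set.mem_singleton_iff]
    tauto
  rw [hrange, Submodule.mem_span_pair] at hw
  obtain ⟨a, b, hab⟩ := hw
  refine ⟨a, b, ?_⟩
  rw [← hab, Algebra.smul_def, Algebra.smul_def, mul_one]

/-- **Unramified quadratic extensions.** If `K'` is spanned over `K` by `1, z` with
`z² - s z + p = 0`, where `s, p` are integral at `P` and the discriminant `s² - 4p` is a unit
at `P`, then every place above `P` is unramified. -/
theorem isOverWith_one_of_quadratic {Q : Place k K'} {P : Place k K} {e : ℕ}
    (h : IsOverWith Q P e) {z : K'} {s p : K}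
    (hz : z ^ 2 - algebraMap K K' s * z + algebraMap K K' p = 0)
    (hs : P.1 s ≤ 1) (hp : P.1 p ≤ 1) (hD : P.1 (s ^ 2 - 4 * p) = 1)
    (hspan : ∀ w : K', ∃ a b : K, w = algebraMap K K' a + algebraMap K K' b * z) : e = 1 := by
  have he0 : e ≠ 0 := isOverWith_ne_zero h
  have hle : ∀ c : K, P.1 c ≤ 1 → Q.1 (algebraMap K K' c) ≤ 1 :=
    fun c hc => (isOverWith_val_le_one_iff h c).2 hc
  have hlt : ∀ c : K, P.1 c < 1 → Q.1 (algebraMap K K' c) < 1 :=
    fun c hc => (isOverWith_val_lt_one_iff h c).2 hc
  -- `z` is integral at `Q`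
  have hz1 : Q.1 z ≤ 1 := by
    by_contra hcon
    push Not at hcon
    have hz2 : z ^ 2 = algebraMap K K' s * z - algebraMap K K' p := by linear_combination hz
    have h1 : Q.1 (z ^ 2) = Q.1 z * Q.1 z := by rw [pow_two, map_mul]
    have h2 : Q.1 (algebraMap K K' s * z - algebraMap K K' p) ≤ Q.1 z := by
      refine (Valuation.map_sub _ _ _).trans (max_le ?_ ?_)
      · rw [map_mul]
        calc Q.1 (algebraMap K K' s) * Q.1 z ≤ 1 * Q.1 z := mul_le_mul_left (hle s hs) _
          _ = Q.1 z := one_mul _
      · exact (hle p hp).trans hcon.le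
    have h3 : Q.1 z < Q.1 z * Q.1 z := by
      calc Q.1 z = 1 * Q.1 z := (one_mul _).symm
        _ < Q.1 z * Q.1 z := by
          apply mul_lt_mul_of_pos_right hcon
          exact lt_trans zero_lt_one hcon
    rw [hz2] at h1
    rw [h1] at h2
    exact absurd h2 (not_le.2 h3)
  -- `2z - s` is a unit at `Q`
  have hunit : Q.1 (2 * z - algebraMap K K' s) = 1 := by
    have h1 : (2 * z - algebraMap K K' s) ^ 2 = algebraMap K K' (s ^ 2 - 4 * p) := by
      rw [map_sub, map_mul, map_pow, map_ofNat]
      linear_combination 4 * hz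
    have h2 : Q.1 (2 * z - algebraMap K K' s) ^ 2 = 1 := by
      rw [← map_pow, h1, h (s ^ 2 - 4 * p), hD, one_pow]
    exact (pow_eq_one_iff_of_nonneg zero_le two_ne_zero).1 h2
  -- main claim for normalised elements
  have main : ∀ a b : K, max (P.1 a) (P.1 b) = 1 →
      algebraMap K K' a + algebraMap K K' b * z ≠ 0 →
      ∃ n : ℤ, Q.1 (algebraMap K K' a + algebraMap K K' b * z) = exp ((e : ℤ) * n) := by
    intro a b hab hw0
    have ha1 : P.1 a ≤ 1 := (le_max_left _ _).trans_eq hab
    have hb1 : P.1 b ≤ 1 := (le_max_right _ _).trans_eq hab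
    set w := algebraMap K K' a + algebraMap K K' b * z with hw
    set w' := algebraMap K K' a + algebraMap K K' b * (algebraMap K K' s - z) with hw'
    set N := a ^ 2 + a * b * s + b ^ 2 * p with hN
    have hww' : w * w' = algebraMap K K' N := by
      rw [hw, hw', hN]
      simp only [map_add, map_mul, map_pow]
      linear_combination (-(algebraMap K K' b) ^ 2) * hz
    have hw1 : Q.1 w ≤ 1 := by
      refine (Q.1.map_add _ _).trans (max_le (hle a ha1) ?_)
      rw [map_mul]
      exact mul_le_one' (hle b hb1) hz1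
    have hw'1 : Q.1 w' ≤ 1 := by
      refine (Q.1.map_add _ _).trans (max_le (hle a ha1) ?_)
      rw [map_mul]
      refine mul_le_one' (hle b hb1) ?_
      exact (Valuation.map_sub _ _ _).trans (max_le (hle s hs) hz1)
    have hN1 : P.1 N ≤ 1 := by
      rw [hN]
      refine (P.1.map_add _ _).trans (max_le ((P.1.map_add _ _).trans (max_le ?_ ?_)) ?_)
      · rw [map_pow]; exact pow_le_one' ha1 2
      · rw [map_mul, map_mul]; exact mul_le_one' (mul_le_one' ha1 hb1) hs
      · rw [map_mul, map_pow]; exact mul_le_one' (pow_le_one' hb1 2) hp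
    rcases lt_or_eq_of_le hN1 with hNlt | hNeq
    · -- `N` is not a unit
      have hor : Q.1 w = 1 ∨ Q.1 w' = 1 := by
        by_contra hcon
        push Not at hcon
        have hwlt : Q.1 w < 1 := lt_of_le_of_ne hw1 hcon.1
        have hw'lt : Q.1 w' < 1 := lt_of_le_of_ne hw'1 hcon.2
        have hdiff : w - w' = algebraMap K K' b * (2 * z - algebraMap K K' s) := by
          rw [hw, hw']; ring
        have h1 : Q.1 (w - w') < 1 := (Valuation.map_sub _ _ _).trans_lt (max_lt hwlt hw'lt)
        rw [hdiff, map_mul, hunit, mul_one] at h1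
        have hblt : P.1 b < 1 := (isOverWith_val_lt_one_iff h b).1 h1
        have ha_eq : P.1 a = 1 := by
          rcases max_choice (P.1 a) (P.1 b) with hm | hm
          · rw [← hm]; exact hab
          · rw [hm] at hab; exact absurd hab hblt.ne
        have hrest : P.1 (a * b * s + b ^ 2 * p) < 1 := by
          refine (P.1.map_add _ _).trans_lt (max_lt ?_ ?_)
          · rw [map_mul, map_mul, ha_eq, one_mul]
            exact mul_lt_one_of_nonneg_of_lt_one_left zero_le hblt hs
          · rw [map_mul, map_pow]
            refine mul_lt_one_of_nonneg_of_lt_one_left zero_le ?_ hp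
            exact pow_lt_one' hblt two_ne_zero
        have hNval : P.1 N = 1 := by
          have : N = a ^ 2 + (a * b * s + b ^ 2 * p) := by rw [hN]; ring
          rw [this]
          have ha2 : P.1 (a ^ 2) = 1 := by rw [map_pow, ha_eq, one_pow]
          rw [Valuation.map_add_eq_of_lt_left _ (by rw [ha2]; exact hrest), ha2]
        exact absurd hNval hNlt.ne
      rcases hor with hw_eq | hw'_eq
      · exact ⟨0, by rw [hw_eq, mul_zero, exp_zero]⟩
      · have hN0 : N ≠ 0 := by
          intro hN0
          have hw'0 : w' ≠ 0 := by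
            intro h0
            rw [h0, map_zero] at hw'_eq
            exact zero_ne_one hw'_eq
          have : w * w' = 0 := by rw [hww', hN0, map_zero]
          rcases mul_eq_zero.1 this with h0 | h0
          · exact hw0 h0
          · exact hw'0 h0
        refine ⟨-P.ord N, ?_⟩
        have : Q.1 w = Q.1 (w * w') := by rw [map_mul, hw'_eq, mul_one]
        rw [this, hww', h N, val_eq_exp_neg_ord P hN0, exp_pow']
    · -- `N` is a unit
      have hprod : Q.1 w * Q.1 w' = 1 := by
        rw [← map_mul, hww', h N, hNeq, one_pow]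
      have hw_eq : Q.1 w = 1 := by
        by_contra hne
        have hwlt : Q.1 w < 1 := lt_of_le_of_ne hw1 hne
        have : Q.1 w * Q.1 w' < 1 := mul_lt_one_of_nonneg_of_lt_one_left zero_le hwlt hw'1
        exact absurd hprod this.ne
      exact ⟨0, by rw [hw_eq, mul_zero, exp_zero]⟩
  -- general elements
  have gen : ∀ w : K', w ≠ 0 → ∃ n : ℤ, Q.1 w = exp ((e : ℤ) * n) := by
    intro w hw0
    obtain ⟨a, b, hab⟩ := hspan w
    -- choose the larger coefficient
    obtain ⟨c, hc0, hca, hcb, hcm⟩ : ∃ c : K, c ≠ 0 ∧ P.1 a ≤ P.1 c ∧ P.1 b ≤ P.1 c ∧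
        (P.1 a = P.1 c ∨ P.1 b = P.1 c) := by
      rcases le_total (P.1 a) (P.1 b) with hle' | hle'
      · refine ⟨b, ?_, hle', le_rfl, Or.inr rfl⟩
        rintro rfl
        rw [map_zero] at hle'
        have ha0 : a = 0 := by
          have := le_antisymm hle' zero_le
          exact (map_eq_zero _).1 this
        apply hw0
        rw [hab, ha0]; simp
      · refine ⟨a, ?_, le_rfl, hle', Or.inl rfl⟩
        rintro rfl
        rw [map_zero] at hle'
        have hb0 : b = 0 := by
          have := le_antisymm hle' zero_le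
          exact (map_eq_zero _).1 this
        apply hw0
        rw [hab, hb0]; simp
    have hvc0 : P.1 c ≠ 0 := (map_ne_zero _).2 hc0
    have hc0' : algebraMap K K' c ≠ 0 := (map_ne_zero _).2 hc0
    have hnorm : max (P.1 (a / c)) (P.1 (b / c)) = 1 := by
      rw [map_div₀, map_div₀]
      rcases hcm with h1 | h1
      · rw [h1, div_self hvc0]
        exact max_eq_left ((div_le_one₀ (zero_lt_iff.2 hvc0)).2 hcb)
      · rw [h1, div_self hvc0]
        exact max_eq_right ((div_le_one₀ (zero_lt_iff.2 hvc0)).2 hca)
    have hw_eq : w = algebraMap K K' c *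
        (algebraMap K K' (a / c) + algebraMap K K' (b / c) * z) := by
      rw [hab, map_div₀, map_div₀]
      field_simp
    have hw10 : algebraMap K K' (a / c) + algebraMap K K' (b / c) * z ≠ 0 := by
      intro h0
      apply hw0
      rw [hw_eq, h0, mul_zero]
    obtain ⟨n, hn⟩ := main (a / c) (b / c) hnorm hw10
    refine ⟨n - P.ord c, ?_⟩
    rw [hw_eq, map_mul, hn, h c, val_eq_exp_neg_ord P hc0, exp_pow', ← exp_add]
    congr 1
    ring
  obtain ⟨t, ht⟩ := exists_uniformizer Q
  obtain ⟨n, hn⟩ := gen t (uniformizer_ne_zero Q ht)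
  rw [ht] at hn
  have h1 := exp_injective hn
  have h2 : (e : ℤ) * (-n) = 1 := by linarith
  have h3 : (e : ℤ) = 1 := by
    rcases Int.eq_one_or_neg_one_of_mul_eq_one h2 with h4 | h4
    · exact h4
    · have : (0 : ℤ) ≤ e := Int.natCast_nonneg _
      omega
  exact_mod_cast h3

/-- **Totally ramified quadratic extensions.** If `Q` lies over `P` with `e = 2` and `y` has odd
order at `Q`, the valuation of `a + b y` is determined. -/
theorem val_add_mul_of_odd {Q : Place k K'} {P : Place k K} (h : IsOverWith Q P 2) {y : K'}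
    (hy : Odd (Q.ord y)) (a b : K) :
    Q.1 (algebraMap K K' a + algebraMap K K' b * y) = max (P.1 a ^ 2) (P.1 b ^ 2 * Q.1 y) := by
  have hy0 : y ≠ 0 := by
    rintro rfl
    rw [ord_zero] at hy
    exact absurd hy (by decide)
  rcases eq_or_ne a 0 with rfl | ha
  · simp [h b]
  rcases eq_or_ne b 0 with rfl | hb
  · simp [h a]
  have h1 : Q.1 (algebraMap K K' a) = exp (-(2 * P.ord a)) := by
    rw [h a, val_eq_exp_neg_ord P ha, exp_pow']
    congr 1; push_cast; ring
  have h2 : Q.1 (algebraMap K K' b * y) = exp (-(2 * P.ord b + Q.ord y)) := by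
    rw [map_mul, h b, val_eq_exp_neg_ord P hb, val_eq_exp_neg_ord Q hy0, exp_pow', ← exp_add]
    congr 1; push_cast; ring
  have hne : Q.1 (algebraMap K K' a) ≠ Q.1 (algebraMap K K' b * y) := by
    rw [h1, h2]
    intro heq
    have := exp_injective heq
    obtain ⟨m, hm⟩ := hy
    omega
  rw [Valuation.map_add_of_distinct_val _ hne, h a, map_mul, h b]

/-- Uniqueness of a totally ramified place in a quadratic extension. -/
theorem eq_of_isOverWith_two_of_odd {Q Q' : Place k K'} {P : Place k K} (h : IsOverWith Q P 2)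
    (h' : IsOverWith Q' P 2) {y : K'} (hy : Odd (Q.ord y)) (hyy : Q.ord y = Q'.ord y)
    (hspan : ∀ w : K', ∃ a b : K, w = algebraMap K K' a + algebraMap K K' b * y) : Q = Q' := by
  have hy0 : y ≠ 0 := by
    rintro rfl
    rw [ord_zero] at hy
    exact absurd hy (by decide)
  apply place_ext
  intro w
  obtain ⟨a, b, rfl⟩ := hspan w
  rw [val_add_mul_of_odd h hy, val_add_mul_of_odd h' (hyy ▸ hy), val_eq_exp_neg_ord Q hy0,
    val_eq_exp_neg_ord Q' hy0, hyy]

end Groth.Agent.Lib.Helper44.FFExt
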