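/-
Places of the rational function field `k(X)`.
Author: helper44
-/
import Groth.Agent.Lib.Helper44.FunFldRamLe
import Mathlib.NumberTheory.RatFunc.Ostrowski

set_option autoImplicit false

namespace Groth.Agent.Lib.Helper44.FFExt

open FunFld WithZero Polynomial
open Groth.Agent.Lib.Helper88.FF

section general

variable {k K : Type*} [Field k] [Field K] [Algebra k K]

lemma isTrivialOn_place (P : Place k K) : P.1.IsTrivialOn k :=
  ⟨fun _ ha => val_algebraMap P ha⟩

lemma isNontrivial_place (P : Place k K) : P.1.IsNontrivial := by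
  obtain ⟨t, ht⟩ := exists_uniformizer P
  refine ⟨t, ?_, ?_⟩
  · rw [ht]; exact exp_ne_zero
  · rw [ht, ← exp_zero]
    intro h
    have := exp_injective h
    omega

lemma ord_eq_of_val_eq_exp (P : Place k K) {x : K} {n : ℤ} (h : P.1 x = exp n) : P.ord x = -n := by
  unfold Place.ord
  rw [h, log_exp]

end general

section ratplaces

variable {k : Type*} [Field k]

/-- At a pole of `X`, the valuation of `X` is `exp 1`. -/
theorem val_X_of_pole {P : Place k (RatFunc k)} (hX : 1 < P.1 RatFunc.X) :
    P.1 RatFunc.X = exp (1 : ℤ) := by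
  have := isTrivialOn_place P
  obtain ⟨t, ht⟩ := exists_uniformizer P
  have ht0 : t ≠ 0 := uniformizer_ne_zero P ht
  have h1 := RatFunc.valuation_eq_valuation_X_zpow_intDegree_of_one_lt_valuation_X hX ht0
  have hX0 : (RatFunc.X : RatFunc k) ≠ 0 := RatFunc.X_ne_zero
  have hneg : P.ord RatFunc.X < 0 := (one_lt_val_iff P hX0).1 hX
  rw [ht, val_eq_exp_neg_ord P hX0, ← exp_zsmul] at h1
  have h2 := exp_injective h1
  rw [smul_eq_mul] at h2
  have h3 : P.ord RatFunc.X * t.intDegree = 1 := by linarith
  rcases Int.eq_one_or_neg_one_of_mul_eq_one h3 with h4 | h4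
  · omega
  · rw [val_eq_exp_neg_ord P hX0, h4]
    rfl

/-- At a pole of `X`, the valuation is the degree valuation. -/
theorem val_of_pole {P : Place k (RatFunc k)} (hX : 1 < P.1 RatFunc.X) {r : RatFunc k}
    (hr : r ≠ 0) : P.1 r = exp r.intDegree := by
  have := isTrivialOn_place P
  rw [RatFunc.valuation_eq_valuation_X_zpow_intDegree_of_one_lt_valuation_X hX hr,
    val_X_of_pole hX, ← exp_zsmul, smul_eq_mul, mul_one]

theorem ord_of_pole {P : Place k (RatFunc k)} (hX : P.ord RatFunc.X < 0) {r : RatFunc k}
    (hr : r ≠ 0) : P.ord r = -r.intDegree :=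
  ord_eq_of_val_eq_exp P (val_of_pole ((one_lt_val_iff P RatFunc.X_ne_zero).2 hX) hr)

theorem ord_poly_of_pole {P : Place k (RatFunc k)} (hX : P.ord RatFunc.X < 0) {g : k[X]}
    (hg : g ≠ 0) : P.ord (algebraMap k[X] (RatFunc k) g) = -(g.natDegree : ℤ) := by
  rw [ord_of_pole hX (by simpa using hg), RatFunc.intDegree_polynomial]

/-- At a place where `X` is integral, polynomials are integral. -/
theorem val_poly_le_one {P : Place k (RatFunc k)} (hX : P.1 RatFunc.X ≤ 1) (g : k[X]) :
    P.1 (algebraMap k[X] (RatFunc k) g) ≤ 1 := by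
  have := isTrivialOn_place P
  have := Polynomial.valuation_le_one_of_valuation_X_le_one (v := P.1) _ hX g
  simpa using this

/-- At a place where `X` is integral, a squarefree polynomial which vanishes there has a simple
zero. -/
theorem val_squarefree_of_lt_one {P : Place k (RatFunc k)} (hX : P.1 RatFunc.X ≤ 1) {f : k[X]}
    (hf : Squarefree f) (hlt : P.1 (algebraMap k[X] (RatFunc k) f) < 1) :
    P.1 (algebraMap k[X] (RatFunc k) f) = exp (-1 : ℤ) := by
  have := isTrivialOn_place P
  have := isNontrivial_place P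
  set π := RatFunc.uniformizingPolynomial (v := P.1) hX with hπ
  have hne := RatFunc.setOfPred_polynomial_valuation_lt_one_and_ne_zero_nonempty (v := P.1) hX
  have hπirr : Irreducible π := RatFunc.irreducible_min_polynomial_valuation_lt_one_and_ne_zero hne
  have hπ0 : π ≠ 0 := RatFunc.uniformizingPolynomial_ne_zero hX
  have hπlt : P.1 (algebraMap k[X] (RatFunc k) π) < 1 := by
    have := RatFunc.valuation_uniformizingPolynomial_lt_one (v := P.1) hX
    simpa using this
  have hπ0' : algebraMap k[X] (RatFunc k) π ≠ 0 := by simpa using hπ0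
  -- the valuation of `π` is `exp (-1)`
  have hπval : P.1 (algebraMap k[X] (RatFunc k) π) = exp (-1 : ℤ) := by
    obtain ⟨t, ht⟩ := exists_uniformizer P
    have ht0 : t ≠ 0 := uniformizer_ne_zero P ht
    obtain ⟨z, hz⟩ := RatFunc.exists_zpow_uniformizingPolynomial (v := P.1) hX ht0
    have hz' : P.1 t = P.1 (algebraMap k[X] (RatFunc k) π) ^ z := by simpa using hz
    have hpos : 0 < P.ord (algebraMap k[X] (RatFunc k) π) := (val_lt_one_iff P hπ0').1 hπlt
    rw [ht, val_eq_exp_neg_ord P hπ0', ← exp_zsmul] at hz'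
    have h2 := exp_injective hz'
    rw [smul_eq_mul] at h2
    have h3 : P.ord (algebraMap k[X] (RatFunc k) π) * z = 1 := by linarith
    rcases Int.eq_one_or_neg_one_of_mul_eq_one h3 with h4 | h4
    · rw [val_eq_exp_neg_ord P hπ0', h4]
    · omega
  have hf0 : f ≠ 0 := hf.ne_zero
  obtain ⟨n, q, hnq, heq⟩ := WfDvdMonoid.max_power_factor hf0 hπirr
  have hq0 : q ≠ 0 := by
    rintro rfl
    exact hf0 (by rw [heq, mul_zero])
  have hq1 : P.1 (algebraMap k[X] (RatFunc k) q) = 1 := by
    have h := RatFunc.valuation_eq_valuation_uniformizingPolynomial_pow_of_valuation_X_le_one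
      (v := P.1) hX hq0
    have hcount : (Associates.mk (RatFunc.valuationIdeal (v := P.1) hX).asIdeal).count
        (Associates.mk (Ideal.span {q})).factors = 0 := by
      have := Ideal.count_associates_eq (a := q) (a₀ := q) (x := π) (n := 0)
        (irreducible_iff_prime.mp hπirr) hnq (by simp)
      exact this
    rw [hcount, pow_zero] at h
    simpa using h
  have hval : P.1 (algebraMap k[X] (RatFunc k) f) = exp (-1 : ℤ) ^ n := by
    rw [heq, map_mul, map_mul, map_pow, map_pow, hq1, mul_one, hπval]
  have hn1 : n = 1 := by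
    rcases Nat.lt_or_ge n 1 with h0 | h1
    · have : n = 0 := by omega
      rw [hval, this, pow_zero] at hlt
      exact absurd hlt (lt_irrefl _)
    · rcases Nat.lt_or_ge 1 n with h2 | h2
      · exfalso
        have hdvd : π * π ∣ f := by
          rw [heq]
          refine Dvd.dvd.mul_right ?_ _
          rw [← pow_two]
          exact pow_dvd_pow π h2
        exact hπirr.not_isUnit (hf π hdvd)
      · omega
  rw [hval, hn1, pow_one]

theorem ord_squarefree_of_pos {P : Place k (RatFunc k)} (hX : 0 ≤ P.ord RatFunc.X) {f : k[X]}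
    (hf : Squarefree f) (hpos : 0 < P.ord (algebraMap k[X] (RatFunc k) f)) :
    P.ord (algebraMap k[X] (RatFunc k) f) = 1 := by
  have hf0 : algebraMap k[X] (RatFunc k) f ≠ 0 := by simpa using hf.ne_zero
  exact ord_uniformizer (val_squarefree_of_lt_one ((val_le_one_iff P RatFunc.X_ne_zero).2 hX) hf
    ((val_lt_one_iff P hf0).2 hpos))


/-- At a pole of `X`, every integral element is congruent to a constant. -/
theorem exists_const_of_pole {P : Place k (RatFunc k)} (hX : 1 < P.1 RatFunc.X) (r : RatFunc k)
    (hr : P.1 r ≤ 1) : ∃ c : k, P.1 (r - algebraMap k (RatFunc k) c) < 1 := by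
  rcases eq_or_ne r 0 with rfl | hr0
  · exact ⟨0, by simp⟩
  rw [val_of_pole hX hr0] at hr
  have hdeg : r.intDegree ≤ 0 := by rwa [← exp_zero, exp_le_exp] at hr
  rcases lt_or_eq_of_le hdeg with hlt | heq
  · refine ⟨0, ?_⟩
    rw [map_zero, sub_zero, val_of_pole hX hr0, ← exp_zero, exp_lt_exp]
    exact hlt
  · have hb0 : r.denom ≠ 0 := r.denom_ne_zero
    have ha0 : r.num ≠ 0 := r.num_ne_zero hr0
    have hnat : r.num.natDegree = r.denom.natDegree := by
      have := heq
      unfold RatFunc.intDegree at this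
      omega
    have hlb : r.denom.leadingCoeff ≠ 0 := leadingCoeff_ne_zero.2 hb0
    have hla : r.num.leadingCoeff ≠ 0 := leadingCoeff_ne_zero.2 ha0
    set c := r.num.leadingCoeff / r.denom.leadingCoeff with hc
    have hc0 : c ≠ 0 := div_ne_zero hla hlb
    refine ⟨c, ?_⟩
    have hb0' : algebraMap k[X] (RatFunc k) r.denom ≠ 0 := by simpa using hb0
    have hr_eq : r - algebraMap k (RatFunc k) c =
        algebraMap k[X] (RatFunc k) (r.num - C c * r.denom) /
          algebraMap k[X] (RatFunc k) r.denom := by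
      rw [map_sub, map_mul, RatFunc.algebraMap_C, ← RatFunc.algebraMap_eq_C, sub_div,
        mul_div_assoc, div_self hb0', mul_one, RatFunc.num_div_denom]
    by_cases hzero : r.num - C c * r.denom = 0
    · rw [hr_eq, hzero, map_zero, zero_div, map_zero]
      exact zero_lt_one
    · have hlt : (r.num - C c * r.denom).degree < r.num.degree := by
        apply Polynomial.degree_sub_lt_left _ ha0
        · rw [leadingCoeff_mul, leadingCoeff_C, hc, div_mul_cancel₀ _ hlb]
        · rw [degree_C_mul hc0, degree_eq_natDegree ha0, degree_eq_natDegree hb0, hnat]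
      have hlt' : (r.num - C c * r.denom).natDegree < r.denom.natDegree := by
        rw [← hnat]
        exact natDegree_lt_natDegree hzero hlt
      have hz' : algebraMap k[X] (RatFunc k) (r.num - C c * r.denom) ≠ 0 :=
        (map_ne_zero_iff _ (RatFunc.algebraMap_injective k)).2 hzero
      rw [hr_eq, map_div₀, val_of_pole hX hz', val_of_pole hX hb0', RatFunc.intDegree_polynomial,
        RatFunc.intDegree_polynomial, ← exp_sub, ← exp_zero, exp_lt_exp]
      omega

/-- A place all of whose integral elements are congruent to constants has degree one. -/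
theorem deg_eq_one_of_forall_exists_const {K : Type*} [Field K] [Algebra k K] (P : Place k K)
    (h : ∀ r : K, P.1 r ≤ 1 → ∃ c : k, P.1 (r - algebraMap k K c) < 1) : P.deg = 1 := by
  unfold Place.deg
  rw [finrank_eq_one_iff_of_nonzero' (1 : IsLocalRing.ResidueField P.O) one_ne_zero]
  intro w
  obtain ⟨r, rfl⟩ := IsLocalRing.residue_surjective w
  obtain ⟨c, hc⟩ := h r.1 r.2
  refine ⟨c, ?_⟩
  change algebraMap k (IsLocalRing.ResidueField P.O) c * 1 = _
  rw [mul_one, show algebraMap k (IsLocalRing.ResidueField P.O) c =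
      IsLocalRing.residue P.O (algebraMap k P.O c) from rfl]
  symm
  rw [← sub_eq_zero, ← map_sub, IsLocalRing.residue_eq_zero_iff, Valuation.mem_maximalIdeal_iff]
  exact hc

/-- The place at infinity of `k(X)` has degree one. -/
theorem deg_of_pole {P : Place k (RatFunc k)} (hX : P.ord RatFunc.X < 0) : P.deg = 1 :=
  deg_eq_one_of_forall_exists_const P
    (exists_const_of_pole ((one_lt_val_iff P RatFunc.X_ne_zero).2 hX))

/-- A squarefree polynomial of positive degree is not a square in `k(X)`. -/
theorem not_sq_of_squarefree {f : k[X]} (hf : Squarefree f) (hd : 1 ≤ f.natDegree)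
    (r : RatFunc k) : r ^ 2 ≠ algebraMap k[X] (RatFunc k) f := by
  intro hr
  have hint : IsIntegral k[X] r := by
    refine ⟨X ^ 2 - C f, monic_X_pow_sub_C f two_ne_zero, ?_⟩
    rw [eval₂_sub, eval₂_pow, eval₂_X, eval₂_C, hr, sub_self]
  obtain ⟨q, rfl⟩ := IsIntegrallyClosed.isIntegral_iff.1 hint
  rw [← map_pow] at hr
  have hq : q ^ 2 = f := IsFractionRing.injective k[X] (RatFunc k) hr
  have hu : IsUnit q := hf q ⟨1, by rw [mul_one, ← pow_two, hq]⟩
  have : f.natDegree = 0 := by
    rw [← hq]
    exact natDegree_eq_zero_of_isUnit (hu.pow 2)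
  omega

end ratplaces

end Groth.Agent.Lib.Helper44.FFExt
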