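/-
Artin–Schreier reduction in characteristic two: over a function field of genus zero with perfect
constant field, poles of even order of `f` can be removed by `f ↦ f + g² + g`.
Author: helper44
-/
import Groth.Agent.Lib.Helper88.FunFldApps
import Groth.Agent.Lib.Helper88.FunFldResidue
import Groth.Agent.Lib.Helper44.FunFldQuad
import Groth.Agent.Lib.Helper44.FunFldRatPlace

set_option autoImplicit false

namespace Groth.Agent.Lib.Helper44.FFExt

open FunFld WithZero
open Groth.Agent.Lib.Helper88.FF

variable {k K : Type*} [Field k] [Field K] [Algebra k K]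

/-- For a nonspecial `D`, the residue map `L(D + P) → κ(P)` is surjective. -/
theorem lRes_surjective_aux (hK : IsFunctionField k K) (P : Place k K) {t : K}
    (ht : P.1 t = exp (-1 : ℤ)) (D : Divisor k K) (hD : 2 * (genus k K : ℤ) - 1 ≤ D.deg) :
    Function.Surjective (lRes P ht (D + Finsupp.single P 1)) := by
  set φ := lRes P ht (D + Finsupp.single P 1) with hφ
  have := finiteDimensional_L hK (D + Finsupp.single P 1)
  have := finiteDimensional_L hK D
  have := finiteDimensional_residueField hK P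
  have h1 := ell_eq_of_le_deg hK hD
  have hpos : 0 < P.deg := deg_pos hK P
  have h2 := ell_eq_of_le_deg hK (D := D + Finsupp.single P 1) (by
    rw [deg_add, deg_single]
    have : (0 : ℤ) ≤ 1 * (P.deg : ℤ) := by positivity
    linarith)
  rw [deg_add, deg_single] at h2
  have hle : L D ≤ L (D + Finsupp.single P 1) := L_mono (le_add_single D P)
  -- the kernel is `L D`
  have hker : Module.finrank k (LinearMap.ker φ) = ell D := by
    have e : LinearMap.ker φ ≃ₗ[k] L D :=
      { toFun := fun x => ⟨x.1.1, (lRes_eq_zero_iff P ht D x.1).1 x.2⟩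
        invFun := fun x => ⟨⟨x.1, hle x.2⟩, (lRes_eq_zero_iff P ht D ⟨x.1, hle x.2⟩).2 x.2⟩
        map_add' := fun _ _ => rfl
        map_smul' := fun _ _ => rfl
        left_inv := fun _ => rfl
        right_inv := fun _ => rfl }
    exact e.finrank_eq
  have hrk := LinearMap.finrank_range_add_finrank_ker φ
  have hrange : Module.finrank k (LinearMap.range φ) = P.deg := by
    have h3 : (Module.finrank k (LinearMap.range φ) : ℤ) = P.deg := by
      have : (Module.finrank k (LinearMap.range φ) : ℤ) + (ell D : ℤ)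
          = (ell (D + Finsupp.single P 1) : ℤ) := by
        rw [← hker]
        exact_mod_cast hrk
      rw [h1, h2] at this
      linarith
    exact_mod_cast h3
  have htop : LinearMap.range φ = ⊤ := Submodule.eq_top_of_finrank_eq hrange
  exact LinearMap.range_eq_top.1 htop

theorem lRes_surjective_of_nonspecial (hK : IsFunctionField k K) (P : Place k K) {t : K}
    (ht : P.1 t = exp (-1 : ℤ)) (D' : Divisor k K)
    (hD : 2 * (genus k K : ℤ) - 1 ≤ D'.deg - P.deg) :
    Function.Surjective (lRes P ht D') := by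
  have := lRes_surjective_aux hK P ht (D' - Finsupp.single P 1) (by
    rw [deg_sub, deg_single]; simpa using hD)
  rwa [sub_add_cancel] at this


/-- The residue field of a place is perfect when the constant field is. -/
theorem perfectField_residue [PerfectField k] (hK : IsFunctionField k K) (P : Place k K) :
    PerfectField (IsLocalRing.ResidueField P.O) := by
  have hfd := finiteDimensional_residueField hK P
  have hfd' : @Module.Finite k (IsLocalRing.ResidueField P.O) _ _ Algebra.toModule := hfd
  have : Algebra.IsAlgebraic k (IsLocalRing.ResidueField P.O) :=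
    ⟨fun x => (IsIntegral.of_finite k x).isAlgebraic⟩
  exact Algebra.IsAlgebraic.perfectField (K := k)

/-- **One reduction step.** In characteristic two with perfect constants and genus zero, a pole
of even order `2m` of `f` at `p` can be lowered by adding `g² + g` with `g ∈ L(m p)`. -/
theorem exists_reduce_pole [PerfectField k] [CharP k 2] (hK : IsFunctionField k K)
    (hg : genus k K = 0) (f : K) (p : Place k K) (m : ℕ) (hm : 1 ≤ m)
    (hf : p.1 f = exp (2 * (m : ℤ))) :
    ∃ g : K, (∀ q : Place k K, q ≠ p → q.1 g ≤ 1) ∧ p.1 g ≤ exp (m : ℤ) ∧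
      p.1 (f + g ^ 2 + g) < exp (2 * (m : ℤ)) := by
  obtain ⟨t, ht⟩ := exists_uniformizer p
  have ht0 : t ≠ 0 := by
    intro h
    rw [h, map_zero] at ht
    exact exp_ne_zero ht.symm
  set D' : Divisor k K := Finsupp.single p (m : ℤ) with hD'
  have hD'p : D' p = (m : ℤ) := by simp [hD']
  have hsurj := lRes_surjective_of_nonspecial hK p ht D' (by
    rw [hg, hD', deg_single]
    have h1 : (1 : ℤ) ≤ m := by exact_mod_cast hm
    have h2 : (0 : ℤ) ≤ p.deg := by positivity
    push_cast
    nlinarith [mul_nonneg (sub_nonneg.2 h1) h2])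
  -- the leading coefficient of `f`
  have hu : p.1 (f * t ^ (2 * (m : ℤ))) = 1 := by
    rw [map_mul, map_zpow₀, ht, hf, ← exp_zsmul, ← exp_add]
    simp
  set u : p.O := ⟨f * t ^ (2 * (m : ℤ)), hu.le⟩ with hu'
  have := perfectField_residue hK p
  have : CharP (IsLocalRing.ResidueField p.O) 2 :=
    charP_of_injective_algebraMap (algebraMap k (IsLocalRing.ResidueField p.O)).injective 2
  have : PerfectRing (IsLocalRing.ResidueField p.O) 2 := PerfectField.toPerfectRing 2
  obtain ⟨r, hr⟩ := surjective_frobenius (IsLocalRing.ResidueField p.O) 2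
    (IsLocalRing.residue p.O u)
  rw [frobenius_def] at hr
  obtain ⟨g, hgr⟩ := hsurj r
  have hgp : p.1 g.1 ≤ exp (m : ℤ) := by
    have := g.2 p
    rwa [hD'p] at this
  have hgm : g.1 * t ^ (m : ℤ) ∈ p.O := mul_zpow_mem_O p ht (n := (m : ℤ)) hgp
  have hres : IsLocalRing.residue p.O ⟨g.1 * t ^ (m : ℤ), hgm⟩ = r := by
    rw [← hgr]
    change _ = IsLocalRing.residue p.O ⟨g.1 * t ^ (D' p), _⟩
    congr 1
    apply Subtype.ext
    simp only [hD'p]
  refine ⟨g.1, ?_, hgp, ?_⟩
  · intro q hq
    have h1 : q.1 g.1 ≤ exp (D' q) := g.2 q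
    have hq0 : D' q = 0 := by rw [hD', Finsupp.single_eq_of_ne hq]
    rwa [hq0, exp_zero] at h1
  · -- `(f + g²) t^{2m}` has residue `ū + r² = 0`
    have hsum : (f + g.1 ^ 2) * t ^ (2 * (m : ℤ)) ∈ p.O := by
      have : (f + g.1 ^ 2) * t ^ (2 * (m : ℤ)) = f * t ^ (2 * (m : ℤ)) + (g.1 * t ^ (m : ℤ)) ^ 2 := by
        rw [mul_pow, ← zpow_natCast (t ^ (m : ℤ)) 2, ← zpow_mul, add_mul]
        congr 2
        push_cast
        ring_nf
      rw [this]
      exact add_mem u.2 (pow_mem hgm 2)
    have hzero : IsLocalRing.residue p.O ⟨(f + g.1 ^ 2) * t ^ (2 * (m : ℤ)), hsum⟩ = 0 := by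
      have : (⟨(f + g.1 ^ 2) * t ^ (2 * (m : ℤ)), hsum⟩ : p.O) = u + ⟨g.1 * t ^ (m : ℤ), hgm⟩ ^ 2 := by
        apply Subtype.ext
        show (f + g.1 ^ 2) * t ^ (2 * (m : ℤ)) = f * t ^ (2 * (m : ℤ)) + (g.1 * t ^ (m : ℤ)) ^ 2
        rw [mul_pow, ← zpow_natCast (t ^ (m : ℤ)) 2, ← zpow_mul, add_mul]
        congr 2
        push_cast
        ring_nf
      rw [this, map_add, map_pow, hres, hr]
      exact CharTwo.add_self_eq_zero _
    rw [IsLocalRing.residue_eq_zero_iff, Valuation.mem_maximalIdeal_iff] at hzero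
    have h1 : p.1 (f + g.1 ^ 2) < exp (2 * (m : ℤ)) := by
      have h2 : p.1 ((f + g.1 ^ 2) * t ^ (2 * (m : ℤ))) < 1 := hzero
      rw [map_mul, map_zpow₀, ht, ← exp_zsmul] at h2
      have h3 : exp (2 * (m : ℤ)) * exp ((2 * (m : ℤ)) • (-1 : ℤ)) = (1 : ℤᵐ⁰) := by
        rw [← exp_add]; simp
      have h5 : p.1 (f + g.1 ^ 2) * exp ((2 * (m : ℤ)) • (-1 : ℤ)) <
          exp (2 * (m : ℤ)) * exp ((2 * (m : ℤ)) • (-1 : ℤ)) := by rw [h3]; exact h2
      exact (mul_lt_mul_iff_left₀ (zero_lt_iff.2 exp_ne_zero)).1 h5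
    have h4 : p.1 g.1 < exp (2 * (m : ℤ)) := by
      refine lt_of_le_of_lt hgp ?_
      rw [exp_lt_exp]
      have h1 : (1 : ℤ) ≤ m := by exact_mod_cast hm
      omega
    exact lt_of_le_of_lt (p.1.map_add _ _) (max_lt h1 h4)


lemma ord_nonneg_of_val_le_one (P : Place k K) {x : K} (h : P.1 x ≤ 1) : 0 ≤ P.ord x := by
  by_cases hx : x = 0
  · rw [hx, ord_zero]
  · exact (val_le_one_iff P hx).1 h

/-- The degree of the pole divisor drops when one pole is lowered and the others are kept. -/
theorem deg_poleDiv_lt (hK : IsFunctionField k K) {f f' : K} {p : Place k K} {n : ℤ}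
    (hn : 1 ≤ n) (hf : p.1 f = exp n) (hf' : p.1 f' < exp n)
    (hother : ∀ q : Place k K, q ≠ p → (1 < q.1 f → q.1 f' = q.1 f) ∧ (q.1 f ≤ 1 → q.1 f' ≤ 1)) :
    ((-FunFld.div k f') ⊔ 0 : Divisor k K).deg < ((-FunFld.div k f) ⊔ 0 : Divisor k K).deg := by
  have hle : ((-FunFld.div k f') ⊔ 0 : Divisor k K) + Finsupp.single p 1 ≤
      ((-FunFld.div k f) ⊔ 0 : Divisor k K) := by
    intro q
    rw [Finsupp.add_apply, Finsupp.sup_apply, Finsupp.sup_apply, Finsupp.neg_apply,
      Finsupp.neg_apply, div_apply hK, div_apply hK]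
    simp only [Finsupp.coe_zero, Pi.zero_apply]
    by_cases hq : q = p
    · subst hq
      rw [Finsupp.single_eq_same, ord_eq_of_val_eq_exp q hf]
      by_cases hf0 : f' = 0
      · rw [hf0, ord_zero]
        simp only [neg_zero, sup_idem, neg_neg]
        exact le_sup_of_le_left (by omega)
      · rw [val_eq_exp_neg_ord q hf0, exp_lt_exp] at hf'
        simp only [neg_neg]
        refine le_sup_of_le_left ?_
        rcases le_total (-q.ord f') 0 with h | h
        · rw [sup_of_le_right h]; omega
        · rw [sup_of_le_left h]; omega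
    · rw [Finsupp.single_eq_of_ne hq, add_zero]
      obtain ⟨h1, h2⟩ := hother q hq
      rcases lt_or_ge 1 (q.1 f) with h | h
      · have : q.ord f' = q.ord f := by
          unfold Place.ord
          rw [h1 h]
        rw [this]
      · have h3 := ord_nonneg_of_val_le_one q (h2 h)
        have : -q.ord f' ⊔ 0 = 0 := sup_of_le_right (by omega)
        rw [this]
        exact le_sup_right
  have h1 := deg_mono hle
  rw [deg_add, deg_single] at h1
  have hpos : 0 < p.deg := deg_pos hK p
  have : (0 : ℤ) < 1 * (p.deg : ℤ) := by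
    rw [one_mul]; exact_mod_cast hpos
  linarith

/-- **Artin–Schreier reduction.** Over a function field of genus zero with perfect constant
field of characteristic two, every `f` is congruent modulo `{g² + g}` to an element all of whose
poles have odd order. -/
theorem exists_odd_poles [PerfectField k] [CharP k 2] (hK : IsFunctionField k K)
    (hg : genus k K = 0) (f : K) :
    ∃ g : K, ∀ P : Place k K, P.ord (f + g ^ 2 + g) < 0 → Odd (P.ord (f + g ^ 2 + g)) := by
  have : CharP K 2 := charP_of_injective_algebraMap (algebraMap k K).injective 2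
  have h2 : (2 : K) = 0 := CharTwo.two_eq_zero
  suffices H : ∀ (n : ℕ) (f : K), (((-FunFld.div k f) ⊔ 0 : Divisor k K).deg).toNat = n →
      ∃ g : K, ∀ P : Place k K, P.ord (f + g ^ 2 + g) < 0 → Odd (P.ord (f + g ^ 2 + g)) from
    H _ f rfl
  intro n
  induction n using Nat.strong_induction_on with
  | _ n ih =>
  intro f hn
  by_cases hall : ∀ P : Place k K, P.ord f < 0 → Odd (P.ord f)
  · refine ⟨0, ?_⟩
    simpa using hall
  · push Not at hall
    obtain ⟨p, hp, hodd⟩ := hall
    rw [Int.not_odd_iff_even] at hodd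
    obtain ⟨r, hr⟩ := hodd
    have hf0 : f ≠ 0 := by
      rintro rfl
      rw [ord_zero] at hp
      omega
    set m : ℕ := (-r).toNat with hm
    have hmr : (m : ℤ) = -r := by
      rw [hm, Int.toNat_of_nonneg]; omega
    have hm1 : 1 ≤ m := by
      have : (1 : ℤ) ≤ m := by rw [hmr]; omega
      exact_mod_cast this
    have hval : p.1 f = exp (2 * (m : ℤ)) := by
      rw [val_eq_exp_neg_ord p hf0, hmr, hr]
      congr 1
      ring
    obtain ⟨g₁, hg1, hg2, hg3⟩ := exists_reduce_pole hK hg f p m hm1 hval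
    have hlt := deg_poleDiv_lt hK (f := f) (f' := f + g₁ ^ 2 + g₁) (p := p)
      (n := 2 * (m : ℤ)) (by omega) hval hg3 (by
      intro q hq
      have h1 : q.1 (g₁ ^ 2 + g₁) ≤ 1 := by
        refine (q.1.map_add _ _).trans (max_le ?_ (hg1 q hq))
        rw [map_pow]
        exact pow_le_one' (hg1 q hq) 2
      constructor
      · intro h
        rw [add_assoc]
        exact Valuation.map_add_eq_of_lt_left _ (lt_of_le_of_lt h1 h)
      · intro h
        rw [add_assoc]
        exact (q.1.map_add _ _).trans (max_le h h1))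
    have hnn : ∀ x : K, 0 ≤ ((-FunFld.div k x) ⊔ 0 : Divisor k K).deg :=
      fun x => deg_nonneg le_sup_right
    obtain ⟨g₂, hg₂⟩ := ih _ (by
      rw [← hn]
      have := hnn f
      have := hnn (f + g₁ ^ 2 + g₁)
      omega) (f + g₁ ^ 2 + g₁) rfl
    refine ⟨g₁ + g₂, ?_⟩
    have : f + (g₁ + g₂) ^ 2 + (g₁ + g₂) = f + g₁ ^ 2 + g₁ + g₂ ^ 2 + g₂ := by
      linear_combination (g₁ * g₂) * h2
    rw [this]
    exact hg₂

end Groth.Agent.Lib.Helper44.FFExt
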