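/-
Galois extensions of function fields: the Galois group acts transitively on the places above a
given place.
Author: helper44
-/
import Groth.Agent.Lib.Helper44.FunFldExt5
import Groth.Agent.Lib.Helper88.FunFldApprox
import Mathlib.RingTheory.Valuation.RamificationGroup
import Mathlib.RingTheory.Norm.Transitivity
import Mathlib.FieldTheory.Galois.Basic

set_option autoImplicit false

namespace Groth.Agent.Lib.Helper44.FFExt

open FunFld WithZero
open Groth.Agent.Lib.Helper88.FF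

variable {k K K' : Type*} [Field k] [Field K] [Field K'] [Algebra k K] [Algebra K K'] [Algebra k K']
  [IsScalarTower k K K']

/-- Transport of a place along a `K`-automorphism: `(comapPlace σ Q)(x) = Q (σ x)`. -/
def comapPlace (σ : K' ≃ₐ[K] K') (Q : Place k K') : Place k K' :=
  ⟨Q.1.comap (σ : K' →+* K'), fun c => by
      show Q.1 (σ (algebraMap k K' c)) ≤ 1
      rw [IsScalarTower.algebraMap_apply k K K', σ.commutes, ← IsScalarTower.algebraMap_apply]
      exact Q.2.1 c,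
    fun γ => by
      obtain ⟨x, hx⟩ := Q.2.2 γ
      refine ⟨σ.symm x, ?_⟩
      show Q.1 (σ (σ.symm x)) = γ
      rw [σ.apply_symm_apply, hx]⟩

@[simp] lemma comapPlace_apply (σ : K' ≃ₐ[K] K') (Q : Place k K') (x : K') :
    (comapPlace σ Q).1 x = Q.1 (σ x) := rfl

lemma comapPlace_ord (σ : K' ≃ₐ[K] K') (Q : Place k K') (x : K') :
    (comapPlace σ Q).ord x = Q.ord (σ x) := rfl

lemma comapPlace_mul (σ τ : K' ≃ₐ[K] K') (Q : Place k K') :
    comapPlace (σ * τ) Q = comapPlace τ (comapPlace σ Q) :=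
  place_ext fun _ => rfl

lemma comapPlace_one (Q : Place k K') : comapPlace (1 : K' ≃ₐ[K] K') Q = Q :=
  place_ext fun _ => rfl

lemma isOverWith_comapPlace {Q : Place k K'} {P : Place k K} {e : ℕ} (h : IsOverWith Q P e)
    (σ : K' ≃ₐ[K] K') : IsOverWith (comapPlace σ Q) P e := by
  intro x
  show Q.1 (σ (algebraMap K K' x)) = _
  rw [σ.commutes]
  exact h x

lemma isOver_comapPlace {Q : Place k K'} {P : Place k K} (h : IsOver Q P)
    (σ : K' ≃ₐ[K] K') : IsOver (comapPlace σ Q) P := by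
  obtain ⟨e, he⟩ := h
  exact ⟨e, isOverWith_comapPlace he σ⟩

/-- **Transitivity** of the Galois action on the places above a place. -/
theorem exists_comapPlace_eq [FiniteDimensional K K'] [IsGalois K K'] (Q₁ Q₂ : Place k K')
    (h : ∀ x : K, Q₁.1 (algebraMap K K' x) = 1 → Q₂.1 (algebraMap K K' x) = 1) :
    ∃ σ : K' ≃ₐ[K] K', comapPlace σ Q₁ = Q₂ := by
  classical
  by_contra hcon
  push Not at hcon
  let O₁ : Finset (Place k K') := Finset.univ.image (fun σ : K' ≃ₐ[K] K' => comapPlace σ Q₁)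
  let O₂ : Finset (Place k K') := Finset.univ.image (fun σ : K' ≃ₐ[K] K' => comapPlace σ Q₂)
  have hdisj : ∀ Q ∈ O₁, Q ∉ O₂ := by
    intro Q hQ1 hQ2
    obtain ⟨σ, -, rfl⟩ := Finset.mem_image.1 hQ1
    obtain ⟨τ, -, hτ⟩ := Finset.mem_image.1 hQ2
    apply hcon (σ * τ⁻¹)
    rw [comapPlace_mul, ← hτ, ← comapPlace_mul, mul_inv_cancel, comapPlace_one]
  obtain ⟨z, hz⟩ := weak_approx (O₁ ∪ O₂) (fun Q => if Q ∈ O₂ then 0 else 1) 1
  have hexp : exp (-1 : ℤ) < (1 : ℤᵐ⁰) := by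
    rw [← exp_zero]
    exact exp_lt_exp.2 (by norm_num)
  have hz1 : ∀ σ : K' ≃ₐ[K] K', Q₁.1 (σ z) = 1 := by
    intro σ
    have hmem : comapPlace σ Q₁ ∈ O₁ := Finset.mem_image_of_mem _ (Finset.mem_univ _)
    have h1 := hz _ (Finset.mem_union_left _ hmem)
    rw [if_neg (hdisj _ hmem)] at h1
    have h2 : Q₁.1 (σ z - 1) ≤ exp (-1 : ℤ) := by
      have : Q₁.1 (σ (z - 1)) ≤ exp (-1 : ℤ) := h1
      rwa [map_sub, map_one] at this
    have h3 := Valuation.map_one_add_of_lt (v := Q₁.1) (lt_of_le_of_lt h2 hexp)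
    rwa [add_sub_cancel] at h3
  have hz2 : ∀ σ : K' ≃ₐ[K] K', Q₂.1 (σ z) < 1 := by
    intro σ
    have hmem : comapPlace σ Q₂ ∈ O₂ := Finset.mem_image_of_mem _ (Finset.mem_univ _)
    have h1 := hz _ (Finset.mem_union_right _ hmem)
    rw [if_pos hmem, sub_zero] at h1
    exact lt_of_le_of_lt h1 hexp
  have hnorm := Algebra.norm_eq_prod_automorphisms K z
  have h1 : Q₁.1 (algebraMap K K' (Algebra.norm K z)) = 1 := by
    rw [hnorm, map_prod]
    exact Finset.prod_eq_one (fun σ _ => hz1 σ)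
  have h2 : Q₂.1 (algebraMap K K' (Algebra.norm K z)) < 1 := by
    rw [hnorm, map_prod, ← Finset.mul_prod_erase _ _ (Finset.mem_univ (1 : K' ≃ₐ[K] K'))]
    exact mul_lt_one_of_nonneg_of_lt_one_left zero_le (hz2 1)
      (Finset.prod_le_one' (fun σ _ => (hz2 σ).le))
  exact h2.ne (h _ h1)

/-- Places above the same place are conjugate. -/
theorem exists_comapPlace_eq_of_isOver [FiniteDimensional K K'] [IsGalois K K']
    {Q₁ Q₂ : Place k K'} {P : Place k K} (h₁ : IsOver Q₁ P) (h₂ : IsOver Q₂ P) :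
    ∃ σ : K' ≃ₐ[K] K', comapPlace σ Q₁ = Q₂ := by
  apply exists_comapPlace_eq
  intro x hx
  obtain ⟨e₁, he₁⟩ := h₁
  obtain ⟨e₂, he₂⟩ := h₂
  rw [he₁ x] at hx
  rw [he₂ x, (pow_eq_one_iff_of_nonneg zero_le (isOverWith_ne_zero he₁)).1 hx, one_pow]

end Groth.Agent.Lib.Helper44.FFExt
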