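/-
Galois extensions of function fields, part 2: conjugate places have the same degree; the number
of places above a place is the index of the decomposition group.
Author: helper44
-/
import Groth.Agent.Lib.Helper44.FunFldGalois

set_option autoImplicit false

namespace Groth.Agent.Lib.Helper44.FFExt

open FunFld WithZero
open Groth.Agent.Lib.Helper88.FF
open scoped Pointwise

variable {k K K' : Type*} [Field k] [Field K] [Field K'] [Algebra k K] [Algebra K K'] [Algebra k K']
  [IsScalarTower k K K']

/-- `σ` induces a ring isomorphism of valuation rings. -/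
def comapPlaceOEquiv (σ : K' ≃ₐ[K] K') (Q : Place k K') : (comapPlace σ Q).O ≃+* Q.O where
  toFun x := ⟨σ x.1, x.2⟩
  invFun y := ⟨σ.symm y.1, by
    show Q.1 (σ (σ.symm y.1)) ≤ 1
    rw [σ.apply_symm_apply]
    exact y.2⟩
  left_inv x := Subtype.ext (σ.symm_apply_apply x.1)
  right_inv y := Subtype.ext (σ.apply_symm_apply y.1)
  map_mul' x y := Subtype.ext (map_mul σ x.1 y.1)
  map_add' x y := Subtype.ext (map_add σ x.1 y.1)

/-- Conjugate places have the same degree. -/
theorem deg_comapPlace (σ : K' ≃ₐ[K] K') (Q : Place k K') : (comapPlace σ Q).deg = Q.deg := by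
  let e := IsLocalRing.ResidueField.mapEquiv (comapPlaceOEquiv σ Q)
  have hc : ∀ c : k, e (algebraMap k (IsLocalRing.ResidueField (comapPlace σ Q).O) c) =
      algebraMap k (IsLocalRing.ResidueField Q.O) c := by
    intro c
    show IsLocalRing.residue Q.O ((comapPlaceOEquiv σ Q) (algebraMap k (comapPlace σ Q).O c)) =
      IsLocalRing.residue Q.O (algebraMap k Q.O c)
    congr 1
    apply Subtype.ext
    show σ (algebraMap k K' c) = algebraMap k K' c
    rw [IsScalarTower.algebraMap_apply k K K', σ.commutes]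
  let l : IsLocalRing.ResidueField (comapPlace σ Q).O ≃ₗ[k] IsLocalRing.ResidueField Q.O :=
    { e.toAddEquiv with
      map_smul' := by
        intro c x
        show e (c • x) = c • e x
        rw [Algebra.smul_def, Algebra.smul_def, map_mul, hc] }
  exact l.finrank_eq

lemma smul_O (σ : K' ≃ₐ[K] K') (Q : Place k K') : σ • Q.O = (comapPlace σ⁻¹ Q).O := by
  ext x
  rw [ValuationSubring.mem_pointwise_smul_iff_inv_smul_mem]
  rfl

lemma place_eq_of_O_eq {Q Q' : Place k K'} (h : Q.O = Q'.O) : Q = Q' := by
  apply place_eq_of_le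
  intro y hy
  have : y ∈ Q.O := hy
  rw [h] at this
  exact this

/-- **Orbit–stabiliser** for the places above a place in a Galois extension. -/
theorem card_isOver_mul_card_decomposition [FiniteDimensional K K'] [IsGalois K K']
    {Q : Place k K'} {P : Place k K} (h : IsOver Q P) :
    Nat.card {Q' : Place k K' // IsOver Q' P} * Nat.card ((Q.O).decompositionSubgroup K) =
      Module.finrank K K' := by
  rw [← IsGalois.card_aut_eq_finrank K K',
    ← Nat.card_congr (MulAction.orbitProdStabilizerEquivGroup (K' ≃ₐ[K] K') Q.O), Nat.card_prod]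
  congr 1
  apply Nat.card_congr
  refine Equiv.ofBijective (fun Q' => ⟨Q'.1.O, ?_⟩) ⟨?_, ?_⟩
  · obtain ⟨σ, hσ⟩ := exists_comapPlace_eq_of_isOver h Q'.2
    rw [MulAction.mem_orbit_iff]
    refine ⟨σ⁻¹, ?_⟩
    rw [smul_O, inv_inv, hσ]
  · intro Q₁ Q₂ h12
    have : Q₁.1.O = Q₂.1.O := congrArg Subtype.val h12
    exact Subtype.ext (place_eq_of_O_eq this)
  · rintro ⟨A, hA⟩
    rw [MulAction.mem_orbit_iff] at hA
    obtain ⟨σ, rfl⟩ := hA
    refine ⟨⟨comapPlace σ⁻¹ Q, isOver_comapPlace h σ⁻¹⟩, ?_⟩
    apply Subtype.ext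
    exact (smul_O σ Q).symm

end Groth.Agent.Lib.Helper44.FFExt
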