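/-
Artin–Schreier curves `y² + y = f(x)` in characteristic two: valuation of `y`, the nontrivial
automorphism, ramification over places of `k(x)`.
Author: helper44
-/
import Groth.Agent.S12519
import Groth.Agent.Lib.Helper44.FunFldGalois2
import Groth.Agent.Lib.Helper44.FunFldExt2
import Groth.Agent.Lib.Helper44.FunFldASReduce

set_option autoImplicit false

namespace Groth.Agent.Lib.Helper44.FFExt

open FunFld WithZero
open Groth.Agent.Lib.Helper88.FF

section val

variable {k K : Type*} [Field k] [Field K] [Algebra k K]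

lemma lt_sq_of_one_lt {v : ℤᵐ⁰} (h : 1 < v) : v < v ^ 2 := by
  have h0 : 0 < v := zero_lt_one.trans h
  calc v = 1 * v := (one_mul v).symm
    _ < v * v := mul_lt_mul_of_pos_right h h0
    _ = v ^ 2 := (sq v).symm

/-- If `y² + y = c` and `1 < v(y)`, then `v(c) = v(y)²`. -/
lemma AS_val_of_one_lt (P : Place k K) {y c : K} (heq : y ^ 2 + y = c) (h : 1 < P.1 y) :
    P.1 c = P.1 y ^ 2 := by
  rw [← heq, ← map_pow]
  apply Valuation.map_add_eq_of_lt_left
  rw [map_pow]
  exact lt_sq_of_one_lt h

/-- If `y² + y = c` with `c` integral at `P`, then `y` is integral at `P`. -/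
lemma AS_val_le_one (P : Place k K) {y c : K} (heq : y ^ 2 + y = c) (hc : P.1 c ≤ 1) :
    P.1 y ≤ 1 := by
  by_contra h
  rw [not_le] at h
  have h1 := AS_val_of_one_lt P heq h
  have h2 := lt_sq_of_one_lt h
  rw [h1] at hc
  exact absurd (h.trans h2) (not_lt.2 hc)

/-- If `y² + y = c` with `c` having a pole at `P`, then `v(y)² = v(c)`. -/
lemma AS_val_sq (P : Place k K) {y c : K} (heq : y ^ 2 + y = c) (hc : 1 < P.1 c) :
    P.1 y ^ 2 = P.1 c := by
  have h : 1 < P.1 y := by
    by_contra h
    rw [not_lt] at h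
    have h1 : P.1 c ≤ 1 := by
      rw [← heq]
      refine (P.1.map_add _ _).trans (max_le ?_ h)
      rw [map_pow]
      exact pow_le_one' h 2
    exact absurd hc (not_lt.2 h1)
  exact (AS_val_of_one_lt P heq h).symm

end val

section sigma

variable {F K : Type*} [Field F] [Field K] [Algebra F K]

/-- The nontrivial automorphism `y ↦ y + 1` of a separable Artin–Schreier extension of degree
two in characteristic two. -/
theorem AS_exists_sigma (hdeg : Module.finrank F K = 2) [Algebra.IsSeparable F K]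
    (h2 : (2 : K) = 0) {y : K} (hy : y ∉ Set.range (algebraMap F K)) {c : F}
    (heq : y ^ 2 + y = algebraMap F K c) : ∃ σ : K ≃ₐ[F] K, σ y = y + 1 := by
  have : Algebra.IsQuadraticExtension F K := { finrank_eq_two' := hdeg }
  have : IsGalois F K := inferInstance
  have : FiniteDimensional F K := Module.finite_of_finrank_pos (by rw [hdeg]; norm_num)
  have hcard : Nat.card (K ≃ₐ[F] K) = 2 := by rw [IsGalois.card_aut_eq_finrank, hdeg]
  obtain ⟨σ, hσ⟩ : ∃ σ : K ≃ₐ[F] K, σ ≠ 1 := by
    by_contra h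
    push Not at h
    have : Subsingleton (K ≃ₐ[F] K) := ⟨fun a b => by rw [h a, h b]⟩
    have := Nat.card_of_subsingleton (1 : K ≃ₐ[F] K)
    omega
  have hroot : (σ y) ^ 2 + σ y = y ^ 2 + y := by
    rw [← map_pow, ← map_add, heq, σ.commutes]
  have hmul : (σ y - y) * (σ y - (y + 1)) = 0 := by
    linear_combination hroot + (y ^ 2 - σ y * y - σ y + y) * h2
  rcases mul_eq_zero.1 hmul with h | h
  · exfalso
    apply hσ
    ext w
    obtain ⟨a, b, rfl⟩ := exists_add_mul_eq hdeg hy w
    rw [map_add, map_mul, σ.commutes, σ.commutes, sub_eq_zero.1 h]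
    rfl
  · exact ⟨σ, sub_eq_zero.1 h⟩

end sigma


section ratplace

variable {k : Type*} [Field k]

lemma val_C_le_one (p : Place k (RatFunc k)) (β : k) : p.1 (RatFunc.C β) ≤ 1 := by
  rw [← RatFunc.algebraMap_eq_C]
  exact p.2.1 β

lemma val_X_le_one_of_lt_one {p : Place k (RatFunc k)} {β : k}
    (h : p.1 (RatFunc.X - RatFunc.C β) < 1) : p.1 RatFunc.X ≤ 1 := by
  have : (RatFunc.X : RatFunc k) = (RatFunc.X - RatFunc.C β) + RatFunc.C β := by ring
  rw [this]
  exact (p.1.map_add _ _).trans (max_le h.le (val_C_le_one p β))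

/-- `X - β` is a uniformizer at the place where it vanishes. -/
theorem val_X_sub_C_of_lt_one {p : Place k (RatFunc k)} {β : k}
    (h : p.1 (RatFunc.X - RatFunc.C β) < 1) : p.1 (RatFunc.X - RatFunc.C β) = exp (-1 : ℤ) := by
  have hX := val_X_le_one_of_lt_one h
  have hmap : algebraMap (Polynomial k) (RatFunc k) (Polynomial.X - Polynomial.C β) =
      RatFunc.X - RatFunc.C β := by
    rw [map_sub, RatFunc.algebraMap_X, RatFunc.algebraMap_C]
  have hsq : Squarefree (Polynomial.X - Polynomial.C β : Polynomial k) :=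
    (Polynomial.irreducible_X_sub_C β).squarefree
  have := val_squarefree_of_lt_one hX hsq (by rw [hmap]; exact h)
  rwa [hmap] at this

/-- At the pole of `X`, `X - β` has a simple pole. -/
theorem val_X_sub_C_of_pole {p : Place k (RatFunc k)} (h : 1 < p.1 RatFunc.X) (β : k) :
    p.1 (RatFunc.X - RatFunc.C β) = exp (1 : ℤ) := by
  rw [Valuation.map_sub_eq_of_lt_left, val_X_of_pole h]
  exact lt_of_le_of_lt (val_C_le_one p β) h

end ratplace

section ratfunc

variable {k K : Type*} [Field k] [Field K] [PerfectField k] [CharP k 2] [Algebra k K]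
  [Algebra (RatFunc k) K] [IsScalarTower k (RatFunc k) K]

/-- Above a place of `k(x)` where `f` has a pole of odd order `d`: total ramification, `y` has
a pole of order `d`, and the place above is unique. -/
theorem AS_ram (hdeg : Module.finrank (RatFunc k) K = 2) [Algebra.IsSeparable (RatFunc k) K]
    {y : K} (hy : y ∉ Set.range (algebraMap (RatFunc k) K)) {f : RatFunc k}
    (heq : y ^ 2 + y = algebraMap (RatFunc k) K f) {p : Place k (RatFunc k)} {d : ℕ} (hd : Odd d)
    (hp : p.ord f = -(d : ℤ)) {P : Place k K} (hP : IsOver P p) :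
    IsOverWith P p 2 ∧ P.1 y = exp (d : ℤ) ∧ ∀ P' : Place k K, IsOver P' p → P' = P := by
  have hd1 : 1 ≤ d := hd.pos
  have h := (Groth.Agent.S12519.result k K (ringChar.eq k 2) hdeg y hy f heq p).1
    ⟨by omega, by rw [hp]; exact ((Int.odd_coe_nat d).2 hd).neg⟩
  obtain ⟨⟨P₁, hP₁, huniq⟩, hall⟩ := h
  have hf0 : f ≠ 0 := by
    rintro rfl
    rw [ord_zero] at hp
    omega
  have hPe := (hall P hP).1
  refine ⟨hPe, ?_, fun P' hP' => (huniq P' hP').trans (huniq P hP).symm⟩
  have hval : P.1 (algebraMap (RatFunc k) K f) = exp (d : ℤ) ^ 2 := by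
    rw [hPe f, val_eq_exp_neg_ord p hf0, hp, neg_neg]
  have h1 : 1 < P.1 (algebraMap (RatFunc k) K f) := by
    rw [hval, exp_pow', ← exp_zero, exp_lt_exp]
    push_cast
    omega
  have h2 := AS_val_sq P heq h1
  rw [hval] at h2
  exact zm0_pow_injective (e := 2) (by norm_num) h2

/-- Above a place of `k(x)` where `f` is integral: unramified, `y` integral. -/
theorem AS_unram (hdeg : Module.finrank (RatFunc k) K = 2) [Algebra.IsSeparable (RatFunc k) K]
    {y : K} (hy : y ∉ Set.range (algebraMap (RatFunc k) K)) {f : RatFunc k}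
    (heq : y ^ 2 + y = algebraMap (RatFunc k) K f) {p : Place k (RatFunc k)}
    (hp : p.1 f ≤ 1) {P : Place k K} (hP : IsOver P p) :
    IsOverWith P p 1 ∧ P.1 y ≤ 1 := by
  have h := (Groth.Agent.S12519.result k K (ringChar.eq k 2) hdeg y hy f heq p).2
    (ord_nonneg_of_val_le_one p hp) P hP
  refine ⟨h, AS_val_le_one P heq ?_⟩
  rw [h f, pow_one]
  exact hp

end ratfunc

end Groth.Agent.Lib.Helper44.FFExt
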