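/-
Principal parts in genus zero, and repartitions supported at a single place over a rational
function field.
Author: helper44
-/
import Groth.Agent.Lib.Helper44.FunFldAS

set_option autoImplicit false

namespace Groth.Agent.Lib.Helper44.FFExt

open FunFld WithZero
open Groth.Agent.Lib.Helper88.FF

section pp

variable {k K : Type*} [Field k] [Field K] [Algebra k K]

/-- **Principal parts in genus zero**: every `h` with a pole of order at most `n` at `p` differs
from an element of `L(n p)` by something integral at `p`. -/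
theorem exists_principal_part (hK : IsFunctionField k K) (hg : genus k K = 0) (p : Place k K)
    (n : ℕ) (h : K) (hh : p.1 h ≤ exp (n : ℤ)) :
    ∃ h₁ : K, h₁ ∈ L (Finsupp.single p (n : ℤ) : Divisor k K) ∧ p.1 (h - h₁) ≤ 1 := by
  induction n generalizing h with
  | zero =>
    refine ⟨0, Submodule.zero_mem _, ?_⟩
    simpa using hh
  | succ n ih =>
    obtain ⟨t, ht⟩ := exists_uniformizer p
    set D' : Divisor k K := Finsupp.single p ((n + 1 : ℕ) : ℤ) with hD'
    have hD'p : D' p = ((n + 1 : ℕ) : ℤ) := by simp [hD']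
    have hsurj := lRes_surjective_of_nonspecial hK p ht D' (by
      rw [hg, hD', deg_single]
      have h2 : (0 : ℤ) ≤ p.deg := by positivity
      push_cast
      nlinarith [mul_nonneg (Int.natCast_nonneg n) h2])
    have hmem : h * t ^ (((n + 1 : ℕ) : ℤ)) ∈ p.O := mul_zpow_mem_O p ht (n := ((n + 1 : ℕ) : ℤ)) hh
    obtain ⟨g, hgr⟩ := hsurj (IsLocalRing.residue p.O ⟨_, hmem⟩)
    have hgp : p.1 g.1 ≤ exp (((n + 1 : ℕ) : ℤ)) := by
      have := g.2 p
      rwa [hD'p] at this
    have hgm : g.1 * t ^ (((n + 1 : ℕ) : ℤ)) ∈ p.O :=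
      mul_zpow_mem_O p ht (n := ((n + 1 : ℕ) : ℤ)) hgp
    have hres : IsLocalRing.residue p.O ⟨g.1 * t ^ (((n + 1 : ℕ) : ℤ)), hgm⟩ =
        IsLocalRing.residue p.O ⟨_, hmem⟩ := by
      rw [← hgr]
      change _ = IsLocalRing.residue p.O ⟨g.1 * t ^ (D' p), _⟩
      congr 1
      apply Subtype.ext
      simp only [hD'p]
    have hsub : p.1 (h - g.1) ≤ exp (n : ℤ) := by
      have hmem' : (h - g.1) * t ^ (((n + 1 : ℕ) : ℤ)) ∈ p.O := by
        rw [sub_mul]
        exact sub_mem hmem hgm
      have hzero : IsLocalRing.residue p.O ⟨_, hmem'⟩ = 0 := by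
        have : (⟨_, hmem'⟩ : p.O) = ⟨_, hmem⟩ - ⟨_, hgm⟩ := by
          apply Subtype.ext
          show (h - g.1) * t ^ (((n + 1 : ℕ) : ℤ)) = _ - _
          rw [sub_mul]
        rw [this, map_sub, hres, sub_self]
      rw [IsLocalRing.residue_eq_zero_iff, Valuation.mem_maximalIdeal_iff] at hzero
      have h2 : p.1 ((h - g.1) * t ^ (((n + 1 : ℕ) : ℤ))) < 1 := hzero
      rw [map_mul, map_zpow₀, ht, ← exp_zsmul] at h2
      have h3 : exp (((n + 1 : ℕ) : ℤ)) * exp ((((n + 1 : ℕ) : ℤ)) • (-1 : ℤ)) = (1 : ℤᵐ⁰) := by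
        rw [← exp_add]; simp
      have h5 : p.1 (h - g.1) * exp ((((n + 1 : ℕ) : ℤ)) • (-1 : ℤ)) <
          exp (((n + 1 : ℕ) : ℤ)) * exp ((((n + 1 : ℕ) : ℤ)) • (-1 : ℤ)) := by rw [h3]; exact h2
      have h6 := (mul_lt_mul_iff_left₀ (zero_lt_iff.2 exp_ne_zero)).1 h5
      have h7 : (((n + 1 : ℕ) : ℤ)) = (n : ℤ) + 1 := by push_cast; ring
      rw [h7] at h6
      exact lt_exp_succ_iff.1 h6
    obtain ⟨h₁, hh₁, hh₁'⟩ := ih (h - g.1) hsub
    refine ⟨g.1 + h₁, ?_, ?_⟩
    · refine Submodule.add_mem _ g.2 (L_mono ?_ hh₁)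
      intro q
      by_cases hq : q = p
      · subst hq
        rw [hD'p, Finsupp.single_eq_same]
        push_cast
        omega
      · rw [hD', Finsupp.single_eq_of_ne hq, Finsupp.single_eq_of_ne hq]
    · have : h - (g.1 + h₁) = h - g.1 - h₁ := by ring
      rw [this]
      exact hh₁'

end pp

section single

variable {k K K' : Type*} [Field k] [Field K] [Field K'] [Algebra k K] [Algebra K K']
  [Algebra k K'] [IsScalarTower k K K']

/-- Over a base of genus zero: a repartition supported at the unique place `P` above `p`, with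
value in the base field, is the sum of an integral repartition and a principal one. -/
theorem single_mem_AD_sup_diag [DecidableEq (Place k K')] [Algebra.IsAlgebraic K K']
    (hK : IsFunctionField k K) (hg : genus k K = 0)
    {P : Place k K'} {p : Place k K} (hP : IsOver P p)
    (huniq : ∀ P' : Place k K', IsOver P' p → P' = P) (h : K) :
    (Pi.single P (algebraMap K K' h) : Place k K' → K') ∈
      AD (0 : Divisor k K') ⊔ LinearMap.range (diag k K') := by
  obtain ⟨e, he⟩ := hP
  -- a bound for the pole order of `h` at `p`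
  obtain ⟨n, hn⟩ : ∃ n : ℕ, p.1 h ≤ exp (n : ℤ) := by
    by_cases h0 : h = 0
    · exact ⟨0, by simp [h0]⟩
    · refine ⟨(-p.ord h).toNat, ?_⟩
      rw [val_eq_exp_neg_ord p h0, exp_le_exp]
      exact Int.self_le_toNat _
  obtain ⟨h₁, hh₁, hh₁'⟩ := exists_principal_part hK hg p n h hn
  have ha : (Pi.single P (algebraMap K K' h) : Place k K' → K') - diag k K' (algebraMap K K' h₁) ∈
      AD (0 : Divisor k K') := by
    intro Q
    simp only [Finsupp.coe_zero, Pi.zero_apply, exp_zero, Pi.sub_apply]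
    have hdiag : (diag k K' (algebraMap K K' h₁)) Q = algebraMap K K' h₁ := rfl
    rw [hdiag]
    by_cases hQ : Q = P
    · subst hQ
      rw [Pi.single_eq_same, ← map_sub]
      exact (isOverWith_val_le_one_iff he _).2 hh₁'
    · rw [Pi.single_eq_of_ne hQ, zero_sub, Valuation.map_neg]
      obtain ⟨q, e', he'⟩ := exists_isOver_below (K := K) Q
      have hqp : q ≠ p := by
        rintro rfl
        exact hQ (huniq Q ⟨e', he'⟩)
      have h1 : q.1 h₁ ≤ 1 := by
        have := hh₁ q
        rwa [Finsupp.single_eq_of_ne hqp, exp_zero] at this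
      exact (isOverWith_val_le_one_iff he' _).2 h1
  have : (Pi.single P (algebraMap K K' h) : Place k K' → K') =
      ((Pi.single P (algebraMap K K' h) : Place k K' → K') - diag k K' (algebraMap K K' h₁)) +
        diag k K' (algebraMap K K' h₁) := by
    rw [sub_add_cancel]
  rw [this]
  exact Submodule.add_mem_sup ha ⟨_, rfl⟩

end single

end Groth.Agent.Lib.Helper44.FFExt
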