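/-
Artin–Schreier curves `y² + y = f(x)` in characteristic two: `L(conorm E) = L(E) ⊕ L(E - D₀) y`
and the genus formula `g = deg D₀ - 1`, where `f` has poles of order `2 D₀(p) - 1`.
Author: helper44
-/
import Groth.Agent.Lib.Helper44.FunFldAS2
import Groth.Agent.Lib.Helper44.FunFldExt5

set_option autoImplicit false

namespace Groth.Agent.Lib.Helper44.FFExt

open FunFld WithZero
open Groth.Agent.Lib.Helper88.FF

section

variable {k K : Type*} [Field k] [Field K] [PerfectField k] [CharP k 2] [Algebra k K]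
  [Algebra (RatFunc k) K] [IsScalarTower k (RatFunc k) K]

/-- Local description of `a + b y` at a place `Q` of `K` above `p`, in terms of `D₀`. -/
theorem AS_local_iff (hdeg : Module.finrank (RatFunc k) K = 2) [Algebra.IsSeparable (RatFunc k) K]
    {y : K} (hy : y ∉ Set.range (algebraMap (RatFunc k) K)) {f : RatFunc k}
    (heq : y ^ 2 + y = algebraMap (RatFunc k) K f) (D₀ : Divisor k (RatFunc k))
    (hpole : ∀ p : Place k (RatFunc k), p.ord f < 0 → p.ord f = 1 - 2 * D₀ p)
    {p : Place k (RatFunc k)} (hp : p.ord f < 0) {Q : Place k K} (hQ : IsOver Q p) (n : ℤ)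
    (a b : RatFunc k) :
    Q.1 (algebraMap (RatFunc k) K a + algebraMap (RatFunc k) K b * y) ≤ exp (2 * n) ↔
      p.1 a ≤ exp n ∧ p.1 b ≤ exp (n - D₀ p) := by
  have h1 := hpole p hp
  have hd : Odd (2 * D₀ p - 1).toNat := by
    rw [← Int.odd_coe_nat, Int.toNat_of_nonneg (by omega)]
    exact ⟨D₀ p - 1, by ring⟩
  have hord : p.ord f = -((2 * D₀ p - 1).toNat : ℤ) := by
    rw [Int.toNat_of_nonneg (by omega)]
    omega
  obtain ⟨he, hy', -⟩ := AS_ram hdeg hy heq hd hord hQ
  rw [Int.toNat_of_nonneg (by omega)] at hy'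
  have hoddy : Odd (Q.ord y) := by
    rw [ord_eq_of_val_eq_exp Q hy']
    exact ⟨-D₀ p, by ring⟩
  rw [val_add_mul_of_odd he hoddy, max_le_iff, hy']
  have h2n : (exp (2 * n) : ℤᵐ⁰) = exp n ^ 2 := by
    rw [exp_pow']; push_cast; ring_nf
  constructor
  · rintro ⟨ha, hb⟩
    constructor
    · rw [h2n] at ha
      exact (pow_le_pow_iff_left₀ zero_le zero_le (by norm_num)).1 ha
    · rcases eq_or_ne b 0 with rfl | hb0
      · simp
      · rw [val_eq_exp_neg_ord p hb0, exp_pow', ← exp_add, exp_le_exp] at hb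
        rw [val_eq_exp_neg_ord p hb0, exp_le_exp]
        push_cast at hb
        omega
  · rintro ⟨ha, hb⟩
    constructor
    · rw [h2n]
      exact pow_le_pow_left₀ zero_le ha 2
    · rcases eq_or_ne b 0 with rfl | hb0
      · simp
      · rw [val_eq_exp_neg_ord p hb0, exp_le_exp] at hb
        rw [val_eq_exp_neg_ord p hb0, exp_pow', ← exp_add, exp_le_exp]
        push_cast
        omega


/-- Local description of `a + b y` at the places above a place `p` where `f` is integral. -/
theorem AS_unram_iff (hdeg : Module.finrank (RatFunc k) K = 2) [Algebra.IsSeparable (RatFunc k) K]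
    {y : K} (hy : y ∉ Set.range (algebraMap (RatFunc k) K)) {f : RatFunc k}
    (heq : y ^ 2 + y = algebraMap (RatFunc k) K f)
    {p : Place k (RatFunc k)} (hp : 0 ≤ p.ord f) (n : ℤ) (a b : RatFunc k) :
    (∀ Q : Place k K, IsOver Q p →
      Q.1 (algebraMap (RatFunc k) K a + algebraMap (RatFunc k) K b * y) ≤ exp n) ↔
      p.1 a ≤ exp n ∧ p.1 b ≤ exp n := by
  have hF : IsFunctionField k (RatFunc k) := isFunctionField_ratFunc k
  have : FiniteDimensional (RatFunc k) K := Module.finite_of_finrank_pos (by rw [hdeg]; norm_num)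
  have : CharP K 2 := charP_of_injective_algebraMap (algebraMap k K).injective 2
  have h2K : (2 : K) = 0 := CharTwo.two_eq_zero
  have hpf : p.1 f ≤ 1 := by
    rcases eq_or_ne f 0 with rfl | hf0
    · simp
    · exact (val_le_one_iff p hf0).2 hp
  constructor
  · intro h
    obtain ⟨Q, hQ⟩ := exists_isOver_above (K' := K) hF p
    obtain ⟨he, hQy⟩ := AS_unram hdeg hy heq hpf hQ
    obtain ⟨σ, hσ⟩ := AS_exists_sigma hdeg h2K hy heq
    have h1 := h Q hQ
    have h2 := h (comapPlace σ Q) (isOver_comapPlace hQ σ)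
    rw [comapPlace_apply, map_add, map_mul, σ.commutes, σ.commutes, hσ] at h2
    have hb : Q.1 (algebraMap (RatFunc k) K b) ≤ exp n := by
      have : algebraMap (RatFunc k) K b =
          (algebraMap (RatFunc k) K a + algebraMap (RatFunc k) K b * (y + 1)) -
            (algebraMap (RatFunc k) K a + algebraMap (RatFunc k) K b * y) := by ring
      rw [this]
      exact (Q.1.map_sub _ _).trans (max_le h2 h1)
    have ha : Q.1 (algebraMap (RatFunc k) K a) ≤ exp n := by
      have : algebraMap (RatFunc k) K a =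
          (algebraMap (RatFunc k) K a + algebraMap (RatFunc k) K b * y) -
            algebraMap (RatFunc k) K b * y := by ring
      rw [this]
      refine (Q.1.map_sub _ _).trans (max_le h1 ?_)
      rw [map_mul]
      exact (mul_le_mul' hb hQy).trans_eq (mul_one _)
    rw [he, pow_one] at ha hb
    exact ⟨ha, hb⟩
  · rintro ⟨ha, hb⟩ Q hQ
    obtain ⟨he, hQy⟩ := AS_unram hdeg hy heq hpf hQ
    refine (Q.1.map_add _ _).trans (max_le ?_ ?_)
    · rw [he, pow_one]; exact ha
    · rw [map_mul, he, pow_one]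
      exact (mul_le_mul' hb hQy).trans_eq (mul_one _)


/-- `a + b y ∈ L(conorm E)` iff `a ∈ L(E)` and `b ∈ L(E - D₀)`. -/
theorem AS_mem_L_conorm_iff (hdeg : Module.finrank (RatFunc k) K = 2)
    [Algebra.IsSeparable (RatFunc k) K]
    {y : K} (hy : y ∉ Set.range (algebraMap (RatFunc k) K)) {f : RatFunc k}
    (heq : y ^ 2 + y = algebraMap (RatFunc k) K f) (D₀ : Divisor k (RatFunc k))
    (hpole : ∀ p : Place k (RatFunc k), p.ord f < 0 → p.ord f = 1 - 2 * D₀ p)
    (hreg : ∀ p : Place k (RatFunc k), 0 ≤ p.ord f → D₀ p = 0)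
    (E : Divisor k (RatFunc k)) (a b : RatFunc k) :
    algebraMap (RatFunc k) K a + algebraMap (RatFunc k) K b * y ∈ L (conorm K E) ↔
      a ∈ L E ∧ b ∈ L (E - D₀) := by
  have hF : IsFunctionField k (RatFunc k) := isFunctionField_ratFunc k
  have : FiniteDimensional (RatFunc k) K := Module.finite_of_finrank_pos (by rw [hdeg]; norm_num)
  have : Algebra.IsAlgebraic (RatFunc k) K := Algebra.IsAlgebraic.of_finite _ _
  have hfin := fun P : Place k (RatFunc k) => finite_isOver (K' := K) hF P
  have hpf : ∀ p : Place k (RatFunc k), 0 ≤ p.ord f → p.1 f ≤ 1 := by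
    intro p hp
    rcases eq_or_ne f 0 with rfl | hf0
    · simp
    · exact (val_le_one_iff p hf0).2 hp
  -- the local exponents of `conorm E`
  have hram : ∀ (p : Place k (RatFunc k)) (Q : Place k K), p.ord f < 0 → IsOver Q p →
      conorm K E Q = 2 * E p := by
    intro p Q hp hQ
    have h1 := hpole p hp
    have hd : Odd (2 * D₀ p - 1).toNat := by
      rw [← Int.odd_coe_nat, Int.toNat_of_nonneg (by omega)]
      exact ⟨D₀ p - 1, by ring⟩
    have hord : p.ord f = -((2 * D₀ p - 1).toNat : ℤ) := by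
      rw [Int.toNat_of_nonneg (by omega)]
      omega
    obtain ⟨he, -, -⟩ := AS_ram hdeg hy heq hd hord hQ
    rw [conorm_apply_of_isOver hfin E hQ, ramIdx_eq he]
    rfl
  have hunram : ∀ (p : Place k (RatFunc k)) (Q : Place k K), 0 ≤ p.ord f → IsOver Q p →
      conorm K E Q = E p := by
    intro p Q hp hQ
    obtain ⟨he, -⟩ := AS_unram hdeg hy heq (hpf p hp) hQ
    rw [conorm_apply_of_isOver hfin E hQ, ramIdx_eq he]
    simp
  constructor
  · intro h
    have key : ∀ p : Place k (RatFunc k), p.1 a ≤ exp (E p) ∧ p.1 b ≤ exp (E p - D₀ p) := by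
      intro p
      rcases lt_or_ge (p.ord f) 0 with hp | hp
      · obtain ⟨Q, hQ⟩ := exists_isOver_above (K' := K) hF p
        have h1 := h Q
        rw [hram p Q hp hQ] at h1
        exact (AS_local_iff hdeg hy heq D₀ hpole hp hQ (E p) a b).1 h1
      · have h1 := (AS_unram_iff hdeg hy heq hp (E p) a b).1 (by
          intro Q hQ
          have h1 := h Q
          rwa [hunram p Q hp hQ] at h1)
        rw [hreg p hp, sub_zero]
        exact h1
    refine ⟨fun p => (key p).1, fun p => ?_⟩
    rw [Finsupp.sub_apply]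
    exact (key p).2
  · rintro ⟨ha, hb⟩ Q
    obtain ⟨p, hQ⟩ := exists_isOver_below (K := RatFunc k) Q
    have hb' := hb p
    rw [Finsupp.sub_apply] at hb'
    rcases lt_or_ge (p.ord f) 0 with hp | hp
    · rw [hram p Q hp hQ]
      exact (AS_local_iff hdeg hy heq D₀ hpole hp hQ (E p) a b).2 ⟨ha p, hb'⟩
    · rw [hunram p Q hp hQ]
      rw [hreg p hp, sub_zero] at hb'
      exact (AS_unram_iff hdeg hy heq hp (E p) a b).2 ⟨ha p, hb'⟩ Q hQ


/-- `ℓ(conorm E) = ℓ(E) + ℓ(E - D₀)`. -/
theorem AS_ell_conorm (hdeg : Module.finrank (RatFunc k) K = 2)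
    [Algebra.IsSeparable (RatFunc k) K]
    {y : K} (hy : y ∉ Set.range (algebraMap (RatFunc k) K)) {f : RatFunc k}
    (heq : y ^ 2 + y = algebraMap (RatFunc k) K f) (D₀ : Divisor k (RatFunc k))
    (hpole : ∀ p : Place k (RatFunc k), p.ord f < 0 → p.ord f = 1 - 2 * D₀ p)
    (hreg : ∀ p : Place k (RatFunc k), 0 ≤ p.ord f → D₀ p = 0)
    (E : Divisor k (RatFunc k)) :
    ell (conorm K E) = ell E + ell (E - D₀) := by
  have hF : IsFunctionField k (RatFunc k) := isFunctionField_ratFunc k
  have := finiteDimensional_L hF E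
  have := finiteDimensional_L hF (E - D₀)
  let ι : RatFunc k →ₗ[k] K := (IsScalarTower.toAlgHom k (RatFunc k) K).toLinearMap
  have hι : ∀ a, ι a = algebraMap (RatFunc k) K a := fun _ => rfl
  let Φ₀ : (L E × L (E - D₀)) →ₗ[k] K :=
    (ι ∘ₗ (L E).subtype).coprod ((LinearMap.mulRight k y) ∘ₗ ι ∘ₗ (L (E - D₀)).subtype)
  have hΦ₀ : ∀ x : L E × L (E - D₀), Φ₀ x =
      algebraMap (RatFunc k) K x.1.1 + algebraMap (RatFunc k) K x.2.1 * y := fun _ => rfl
  let Φ : (L E × L (E - D₀)) →ₗ[k] L (conorm K E) :=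
    Φ₀.codRestrict (L (conorm K E)) (fun x => by
      rw [hΦ₀]
      exact (AS_mem_L_conorm_iff hdeg hy heq D₀ hpole hreg E _ _).2 ⟨x.1.2, x.2.2⟩)
  have hinj : Function.Injective Φ := by
    rw [← LinearMap.ker_eq_bot, LinearMap.ker_eq_bot']
    intro x hx
    have h1 : Φ₀ x = 0 := congrArg Subtype.val hx
    rw [hΦ₀] at h1
    have hb : x.2.1 = 0 := by
      by_contra hb
      apply hy
      refine ⟨-x.1.1 / x.2.1, ?_⟩
      have hb' : algebraMap (RatFunc k) K x.2.1 ≠ 0 := (map_ne_zero _).2 hb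
      rw [map_div₀, map_neg]
      field_simp
      linear_combination -h1
    rw [hb, map_zero, zero_mul, add_zero, map_eq_zero] at h1
    exact Prod.ext (Subtype.ext h1) (Subtype.ext hb)
  have hsurj : Function.Surjective Φ := by
    intro z
    obtain ⟨a, b, hab⟩ := exists_add_mul_eq hdeg hy z.1
    have hmem := z.2
    rw [hab] at hmem
    obtain ⟨ha, hb⟩ := (AS_mem_L_conorm_iff hdeg hy heq D₀ hpole hreg E a b).1 hmem
    refine ⟨(⟨a, ha⟩, ⟨b, hb⟩), Subtype.ext ?_⟩
    show Φ₀ _ = _
    rw [hΦ₀, hab]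
  have e := LinearEquiv.ofBijective Φ ⟨hinj, hsurj⟩
  unfold ell
  rw [← e.finrank_eq, Module.finrank_prod]

/-- **Genus of an Artin–Schreier curve in characteristic two**: `g = deg D₀ - 1`. -/
theorem AS_genus (hK : IsFunctionField k K) (hdeg : Module.finrank (RatFunc k) K = 2)
    [Algebra.IsSeparable (RatFunc k) K]
    {y : K} (hy : y ∉ Set.range (algebraMap (RatFunc k) K)) {f : RatFunc k}
    (heq : y ^ 2 + y = algebraMap (RatFunc k) K f) (D₀ : Divisor k (RatFunc k))
    (hpole : ∀ p : Place k (RatFunc k), p.ord f < 0 → p.ord f = 1 - 2 * D₀ p)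
    (hreg : ∀ p : Place k (RatFunc k), 0 ≤ p.ord f → D₀ p = 0) :
    (genus k K : ℤ) = D₀.deg - 1 := by
  have hF : IsFunctionField k (RatFunc k) := isFunctionField_ratFunc k
  have hg : genus k (RatFunc k) = 0 :=
    ((genus_zero_iff_rational hF).2 ⟨RatFunc.X, RatFunc.adjoin_X⟩).1
  have : FiniteDimensional (RatFunc k) K := Module.finite_of_finrank_pos (by rw [hdeg]; norm_num)
  obtain ⟨p₀⟩ := exists_place hF
  set n : ℕ := D₀.deg.toNat + genus k K + 1 with hn
  set E : Divisor k (RatFunc k) := Finsupp.single p₀ (n : ℤ) with hE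
  have hpos : 0 < p₀.deg := deg_pos hF p₀
  have hdegE : (n : ℤ) ≤ E.deg := by
    rw [hE, deg_single]
    have h1 : (1 : ℤ) ≤ p₀.deg := by exact_mod_cast hpos
    have h2 : (0 : ℤ) ≤ n := Int.natCast_nonneg n
    nlinarith
  have hD₀ : D₀.deg ≤ D₀.deg.toNat := Int.self_le_toNat _
  have hn' : (n : ℤ) = D₀.deg.toNat + genus k K + 1 := by rw [hn]; push_cast; ring
  have h1 := AS_ell_conorm hdeg hy heq D₀ hpole hreg E
  have h2 := ell_eq_of_le_deg hF (D := E) (by rw [hg]; push_cast; omega)
  have h3 := ell_eq_of_le_deg hF (D := E - D₀) (by rw [hg, deg_sub]; push_cast; omega)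
  have h4 := ell_eq_of_le_deg hK (D := conorm K E) (by
    rw [deg_conorm hF, hdeg]; push_cast; omega)
  rw [deg_conorm hF, hdeg] at h4
  rw [deg_sub] at h3
  rw [hg] at h2 h3
  have h1' : (ell (conorm K E) : ℤ) = ell E + ell (E - D₀) := by exact_mod_cast h1
  push_cast at h2 h3 h4
  linarith

end


section sep

variable {F K : Type*} [Field F] [Field K] [Algebra F K]

/-- An Artin–Schreier extension of degree two in characteristic two is separable. -/
theorem AS_isSeparable [CharP F 2] (hdeg : Module.finrank F K = 2) {y : K}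
    (hy : y ∉ Set.range (algebraMap F K)) {c : F} (heq : y ^ 2 + y = algebraMap F K c) :
    Algebra.IsSeparable F K := by
  have hpoly : (Polynomial.X ^ 2 + Polynomial.X - Polynomial.C c : Polynomial F).Separable := by
    rw [Polynomial.separable_def]
    have h2 : (2 : F) = 0 := CharTwo.two_eq_zero
    have : Polynomial.derivative (Polynomial.X ^ 2 + Polynomial.X - Polynomial.C c : Polynomial F)
        = 1 := by
      simp only [Polynomial.derivative_sub, Polynomial.derivative_add, Polynomial.derivative_X_pow,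
        Polynomial.derivative_X, Polynomial.derivative_C, sub_zero, Nat.cast_ofNat]
      rw [show (Polynomial.C (2 : F)) = 0 by rw [h2, map_zero], zero_mul, zero_add]
    rw [this]
    exact isCoprime_one_right
  have hysep : IsSeparable F y := by
    apply hpoly.of_dvd
    apply minpoly.dvd
    simp [heq]
  have h1 : Algebra.IsSeparable F (IntermediateField.adjoin F ({y} : Set K)) :=
    (IntermediateField.isSeparable_adjoin_simple_iff_isSeparable F K).2 hysep
  refine ⟨fun w => ?_⟩
  apply IntermediateField.isSeparable_of_mem_isSeparable (L := IntermediateField.adjoin F ({y} : Set K))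
  obtain ⟨a, b, rfl⟩ := exists_add_mul_eq hdeg hy w
  exact add_mem (IntermediateField.algebraMap_mem _ a)
    (mul_mem (IntermediateField.algebraMap_mem _ b) (IntermediateField.mem_adjoin_simple_self _ _))

end sep

end Groth.Agent.Lib.Helper44.FFExt
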