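/-
Valuations of polynomial expressions in a uniformizer; uniqueness of the place of `k(x)` at a
point; the basis of `H¹(O)` of an Artin–Schreier curve in characteristic two.
Author: helper44
-/
import Groth.Agent.Lib.Helper44.FunFldASGenus
import Groth.Agent.Lib.Helper88.FunFldWeil
import Groth.Agent.Lib.Helper88.FunFldLinSeries2

set_option autoImplicit false

namespace Groth.Agent.Lib.Helper44.FFExt

open FunFld WithZero
open Groth.Agent.Lib.Helper88.FF

section poly

variable {k K : Type*} [Field k] [Field K] [Algebra k K]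

lemma val_aeval_le_one (P : Place k K) {u : K} (hu : P.1 u ≤ 1) (q : Polynomial k) :
    P.1 (Polynomial.aeval u q) ≤ 1 := by
  rw [Polynomial.aeval_eq_sum_range]
  apply Valuation.map_sum_le
  intro i _
  refine (val_smul_le P _ _).trans ?_
  rw [map_pow]
  exact pow_le_one' hu i

lemma val_aeval_eq_one (P : Place k K) {u : K} (hu : P.1 u < 1) {q : Polynomial k}
    (hq : q.coeff 0 ≠ 0) : P.1 (Polynomial.aeval u q) = 1 := by
  have h1 : Polynomial.aeval u q =
      algebraMap k K (q.coeff 0) + Polynomial.aeval u q.divX * u := by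
    conv_lhs => rw [← Polynomial.divX_mul_X_add q]
    rw [map_add, map_mul, Polynomial.aeval_X, Polynomial.aeval_C]
    ring
  have h2 : P.1 (Polynomial.aeval u q.divX * u) < 1 := by
    rw [map_mul]
    calc P.1 (Polynomial.aeval u q.divX) * P.1 u ≤ 1 * P.1 u :=
          mul_le_mul' (val_aeval_le_one P hu.le _) le_rfl
      _ = P.1 u := one_mul _
      _ < 1 := hu
  rw [h1, Valuation.map_add_eq_of_lt_left, val_algebraMap P hq]
  rw [val_algebraMap P hq]
  exact h2

/-- The valuation of a polynomial expression in a uniformizer. -/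
theorem val_aeval_eq (P : Place k K) {u : K} (hu : P.1 u = exp (-1 : ℤ)) {q : Polynomial k}
    (hq : q ≠ 0) :
    P.1 (Polynomial.aeval u q) = exp (-(q.rootMultiplicity 0 : ℤ)) ∧
      q.rootMultiplicity 0 ≤ q.natDegree := by
  obtain ⟨q₁, hq₁, hndvd⟩ := Polynomial.exists_eq_pow_rootMultiplicity_mul_and_not_dvd q hq 0
  rw [map_zero, sub_zero] at hq₁ hndvd
  rw [Polynomial.X_dvd_iff] at hndvd
  have hu1 : P.1 u < 1 := by
    rw [hu, ← exp_zero, exp_lt_exp]; norm_num
  have hq₁0 : q₁ ≠ 0 := by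
    rintro rfl
    exact hndvd (by simp)
  constructor
  · conv_lhs => rw [hq₁]
    rw [map_mul, map_pow, Polynomial.aeval_X, map_mul, map_pow, hu, val_aeval_eq_one P hu1 hndvd,
      mul_one, exp_pow']
    congr 1
    ring
  · conv_rhs => rw [hq₁]
    rw [Polynomial.natDegree_mul (pow_ne_zero _ Polynomial.X_ne_zero) hq₁0,
      Polynomial.natDegree_X_pow]
    omega

/-- A polynomial expression of degree `< n` in a uniformizer vanishing to order `n` is zero. -/
theorem eq_zero_of_val_aeval_le (P : Place k K) {u : K} (hu : P.1 u = exp (-1 : ℤ))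
    {q : Polynomial k} {n : ℕ} (hdeg : q.natDegree < n)
    (h : P.1 (Polynomial.aeval u q) ≤ exp (-(n : ℤ))) : q = 0 := by
  by_contra hq
  obtain ⟨h1, h2⟩ := val_aeval_eq P hu hq
  rw [h1, exp_le_exp] at h
  omega

end poly

section ratuniq

variable {k : Type*} [Field k]

/-- The place of `k(x)` at `x = β` is unique. -/
theorem place_eq_of_val_X_sub_C_lt_one {p p' : Place k (RatFunc k)} {β : k}
    (h : p.1 (RatFunc.X - RatFunc.C β) < 1) (h' : p'.1 (RatFunc.X - RatFunc.C β) < 1) :
    p = p' := by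
  have hu := val_X_sub_C_of_lt_one h
  have hu' := val_X_sub_C_of_lt_one h'
  have hpoly : ∀ Q : Polynomial k, algebraMap (Polynomial k) (RatFunc k) Q =
      Polynomial.aeval (RatFunc.X - RatFunc.C β : RatFunc k)
        (Q.comp (Polynomial.X + Polynomial.C β)) := by
    intro Q
    rw [Polynomial.aeval_comp, map_add, Polynomial.aeval_X, Polynomial.aeval_C,
      RatFunc.algebraMap_eq_C, sub_add_cancel, RatFunc.aeval_X_left_eq_algebraMap]
  have key : ∀ Q : Polynomial k, p.1 (algebraMap (Polynomial k) (RatFunc k) Q) =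
      p'.1 (algebraMap (Polynomial k) (RatFunc k) Q) := by
    intro Q
    rcases eq_or_ne Q 0 with rfl | hQ
    · simp
    · have hQ' : Q.comp (Polynomial.X + Polynomial.C β) ≠ 0 :=
        Polynomial.comp_X_add_C_ne_zero_iff.2 hQ
      rw [hpoly, (val_aeval_eq p hu hQ').1, (val_aeval_eq p' hu' hQ').1]
  apply place_ext
  intro r
  rw [← RatFunc.num_div_denom r, map_div₀, map_div₀, key, key]

end ratuniq


section setup

variable {k K : Type*} [Field k] [IsAlgClosed k] [CharP k 2] [Field K] [Algebra k K]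
  [Algebra (RatFunc k) K] [IsScalarTower k (RatFunc k) K]

/-- The places of `k(x)` and of `K` over the points of `B`, and the divisor `D₀`, for the
Artin–Schreier curve `y² + y = f` with `f` having poles of odd order `d β` exactly at `β ∈ B`. -/
theorem AS_setup (hdeg : Module.finrank (RatFunc k) K = 2) [Algebra.IsSeparable (RatFunc k) K]
    {y : K} (hy : y ∉ Set.range (algebraMap (RatFunc k) K)) {f : RatFunc k}
    (heq : y ^ 2 + y = algebraMap (RatFunc k) K f)
    (B : Finset k) (d : k → ℕ) (hd : ∀ β ∈ B, Odd (d β))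
    (hpole : ∀ (p : FunFld.Place k (RatFunc k)) (β : k), β ∈ B →
      p.1 ((RatFunc.X : RatFunc k) - RatFunc.C β) < 1 → p.ord f = -(d β : ℤ))
    (hint : ∀ p : FunFld.Place k (RatFunc k),
      (∀ β ∈ B, 1 ≤ p.1 ((RatFunc.X : RatFunc k) - RatFunc.C β)) → p.1 f ≤ 1)
    (Pl : k → FunFld.Place k K)
    (hPl : ∀ β ∈ B, (Pl β).1 ((algebraMap (RatFunc k) K RatFunc.X) - (algebraMap k K β)) < 1) :
    ∃ (pB : k → Place k (RatFunc k)) (D₀ : Divisor k (RatFunc k)),
      (∀ β ∈ B, IsOverWith (Pl β) (pB β) 2 ∧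
        (pB β).1 ((RatFunc.X : RatFunc k) - RatFunc.C β) = exp (-1 : ℤ) ∧
        (Pl β).1 y = exp (d β : ℤ) ∧
        D₀ (pB β) = ((d β / 2 : ℕ) : ℤ) + 1 ∧
        (pB β).ord f = -(d β : ℤ) ∧
        (∀ P' : Place k K, IsOver P' (pB β) → P' = Pl β)) ∧
      (∀ β ∈ B, ∀ β' ∈ B, pB β = pB β' → β = β') ∧
      (∀ p : Place k (RatFunc k), p.ord f < 0 → ∃ β ∈ B, p = pB β) ∧
      (∀ p : Place k (RatFunc k), p.ord f < 0 → p.ord f = 1 - 2 * D₀ p) ∧
      (∀ p : Place k (RatFunc k), 0 ≤ p.ord f → D₀ p = 0) ∧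
      D₀.deg = ∑ β ∈ B, (((d β / 2 : ℕ) : ℤ) + 1) := by
  classical
  have hF : IsFunctionField k (RatFunc k) := isFunctionField_ratFunc k
  have : FiniteDimensional (RatFunc k) K := Module.finite_of_finrank_pos (by rw [hdeg]; norm_num)
  have : Algebra.IsAlgebraic (RatFunc k) K := Algebra.IsAlgebraic.of_finite _ _
  have hxα : ∀ α : k, algebraMap (RatFunc k) K RatFunc.X - algebraMap k K α =
      algebraMap (RatFunc k) K (RatFunc.X - RatFunc.C α) := by
    intro α
    rw [map_sub, IsScalarTower.algebraMap_apply k (RatFunc k) K, RatFunc.algebraMap_eq_C]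
  have hex : ∀ β : k, ∃ p : Place k (RatFunc k), IsOver (Pl β) p :=
    fun β => exists_isOver_below (K := RatFunc k) (Pl β)
  choose pB hpB using hex
  have hlt : ∀ β ∈ B, (pB β).1 ((RatFunc.X : RatFunc k) - RatFunc.C β) < 1 := by
    intro β hβ
    obtain ⟨e, he⟩ := hpB β
    have := hPl β hβ
    rw [hxα] at this
    exact (isOverWith_val_lt_one_iff he _).1 this
  have hordB : ∀ β ∈ B, (pB β).ord f = -(d β : ℤ) := fun β hβ => hpole _ β hβ (hlt β hβ)
  have hinj : ∀ β ∈ B, ∀ β' ∈ B, pB β = pB β' → β = β' := by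
    intro β hβ β' hβ' h
    by_contra hne
    have h1 := hlt β hβ
    have h2 := hlt β' hβ'
    rw [← h] at h2
    have h3 : (RatFunc.C (β' - β) : RatFunc k) =
        (RatFunc.X - RatFunc.C β) - (RatFunc.X - RatFunc.C β') := by
      rw [map_sub]; ring
    have h4 : (pB β).1 (RatFunc.C (β' - β)) < 1 := by
      rw [h3]
      exact lt_of_le_of_lt ((pB β).1.map_sub _ _) (max_lt h1 h2)
    rw [← RatFunc.algebraMap_eq_C, val_algebraMap (pB β) (sub_ne_zero.2 (Ne.symm hne))] at h4
    exact lt_irrefl _ h4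
  set D₀ : Divisor k (RatFunc k) :=
    ∑ β ∈ B, Finsupp.single (pB β) (((d β / 2 : ℕ) : ℤ) + 1) with hD₀
  have hD₀B : ∀ β ∈ B, D₀ (pB β) = ((d β / 2 : ℕ) : ℤ) + 1 := by
    intro β hβ
    rw [hD₀, Finsupp.finsetSum_apply, Finset.sum_eq_single_of_mem β hβ, Finsupp.single_eq_same]
    intro β' hβ' hne
    rw [Finsupp.single_eq_of_ne]
    intro h
    exact hne (hinj β hβ β' hβ' h).symm
  have hD₀out : ∀ p : Place k (RatFunc k), (∀ β ∈ B, p ≠ pB β) → D₀ p = 0 := by
    intro p hp
    rw [hD₀, Finsupp.finsetSum_apply]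
    apply Finset.sum_eq_zero
    intro β hβ
    rw [Finsupp.single_eq_of_ne (hp β hβ)]
  have hexB : ∀ p : Place k (RatFunc k), p.ord f < 0 → ∃ β ∈ B, p = pB β := by
    intro p hp
    by_contra hcon
    push Not at hcon
    have h1 : p.1 f ≤ 1 := hint p (fun β hβ => by
      by_contra h2
      rw [not_le] at h2
      exact hcon β hβ (place_eq_of_val_X_sub_C_lt_one h2 (hlt β hβ)))
    have := ord_nonneg_of_val_le_one p h1
    omega
  refine ⟨pB, D₀, ?_, hinj, hexB, ?_, ?_, ?_⟩
  · intro β hβ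
    obtain ⟨h1, h2, h3⟩ := AS_ram hdeg hy heq (hd β hβ) (hordB β hβ) (hpB β)
    exact ⟨h1, val_X_sub_C_of_lt_one (hlt β hβ), h2, hD₀B β hβ, hordB β hβ, h3⟩
  · intro p hp
    obtain ⟨β, hβ, rfl⟩ := hexB p hp
    rw [hD₀B β hβ, hordB β hβ]
    obtain ⟨m, hm⟩ := hd β hβ
    push_cast
    omega
  · intro p hp
    apply hD₀out
    rintro β hβ rfl
    have := hordB β hβ
    have hpos := (hd β hβ).pos
    omega
  · rw [hD₀, deg_sum]
    apply Finset.sum_congr rfl
    intro β _
    rw [deg_single, deg_eq_one_of_isAlgClosed hF]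
    simp


/-- **Linear independence in `H¹(O)`** of the classes of the repartitions supported at `P_α` with
values `y (x - α)^j`, `2j + 1 ≤ d α`, `(α, j) ≠ (0, 0)`. -/
theorem AS_H1_linearIndependent [DecidableEq (Place k K)]
    (hdeg : Module.finrank (RatFunc k) K = 2) [Algebra.IsSeparable (RatFunc k) K]
    {y : K} (hy : y ∉ Set.range (algebraMap (RatFunc k) K)) {f : RatFunc k}
    (heq : y ^ 2 + y = algebraMap (RatFunc k) K f)
    (B : Finset k) (h0 : (0 : k) ∈ B) (d : k → ℕ) (hd : ∀ β ∈ B, Odd (d β))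
    (hpole : ∀ (p : FunFld.Place k (RatFunc k)) (β : k), β ∈ B →
      p.1 ((RatFunc.X : RatFunc k) - RatFunc.C β) < 1 → p.ord f = -(d β : ℤ))
    (hint : ∀ p : FunFld.Place k (RatFunc k),
      (∀ β ∈ B, 1 ≤ p.1 ((RatFunc.X : RatFunc k) - RatFunc.C β)) → p.1 f ≤ 1)
    (Pl : k → FunFld.Place k K)
    (hPl : ∀ β ∈ B, (Pl β).1 ((algebraMap (RatFunc k) K RatFunc.X) - (algebraMap k K β)) < 1)
    {ι : Type*} (α : ι → k) (jj : ι → ℕ) (hα : ∀ i, α i ∈ B)
    (hjj : ∀ i, 2 * jj i + 1 ≤ d (α i))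
    (hinj : Function.Injective (fun i => (α i, jj i)))
    (hzero : ∀ i, ¬ (α i = 0 ∧ jj i = 0)) :
    LinearIndependent k (fun i =>
      Submodule.mkQ (AD (0 : Divisor k K) ⊔ LinearMap.range (diag k K))
        (Pi.single (Pl (α i))
          (y * (algebraMap (RatFunc k) K RatFunc.X - algebraMap k K (α i)) ^ jj i) :
            Place k K → K)) := by
  classical
  obtain ⟨pB, D₀, hB, hpBinj, hexB, hpole', hreg', -⟩ :=
    AS_setup hdeg hy heq B d hd hpole hint Pl hPl
  have hF : IsFunctionField k (RatFunc k) := isFunctionField_ratFunc k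
  have : FiniteDimensional (RatFunc k) K := Module.finite_of_finrank_pos (by rw [hdeg]; norm_num)
  set x : K := algebraMap (RatFunc k) K RatFunc.X with hx
  have hxα : ∀ α : k, x - algebraMap k K α =
      algebraMap (RatFunc k) K (RatFunc.X - RatFunc.C α) := by
    intro α
    rw [map_sub, IsScalarTower.algebraMap_apply k (RatFunc k) K, RatFunc.algebraMap_eq_C]
  have hPlinj : ∀ β ∈ B, ∀ β' ∈ B, Pl β = Pl β' → β = β' := by
    intro β hβ β' hβ' h
    apply hpBinj β hβ β' hβ'
    have h1 : IsOver (Pl β) (pB β) := ⟨2, (hB β hβ).1⟩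
    have h2 : IsOver (Pl β) (pB β') := h ▸ ⟨2, (hB β' hβ').1⟩
    exact isOver_unique_below h1 h2
  set W := AD (0 : Divisor k K) ⊔ LinearMap.range (diag k K) with hW
  set v : ι → (Place k K → K) := fun i =>
    Pi.single (Pl (α i)) (y * (x - algebraMap k K (α i)) ^ jj i) with hv
  rw [linearIndependent_iff]
  intro l hl
  have hA : Finsupp.linearCombination k v l ∈ W := by
    have h1 : Finsupp.linearCombination k (fun i => W.mkQ (v i)) l =
        W.mkQ (Finsupp.linearCombination k v l) := by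
      rw [LinearMap.map_finsupp_linearCombination]
      rfl
    rw [h1] at hl
    exact (Submodule.Quotient.mk_eq_zero W).1 hl
  obtain ⟨a₀, ha₀, b₀, ⟨z, rfl⟩, hsum⟩ := Submodule.mem_sup.1 hA
  set A := Finsupp.linearCombination k v l with hAdef
  have hpt : ∀ Q : Place k K, Q.1 (A Q - z) ≤ 1 := by
    intro Q
    have h1 : A Q - z = a₀ Q := by
      rw [← hsum]
      show a₀ Q + z - z = a₀ Q
      ring
    rw [h1]
    simpa using ha₀ Q
  have hAQ : ∀ Q, A Q = ∑ i ∈ l.support, l i • (v i Q) := by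
    intro Q
    rw [hAdef, Finsupp.linearCombination_apply, Finsupp.sum, Finset.sum_apply]
    rfl
  -- the polynomial attached to `β`
  set Qp : k → Polynomial k := fun β =>
    ∑ i ∈ l.support.filter (fun i => α i = β), Polynomial.C (l i) * Polynomial.X ^ jj i with hQp
  have hAPl : ∀ β ∈ B, A (Pl β) = algebraMap (RatFunc k) K
      (Polynomial.aeval (RatFunc.X - RatFunc.C β : RatFunc k) (Qp β)) * y := by
    intro β hβ
    rw [hAQ, hQp, map_sum, map_sum, Finset.sum_mul, Finset.sum_filter]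
    apply Finset.sum_congr rfl
    intro i _
    rw [hv]
    simp only [Pi.single_apply]
    by_cases hi : α i = β
    · rw [if_pos hi, if_pos (by rw [hi]), hi, map_mul, map_pow, Polynomial.aeval_C,
        Polynomial.aeval_X, map_mul, map_pow, ← hxα, ← IsScalarTower.algebraMap_apply,
        Algebra.smul_def]
      ring
    · rw [if_neg hi, if_neg, smul_zero]
      intro h
      exact hi (hPlinj β hβ (α i) (hα i) h).symm
  have hAout : ∀ Q : Place k K, (∀ β ∈ B, Q ≠ Pl β) → A Q = 0 := by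
    intro Q hQ
    rw [hAQ]
    apply Finset.sum_eq_zero
    intro i _
    rw [hv]
    simp only [Pi.single_apply]
    rw [if_neg (hQ (α i) (hα i)), smul_zero]
  obtain ⟨z₁, z₂, hz⟩ := exists_add_mul_eq hdeg hy z
  -- local conditions at `β ∈ B`
  have hlocB : ∀ β ∈ B, (pB β).1
      (Polynomial.aeval (RatFunc.X - RatFunc.C β : RatFunc k) (Qp β) - z₂) ≤
        exp (-(((d β / 2 : ℕ) : ℤ) + 1)) := by
    intro β hβ
    obtain ⟨h1, h2, h3, h4, h5, h6⟩ := hB β hβ
    have hp : (pB β).ord f < 0 := by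
      have := (hd β hβ).pos
      omega
    have h7 := hpt (Pl β)
    rw [hAPl β hβ, hz] at h7
    have h8 : algebraMap (RatFunc k) K
        (Polynomial.aeval (RatFunc.X - RatFunc.C β : RatFunc k) (Qp β)) * y -
          (algebraMap (RatFunc k) K z₁ + algebraMap (RatFunc k) K z₂ * y) =
        algebraMap (RatFunc k) K (-z₁) + algebraMap (RatFunc k) K
          (Polynomial.aeval (RatFunc.X - RatFunc.C β : RatFunc k) (Qp β) - z₂) * y := by
      rw [map_neg, map_sub]; ring
    rw [h8] at h7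
    have h9 := (AS_local_iff hdeg hy heq D₀ hpole' hp ⟨2, h1⟩ 0 (-z₁)
      (Polynomial.aeval (RatFunc.X - RatFunc.C β : RatFunc k) (Qp β) - z₂)).1 (by
        rw [mul_zero, exp_zero]; exact h7)
    have := h9.2
    rwa [h4, zero_sub] at this
  -- `z₂` is a constant
  have hz₂ : ∀ p : Place k (RatFunc k), p.1 z₂ ≤ 1 := by
    intro p
    rcases lt_or_ge (p.ord f) 0 with hp | hp
    · obtain ⟨β, hβ, rfl⟩ := hexB p hp
      obtain ⟨h1, h2, h3, h4, h5, h6⟩ := hB β hβ
      have h7 := hlocB β hβ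
      have h8 : (pB β).1 (Polynomial.aeval (RatFunc.X - RatFunc.C β : RatFunc k) (Qp β)) ≤ 1 := by
        apply val_aeval_le_one
        rw [h2, ← exp_zero, exp_le_exp]
        norm_num
      have h9 : z₂ = Polynomial.aeval (RatFunc.X - RatFunc.C β : RatFunc k) (Qp β) -
          (Polynomial.aeval (RatFunc.X - RatFunc.C β : RatFunc k) (Qp β) - z₂) := by ring
      rw [h9]
      refine ((pB β).1.map_sub _ _).trans (max_le h8 (h7.trans ?_))
      rw [← exp_zero, exp_le_exp]
      have : (0 : ℤ) ≤ ((d β / 2 : ℕ) : ℤ) := Int.natCast_nonneg _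
      omega
    · have h1 := (AS_unram_iff hdeg hy heq hp 0 z₁ z₂).1 (by
        intro Q hQ
        have hQB : ∀ β ∈ B, Q ≠ Pl β := by
          rintro β hβ rfl
          have h2 : p = pB β := isOver_unique_below hQ ⟨2, (hB β hβ).1⟩
          have h3 := (hB β hβ).2.2.2.2.1
          have h4 := (hd β hβ).pos
          rw [h2] at hp
          omega
        have h2 := hpt Q
        rw [hAout Q hQB, zero_sub, Valuation.map_neg, hz] at h2
        simpa using h2)
      simpa using h1.2
  obtain ⟨c, hc⟩ : ∃ c : k, algebraMap k (RatFunc k) c = z₂ := by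
    have h1 : z₂ ∈ L (0 : Divisor k (RatFunc k)) := by
      intro p
      simpa using hz₂ p
    rw [L_zero_eq hF, Submodule.mem_one] at h1
    exact h1
  -- `Qp β = C c`
  have hQpc : ∀ β ∈ B, Qp β = Polynomial.C c := by
    intro β hβ
    obtain ⟨h1, h2, h3, h4, h5, h6⟩ := hB β hβ
    have h7 := hlocB β hβ
    rw [← hc, ← Polynomial.aeval_C (RatFunc.X - RatFunc.C β : RatFunc k) c, ← map_sub] at h7
    have hdegle : (Qp β - Polynomial.C c).natDegree < d β / 2 + 1 := by
      refine lt_of_le_of_lt (Polynomial.natDegree_sub_le _ _) ?_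
      rw [Polynomial.natDegree_C, max_eq_left (Nat.zero_le _), Nat.lt_succ_iff]
      apply Polynomial.natDegree_sum_le_of_forall_le
      intro i hi
      rw [Finset.mem_filter] at hi
      refine (Polynomial.natDegree_C_mul_X_pow_le _ _).trans ?_
      have := hjj i
      rw [hi.2] at this
      omega
    have h8 := eq_zero_of_val_aeval_le (pB β) h2 hdegle (by
      rw [Nat.cast_succ]
      exact h7)
    exact sub_eq_zero.1 h8
  -- coefficient extraction
  have hcoeff : ∀ (β : k) (m : ℕ), (Qp β).coeff m =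
      ∑ i ∈ l.support.filter (fun i => α i = β), if m = jj i then l i else 0 := by
    intro β m
    rw [hQp, Polynomial.finsetSum_coeff]
    apply Finset.sum_congr rfl
    intro i _
    rw [Polynomial.coeff_C_mul_X_pow]
  have hc0 : c = 0 := by
    have h1 := hcoeff 0 0
    rw [hQpc 0 h0, Polynomial.coeff_C_zero] at h1
    rw [h1]
    apply Finset.sum_eq_zero
    intro i hi
    rw [Finset.mem_filter] at hi
    rw [if_neg]
    intro h
    exact hzero i ⟨hi.2, h.symm⟩
  ext i₀
  have h1 := hcoeff (α i₀) (jj i₀)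
  rw [hQpc (α i₀) (hα i₀), hc0, map_zero, Polynomial.coeff_zero] at h1
  rw [Finset.sum_eq_single i₀] at h1
  · rw [if_pos rfl] at h1
    rw [← h1]
    rfl
  · intro i hi hne
    rw [Finset.mem_filter] at hi
    rw [if_neg]
    intro h
    apply hne
    apply hinj
    exact Prod.ext hi.2 h.symm
  · intro hi
    rw [Finset.mem_filter, not_and_or] at hi
    rcases hi with hi | hi
    · rw [Finsupp.notMem_support_iff.1 hi]
      simp
    · exact absurd rfl hi


omit [IsAlgClosed k] [CharP k 2] [Algebra (RatFunc k) K] [IsScalarTower k (RatFunc k) K] in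
lemma single_mem_adele [DecidableEq (Place k K)] (P : Place k K) (w : K) :
    (Pi.single P w : Place k K → K) ∈ adele k K := by
  rw [mem_adele_iff]
  refine (Set.finite_singleton P).subset ?_
  intro Q hQ
  rw [Set.mem_ofPred_eq] at hQ
  rw [Set.mem_singleton_iff]
  by_contra hne
  apply hQ
  rw [Pi.single_eq_of_ne hne, map_zero]
  exact zero_le_one

/-- The genus of the Artin–Schreier curve in terms of the `d β`. -/
theorem AS_genus_B (hK : IsFunctionField k K)
    (hdeg : Module.finrank (RatFunc k) K = 2) [Algebra.IsSeparable (RatFunc k) K]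
    {y : K} (hy : y ∉ Set.range (algebraMap (RatFunc k) K)) {f : RatFunc k}
    (heq : y ^ 2 + y = algebraMap (RatFunc k) K f)
    (B : Finset k) (d : k → ℕ) (hd : ∀ β ∈ B, Odd (d β))
    (hpole : ∀ (p : FunFld.Place k (RatFunc k)) (β : k), β ∈ B →
      p.1 ((RatFunc.X : RatFunc k) - RatFunc.C β) < 1 → p.ord f = -(d β : ℤ))
    (hint : ∀ p : FunFld.Place k (RatFunc k),
      (∀ β ∈ B, 1 ≤ p.1 ((RatFunc.X : RatFunc k) - RatFunc.C β)) → p.1 f ≤ 1)
    (Pl : k → FunFld.Place k K)
    (hPl : ∀ β ∈ B, (Pl β).1 ((algebraMap (RatFunc k) K RatFunc.X) - (algebraMap k K β)) < 1) :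
    genus k K + 1 = ∑ β ∈ B, (d β / 2 + 1) := by
  obtain ⟨pB, D₀, -, -, -, hpole', hreg', hdegD₀⟩ :=
    AS_setup hdeg hy heq B d hd hpole hint Pl hPl
  have h1 := AS_genus hK hdeg hy heq D₀ hpole' hreg'
  rw [hdegD₀] at h1
  have h2 : ((genus k K + 1 : ℕ) : ℤ) = ((∑ β ∈ B, (d β / 2 + 1) : ℕ) : ℤ) := by
    rw [Nat.cast_sum]
    simp only [Nat.cast_succ]
    rw [h1]
    ring
  exact_mod_cast h2

/-- **Spanning of `H¹(O)`** by a linearly independent family of the right cardinality. -/
theorem AS_H1_span [DecidableEq (Place k K)] (hK : IsFunctionField k K)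
    (hdeg : Module.finrank (RatFunc k) K = 2) [Algebra.IsSeparable (RatFunc k) K]
    {y : K} (hy : y ∉ Set.range (algebraMap (RatFunc k) K)) {f : RatFunc k}
    (heq : y ^ 2 + y = algebraMap (RatFunc k) K f)
    (B : Finset k) (h0 : (0 : k) ∈ B) (d : k → ℕ) (hd : ∀ β ∈ B, Odd (d β))
    (hpole : ∀ (p : FunFld.Place k (RatFunc k)) (β : k), β ∈ B →
      p.1 ((RatFunc.X : RatFunc k) - RatFunc.C β) < 1 → p.ord f = -(d β : ℤ))
    (hint : ∀ p : FunFld.Place k (RatFunc k),
      (∀ β ∈ B, 1 ≤ p.1 ((RatFunc.X : RatFunc k) - RatFunc.C β)) → p.1 f ≤ 1)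
    (Pl : k → FunFld.Place k K)
    (hPl : ∀ β ∈ B, (Pl β).1 ((algebraMap (RatFunc k) K RatFunc.X) - (algebraMap k K β)) < 1)
    {ι : Type*} [Finite ι] (α : ι → k) (jj : ι → ℕ) (hα : ∀ i, α i ∈ B)
    (hjj : ∀ i, 2 * jj i + 1 ≤ d (α i))
    (hinj : Function.Injective (fun i => (α i, jj i)))
    (hzero : ∀ i, ¬ (α i = 0 ∧ jj i = 0))
    (hcard : Nat.card ι + 1 = ∑ β ∈ B, (d β / 2 + 1))
    (a : Place k K → K) (ha : a ∈ adele k K) :
    a ∈ (AD (0 : Divisor k K) ⊔ LinearMap.range (diag k K)) ⊔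
      Submodule.span k (Set.range (fun i => (Pi.single (Pl (α i))
          (y * (algebraMap (RatFunc k) K RatFunc.X - algebraMap k K (α i)) ^ jj i) :
            Place k K → K))) := by
  classical
  have hLI := AS_H1_linearIndependent hdeg hy heq B h0 d hd hpole hint Pl hPl α jj hα hjj hinj hzero
  have hgenus := AS_genus_B hK hdeg hy heq B d hd hpole hint Pl hPl
  set W := AD (0 : Divisor k K) ⊔ LinearMap.range (diag k K) with hW
  set v : ι → (Place k K → K) := fun i => (Pi.single (Pl (α i))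
      (y * (algebraMap (RatFunc k) K RatFunc.X - algebraMap k K (α i)) ^ jj i) :
        Place k K → K) with hv
  have hvad : ∀ i, v i ∈ adele k K := fun i => single_mem_adele _ _
  obtain ⟨hfd, hrk⟩ := finrank_adele_quot hK (0 : Divisor k K)
  rw [delta_zero hK, sub_zero] at hrk
  -- the comparison map
  let φ : (↥(adele k K) ⧸ ADK (0 : Divisor k K)) →ₗ[k] ((Place k K → K) ⧸ W) :=
    (ADK (0 : Divisor k K)).liftQ (W.mkQ ∘ₗ (adele k K).subtype) (by
      intro b hb
      rw [LinearMap.mem_ker, LinearMap.comp_apply, Submodule.mkQ_apply,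
        Submodule.Quotient.mk_eq_zero]
      exact hb)
  set w' : ι → (↥(adele k K) ⧸ ADK (0 : Divisor k K)) :=
    fun i => (ADK (0 : Divisor k K)).mkQ ⟨v i, hvad i⟩ with hw'
  have hLI' : LinearIndependent k w' := by
    apply LinearIndependent.of_comp φ
    exact hLI
  haveI : Fintype ι := Fintype.ofFinite ι
  have hcard' : Fintype.card ι = Module.finrank k (↥(adele k K) ⧸ ADK (0 : Divisor k K)) := by
    have h1 : (Fintype.card ι : ℤ) = genus k K := by
      rw [← Nat.card_eq_fintype_card]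
      have : Nat.card ι = genus k K := by omega
      exact_mod_cast this
    have : (Fintype.card ι : ℤ) =
        (Module.finrank k (↥(adele k K) ⧸ ADK (0 : Divisor k K)) : ℤ) := by rw [h1, hrk]
    exact_mod_cast this
  have hspan := hLI'.span_eq_top_of_card_eq_finrank' hcard'
  have hmem : (ADK (0 : Divisor k K)).mkQ ⟨a, ha⟩ ∈ Submodule.span k (Set.range w') := by
    rw [hspan]; trivial
  rw [Submodule.mem_span_range_iff_exists_fun] at hmem
  obtain ⟨c, hc⟩ := hmem
  have h1 : (⟨a, ha⟩ : ↥(adele k K)) - ∑ i, c i • ⟨v i, hvad i⟩ ∈ ADK (0 : Divisor k K) := by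
    rw [← Submodule.Quotient.mk_eq_zero, Submodule.Quotient.mk_sub, ← Submodule.mkQ_apply,
      ← Submodule.mkQ_apply, map_sum, sub_eq_zero, ← hc]
    apply Finset.sum_congr rfl
    intro i _
    rw [map_smul]
  have h2 : a - ∑ i, c i • v i ∈ W := by
    have h3 : ((adele k K).subtype ((⟨a, ha⟩ : ↥(adele k K)) - ∑ i, c i • ⟨v i, hvad i⟩)) ∈ W := h1
    rw [map_sub, map_sum] at h3
    simpa using h3
  have h4 : a = (a - ∑ i, c i • v i) + ∑ i, c i • v i := by rw [sub_add_cancel]
  rw [h4]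
  refine Submodule.add_mem_sup h2 (Submodule.sum_mem _ fun i _ => ?_)
  exact Submodule.smul_mem _ _ (Submodule.subset_span ⟨i, rfl⟩)

end setup

end Groth.Agent.Lib.Helper44.FFExt
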