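/-
Orders of differentials read through Laurent expansions: the derivative of a series of order `m`
with `m ≠ 0` in the coefficient field, chain rule for polynomials, and the order of `dx` at the
places of an Artin–Schreier curve in characteristic two.
Author: helper44
-/
import Groth.Prelude.Def_LocRes
import Groth.Agent.Lib.Helper44.FunFldASH1

set_option autoImplicit false

namespace Groth.Agent.Lib.Helper44.FFExt

open FunFld WithZero LaurentSeries
open Groth.Agent.Lib.Helper88.FF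

section laurent

variable {F₀ : Type*} [Field F₀]

lemma coeff_ne_zero_of_val_eq' {η : F₀⸨X⸩} {m : ℤ} (hη : Valued.v η = exp (-m)) :
    η.coeff m ≠ 0 := by
  intro h0
  have h1 : Valued.v η ≤ exp (-(m + 1)) := by
    rw [LaurentSeries.valuation_le_iff_coeff_lt_eq_zero]
    intro n hn
    rcases lt_or_eq_of_le (Int.lt_add_one_iff.1 hn) with h | h
    · exact LaurentSeries.coeff_zero_of_lt_valuation F₀ hη.le h
    · rw [h, h0]
  rw [hη, exp_le_exp] at h1
  omega

lemma val_D_le' (f : F₀⸨X⸩) {m : ℤ} (hf : Valued.v f ≤ exp (-m)) :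
    Valued.v (LocRes.D F₀ f) ≤ exp (-(m - 1)) := by
  rw [LaurentSeries.valuation_le_iff_coeff_lt_eq_zero]
  intro n hn
  rw [LocRes.D_coeff, LaurentSeries.coeff_zero_of_lt_valuation F₀ hf (by omega), smul_zero]

/-- The derivative of a Laurent series of order `m`, `m ≠ 0` in the coefficient field, has order
`m - 1`. -/
theorem val_D_eq {f : F₀⸨X⸩} {m : ℤ} (hf : Valued.v f = exp (-m)) (hm : (m : F₀) ≠ 0) :
    Valued.v (LocRes.D F₀ f) = exp (-(m - 1)) := by
  apply le_antisymm (val_D_le' f hf.le)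
  by_contra hcon
  rw [not_le] at hcon
  have h1 : Valued.v (LocRes.D F₀ f) ≤ exp (-m) := by
    have : (-(m - 1) : ℤ) = -m + 1 := by ring
    rw [this] at hcon
    exact lt_exp_succ_iff.1 hcon
  rw [LaurentSeries.valuation_le_iff_coeff_lt_eq_zero] at h1
  have h2 := h1 (m - 1) (by omega)
  rw [LocRes.D_coeff, sub_add_cancel, zsmul_eq_mul] at h2
  rcases mul_eq_zero.1 h2 with h | h
  · exact hm h
  · exact coeff_ne_zero_of_val_eq' hf h

end laurent

section chain

variable {k K : Type*} [Field k] [Field K] [Algebra k K] {F₀ : Type*} [Field F₀] [Algebra k F₀]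

lemma D_exp_algebraMap (ψ : K →ₐ[k] F₀⸨X⸩) (c : k) :
    LocRes.D F₀ (ψ (algebraMap k K c)) = 0 := by
  rw [LocRes.map_algebraMap, LocRes.D_apply, LocRes.derivative_C]

lemma D_exp_mul (ψ : K →ₐ[k] F₀⸨X⸩) (a b : K) :
    LocRes.D F₀ (ψ (a * b)) = ψ a * LocRes.D F₀ (ψ b) + ψ b * LocRes.D F₀ (ψ a) := by
  rw [map_mul, Derivation.leibniz, smul_eq_mul, smul_eq_mul]

lemma D_exp_inv (ψ : K →ₐ[k] F₀⸨X⸩) (a : K) :
    LocRes.D F₀ (ψ a⁻¹) = -(ψ a)⁻¹ ^ 2 * LocRes.D F₀ (ψ a) := by
  rw [map_inv₀, Derivation.leibniz_inv, smul_eq_mul]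

/-- Chain rule for polynomial expressions. -/
lemma D_exp_aeval (ψ : K →ₐ[k] F₀⸨X⸩) (x : K) (q : Polynomial k) :
    LocRes.D F₀ (ψ (Polynomial.aeval x q)) =
      ψ (Polynomial.aeval x (Polynomial.derivative q)) * LocRes.D F₀ (ψ x) := by
  let _ := ψ.toRingHom.toAlgebra
  have : IsScalarTower k K F₀⸨X⸩ := LocRes.isScalarTower_exp ψ
  have := Derivation.map_aeval (LocRes.dExp ψ) q x
  exact this


/-- Order of `dx` where `x` has a simple pole. -/
theorem val_D_exp_of_pole {w : Valuation K ℤᵐ⁰} {ψ : K →ₐ[k] F₀⸨X⸩}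
    (hψ : LocRes.IsExpansionAt w ψ) {x : K} (hx : w x = exp (1 : ℤ)) :
    Valued.v (LocRes.D F₀ (ψ x)) = exp (2 : ℤ) := by
  have h1 : Valued.v (ψ x) = exp (-(-1 : ℤ)) := by rw [hψ.1, hx]; rfl
  have := val_D_eq h1 (by norm_num)
  rw [this]
  rfl

/-- Order of `dx` where `x - γ` is a local parameter. -/
theorem val_D_exp_of_unif {w : Valuation K ℤᵐ⁰} {ψ : K →ₐ[k] F₀⸨X⸩}
    (hψ : LocRes.IsExpansionAt w ψ) {x : K} {γ : k} (hx : w (x - algebraMap k K γ) = exp (-1 : ℤ)) :
    Valued.v (LocRes.D F₀ (ψ x)) = 1 := by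
  have h1 : Valued.v (ψ (x - algebraMap k K γ)) = exp (-(1 : ℤ)) := by rw [hψ.1, hx]
  have := val_D_eq h1 (by norm_num)
  rw [map_sub, map_sub, D_exp_algebraMap, sub_zero] at this
  rw [this]
  simp

end chain

section ratpoly

variable {k : Type*} [Field k]

/-- A polynomial not vanishing at `β` is a unit at the place `x = β`. -/
lemma val_poly_eq_one_of_eval_ne_zero {p : Place k (RatFunc k)} {β : k}
    (h : p.1 (RatFunc.X - RatFunc.C β) < 1) {q : Polynomial k} (hq : q.eval β ≠ 0) :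
    p.1 (algebraMap (Polynomial k) (RatFunc k) q) = 1 := by
  obtain ⟨q₁, hq₁⟩ := Polynomial.X_sub_C_dvd_sub_C_eval (a := β) (p := q)
  have h1 : algebraMap (Polynomial k) (RatFunc k) q =
      algebraMap k (RatFunc k) (q.eval β) +
        (RatFunc.X - RatFunc.C β) * algebraMap (Polynomial k) (RatFunc k) q₁ := by
    have : q = Polynomial.C (q.eval β) + (Polynomial.X - Polynomial.C β) * q₁ := by
      rw [← hq₁]; ring
    conv_lhs => rw [this]
    rw [map_add, map_mul, map_sub, RatFunc.algebraMap_X, RatFunc.algebraMap_C,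
      RatFunc.algebraMap_C, RatFunc.algebraMap_eq_C]
  have hX := val_X_le_one_of_lt_one h
  have h2 : p.1 ((RatFunc.X - RatFunc.C β) * algebraMap (Polynomial k) (RatFunc k) q₁) < 1 := by
    rw [map_mul]
    calc p.1 (RatFunc.X - RatFunc.C β) * p.1 (algebraMap (Polynomial k) (RatFunc k) q₁)
        ≤ p.1 (RatFunc.X - RatFunc.C β) * 1 := mul_le_mul' le_rfl (val_poly_le_one hX q₁)
      _ = p.1 (RatFunc.X - RatFunc.C β) := mul_one _
      _ < 1 := h
  rw [h1, Valuation.map_add_eq_of_lt_left, val_algebraMap p hq]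
  rw [val_algebraMap p hq]
  exact h2

/-- The denominator of a rational function integral at `x = β` is a unit there. -/
lemma val_denom_eq_one {p : Place k (RatFunc k)} {β : k}
    (h : p.1 (RatFunc.X - RatFunc.C β) < 1) {r : RatFunc k} (hr : p.1 r ≤ 1) :
    p.1 (algebraMap (Polynomial k) (RatFunc k) r.denom) = 1 := by
  by_contra hne
  have hX := val_X_le_one_of_lt_one h
  have hd : r.denom.eval β = 0 := by
    by_contra h0
    exact hne (val_poly_eq_one_of_eval_ne_zero h h0)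
  have hlt : p.1 (algebraMap (Polynomial k) (RatFunc k) r.denom) < 1 :=
    lt_of_le_of_ne (val_poly_le_one hX _) hne
  have hn : r.num.eval β = 0 := by
    by_contra h0
    have h1 := val_poly_eq_one_of_eval_ne_zero h h0
    have h2 : p.1 r = p.1 (algebraMap (Polynomial k) (RatFunc k) r.num) /
        p.1 (algebraMap (Polynomial k) (RatFunc k) r.denom) := by
      rw [← map_div₀, RatFunc.num_div_denom]
    rw [h1] at h2
    have hd0 : p.1 (algebraMap (Polynomial k) (RatFunc k) r.denom) ≠ 0 := by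
      rw [Valuation.ne_zero_iff]
      exact (map_ne_zero_iff _ (RatFunc.algebraMap_injective k)).2 r.denom_ne_zero
    have h3 : 1 < p.1 r := by
      rw [h2, one_div, one_lt_inv₀ (zero_lt_iff.2 hd0)]
      exact hlt
    exact absurd hr (not_le.2 h3)
  have hcop := RatFunc.isCoprime_num_denom r
  have h1 : Polynomial.X - Polynomial.C β ∣ r.num := Polynomial.dvd_iff_isRoot.2 hn
  have h2 : Polynomial.X - Polynomial.C β ∣ r.denom := Polynomial.dvd_iff_isRoot.2 hd
  have h3 := hcop.isUnit_of_dvd' h1 h2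
  exact Polynomial.not_isUnit_X_sub_C β h3

end ratpoly

section ram

variable {k K : Type*} [Field k] [Field K] [Algebra k K]
  [Algebra (RatFunc k) K] [IsScalarTower k (RatFunc k) K] {F₀ : Type*} [Field F₀] [Algebra k F₀]

lemma algebraMap_poly_eq_aeval (n : Polynomial k) :
    algebraMap (RatFunc k) K (algebraMap (Polynomial k) (RatFunc k) n) =
      Polynomial.aeval (algebraMap (RatFunc k) K RatFunc.X) n := by
  rw [Polynomial.aeval_algebraMap_apply, RatFunc.aeval_X_left_eq_algebraMap]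

/-- For `r ∈ k(x)` integral at `x = β`, `d r = c · dx` with `c` integral above. -/
lemma exists_D_exp_eq (ψ : K →ₐ[k] F₀⸨X⸩) {P : Place k K} {p : Place k (RatFunc k)} {e : ℕ}
    (he : IsOverWith P p e) {β : k} (hβ : p.1 (RatFunc.X - RatFunc.C β) < 1) {r : RatFunc k}
    (hr : p.1 r ≤ 1) :
    ∃ c : K, P.1 c ≤ 1 ∧ LocRes.D F₀ (ψ (algebraMap (RatFunc k) K r)) =
      ψ c * LocRes.D F₀ (ψ (algebraMap (RatFunc k) K RatFunc.X)) := by
  set x : K := algebraMap (RatFunc k) K RatFunc.X with hx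
  have hxP : P.1 x ≤ 1 := (isOverWith_val_le_one_iff he RatFunc.X).2 (val_X_le_one_of_lt_one hβ)
  set N : K := Polynomial.aeval x r.num with hN
  set M : K := Polynomial.aeval x r.denom with hM
  set N' : K := Polynomial.aeval x (Polynomial.derivative r.num) with hN'
  set M' : K := Polynomial.aeval x (Polynomial.derivative r.denom) with hM'
  have hM1 : P.1 M = 1 := by
    rw [hM, ← algebraMap_poly_eq_aeval, he, val_denom_eq_one hβ hr, one_pow]
  have hMinv : P.1 M⁻¹ = 1 := by rw [map_inv₀, hM1, inv_one]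
  have hr' : algebraMap (RatFunc k) K r = N * M⁻¹ := by
    conv_lhs => rw [← RatFunc.num_div_denom r]
    rw [map_div₀, algebraMap_poly_eq_aeval, algebraMap_poly_eq_aeval, div_eq_mul_inv]
  refine ⟨N' * M⁻¹ - N * M⁻¹ ^ 2 * M', ?_, ?_⟩
  · apply (P.1.map_sub _ _).trans
    apply max_le
    · rw [map_mul, hMinv, mul_one]
      exact val_aeval_le_one P hxP _
    · rw [map_mul, map_mul, map_pow, hMinv, one_pow, mul_one]
      calc P.1 N * P.1 M' ≤ 1 * 1 :=
            mul_le_mul' (val_aeval_le_one P hxP _) (val_aeval_le_one P hxP _)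
        _ = 1 := one_mul _
  · rw [hr', D_exp_mul, D_exp_inv, hN, hM, D_exp_aeval, D_exp_aeval, map_sub, map_mul, map_mul,
      map_mul, map_pow, map_inv₀]
    ring

/-- Order of `dx` at the ramified place of the Artin–Schreier curve `y² + y = f` above a pole of
odd order `d` of `f`: it is `d + 1`. -/
theorem val_D_exp_ram [CharP k 2] {P : Place k K} {p : Place k (RatFunc k)}
    (he : IsOverWith P p 2) {ψ : K →ₐ[k] F₀⸨X⸩} (hψ : LocRes.IsExpansionAt P.1 ψ)
    {β : k} (hβ : p.1 (RatFunc.X - RatFunc.C β) = exp (-1 : ℤ)) {y : K} {f : RatFunc k}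
    (heq : y ^ 2 + y = algebraMap (RatFunc k) K f) {d : ℕ} (hd : Odd d)
    (hord : p.ord f = -(d : ℤ)) (hy : P.1 y = exp (d : ℤ)) :
    Valued.v (LocRes.D F₀ (ψ (algebraMap (RatFunc k) K RatFunc.X))) = exp (-((d : ℤ) + 1)) := by
  have : CharP F₀ 2 := charP_of_injective_algebraMap (algebraMap k F₀).injective 2
  have : CharP F₀⸨X⸩ 2 := charP_of_injective_algebraMap (algebraMap k F₀⸨X⸩).injective 2
  have : CharP K 2 := charP_of_injective_algebraMap (algebraMap k K).injective 2
  set x : K := algebraMap (RatFunc k) K RatFunc.X with hx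
  have hβ1 : p.1 (RatFunc.X - RatFunc.C β) < 1 := by
    rw [hβ, ← exp_zero, exp_lt_exp]; norm_num
  obtain ⟨m, hm⟩ := hd
  have hdF : ((d : ℕ) : F₀⸨X⸩) = 1 := by
    rw [hm]; push_cast
    rw [CharTwo.two_eq_zero, zero_mul, zero_add]
  have hdF₀ : ((-(d : ℤ) : ℤ) : F₀) ≠ 0 := by
    rw [hm]; push_cast
    rw [CharTwo.two_eq_zero, zero_mul, zero_add]
    exact neg_ne_zero.2 one_ne_zero
  have hf0 : f ≠ 0 := by
    rintro rfl
    rw [ord_zero] at hord
    omega
  have hpf : p.1 f = exp (d : ℤ) := by rw [val_eq_exp_neg_ord p hf0, hord, neg_neg]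
  set u : RatFunc k := RatFunc.X - RatFunc.C β with hu
  set U : K := algebraMap (RatFunc k) K u with hU
  have hUx : U = x - algebraMap k K β := by
    rw [hU, hu, map_sub, IsScalarTower.algebraMap_apply k (RatFunc k) K, RatFunc.algebraMap_eq_C]
  have hPU : P.1 U = exp (-2 : ℤ) := by
    rw [hU, he, hβ, exp_pow']; norm_num
  set g : RatFunc k := f * u ^ d with hg
  have hpg : p.1 g = 1 := by
    rw [hg, map_mul, map_pow, hpf, hβ, exp_pow', ← exp_add, ← exp_zero]
    congr 1
    ring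
  obtain ⟨c, hc, hDg⟩ := exists_D_exp_eq ψ he hβ1 hpg.le
  -- differentiate `alg f * U ^ d = alg g`
  have hid : algebraMap (RatFunc k) K f * U ^ d = algebraMap (RatFunc k) K g := by
    rw [hg, map_mul, map_pow]
  have hDU : LocRes.D F₀ (ψ U) = LocRes.D F₀ (ψ x) := by
    rw [hUx, map_sub, map_sub, D_exp_algebraMap, sub_zero]
  have hDf : LocRes.D F₀ (ψ (algebraMap (RatFunc k) K f)) = LocRes.D F₀ (ψ y) := by
    rw [← heq, map_add, map_add, map_pow, Derivation.leibniz_pow, two_nsmul,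
      CharTwo.add_self_eq_zero, zero_add]
  have h1 : LocRes.D F₀ (ψ (algebraMap (RatFunc k) K f * U ^ d)) =
      LocRes.D F₀ (ψ (algebraMap (RatFunc k) K g)) := by rw [hid]
  rw [D_exp_mul, hDf, map_pow, Derivation.leibniz_pow, hDU, hDg, nsmul_eq_mul, hdF, one_mul,
    smul_eq_mul] at h1
  have h2 : ψ U ^ d * LocRes.D F₀ (ψ y) =
      ψ (c - algebraMap (RatFunc k) K f * U ^ (d - 1)) * LocRes.D F₀ (ψ x) := by
    rw [map_sub, map_mul, map_pow, sub_mul, ← h1]
    ring
  have hv1 : Valued.v (ψ U ^ d) = exp (-(2 * (d : ℤ))) := by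
    rw [map_pow, hψ.1, hPU, exp_pow']
    congr 1
    ring
  have hv2 : Valued.v (LocRes.D F₀ (ψ y)) = exp ((d : ℤ) + 1) := by
    have h3 : Valued.v (ψ y) = exp (-(-(d : ℤ))) := by rw [hψ.1, hy, neg_neg]
    rw [val_D_eq h3 hdF₀]
    congr 1
    ring
  have hv3 : P.1 (algebraMap (RatFunc k) K f * U ^ (d - 1)) = exp (2 : ℤ) := by
    rw [map_mul, map_pow, he, hpf, hPU, exp_pow', exp_pow', ← exp_add]
    congr 1
    have : ((d - 1 : ℕ) : ℤ) = (d : ℤ) - 1 := by
      rw [hm]; push_cast; ring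
    rw [this]
    ring
  have hv4 : Valued.v (ψ (c - algebraMap (RatFunc k) K f * U ^ (d - 1))) = exp (2 : ℤ) := by
    rw [hψ.1, sub_eq_add_neg, Valuation.map_add_eq_of_lt_right, Valuation.map_neg, hv3]
    rw [Valuation.map_neg, hv3]
    apply lt_of_le_of_lt hc
    rw [← exp_zero, exp_lt_exp]
    norm_num
  have h3 := congrArg Valued.v h2
  rw [map_mul, map_mul, hv1, hv2, hv4] at h3
  have h4 : exp (2 : ℤ) * exp (-((d : ℤ) + 1)) = exp (-(2 * (d : ℤ))) * exp ((d : ℤ) + 1) := by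
    rw [← exp_add, ← exp_add]
    congr 1
    ring
  rw [← h4] at h3
  exact (mul_left_cancel₀ exp_ne_zero h3).symm

end ram

end Groth.Agent.Lib.Helper44.FFExt
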