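/-
Quadratic extensions `K' = K(y)` of function fields: if `L(conorm E) = L(E) ⊕ L(E - D₀) y` for all
`E`, then `g(K') = 2 g(K) - 1 + deg D₀`.  Local criteria at ramified / unramified places.
Author: helper44
-/
import Groth.Agent.Lib.Helper44.FunFldExt5
import Groth.Agent.Lib.Helper44.FunFldQuad
import Groth.Agent.Lib.Helper44.FunFldGalois
import Groth.Agent.Lib.Helper44.FunFldRatPlace
import Groth.Agent.Lib.Helper44.FunFldExt2
import Groth.Agent.Lib.Helper88.FunFldApps
import Groth.Agent.Lib.Helper88.FunFldWeil3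

set_option autoImplicit false

namespace Groth.Agent.Lib.Helper44.FFExt

open FunFld WithZero
open Groth.Agent.Lib.Helper88.FF

section

variable {k K K' : Type*} [Field k] [Field K] [Field K'] [Algebra k K] [Algebra K K']
  [Algebra k K'] [IsScalarTower k K K']

/-- `ℓ(conorm E) = ℓ(E) + ℓ(E - D₀)` from the membership criterion. -/
theorem quad_ell_conorm (hK : IsFunctionField k K) (hdeg : Module.finrank K K' = 2) {y : K'}
    (hy : y ∉ Set.range (algebraMap K K')) (D₀ E : Divisor k K)
    (hmem : ∀ a b : K, algebraMap K K' a + algebraMap K K' b * y ∈ L (conorm K' E) ↔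
      a ∈ L E ∧ b ∈ L (E - D₀)) :
    ell (conorm K' E) = ell E + ell (E - D₀) := by
  have := finiteDimensional_L hK E
  have := finiteDimensional_L hK (E - D₀)
  let ι : K →ₗ[k] K' := (IsScalarTower.toAlgHom k K K').toLinearMap
  have hι : ∀ a, ι a = algebraMap K K' a := fun _ => rfl
  let Φ₀ : (L E × L (E - D₀)) →ₗ[k] K' :=
    (ι ∘ₗ (L E).subtype).coprod ((LinearMap.mulRight k y) ∘ₗ ι ∘ₗ (L (E - D₀)).subtype)
  have hΦ₀ : ∀ x : L E × L (E - D₀), Φ₀ x =
      algebraMap K K' x.1.1 + algebraMap K K' x.2.1 * y := fun _ => rfl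
  let Φ : (L E × L (E - D₀)) →ₗ[k] L (conorm K' E) :=
    Φ₀.codRestrict (L (conorm K' E)) (fun x => by
      rw [hΦ₀]
      exact (hmem _ _).2 ⟨x.1.2, x.2.2⟩)
  have hinj : Function.Injective Φ := by
    rw [← LinearMap.ker_eq_bot, LinearMap.ker_eq_bot']
    intro x hx
    have h1 : Φ₀ x = 0 := congrArg Subtype.val hx
    rw [hΦ₀] at h1
    have hb : x.2.1 = 0 := by
      by_contra hb
      apply hy
      refine ⟨-x.1.1 / x.2.1, ?_⟩
      have hb' : algebraMap K K' x.2.1 ≠ 0 := (map_ne_zero _).2 hb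
      rw [map_div₀, map_neg]
      field_simp
      linear_combination -h1
    rw [hb, map_zero, zero_mul, add_zero, map_eq_zero] at h1
    exact Prod.ext (Subtype.ext h1) (Subtype.ext hb)
  have hsurj : Function.Surjective Φ := by
    intro z
    obtain ⟨a, b, hab⟩ := exists_add_mul_eq hdeg hy z.1
    have hmem' := z.2
    rw [hab] at hmem'
    obtain ⟨ha, hb⟩ := (hmem a b).1 hmem'
    refine ⟨(⟨a, ha⟩, ⟨b, hb⟩), Subtype.ext ?_⟩
    show Φ₀ _ = _
    rw [hΦ₀, hab]
  have e := LinearEquiv.ofBijective Φ ⟨hinj, hsurj⟩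
  unfold ell
  rw [← e.finrank_eq, Module.finrank_prod]

/-- **Genus of a quadratic extension** with `L(conorm E) = L(E) ⊕ L(E - D₀) y`. -/
theorem quad_genus (hK : IsFunctionField k K) (hK' : IsFunctionField k K')
    (hdeg : Module.finrank K K' = 2) {y : K'}
    (hy : y ∉ Set.range (algebraMap K K')) (D₀ : Divisor k K)
    (hmem : ∀ (E : Divisor k K) (a b : K),
      algebraMap K K' a + algebraMap K K' b * y ∈ L (conorm K' E) ↔
        a ∈ L E ∧ b ∈ L (E - D₀)) :
    (genus k K' : ℤ) = 2 * (genus k K : ℤ) - 1 + D₀.deg := by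
  have : FiniteDimensional K K' := Module.finite_of_finrank_pos (by rw [hdeg]; norm_num)
  obtain ⟨p₀⟩ := exists_place hK
  set n : ℕ := D₀.deg.toNat + genus k K' + 2 * genus k K + 1 with hn
  set E : Divisor k K := Finsupp.single p₀ (n : ℤ) with hE
  have hpos : 0 < p₀.deg := deg_pos hK p₀
  have hdegE : (n : ℤ) ≤ E.deg := by
    rw [hE, deg_single]
    have h1 : (1 : ℤ) ≤ p₀.deg := by exact_mod_cast hpos
    have h2 : (0 : ℤ) ≤ n := Int.natCast_nonneg n
    nlinarith
  have hD₀ : D₀.deg ≤ D₀.deg.toNat := Int.self_le_toNat _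
  have hn' : (n : ℤ) = D₀.deg.toNat + genus k K' + 2 * genus k K + 1 := by
    rw [hn]; push_cast; ring
  have h1 := quad_ell_conorm hK hdeg hy D₀ E (hmem E)
  have h2 := ell_eq_of_le_deg hK (D := E) (by omega)
  have h3 := ell_eq_of_le_deg hK (D := E - D₀) (by rw [deg_sub]; omega)
  have h4 := ell_eq_of_le_deg hK' (D := conorm K' E) (by
    rw [deg_conorm hK, hdeg]; push_cast; omega)
  rw [deg_conorm hK, hdeg] at h4
  rw [deg_sub] at h3
  have h1' : (ell (conorm K' E) : ℤ) = ell E + ell (E - D₀) := by exact_mod_cast h1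
  push_cast at h4
  linarith

/-- Criterion at a totally ramified place where `y` has odd order. -/
theorem quad_ram_iff {Q : Place k K'} {P : Place k K} (he : IsOverWith Q P 2) {y : K'} {m : ℤ}
    (hm : Odd m) (hy : Q.1 y = exp m) (n : ℤ) (a b : K) :
    Q.1 (algebraMap K K' a + algebraMap K K' b * y) ≤ exp (2 * n) ↔
      P.1 a ≤ exp n ∧ P.1 b ≤ exp (n - (m + 1) / 2) := by
  have hoddy : Odd (Q.ord y) := by
    rw [ord_eq_of_val_eq_exp Q hy]
    exact hm.neg
  obtain ⟨r, hr⟩ := hm
  rw [val_add_mul_of_odd he hoddy, max_le_iff, hy]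
  have h2n : (exp (2 * n) : ℤᵐ⁰) = exp n ^ 2 := by
    rw [exp_pow']; push_cast; ring_nf
  constructor
  · rintro ⟨ha, hb⟩
    constructor
    · rw [h2n] at ha
      exact (pow_le_pow_iff_left₀ zero_le zero_le (by norm_num)).1 ha
    · rcases eq_or_ne b 0 with rfl | hb0
      · simp
      · rw [val_eq_exp_neg_ord P hb0, exp_pow', ← exp_add, exp_le_exp] at hb
        rw [val_eq_exp_neg_ord P hb0, exp_le_exp]
        push_cast at hb
        omega
  · rintro ⟨ha, hb⟩
    constructor
    · rw [h2n]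
      exact pow_le_pow_left₀ zero_le ha 2
    · rcases eq_or_ne b 0 with rfl | hb0
      · simp
      · rw [val_eq_exp_neg_ord P hb0, exp_le_exp] at hb
        rw [val_eq_exp_neg_ord P hb0, exp_pow', ← exp_add, exp_le_exp]
        push_cast
        omega

/-- Criterion at an unramified place, using the automorphism `y ↦ -y`. -/
theorem quad_unram_iff [FiniteDimensional K K'] (hK : IsFunctionField k K) (h2 : (2 : k) ≠ 0)
    {y : K'} (σ : K' ≃ₐ[K] K') (hσ : σ y = -y) {P : Place k K} {m : ℤ}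
    (hall : ∀ Q : Place k K', IsOver Q P → IsOverWith Q P 1 ∧ Q.1 y = exp m) (n : ℤ) (a b : K) :
    (∀ Q : Place k K', IsOver Q P →
      Q.1 (algebraMap K K' a + algebraMap K K' b * y) ≤ exp n) ↔
      P.1 a ≤ exp n ∧ P.1 b ≤ exp (n - m) := by
  have h2K : ∀ Q : Place k K', Q.1 (2 : K') = 1 := by
    intro Q
    have : (2 : K') = algebraMap k K' 2 := (map_ofNat _ 2).symm
    rw [this, val_algebraMap Q h2]
  constructor
  · intro h
    obtain ⟨Q, hQ⟩ := exists_isOver_above (K' := K') hK P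
    obtain ⟨he, hQy⟩ := hall Q hQ
    have h1 := h Q hQ
    have h3 := h (comapPlace σ Q) (isOver_comapPlace hQ σ)
    rw [comapPlace_apply, map_add, map_mul, σ.commutes, σ.commutes, hσ] at h3
    have ha : Q.1 (algebraMap K K' a) ≤ exp n := by
      have : (2 : K') * algebraMap K K' a =
          (algebraMap K K' a + algebraMap K K' b * y) +
            (algebraMap K K' a + algebraMap K K' b * -y) := by ring
      have h4 : Q.1 ((2 : K') * algebraMap K K' a) ≤ exp n := by
        rw [this]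
        exact (Q.1.map_add _ _).trans (max_le h1 h3)
      rwa [map_mul, h2K, one_mul] at h4
    have hb : Q.1 (algebraMap K K' b) * exp m ≤ exp n := by
      have : (2 : K') * (algebraMap K K' b * y) =
          (algebraMap K K' a + algebraMap K K' b * y) -
            (algebraMap K K' a + algebraMap K K' b * -y) := by ring
      have h4 : Q.1 ((2 : K') * (algebraMap K K' b * y)) ≤ exp n := by
        rw [this]
        exact (Q.1.map_sub _ _).trans (max_le h1 h3)
      rwa [map_mul, h2K, one_mul, map_mul, hQy] at h4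
    rw [he, pow_one] at ha hb
    refine ⟨ha, ?_⟩
    rcases eq_or_ne b 0 with rfl | hb0
    · simp
    · rw [val_eq_exp_neg_ord P hb0, ← exp_add, exp_le_exp] at hb
      rw [val_eq_exp_neg_ord P hb0, exp_le_exp]
      omega
  · rintro ⟨ha, hb⟩ Q hQ
    obtain ⟨he, hQy⟩ := hall Q hQ
    refine (Q.1.map_add _ _).trans (max_le ?_ ?_)
    · rw [he, pow_one]; exact ha
    · rw [map_mul, he, pow_one, hQy]
      calc P.1 b * exp m ≤ exp (n - m) * exp m := mul_le_mul' hb le_rfl
        _ = exp n := by rw [← exp_add]; congr 1; ring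


/-- Global membership criterion from local ones. -/
theorem quad_mem_L_conorm_iff [Algebra.IsAlgebraic K K'] (D₀ E : Divisor k K) (y : K') (a b : K)
    (hloc : ∀ p : Place k K,
      (∀ Q : Place k K', IsOver Q p →
        Q.1 (algebraMap K K' a + algebraMap K K' b * y) ≤ exp (conorm K' E Q)) ↔
      p.1 a ≤ exp (E p) ∧ p.1 b ≤ exp (E p - D₀ p)) :
    algebraMap K K' a + algebraMap K K' b * y ∈ L (conorm K' E) ↔ a ∈ L E ∧ b ∈ L (E - D₀) := by
  constructor
  · intro h
    have key := fun p => (hloc p).1 (fun Q _ => h Q)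
    refine ⟨fun p => (key p).1, fun p => ?_⟩
    rw [Finsupp.sub_apply]
    exact (key p).2
  · rintro ⟨ha, hb⟩ Q
    obtain ⟨p, hQ⟩ := exists_isOver_below (K := K) Q
    have hb' := hb p
    rw [Finsupp.sub_apply] at hb'
    exact (hloc p).2 ⟨ha p, hb'⟩ Q hQ

/-- Local criterion (with `conorm`) at a totally ramified place. -/
theorem quad_ram_iff' [FiniteDimensional K K'] (hK : IsFunctionField k K) {P : Place k K}
    {y : K'} {m : ℤ} (hm : Odd m)
    (hall : ∀ Q : Place k K', IsOver Q P → IsOverWith Q P 2 ∧ Q.1 y = exp m)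
    (E : Divisor k K) (a b : K) :
    (∀ Q : Place k K', IsOver Q P →
      Q.1 (algebraMap K K' a + algebraMap K K' b * y) ≤ exp (conorm K' E Q)) ↔
      P.1 a ≤ exp (E P) ∧ P.1 b ≤ exp (E P - (m + 1) / 2) := by
  have hfin := fun P : Place k K => finite_isOver (K' := K') hK P
  have hc : ∀ Q : Place k K', IsOver Q P → conorm K' E Q = 2 * E P := by
    intro Q hQ
    rw [conorm_apply_of_isOver hfin E hQ, ramIdx_eq (hall Q hQ).1]
    rfl
  constructor
  · intro h
    obtain ⟨Q, hQ⟩ := exists_isOver_above (K' := K') hK P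
    have h1 := h Q hQ
    rw [hc Q hQ] at h1
    exact (quad_ram_iff (hall Q hQ).1 hm (hall Q hQ).2 (E P) a b).1 h1
  · intro h Q hQ
    rw [hc Q hQ]
    exact (quad_ram_iff (hall Q hQ).1 hm (hall Q hQ).2 (E P) a b).2 h

/-- Local criterion (with `conorm`) at an unramified place. -/
theorem quad_unram_iff' [FiniteDimensional K K'] (hK : IsFunctionField k K) (h2 : (2 : k) ≠ 0)
    {y : K'} (σ : K' ≃ₐ[K] K') (hσ : σ y = -y) {P : Place k K} {m : ℤ}
    (hall : ∀ Q : Place k K', IsOver Q P → IsOverWith Q P 1 ∧ Q.1 y = exp m)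
    (E : Divisor k K) (a b : K) :
    (∀ Q : Place k K', IsOver Q P →
      Q.1 (algebraMap K K' a + algebraMap K K' b * y) ≤ exp (conorm K' E Q)) ↔
      P.1 a ≤ exp (E P) ∧ P.1 b ≤ exp (E P - m) := by
  have hfin := fun P : Place k K => finite_isOver (K' := K') hK P
  have hc : ∀ Q : Place k K', IsOver Q P → conorm K' E Q = E P := by
    intro Q hQ
    rw [conorm_apply_of_isOver hfin E hQ, ramIdx_eq (hall Q hQ).1]
    simp
  rw [← quad_unram_iff hK h2 σ hσ hall (E P) a b]
  constructor
  · intro h Q hQ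
    have := h Q hQ
    rwa [hc Q hQ] at this
  · intro h Q hQ
    rw [hc Q hQ]
    exact h Q hQ

end

end Groth.Agent.Lib.Helper44.FFExt
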