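/-
Hyperelliptic function fields `y² = f(x)` in characteristic `≠ 2`, `f` squarefree of degree `d`:
local structure at all places and the genus `⌈d/2⌉ - 1`.
Author: helper44
-/
import Groth.Agent.Lib.Helper44.FunFldQuadGenus
import Groth.Agent.S12516

set_option autoImplicit false

namespace Groth.Agent.Lib.Helper44.FFExt

open FunFld WithZero
open Groth.Agent.Lib.Helper88.FF

section sigma

variable {F K : Type*} [Field F] [Field K] [Algebra F K]

/-- The nontrivial automorphism `y ↦ -y` of `K = F(√c)` in characteristic `≠ 2`. -/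
theorem hyper_exists_sigma (hdeg : Module.finrank F K = 2) (h2 : (2 : F) ≠ 0) {y : K}
    (hy : y ∉ Set.range (algebraMap F K)) {c : F} (heq : y ^ 2 = algebraMap F K c) :
    ∃ σ : K ≃ₐ[F] K, σ y = -y := by
  have hc : c ≠ 0 := by
    rintro rfl
    rw [map_zero] at heq
    exact hy ⟨0, by rw [map_zero, pow_eq_zero_iff two_ne_zero |>.1 heq]⟩
  have hpoly : (Polynomial.X ^ 2 - Polynomial.C c : Polynomial F).Separable :=
    Polynomial.separable_X_pow_sub_C c (by exact_mod_cast h2) hc
  have hysep : IsSeparable F y := by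
    apply hpoly.of_dvd
    apply minpoly.dvd
    simp [heq]
  have h1 : Algebra.IsSeparable F (IntermediateField.adjoin F ({y} : Set K)) :=
    (IntermediateField.isSeparable_adjoin_simple_iff_isSeparable F K).2 hysep
  have : Algebra.IsSeparable F K := by
    refine ⟨fun w => ?_⟩
    apply IntermediateField.isSeparable_of_mem_isSeparable
      (L := IntermediateField.adjoin F ({y} : Set K))
    obtain ⟨a, b, rfl⟩ := exists_add_mul_eq hdeg hy w
    exact add_mem (IntermediateField.algebraMap_mem _ a)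
      (mul_mem (IntermediateField.algebraMap_mem _ b)
        (IntermediateField.mem_adjoin_simple_self _ _))
  have : Algebra.IsQuadraticExtension F K := { finrank_eq_two' := hdeg }
  have : IsGalois F K := inferInstance
  have : FiniteDimensional F K := Module.finite_of_finrank_pos (by rw [hdeg]; norm_num)
  have hcard : Nat.card (K ≃ₐ[F] K) = 2 := by rw [IsGalois.card_aut_eq_finrank, hdeg]
  obtain ⟨σ, hσ⟩ : ∃ σ : K ≃ₐ[F] K, σ ≠ 1 := by
    by_contra h
    push Not at h
    have : Subsingleton (K ≃ₐ[F] K) := ⟨fun a b => by rw [h a, h b]⟩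
    have := Nat.card_of_subsingleton (1 : K ≃ₐ[F] K)
    omega
  have hroot : (σ y) ^ 2 = y ^ 2 := by
    rw [← map_pow, heq, σ.commutes]
  have hmul : (σ y - y) * (σ y + y) = 0 := by
    linear_combination hroot
  rcases mul_eq_zero.1 hmul with h | h
  · exfalso
    apply hσ
    ext w
    obtain ⟨a, b, rfl⟩ := exists_add_mul_eq hdeg hy w
    rw [map_add, map_mul, σ.commutes, σ.commutes, sub_eq_zero.1 h]
    rfl
  · exact ⟨σ, eq_neg_of_add_eq_zero_left h⟩

end sigma

section ratinf

variable {k : Type*} [Field k]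

/-- The place of `k(x)` at infinity is unique. -/
theorem place_eq_of_pole {p p' : Place k (RatFunc k)} (h : 1 < p.1 RatFunc.X)
    (h' : 1 < p'.1 RatFunc.X) : p = p' := by
  apply place_ext
  intro r
  rcases eq_or_ne r 0 with rfl | hr
  · simp
  · rw [val_of_pole h hr, val_of_pole h' hr]

end ratinf

section hyper

variable {k K : Type*} [Field k] [Field K] [Algebra k K]
  [Algebra (RatFunc k) K] [IsScalarTower k (RatFunc k) K]

/-- Local structure of `y² = f` above a place `p` of `k(x)`: in all cases every place above `p`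
has the same ramification index and the same valuation of `y`. -/
theorem hyper_local (h2 : ringChar k ≠ 2) (hdeg : Module.finrank (RatFunc k) K = 2) (y : K)
    (f : Polynomial k) (hf : Squarefree f) (hd : 1 ≤ f.natDegree)
    (heq : y ^ 2 = algebraMap (RatFunc k) K (algebraMap (Polynomial k) (RatFunc k) f))
    (hy : y ∉ Set.range (algebraMap (RatFunc k) K))
    (p : Place k (RatFunc k)) :
    (1 < p.1 RatFunc.X → Odd f.natDegree → ∀ Q : Place k K, IsOver Q p →
      IsOverWith Q p 2 ∧ Q.1 y = exp (f.natDegree : ℤ)) ∧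
    (1 < p.1 RatFunc.X → Even f.natDegree → ∀ Q : Place k K, IsOver Q p →
      IsOverWith Q p 1 ∧ Q.1 y = exp ((f.natDegree / 2 : ℕ) : ℤ)) ∧
    (p.1 RatFunc.X ≤ 1 → p.1 (algebraMap (Polynomial k) (RatFunc k) f) < 1 →
      ∀ Q : Place k K, IsOver Q p → IsOverWith Q p 2 ∧ Q.1 y = exp (-1 : ℤ)) ∧
    (p.1 RatFunc.X ≤ 1 → p.1 (algebraMap (Polynomial k) (RatFunc k) f) = 1 →
      ∀ Q : Place k K, IsOver Q p → IsOverWith Q p 1 ∧ Q.1 y = exp (0 : ℤ)) := by
  have : FiniteDimensional (RatFunc k) K := Module.finite_of_finrank_pos (by rw [hdeg]; norm_num)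
  have hf0 : f ≠ 0 := hf.ne_zero
  have hf0' : algebraMap (Polynomial k) (RatFunc k) f ≠ 0 :=
    (map_ne_zero_iff _ (RatFunc.algebraMap_injective k)).2 hf0
  have h2k : (2 : k) ≠ 0 := Ring.two_ne_zero h2
  have hsq : ∀ (Q : Place k K) (e : ℕ), IsOverWith Q p e →
      Q.1 y ^ 2 = p.1 (algebraMap (Polynomial k) (RatFunc k) f) ^ e := by
    intro Q e he
    rw [← map_pow, heq, he]
  refine ⟨?_, ?_, ?_, ?_⟩
  · intro hp hodd Q hQ
    have hS := (Groth.Agent.S12516.result k K h2 hdeg y f hf hd heq p
      ((one_lt_val_iff p RatFunc.X_ne_zero).1 hp)).1 hodd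
    have he := (hS.2 Q hQ).1
    refine ⟨he, ?_⟩
    have h1 := hsq Q 2 he
    rw [val_of_pole hp hf0', RatFunc.intDegree_polynomial] at h1
    exact zm0_pow_injective (e := 2) (by norm_num) h1
  · intro hp heven Q hQ
    have hS := (Groth.Agent.S12516.result k K h2 hdeg y f hf hd heq p
      ((one_lt_val_iff p RatFunc.X_ne_zero).1 hp)).2 heven
    have he := hS.2 Q hQ
    refine ⟨he, ?_⟩
    have h1 := hsq Q 1 he
    rw [val_of_pole hp hf0', RatFunc.intDegree_polynomial, pow_one] at h1
    obtain ⟨r, hr⟩ := heven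
    have h3 : (exp (f.natDegree : ℤ) : ℤᵐ⁰) = exp ((f.natDegree / 2 : ℕ) : ℤ) ^ 2 := by
      rw [exp_pow']
      congr 1
      have : f.natDegree / 2 = r := by omega
      rw [this, hr]
      push_cast
      ring
    rw [h3] at h1
    exact zm0_pow_injective (e := 2) (by norm_num) h1
  · intro hpX hpf Q hQ
    have hval := val_squarefree_of_lt_one hpX hf hpf
    obtain ⟨e, he⟩ := hQ
    have h1 := hsq Q e he
    rw [hval] at h1
    have hy0 : y ≠ 0 := by
      rintro rfl
      exact hy ⟨0, map_zero _⟩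
    have hle := isOverWith_le_finrank he
    rw [hdeg] at hle
    have hpos := isOverWith_pos he
    rw [val_eq_exp_neg_ord Q hy0, exp_pow', exp_pow'] at h1
    have h3 := exp_injective h1
    have he2 : e = 2 := by
      push_cast at h3
      omega
    subst he2
    refine ⟨he, ?_⟩
    rw [val_eq_exp_neg_ord Q hy0]
    congr 1
    push_cast at h3
    omega
  · intro hpX hpf Q hQ
    obtain ⟨e, he⟩ := hQ
    have hspan := exists_add_mul_eq hdeg hy
    have h4 : (4 : RatFunc k) = algebraMap k (RatFunc k) 4 := (map_ofNat _ 4).symm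
    have h4k : (4 : k) ≠ 0 := by
      have : (4 : k) = 2 * 2 := by norm_num
      rw [this]
      exact mul_ne_zero h2k h2k
    have he1 : e = 1 := by
      refine isOverWith_one_of_quadratic he (z := y) (s := 0)
        (p := -(algebraMap (Polynomial k) (RatFunc k) f)) ?_ (by simp) ?_ ?_ hspan
      · rw [map_zero, zero_mul, sub_zero, map_neg, heq, add_neg_cancel]
      · rw [Valuation.map_neg, hpf]
      · have : (0 : RatFunc k) ^ 2 - 4 * -(algebraMap (Polynomial k) (RatFunc k) f) =
            4 * algebraMap (Polynomial k) (RatFunc k) f := by ring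
        rw [this, map_mul, hpf, mul_one, h4, val_algebraMap p h4k]
    subst he1
    refine ⟨he, ?_⟩
    have h1 := hsq Q 1 he
    rw [hpf, one_pow] at h1
    rw [exp_zero]
    have h3 : Q.1 y ^ 2 = (1 : ℤᵐ⁰) ^ 2 := by rw [h1, one_pow]
    exact zm0_pow_injective (e := 2) (by norm_num) h3


/-- **Genus of a hyperelliptic function field** `y² = f(x)`, `char ≠ 2`, `f` squarefree of
degree `d ≥ 1`: `g = ⌈d/2⌉ - 1`. -/
theorem hyper_genus (hK : IsFunctionField k K) (h2 : ringChar k ≠ 2)
    (hdeg : Module.finrank (RatFunc k) K = 2) (y : K)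
    (f : Polynomial k) (hf : Squarefree f) (hd : 1 ≤ f.natDegree)
    (heq : y ^ 2 = algebraMap (RatFunc k) K (algebraMap (Polynomial k) (RatFunc k) f)) :
    (genus k K : ℤ) = (((f.natDegree + 1) / 2 : ℕ) : ℤ) - 1 := by
  have hF : IsFunctionField k (RatFunc k) := isFunctionField_ratFunc k
  have hg : genus k (RatFunc k) = 0 :=
    ((genus_zero_iff_rational hF).2 ⟨RatFunc.X, RatFunc.adjoin_X⟩).1
  have : FiniteDimensional (RatFunc k) K := Module.finite_of_finrank_pos (by rw [hdeg]; norm_num)
  have : Algebra.IsAlgebraic (RatFunc k) K := Algebra.IsAlgebraic.of_finite _ _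
  have h2k : (2 : k) ≠ 0 := Ring.two_ne_zero h2
  have h2F : (2 : RatFunc k) ≠ 0 := by
    have : (2 : RatFunc k) = algebraMap k (RatFunc k) 2 := (map_ofNat _ 2).symm
    rw [this]
    exact (map_ne_zero _).2 h2k
  have hy : y ∉ Set.range (algebraMap (RatFunc k) K) := by
    rintro ⟨r, rfl⟩
    rw [← map_pow] at heq
    exact not_sq_of_squarefree hf hd r ((algebraMap (RatFunc k) K).injective heq)
  obtain ⟨σ, hσ⟩ := hyper_exists_sigma hdeg h2F hy heq
  have hXk : (RatFunc.X : RatFunc k) ∉ Set.range (algebraMap k (RatFunc k)) :=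
    not_mem_range_of_transcendental RatFunc.transcendental_X
  obtain ⟨pinf, hpinf⟩ := exists_pole hF hXk
  have hpinf' : 1 < pinf.1 RatFunc.X := (one_lt_val_iff pinf RatFunc.X_ne_zero).2 hpinf
  set d := f.natDegree with hdd
  set D₀ : Divisor k (RatFunc k) := Finsupp.single pinf (((d + 1) / 2 : ℕ) : ℤ) with hD₀
  have hmem : ∀ (E : Divisor k (RatFunc k)) (a b : RatFunc k),
      algebraMap (RatFunc k) K a + algebraMap (RatFunc k) K b * y ∈ L (conorm K E) ↔
        a ∈ L E ∧ b ∈ L (E - D₀) := by
    intro E a b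
    apply quad_mem_L_conorm_iff D₀ E y a b
    intro p
    obtain ⟨h_io, h_ie, h_fr, h_fu⟩ := hyper_local h2 hdeg y f hf hd heq hy p
    rcases lt_or_ge 1 (p.1 RatFunc.X) with hp | hp
    · have hpp : p = pinf := place_eq_of_pole hp hpinf'
      have hD₀p : D₀ p = (((d + 1) / 2 : ℕ) : ℤ) := by
        rw [hD₀, hpp, Finsupp.single_eq_same]
      rcases Nat.even_or_odd d with heven | hodd
      · have := quad_unram_iff' hF h2k σ hσ (h_ie hp heven) E a b
        rw [this, hD₀p]
        obtain ⟨r, hr⟩ := heven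
        have : (d + 1) / 2 = d / 2 := by omega
        rw [this]
      · have := quad_ram_iff' hF ((Int.odd_coe_nat d).2 hodd) (h_io hp hodd) E a b
        rw [this, hD₀p]
        obtain ⟨r, hr⟩ := hodd
        have : ((d : ℤ) + 1) / 2 = (((d + 1) / 2 : ℕ) : ℤ) := by
          push_cast
          rfl
        rw [this]
    · have hpp : p ≠ pinf := by
        rintro rfl
        exact absurd hpinf' (not_lt.2 hp)
      have hD₀p : D₀ p = 0 := by
        rw [hD₀, Finsupp.single_eq_of_ne hpp]
      rcases lt_or_eq_of_le (val_poly_le_one hp f) with hpf | hpf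
      · have := quad_ram_iff' hF (m := -1) ⟨-1, by norm_num⟩ (h_fr hp hpf) E a b
        rw [this, hD₀p]
        norm_num
      · have := quad_unram_iff' hF h2k σ hσ (h_fu hp hpf) E a b
        rw [this, hD₀p]
  have := quad_genus hF hK hdeg hy D₀ hmem
  rw [this, hg, hD₀, deg_single, deg_of_pole hpinf]
  push_cast
  ring

end hyper

end Groth.Agent.Lib.Helper44.FFExt
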