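/-
Regular differentials on the Artin–Schreier curve `y² + y = f(x)` in characteristic two, read through
Laurent expansions: linear independence of partial fractions in `k(x)`, the order of `dx` at every
place, and the description of the space of regular differentials `z dx` as `L(conorm E)`.
Author: helper44
-/
import Groth.Agent.Lib.Helper44.FunFldASDiff
import Groth.Agent.Lib.Helper44.FunFldHyperGenus

set_option autoImplicit false

namespace Groth.Agent.Lib.Helper44.FFExt

open FunFld WithZero LaurentSeries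
open Groth.Agent.Lib.Helper88.FF

section pf


variable {k : Type*} [Field k]

lemma X_sub_C_ne_zero' (β : k) : (RatFunc.X - RatFunc.C β : RatFunc k) ≠ 0 := by
  intro h
  have h1 : algebraMap (Polynomial k) (RatFunc k) (Polynomial.X - Polynomial.C β) = 0 := by
    rw [map_sub, RatFunc.algebraMap_X, RatFunc.algebraMap_C, h]
  rw [map_eq_zero_iff _ (RatFunc.algebraMap_injective k)] at h1
  exact Polynomial.X_sub_C_ne_zero β h1

lemma X_sub_C_not_mem_range (β : k) :
    (RatFunc.X - RatFunc.C β : RatFunc k) ∉ Set.range (algebraMap k (RatFunc k)) := by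
  rintro ⟨c, hc⟩
  have hXk : (RatFunc.X : RatFunc k) ∉ Set.range (algebraMap k (RatFunc k)) :=
    not_mem_range_of_transcendental RatFunc.transcendental_X
  apply hXk
  refine ⟨c + β, ?_⟩
  rw [map_add, hc, RatFunc.algebraMap_eq_C]
  ring

/-- There is a place of `k(x)` at `x = β`. -/
lemma exists_place_at (β : k) : ∃ p : Place k (RatFunc k),
    p.1 (RatFunc.X - RatFunc.C β) = exp (-1 : ℤ) := by
  obtain ⟨p, hp⟩ := exists_zero (isFunctionField_ratFunc k) (X_sub_C_not_mem_range β)
  refine ⟨p, val_X_sub_C_of_lt_one ?_⟩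
  rw [val_eq_exp_neg_ord p (X_sub_C_ne_zero' β), ← exp_zero, exp_lt_exp]
  omega

/-- At the place `x = β`, `x - β'` is a unit for `β' ≠ β`. -/
lemma val_X_sub_C_eq_one {p : Place k (RatFunc k)} {β β' : k}
    (h : p.1 (RatFunc.X - RatFunc.C β) < 1) (hne : β' ≠ β) :
    p.1 (RatFunc.X - RatFunc.C β') = 1 := by
  have : (RatFunc.X - RatFunc.C β' : RatFunc k) =
      algebraMap k (RatFunc k) (β - β') + (RatFunc.X - RatFunc.C β) := by
    rw [map_sub, RatFunc.algebraMap_eq_C]; ring
  rw [this, Valuation.map_add_eq_of_lt_left, val_algebraMap p (sub_ne_zero.2 hne.symm)]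
  rw [val_algebraMap p (sub_ne_zero.2 hne.symm)]
  exact h

/-- **Partial fractions are linearly independent.** -/
theorem partialFraction_linearIndependent :
    LinearIndependent k
      (fun a : k × ℕ => ((RatFunc.X : RatFunc k) - RatFunc.C a.1)⁻¹ ^ (a.2 + 1)) := by
  classical
  rw [linearIndependent_iff]
  intro l hl
  rw [Finsupp.linearCombination_apply, Finsupp.sum] at hl
  ext ⟨β₀, j₀⟩
  rw [Finsupp.zero_apply]
  obtain ⟨p, hu⟩ := exists_place_at β₀
  have hp1 : p.1 (RatFunc.X - RatFunc.C β₀) < 1 := by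
    rw [hu, ← exp_zero, exp_lt_exp]; norm_num
  set u : RatFunc k := RatFunc.X - RatFunc.C β₀ with hu'
  have hu0 : u ≠ 0 := X_sub_C_ne_zero' β₀
  set N : ℕ := l.support.sup (fun a => a.2) + 2 with hN
  have hNle : ∀ a ∈ l.support, a.2 + 1 < N := by
    intro a ha
    have : a.2 ≤ l.support.sup (fun a => a.2) := Finset.le_sup (f := fun a : k × ℕ => a.2) ha
    omega
  set S₀ := l.support.filter (fun a => a.1 = β₀) with hS₀
  set q : Polynomial k := ∑ a ∈ S₀, Polynomial.C (l a) * Polynomial.X ^ (N - (a.2 + 1)) with hq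
  have hq_deg : q.natDegree < N := by
    have : q.natDegree ≤ N - 1 := by
      apply Polynomial.natDegree_sum_le_of_forall_le
      intro a _
      apply (Polynomial.natDegree_C_mul_X_pow_le _ _).trans
      omega
    omega
  -- the polar part at `β₀`
  have hsplit : ∑ a ∈ S₀, l a • (u⁻¹ ^ (a.2 + 1)) =
      -∑ a ∈ l.support.filter (fun a => ¬ a.1 = β₀),
        l a • ((RatFunc.X : RatFunc k) - RatFunc.C a.1)⁻¹ ^ (a.2 + 1) := by
    rw [eq_neg_iff_add_eq_zero, ← hl, ← Finset.sum_filter_add_sum_filter_not l.support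
      (fun a => a.1 = β₀)]
    congr 1
    apply Finset.sum_congr rfl
    intro a ha
    rw [(Finset.mem_filter.1 ha).2]
  have haeval : Polynomial.aeval u q = u ^ N * ∑ a ∈ S₀, l a • (u⁻¹ ^ (a.2 + 1)) := by
    rw [hq, map_sum, Finset.mul_sum]
    apply Finset.sum_congr rfl
    intro a ha
    have ha' := hNle a (Finset.mem_filter.1 ha).1
    rw [map_mul, map_pow, Polynomial.aeval_X, Polynomial.aeval_C, Algebra.smul_def,
      mul_left_comm]
    congr 1
    rw [inv_pow, ← div_eq_mul_inv, eq_div_iff (pow_ne_zero _ hu0), ← pow_add]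
    congr 1
    omega
  have hq_val : p.1 (Polynomial.aeval u q) ≤ exp (-(N : ℤ)) := by
    rw [haeval, hsplit, map_mul, Valuation.map_neg, map_pow, hu, exp_pow']
    have h1 : p.1 (∑ a ∈ l.support.filter (fun a => ¬ a.1 = β₀),
        l a • ((RatFunc.X : RatFunc k) - RatFunc.C a.1)⁻¹ ^ (a.2 + 1)) ≤ 1 := by
      apply Valuation.map_sum_le
      intro a ha
      have hne : a.1 ≠ β₀ := (Finset.mem_filter.1 ha).2
      rw [Algebra.smul_def, map_mul, map_pow, map_inv₀, val_X_sub_C_eq_one hp1 hne, inv_one,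
        one_pow, mul_one]
      exact p.2.1 _
    calc exp ((N : ℤ) * (-1)) * _ ≤ exp ((N : ℤ) * (-1)) * 1 := mul_le_mul' le_rfl h1
      _ = exp (-(N : ℤ)) := by rw [mul_one]; congr 1; ring
  have hq0 := eq_zero_of_val_aeval_le p hu hq_deg hq_val
  by_contra hne
  have hmem : (β₀, j₀) ∈ S₀ :=
    Finset.mem_filter.2 ⟨Finsupp.mem_support_iff.2 hne, rfl⟩
  have hj₀ := hNle _ (Finset.mem_filter.1 hmem).1
  have hcoeff : q.coeff (N - (j₀ + 1)) = l (β₀, j₀) := by
    rw [hq, Polynomial.finsetSum_coeff, Finset.sum_eq_single (β₀, j₀)]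
    · rw [Polynomial.coeff_C_mul_X_pow, if_pos rfl]
    · intro a ha hab
      rw [Polynomial.coeff_C_mul_X_pow, if_neg]
      intro h
      have ha' := hNle a (Finset.mem_filter.1 ha).1
      have h1 : a.1 = β₀ := (Finset.mem_filter.1 ha).2
      apply hab
      apply Prod.ext h1
      show a.2 = j₀
      simp only at hj₀
      omega
    · intro h
      exact absurd hmem h
  rw [hq0, Polynomial.coeff_zero] at hcoeff
  exact hne hcoeff.symm

end pf

section main

variable {k : Type*} {K : Type*} [Field k] [IsAlgClosed k] [CharP k 2] [Field K] [Algebra k K]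
  [Algebra (RatFunc k) K] [IsScalarTower k (RatFunc k) K]

/-- The divisor `E` of `k(x)` with `(dx) = conorm E` on the Artin–Schreier curve, with its values and
the order of `dx` at every place of `K`, read through any Laurent expansion. -/
theorem AS_dx_setup (hdeg : Module.finrank (RatFunc k) K = 2) [Algebra.IsSeparable (RatFunc k) K]
    {y : K} (hy : y ∉ Set.range (algebraMap (RatFunc k) K)) {f : RatFunc k}
    (heq : y ^ 2 + y = algebraMap (RatFunc k) K f)
    (B : Finset k) (d : k → ℕ) (hd : ∀ β ∈ B, Odd (d β))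
    (hpole : ∀ (p : FunFld.Place k (RatFunc k)) (β : k), β ∈ B →
      p.1 ((RatFunc.X : RatFunc k) - RatFunc.C β) < 1 → p.ord f = -(d β : ℤ))
    (hint : ∀ p : FunFld.Place k (RatFunc k),
      (∀ β ∈ B, 1 ≤ p.1 ((RatFunc.X : RatFunc k) - RatFunc.C β)) → p.1 f ≤ 1) :
    ∃ (D₀ E : Divisor k (RatFunc k)),
      (∀ p : Place k (RatFunc k), p.ord f < 0 → p.ord f = 1 - 2 * D₀ p) ∧
      (∀ p : Place k (RatFunc k), 0 ≤ p.ord f → D₀ p = 0) ∧
      E.deg = ∑ β ∈ B, (((d β / 2 : ℕ) : ℤ) + 1) - 2 ∧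
      (E - D₀).deg < 0 ∧
      (∀ p : Place k (RatFunc k), 1 < p.1 RatFunc.X → E p = -2) ∧
      (∀ (p : Place k (RatFunc k)) (γ : k), p.1 (RatFunc.X - RatFunc.C γ) < 1 →
        (γ ∈ B → E p = ((d γ / 2 : ℕ) : ℤ) + 1) ∧ (γ ∉ B → E p = 0)) ∧
      (∀ P : Place k K, 1 < P.1 (algebraMap (RatFunc k) K RatFunc.X) →
        conorm K E P = -2 ∧ P.1 (algebraMap (RatFunc k) K RatFunc.X) = exp (1 : ℤ)) ∧
      (∀ (P : Place k K) (γ : k), γ ∉ B →
        P.1 (algebraMap (RatFunc k) K RatFunc.X - algebraMap k K γ) < 1 →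
        conorm K E P = 0 ∧
          P.1 (algebraMap (RatFunc k) K RatFunc.X - algebraMap k K γ) = exp (-1 : ℤ)) ∧
      (∀ (P : Place k K) (β : k), β ∈ B →
        P.1 (algebraMap (RatFunc k) K RatFunc.X - algebraMap k K β) < 1 →
        conorm K E P = (d β : ℤ) + 1 ∧
          ∃ p : Place k (RatFunc k), IsOverWith P p 2 ∧
            p.1 (RatFunc.X - RatFunc.C β) = exp (-1 : ℤ) ∧ p.ord f = -(d β : ℤ) ∧
            P.1 y = exp (d β : ℤ)) := by
  classical
  have hF : IsFunctionField k (RatFunc k) := isFunctionField_ratFunc k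
  have : FiniteDimensional (RatFunc k) K := Module.finite_of_finrank_pos (by rw [hdeg]; norm_num)
  have : Algebra.IsAlgebraic (RatFunc k) K := Algebra.IsAlgebraic.of_finite _ _
  have hfin := fun P : Place k (RatFunc k) => finite_isOver (K' := K) hF P
  set x : K := algebraMap (RatFunc k) K RatFunc.X with hx
  have hxα : ∀ α : k, x - algebraMap k K α =
      algebraMap (RatFunc k) K (RatFunc.X - RatFunc.C α) := by
    intro α
    rw [map_sub, IsScalarTower.algebraMap_apply k (RatFunc k) K, RatFunc.algebraMap_eq_C]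
  -- places of `K` over the points of `B`
  have hex : ∀ β : k, ∃ P : Place k K, P.1 (x - algebraMap k K β) < 1 := by
    intro β
    obtain ⟨p, hp⟩ := exists_place_at β
    obtain ⟨P, e, he⟩ := exists_isOver_above (K' := K) hF p
    refine ⟨P, ?_⟩
    rw [hxα]
    apply (isOverWith_val_lt_one_iff he _).2
    rw [hp, ← exp_zero, exp_lt_exp]; norm_num
  choose Pl hPl using hex
  obtain ⟨pB, D₀, hB, hinj, hpoleB, hpole', hreg', hdegD₀⟩ :=
    AS_setup hdeg hy heq B d hd hpole hint Pl (fun β _ => hPl β)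
  -- the place at infinity
  have hXk : (RatFunc.X : RatFunc k) ∉ Set.range (algebraMap k (RatFunc k)) :=
    not_mem_range_of_transcendental RatFunc.transcendental_X
  obtain ⟨pinf, hpinf⟩ := exists_pole hF hXk
  have hpinfX : 1 < pinf.1 RatFunc.X := (one_lt_val_iff pinf RatFunc.X_ne_zero).2 hpinf
  have hinf_f : ∀ p : Place k (RatFunc k), 1 < p.1 RatFunc.X → p.1 f ≤ 1 := by
    intro p hp
    apply hint p
    intro β _
    rw [val_X_sub_C_of_pole hp β, ← exp_zero, exp_le_exp]
    norm_num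
  have hD₀inf : D₀ pinf = 0 :=
    hreg' pinf (ord_nonneg_of_val_le_one pinf (hinf_f pinf hpinfX))
  set E : Divisor k (RatFunc k) := D₀ - Finsupp.single pinf 2 with hE
  have hEinf : ∀ p : Place k (RatFunc k), 1 < p.1 RatFunc.X → E p = -2 := by
    intro p hp
    have : p = pinf := place_eq_of_pole hp hpinfX
    rw [this, hE, Finsupp.sub_apply, Finsupp.single_eq_same, hD₀inf]
    norm_num
  have hEfin : ∀ (p : Place k (RatFunc k)) (γ : k), p.1 (RatFunc.X - RatFunc.C γ) < 1 →
      (γ ∈ B → E p = ((d γ / 2 : ℕ) : ℤ) + 1) ∧ (γ ∉ B → E p = 0) := by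
    intro p γ hp
    have hne : pinf ≠ p := by
      rintro rfl
      exact absurd (val_X_le_one_of_lt_one hp) (not_le.2 hpinfX)
    rw [hE, Finsupp.sub_apply, Finsupp.single_eq_of_ne hne.symm, sub_zero]
    refine ⟨fun hγ => ?_, fun hγ => ?_⟩
    · obtain ⟨-, h2, -, h4, -, -⟩ := hB γ hγ
      have h2' : (pB γ).1 (RatFunc.X - RatFunc.C γ) < 1 := by
        rw [h2, ← exp_zero, exp_lt_exp]; norm_num
      rw [place_eq_of_val_X_sub_C_lt_one hp h2', h4]
    · apply hreg'
      apply ord_nonneg_of_val_le_one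
      apply hint
      intro β hβ
      rw [val_X_sub_C_eq_one hp (fun h => hγ (h ▸ hβ))]
  refine ⟨D₀, E, hpole', hreg', ?_, ?_, hEinf, hEfin, ?_, ?_, ?_⟩
  · rw [hE, deg_sub, deg_single, hdegD₀, deg_of_pole hpinf]
    norm_num
  · rw [hE, deg_sub, deg_sub, deg_single, deg_of_pole hpinf]
    norm_num
  · intro P hP
    obtain ⟨p, e, he⟩ := exists_isOver_below (K := RatFunc k) P
    have hpX : 1 < p.1 RatFunc.X := by
      by_contra hcon
      rw [not_lt] at hcon
      have := (isOverWith_val_le_one_iff he RatFunc.X).2 hcon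
      exact absurd hP (not_lt.2 this)
    obtain ⟨h1, -⟩ := AS_unram hdeg hy heq (hinf_f p hpX) ⟨e, he⟩
    refine ⟨?_, ?_⟩
    · rw [conorm_apply_of_isOver hfin E ⟨e, he⟩, ramIdx_eq h1, hEinf p hpX]
      norm_num
    · rw [hx, h1, pow_one, val_X_of_pole hpX]
  · intro P γ hγ hP
    obtain ⟨p, e, he⟩ := exists_isOver_below (K := RatFunc k) P
    rw [hxα] at hP ⊢
    have hp : p.1 (RatFunc.X - RatFunc.C γ) < 1 := (isOverWith_val_lt_one_iff he _).1 hP
    have hpf : p.1 f ≤ 1 := by
      apply hint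
      intro β hβ
      rw [val_X_sub_C_eq_one hp (fun h => hγ (h ▸ hβ))]
    obtain ⟨h1, -⟩ := AS_unram hdeg hy heq hpf ⟨e, he⟩
    refine ⟨?_, ?_⟩
    · rw [conorm_apply_of_isOver hfin E ⟨e, he⟩, ramIdx_eq h1, (hEfin p γ hp).2 hγ]
      norm_num
    · rw [h1, pow_one, val_X_sub_C_of_lt_one hp]
  · intro P β hβ hP
    obtain ⟨p, e, he⟩ := exists_isOver_below (K := RatFunc k) P
    rw [hxα] at hP
    have hp : p.1 (RatFunc.X - RatFunc.C β) < 1 := (isOverWith_val_lt_one_iff he _).1 hP
    have hord := hpole p β hβ hp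
    obtain ⟨h1, h2, -⟩ := AS_ram hdeg hy heq (hd β hβ) hord ⟨e, he⟩
    refine ⟨?_, p, h1, val_X_sub_C_of_lt_one hp, hord, h2⟩
    rw [conorm_apply_of_isOver hfin E ⟨e, he⟩, ramIdx_eq h1, (hEfin p β hp).1 hβ]
    obtain ⟨m, hm⟩ := hd β hβ
    have : d β / 2 = m := by omega
    rw [this, hm]
    push_cast
    ring

/-- **Regular differentials on the Artin–Schreier curve**: for a family of partial fractions of the
right shape and cardinality, the `z dx` are regular, linearly independent, and span all regular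
`z dx`. -/
theorem AS_regular_differentials (hK : IsFunctionField k K)
    (hdeg : Module.finrank (RatFunc k) K = 2) [Algebra.IsSeparable (RatFunc k) K]
    {y : K} (hy : y ∉ Set.range (algebraMap (RatFunc k) K)) {f : RatFunc k}
    (heq : y ^ 2 + y = algebraMap (RatFunc k) K f)
    (B : Finset k) (h0 : (0 : k) ∈ B) (d : k → ℕ) (hd : ∀ β ∈ B, Odd (d β))
    (hpole : ∀ (p : FunFld.Place k (RatFunc k)) (β : k), β ∈ B →
      p.1 ((RatFunc.X : RatFunc k) - RatFunc.C β) < 1 → p.ord f = -(d β : ℤ))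
    (hint : ∀ p : FunFld.Place k (RatFunc k),
      (∀ β ∈ B, 1 ≤ p.1 ((RatFunc.X : RatFunc k) - RatFunc.C β)) → p.1 f ≤ 1)
    {F : Place k K → Type*} [∀ P, Field (F P)] [∀ P, Algebra k (F P)]
    (φ : ∀ P, K →ₐ[k] LaurentSeries (F P)) (hφ : ∀ P, LocRes.IsExpansionAt P.1 (φ P))
    {ι : Type*} [Finite ι] (α : ι → k) (jj : ι → ℕ) (hα : ∀ i, α i ∈ B)
    (hjj : ∀ i, 2 * jj i + 1 ≤ d (α i))
    (hinj : Function.Injective (fun i => (α i, jj i)))
    (hzero : ∀ i, ¬ (α i = 0 ∧ jj i = 0))
    (hcard : Nat.card ι + 1 = ∑ β ∈ B, (d β / 2 + 1))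
    (v : ι → RatFunc k)
    (hv : ∀ i, v i = ((RatFunc.X : RatFunc k) - RatFunc.C (α i))⁻¹ ^ (jj i + 1) -
      (if jj i = 0 then (RatFunc.X : RatFunc k)⁻¹ else 0)) :
    (∀ i P, LocRes.vDiff (φ P) (algebraMap (RatFunc k) K (v i))
      (algebraMap (RatFunc k) K RatFunc.X) ≤ 1) ∧
    LinearIndependent k (fun i => algebraMap (RatFunc k) K (v i)) ∧
    ∀ z : K, (∀ P, LocRes.vDiff (φ P) z (algebraMap (RatFunc k) K RatFunc.X) ≤ 1) →
      z ∈ Submodule.span k (Set.range (fun i => algebraMap (RatFunc k) K (v i))) := by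
  classical
  obtain ⟨D₀, E, hpole', hreg', hdegE, hdegED, hEinf, hEfin, hKinf, hKunr, hKram⟩ :=
    AS_dx_setup hdeg hy heq B d hd hpole hint
  have hF : IsFunctionField k (RatFunc k) := isFunctionField_ratFunc k
  have hg : genus k (RatFunc k) = 0 :=
    ((genus_zero_iff_rational hF).2 ⟨RatFunc.X, RatFunc.adjoin_X⟩).1
  have : FiniteDimensional (RatFunc k) K := Module.finite_of_finrank_pos (by rw [hdeg]; norm_num)
  have : Algebra.IsAlgebraic (RatFunc k) K := Algebra.IsAlgebraic.of_finite _ _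
  set x : K := algebraMap (RatFunc k) K RatFunc.X with hx
  -- the order of `dx`
  have hA : ∀ P, Valued.v (LocRes.D (F P) (φ P x)) = exp (-(conorm K E P)) := by
    intro P
    by_cases hP : 1 < P.1 x
    · obtain ⟨h1, h2⟩ := hKinf P hP
      rw [val_D_exp_of_pole (hφ P) h2, h1]
      rfl
    · rw [not_lt] at hP
      obtain ⟨γ, hγ⟩ := exists_val_sub_lt hK P hP
      by_cases hγB : γ ∈ B
      · obtain ⟨h1, p, he, hu, hord, hy'⟩ := hKram P γ hγB hγ
        rw [val_D_exp_ram he (hφ P) hu heq (hd γ hγB) hord hy', h1]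
      · obtain ⟨h1, h2⟩ := hKunr P γ hγB hγ
        rw [val_D_exp_of_unif (hφ P) h2, h1, neg_zero, exp_zero]
  have hreg_iff : ∀ z : K, (∀ P, LocRes.vDiff (φ P) z x ≤ 1) ↔ z ∈ L (conorm K E) := by
    intro z
    rw [mem_L_iff]
    apply forall_congr'
    intro P
    unfold LocRes.vDiff
    rw [map_mul, (hφ P).1, hA P, mem_ball, exp_neg, mul_inv_le_iff₀ (exp_pos), one_mul]
  have hmemK : ∀ a : RatFunc k, algebraMap (RatFunc k) K a ∈ L (conorm K E) ↔ a ∈ L E := by
    intro a
    have := AS_mem_L_conorm_iff hdeg hy heq D₀ hpole' hreg' E a 0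
    rw [map_zero, zero_mul, add_zero] at this
    rw [this]
    exact ⟨fun h => h.1, fun h => ⟨h, Submodule.zero_mem _⟩⟩
  -- the family lies in `L E`
  have hX0 : (RatFunc.X : RatFunc k) ≠ 0 := RatFunc.X_ne_zero
  have hv0 : ∀ i, jj i = 0 → v i = RatFunc.C (α i) /
      ((RatFunc.X : RatFunc k) * ((RatFunc.X : RatFunc k) - RatFunc.C (α i))) := by
    intro i hi
    rw [hv, if_pos hi, hi, zero_add, pow_one]
    have := X_sub_C_ne_zero' (α i)
    field_simp
    ring
  have hv1 : ∀ i, jj i ≠ 0 →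
      v i = ((RatFunc.X : RatFunc k) - RatFunc.C (α i))⁻¹ ^ (jj i + 1) := by
    intro i hi
    rw [hv, if_neg hi, sub_zero]
  have hvL : ∀ i, v i ∈ L E := by
    intro i
    rw [mem_L_iff]
    intro p
    rw [mem_ball]
    by_cases hp : 1 < p.1 RatFunc.X
    · rw [hEinf p hp]
      by_cases hi : jj i = 0
      · rw [hv0 i hi, map_div₀, map_mul, val_X_of_pole hp, val_X_sub_C_of_pole hp, ← exp_add]
        have h1 : ((1 : ℤ) + 1) = 2 := by norm_num
        rw [h1, div_le_iff₀ exp_pos, ← exp_add]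
        have h2 : ((-2 : ℤ) + 2) = 0 := by norm_num
        rw [h2, exp_zero]
        exact val_C_le_one p _
      · rw [hv1 i hi, map_pow, map_inv₀, val_X_sub_C_of_pole hp, ← exp_neg, exp_pow', exp_le_exp]
        have : 1 ≤ jj i := Nat.one_le_iff_ne_zero.2 hi
        push_cast
        nlinarith
    · rw [not_lt] at hp
      obtain ⟨γ, hγ'⟩ := exists_val_sub_lt hF p hp
      have hγ : p.1 (RatFunc.X - RatFunc.C γ) < 1 := by
        have h := hγ'
        simp only [RatFunc.algebraMap_eq_C] at h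
        exact h
      obtain ⟨hE1, hE2⟩ := hEfin p γ hγ
      have hEnn : 0 ≤ E p := by
        by_cases hγB : γ ∈ B
        · rw [hE1 hγB]; positivity
        · rw [hE2 hγB]
      have hu := val_X_sub_C_of_lt_one hγ
      by_cases hi : jj i = 0
      · have hαi : α i ≠ 0 := fun h => hzero i ⟨h, hi⟩
        rw [hv0 i hi, map_div₀, map_mul]
        have hC : p.1 (RatFunc.C (α i)) ≤ 1 := val_C_le_one p _
        have hXv : (RatFunc.X : RatFunc k) = RatFunc.X - RatFunc.C 0 := by
          rw [map_zero, sub_zero]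
        by_cases h1 : γ = 0
        · -- the place `x = 0`
          have hX1 : p.1 RatFunc.X = exp (-1 : ℤ) := by
            rw [hXv, ← h1]; exact hu
          have hα1 : p.1 (RatFunc.X - RatFunc.C (α i)) = 1 :=
            val_X_sub_C_eq_one hγ (by rw [h1]; exact hαi)
          rw [hX1, hα1, mul_one, div_le_iff₀ exp_pos, ← exp_add]
          apply hC.trans
          rw [← exp_zero, exp_le_exp, hE1 (h1 ▸ h0)]
          have : (0 : ℤ) ≤ ((d γ / 2 : ℕ) : ℤ) := Int.natCast_nonneg _
          linarith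
        · have hX1 : p.1 RatFunc.X = 1 := by
            rw [hXv]
            exact val_X_sub_C_eq_one hγ (fun h => h1 h.symm)
          by_cases h2 : γ = α i
          · have hα1 : p.1 (RatFunc.X - RatFunc.C (α i)) = exp (-1 : ℤ) := by
              rw [← h2]; exact hu
            rw [hX1, hα1, one_mul, div_le_iff₀ exp_pos, ← exp_add]
            apply hC.trans
            rw [← exp_zero, exp_le_exp, hE1 (h2 ▸ hα i)]
            have : (0 : ℤ) ≤ ((d γ / 2 : ℕ) : ℤ) := Int.natCast_nonneg _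
            linarith
          · have hα1 : p.1 (RatFunc.X - RatFunc.C (α i)) = 1 :=
              val_X_sub_C_eq_one hγ (fun h => h2 h.symm)
            rw [hX1, hα1, one_mul, div_one]
            apply hC.trans
            rw [← exp_zero, exp_le_exp]
            exact hEnn
      · rw [hv1 i hi, map_pow, map_inv₀]
        by_cases h2 : γ = α i
        · have hα1 : p.1 (RatFunc.X - RatFunc.C (α i)) = exp (-1 : ℤ) := by
            rw [← h2]; exact hu
          rw [hα1, ← exp_neg, exp_pow', exp_le_exp, hE1 (h2 ▸ hα i), h2]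
          have := hjj i
          have h3 : jj i ≤ d (α i) / 2 := by omega
          have h4 : (jj i : ℤ) ≤ ((d (α i) / 2 : ℕ) : ℤ) := by exact_mod_cast h3
          push_cast at h4 ⊢
          linarith
        · have hα1 : p.1 (RatFunc.X - RatFunc.C (α i)) = 1 :=
            val_X_sub_C_eq_one hγ (fun h => h2 h.symm)
          rw [hα1, inv_one, one_pow, ← exp_zero, exp_le_exp]
          exact hEnn
  -- linear independence in `k(x)`
  have : Fintype ι := Fintype.ofFinite ι
  have hLIF : LinearIndependent k v := by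
    have hw := partialFraction_linearIndependent (k := k)
    let g : Option ι → k × ℕ := fun o => o.elim (0, 0) (fun i => (α i, jj i))
    have hg : Function.Injective g := by
      rintro (_ | i) (_ | i') h
      · rfl
      · exfalso
        have h' : ((0 : k), (0 : ℕ)) = (α i', jj i') := h
        exact hzero i' ⟨(Prod.ext_iff.1 h').1.symm, (Prod.ext_iff.1 h').2.symm⟩
      · exfalso
        have h' : (α i, jj i) = ((0 : k), (0 : ℕ)) := h
        exact hzero i ⟨(Prod.ext_iff.1 h').1, (Prod.ext_iff.1 h').2⟩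
      · congr 1
        exact hinj h
    have hw' := hw.comp g hg
    rw [Fintype.linearIndependent_iff] at hw' ⊢
    intro c hc i
    let G : Option ι → k := fun o => o.elim (-∑ i, if jj i = 0 then c i else 0) c
    have hsum : ∑ i, c i • (if jj i = 0 then (RatFunc.X : RatFunc k)⁻¹ else 0) =
        (∑ i, if jj i = 0 then c i else 0) • (RatFunc.X : RatFunc k)⁻¹ := by
      rw [Finset.sum_smul]
      apply Finset.sum_congr rfl
      intro i _
      split_ifs
      · rfl
      · rw [smul_zero, zero_smul]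
    have hG : ∑ o, G o • ((fun a : k × ℕ =>
        ((RatFunc.X : RatFunc k) - RatFunc.C a.1)⁻¹ ^ (a.2 + 1)) ∘ g) o = 0 := by
      rw [Fintype.sum_option]
      show (-∑ i, if jj i = 0 then c i else 0) •
          ((RatFunc.X : RatFunc k) - RatFunc.C 0)⁻¹ ^ (0 + 1) +
        ∑ i, c i • ((RatFunc.X : RatFunc k) - RatFunc.C (α i))⁻¹ ^ (jj i + 1) = 0
      have hsplit : ∑ i, c i • ((RatFunc.X : RatFunc k) - RatFunc.C (α i))⁻¹ ^ (jj i + 1) =
          ∑ i, c i • v i + ∑ i, c i • (if jj i = 0 then (RatFunc.X : RatFunc k)⁻¹ else 0) := by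
        rw [← Finset.sum_add_distrib]
        apply Finset.sum_congr rfl
        intro i _
        rw [hv, smul_sub, sub_add_cancel]
      rw [map_zero, sub_zero, zero_add, pow_one, neg_smul, hsplit, hc, zero_add, hsum,
        neg_add_cancel]
    exact hw' G hG (some i)
  -- dimension count
  have hcardZ : (Nat.card ι : ℤ) + 1 = ∑ β ∈ B, (((d β / 2 : ℕ) : ℤ) + 1) := by
    have : ((Nat.card ι + 1 : ℕ) : ℤ) = ((∑ β ∈ B, (d β / 2 + 1) : ℕ) : ℤ) := by rw [hcard]
    rw [Nat.cast_sum] at this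
    simpa using this
  have hell : (ell E : ℤ) = Nat.card ι := by
    have := ell_eq_of_le_deg hF (D := E) (by
      rw [hg, hdegE, ← hcardZ]
      have : (0 : ℤ) ≤ Nat.card ι := Int.natCast_nonneg _
      push_cast
      linarith)
    rw [this, hg, hdegE, ← hcardZ]
    push_cast
    ring
  let v' : ι → ↥(L E) := fun i => ⟨v i, hvL i⟩
  have hLI' : LinearIndependent k v' := by
    apply LinearIndependent.of_comp (L E).subtype
    exact hLIF
  have hcard' : Fintype.card ι = Module.finrank k ↥(L E) := by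
    rw [← Nat.card_eq_fintype_card]
    have : (Nat.card ι : ℤ) = (Module.finrank k ↥(L E) : ℤ) := hell.symm
    exact_mod_cast this
  have hfd := finiteDimensional_L hF E
  have hspan := hLI'.span_eq_top_of_card_eq_finrank' hcard'
  let A : RatFunc k →ₗ[k] K := (IsScalarTower.toAlgHom k (RatFunc k) K).toLinearMap
  have hAapp : ∀ r, A r = algebraMap (RatFunc k) K r := fun _ => rfl
  refine ⟨?_, ?_, ?_⟩
  · intro i
    exact (hreg_iff _).2 ((hmemK _).2 (hvL i))
  · have := hLIF.map' A (LinearMap.ker_eq_bot.2 (algebraMap (RatFunc k) K).injective)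
    exact this
  · intro z hz
    have hzL := (hreg_iff z).1 hz
    obtain ⟨a, b, hab⟩ := exists_add_mul_eq hdeg hy z
    rw [hab] at hzL
    obtain ⟨ha, hb⟩ := (AS_mem_L_conorm_iff hdeg hy heq D₀ hpole' hreg' E a b).1 hzL
    rw [L_eq_bot_of_deg_neg hF hdegED, Submodule.mem_bot] at hb
    rw [hb, map_zero, zero_mul, add_zero] at hab
    have hmem : (⟨a, ha⟩ : ↥(L E)) ∈ Submodule.span k (Set.range v') := by
      rw [hspan]; trivial
    rw [Submodule.mem_span_range_iff_exists_fun] at hmem
    obtain ⟨c, hc⟩ := hmem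
    have h1 : a = ∑ i, c i • v i := by
      have := congrArg (L E).subtype hc
      rw [map_sum] at this
      simp only [map_smul] at this
      exact this.symm
    rw [hab, h1, ← hAapp, map_sum]
    refine Submodule.sum_mem _ fun i _ => ?_
    rw [map_smul]
    exact Submodule.smul_mem _ _ (Submodule.subset_span ⟨i, rfl⟩)

end main

end Groth.Agent.Lib.Helper44.FFExt
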