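/-
Order of `dx` at the ramified places of a general Artin–Schreier curve `y² + y = f(x)` over a perfect
field of characteristic two (places of arbitrary degree, including infinity), read through Laurent
expansions; the basis `x^i dx / q(x)` of the regular differentials.
Author: helper44
-/
import Groth.Agent.Lib.Helper44.FunFldASDiff2
import Groth.Agent.Lib.Helper88.HyperDiff

set_option autoImplicit false

namespace Groth.Agent.Lib.Helper44.FFExt

open FunFld WithZero LaurentSeries
open Groth.Agent.Lib.Helper88.FF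

section generic

variable {k K : Type*} [Field k] [Field K] [Algebra k K] {F₀ : Type*} [Field F₀] [Algebra k F₀]

/-- `d (N(s)/M(s)) = c ds` with `c` integral, for `s` integral and `M(s)` a unit. -/
lemma exists_D_exp_quot (ψ : K →ₐ[k] F₀⸨X⸩) (P : Place k K) {s : K} (hs : P.1 s ≤ 1)
    (N M : Polynomial k) (hM : P.1 (Polynomial.aeval s M) = 1) :
    ∃ c : K, P.1 c ≤ 1 ∧
      LocRes.D F₀ (ψ (Polynomial.aeval s N / Polynomial.aeval s M)) = ψ c * LocRes.D F₀ (ψ s) := by
  set N₁ : K := Polynomial.aeval s N with hN₁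
  set M₁ : K := Polynomial.aeval s M with hM₁
  set N' : K := Polynomial.aeval s (Polynomial.derivative N) with hN'
  set M' : K := Polynomial.aeval s (Polynomial.derivative M) with hM'
  have hMinv : P.1 M₁⁻¹ = 1 := by rw [map_inv₀, hM, inv_one]
  refine ⟨N' * M₁⁻¹ - N₁ * M₁⁻¹ ^ 2 * M', ?_, ?_⟩
  · apply (P.1.map_sub _ _).trans
    apply max_le
    · rw [map_mul, hMinv, mul_one]
      exact val_aeval_le_one P hs _
    · rw [map_mul, map_mul, map_pow, hMinv, one_pow, mul_one]
      calc P.1 N₁ * P.1 M' ≤ 1 * 1 :=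
            mul_le_mul' (val_aeval_le_one P hs _) (val_aeval_le_one P hs _)
        _ = 1 := one_mul _
  · rw [div_eq_mul_inv, D_exp_mul, D_exp_inv, hN₁, hM₁, D_exp_aeval, D_exp_aeval, map_sub, map_mul,
      map_mul, map_mul, map_pow, map_inv₀]
    ring

/-- Order of the differential of a downstairs uniformizer `U` at a ramified place of an
Artin–Schreier extension: if `y² + y = fK` with `v(y) = -d`, `d` odd, `v(U) = 2`, and `fK U^d = G`
with `dG = c dU`, `c` integral, then `v(dU) = d + 1`. -/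
theorem val_D_ram_gen [CharP k 2] {P : Place k K} {ψ : K →ₐ[k] F₀⸨X⸩}
    (hψ : LocRes.IsExpansionAt P.1 ψ) {y fK U G c : K} {d : ℕ} (hd : Odd d)
    (heq : y ^ 2 + y = fK) (hy : P.1 y = exp (d : ℤ)) (hU : P.1 U = exp (-2 : ℤ))
    (hG : fK * U ^ d = G) (hc : P.1 c ≤ 1)
    (hDG : LocRes.D F₀ (ψ G) = ψ c * LocRes.D F₀ (ψ U)) :
    Valued.v (LocRes.D F₀ (ψ U)) = exp (-((d : ℤ) + 1)) := by
  have : CharP F₀ 2 := charP_of_injective_algebraMap (algebraMap k F₀).injective 2
  have : CharP F₀⸨X⸩ 2 := charP_of_injective_algebraMap (algebraMap k F₀⸨X⸩).injective 2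
  have : CharP K 2 := charP_of_injective_algebraMap (algebraMap k K).injective 2
  obtain ⟨m, hm⟩ := hd
  have hdF : ((d : ℕ) : F₀⸨X⸩) = 1 := by
    rw [hm]; push_cast
    rw [CharTwo.two_eq_zero, zero_mul, zero_add]
  have hdF₀ : ((-(d : ℤ) : ℤ) : F₀) ≠ 0 := by
    rw [hm]; push_cast
    rw [CharTwo.two_eq_zero, zero_mul, zero_add]
    exact neg_ne_zero.2 one_ne_zero
  have hPf : P.1 fK = exp (2 * (d : ℤ)) := by
    have hlt : P.1 y < P.1 (y ^ 2) := by
      rw [map_pow, hy, exp_pow', exp_lt_exp, hm]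
      push_cast
      linarith [Int.natCast_nonneg m]
    rw [← heq, Valuation.map_add_eq_of_lt_left _ hlt, map_pow, hy, exp_pow']
    congr 1
  have hDf : LocRes.D F₀ (ψ fK) = LocRes.D F₀ (ψ y) := by
    rw [← heq, map_add, map_add, map_pow, Derivation.leibniz_pow, two_nsmul,
      CharTwo.add_self_eq_zero, zero_add]
  have h1 : LocRes.D F₀ (ψ (fK * U ^ d)) = LocRes.D F₀ (ψ G) := by rw [hG]
  rw [D_exp_mul, hDf, map_pow, Derivation.leibniz_pow, hDG, nsmul_eq_mul, hdF, one_mul,
    smul_eq_mul] at h1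
  have h2 : ψ U ^ d * LocRes.D F₀ (ψ y) =
      ψ (c - fK * U ^ (d - 1)) * LocRes.D F₀ (ψ U) := by
    rw [map_sub, map_mul, map_pow, sub_mul, ← h1]
    ring
  have hv1 : Valued.v (ψ U ^ d) = exp (-(2 * (d : ℤ))) := by
    rw [map_pow, hψ.1, hU, exp_pow']
    congr 1
    ring
  have hv2 : Valued.v (LocRes.D F₀ (ψ y)) = exp ((d : ℤ) + 1) := by
    have h3 : Valued.v (ψ y) = exp (-(-(d : ℤ))) := by rw [hψ.1, hy, neg_neg]
    rw [val_D_eq h3 hdF₀]
    congr 1
    ring
  have hv3 : P.1 (fK * U ^ (d - 1)) = exp (2 : ℤ) := by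
    rw [map_mul, map_pow, hPf, hU, exp_pow', ← exp_add]
    congr 1
    have : ((d - 1 : ℕ) : ℤ) = (d : ℤ) - 1 := by
      rw [hm]; push_cast; ring
    rw [this]
    ring
  have hv4 : Valued.v (ψ (c - fK * U ^ (d - 1))) = exp (2 : ℤ) := by
    rw [hψ.1, sub_eq_add_neg, Valuation.map_add_eq_of_lt_right, Valuation.map_neg, hv3]
    rw [Valuation.map_neg, hv3]
    apply lt_of_le_of_lt hc
    rw [← exp_zero, exp_lt_exp]
    norm_num
  have h3 := congrArg Valued.v h2
  rw [map_mul, map_mul, hv1, hv2, hv4] at h3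
  have h4 : exp (2 : ℤ) * exp (-((d : ℤ) + 1)) = exp (-(2 * (d : ℤ))) * exp ((d : ℤ) + 1) := by
    rw [← exp_add, ← exp_add]
    congr 1
    ring
  rw [← h4] at h3
  exact (mul_left_cancel₀ exp_ne_zero h3).symm

end generic

section ratfinite

variable {k : Type*} [Field k]

/-- A finite place of `k(x)` has an irreducible polynomial as uniformizer. -/
theorem exists_irreducible_uniformizer {p : Place k (RatFunc k)} (hX : p.1 RatFunc.X ≤ 1) :
    ∃ π : Polynomial k, Irreducible π ∧
      p.1 (algebraMap (Polynomial k) (RatFunc k) π) = exp (-1 : ℤ) := by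
  obtain ⟨r, hr⟩ := exists_uniformizer p
  have hr1 : p.1 r < 1 := by rw [hr, ← exp_zero, exp_lt_exp]; norm_num
  have hnum : p.1 (algebraMap (Polynomial k) (RatFunc k) r.num) < 1 := by
    have h2 : p.1 r = p.1 (algebraMap (Polynomial k) (RatFunc k) r.num) /
        p.1 (algebraMap (Polynomial k) (RatFunc k) r.denom) := by
      rw [← map_div₀, RatFunc.num_div_denom]
    have hd0 : p.1 (algebraMap (Polynomial k) (RatFunc k) r.denom) ≠ 0 := by
      rw [Valuation.ne_zero_iff]
      exact (map_ne_zero_iff _ (RatFunc.algebraMap_injective k)).2 r.denom_ne_zero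
    rw [h2, div_lt_one₀ (zero_lt_iff.2 hd0)] at hr1
    exact lt_of_lt_of_le hr1 (val_poly_le_one hX _)
  have hr0 : r ≠ 0 := by
    rintro rfl
    rw [map_zero] at hr
    exact exp_ne_zero hr.symm
  have hnum0 : r.num ≠ 0 := RatFunc.num_ne_zero hr0
  have key : ∀ a : Polynomial k, a ≠ 0 → p.1 (algebraMap (Polynomial k) (RatFunc k) a) < 1 →
      ∃ π : Polynomial k, Irreducible π ∧ p.1 (algebraMap (Polynomial k) (RatFunc k) π) < 1 := by
    intro a
    induction a using UniqueFactorizationMonoid.induction_on_prime with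
    | h₁ => intro h; exact absurd rfl h
    | h₂ x hx =>
      intro _ h
      exfalso
      obtain ⟨c, hc, rfl⟩ := Polynomial.isUnit_iff.1 hx
      rw [RatFunc.algebraMap_C, ← RatFunc.algebraMap_eq_C, val_algebraMap p hc.ne_zero] at h
      exact lt_irrefl _ h
    | h₃ a π ha hπ ih =>
      intro _ h
      rw [map_mul, map_mul] at h
      by_cases h1 : p.1 (algebraMap (Polynomial k) (RatFunc k) π) < 1
      · exact ⟨π, hπ.irreducible, h1⟩
      · apply ih ha
        rw [not_lt] at h1
        have h2 : p.1 (algebraMap (Polynomial k) (RatFunc k) π) = 1 :=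
          le_antisymm (val_poly_le_one hX _) h1
        rwa [h2, one_mul] at h
  obtain ⟨π, hπ, hπ1⟩ := key r.num hnum0 hnum
  exact ⟨π, hπ, val_squarefree_of_lt_one hX hπ.squarefree hπ1⟩

/-- The denominator of a rational function integral at a finite place is a unit there. -/
lemma val_denom_eq_one' {p : Place k (RatFunc k)} (hX : p.1 RatFunc.X ≤ 1) {r : RatFunc k}
    (hr : p.1 r ≤ 1) : p.1 (algebraMap (Polynomial k) (RatFunc k) r.denom) = 1 := by
  by_contra hne
  have hlt : p.1 (algebraMap (Polynomial k) (RatFunc k) r.denom) < 1 :=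
    lt_of_le_of_ne (val_poly_le_one hX _) hne
  obtain ⟨a, b, hab⟩ := RatFunc.isCoprime_num_denom r
  have h1 : algebraMap (Polynomial k) (RatFunc k) a * algebraMap (Polynomial k) (RatFunc k) r.num +
      algebraMap (Polynomial k) (RatFunc k) b * algebraMap (Polynomial k) (RatFunc k) r.denom =
      1 := by
    rw [← map_mul, ← map_mul, ← map_add, hab, map_one]
  have h2 : p.1 (algebraMap (Polynomial k) (RatFunc k) b *
      algebraMap (Polynomial k) (RatFunc k) r.denom) < 1 := by
    rw [map_mul]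
    calc _ ≤ 1 * p.1 (algebraMap (Polynomial k) (RatFunc k) r.denom) :=
          mul_le_mul' (val_poly_le_one hX _) le_rfl
      _ = _ := one_mul _
      _ < 1 := hlt
  have h3 : p.1 (algebraMap (Polynomial k) (RatFunc k) a *
      algebraMap (Polynomial k) (RatFunc k) r.num) = 1 := by
    have := congrArg p.1 h1
    rw [map_one, Valuation.map_add_eq_of_lt_left] at this
    · exact this
    · by_contra hcon
      rw [not_lt] at hcon
      have h4 := p.1.map_add (algebraMap (Polynomial k) (RatFunc k) a *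
        algebraMap (Polynomial k) (RatFunc k) r.num)
        (algebraMap (Polynomial k) (RatFunc k) b * algebraMap (Polynomial k) (RatFunc k) r.denom)
      rw [h1, map_one, max_eq_right hcon] at h4
      exact absurd h4 (not_le.2 h2)
  have h5 : p.1 (algebraMap (Polynomial k) (RatFunc k) r.num) = 1 := by
    apply le_antisymm (val_poly_le_one hX _)
    rw [map_mul] at h3
    calc (1 : ℤᵐ⁰) = _ := h3.symm
      _ ≤ 1 * p.1 (algebraMap (Polynomial k) (RatFunc k) r.num) :=
          mul_le_mul' (val_poly_le_one hX _) le_rfl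
      _ = _ := one_mul _
  have h6 : p.1 r = p.1 (algebraMap (Polynomial k) (RatFunc k) r.num) /
      p.1 (algebraMap (Polynomial k) (RatFunc k) r.denom) := by
    rw [← map_div₀, RatFunc.num_div_denom]
  have hd0 : p.1 (algebraMap (Polynomial k) (RatFunc k) r.denom) ≠ 0 := by
    rw [Valuation.ne_zero_iff]
    exact (map_ne_zero_iff _ (RatFunc.algebraMap_injective k)).2 r.denom_ne_zero
  rw [h6, h5, one_div] at hr
  have : 1 < (p.1 (algebraMap (Polynomial k) (RatFunc k) r.denom))⁻¹ := by
    rw [one_lt_inv₀ (zero_lt_iff.2 hd0)]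
    exact hlt
  exact absurd hr (not_le.2 this)

end ratfinite

section localK

variable {k K : Type*} [Field k] [Field K] [Algebra k K] [Algebra (RatFunc k) K]
  [IsScalarTower k (RatFunc k) K] {F₀ : Type*} [Field F₀] [Algebra k F₀]

/-- For `r ∈ k(x)` integral at a finite place, `d r = c · dx` with `c` integral above. -/
lemma exists_D_exp_eq' (ψ : K →ₐ[k] F₀⸨X⸩) {P : Place k K} {p : Place k (RatFunc k)} {e : ℕ}
    (he : IsOverWith P p e) (hX : p.1 RatFunc.X ≤ 1) {r : RatFunc k} (hr : p.1 r ≤ 1) :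
    ∃ c : K, P.1 c ≤ 1 ∧ LocRes.D F₀ (ψ (algebraMap (RatFunc k) K r)) =
      ψ c * LocRes.D F₀ (ψ (algebraMap (RatFunc k) K RatFunc.X)) := by
  have hxP : P.1 (algebraMap (RatFunc k) K RatFunc.X) ≤ 1 :=
    (isOverWith_val_le_one_iff he RatFunc.X).2 hX
  have hM1 : P.1 (Polynomial.aeval (algebraMap (RatFunc k) K RatFunc.X) r.denom) = 1 := by
    rw [← algebraMap_poly_eq_aeval, he, val_denom_eq_one' hX hr, one_pow]
  obtain ⟨c, hc, hD⟩ := exists_D_exp_quot ψ P hxP r.num r.denom hM1
  refine ⟨c, hc, ?_⟩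
  rw [← hD]
  congr 2
  conv_lhs => rw [← RatFunc.num_div_denom r]
  rw [map_div₀, algebraMap_poly_eq_aeval, algebraMap_poly_eq_aeval]

/-- Order of `dx` at a ramified place above a finite pole of odd order `d` of `f`. -/
theorem val_D_exp_ram_finite [PerfectField k] [CharP k 2] {P : Place k K}
    {p : Place k (RatFunc k)} (he : IsOverWith P p 2) {ψ : K →ₐ[k] F₀⸨X⸩}
    (hψ : LocRes.IsExpansionAt P.1 ψ) (hX : p.1 RatFunc.X ≤ 1) {y : K} {f : RatFunc k}
    (heq : y ^ 2 + y = algebraMap (RatFunc k) K f) {d : ℕ} (hd : Odd d)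
    (hord : p.ord f = -(d : ℤ)) (hy : P.1 y = exp (d : ℤ)) :
    Valued.v (LocRes.D F₀ (ψ (algebraMap (RatFunc k) K RatFunc.X))) = exp (-((d : ℤ) + 1)) := by
  set x : K := algebraMap (RatFunc k) K RatFunc.X with hx
  have hxP : P.1 x ≤ 1 := (isOverWith_val_le_one_iff he RatFunc.X).2 hX
  obtain ⟨π, hπ, hπ1⟩ := exists_irreducible_uniformizer hX
  have hf0 : f ≠ 0 := by
    rintro rfl
    rw [ord_zero] at hord
    have := hd.pos
    omega
  have hpf : p.1 f = exp (d : ℤ) := by rw [val_eq_exp_neg_ord p hf0, hord, neg_neg]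
  set U : K := Polynomial.aeval x π with hU
  have hUalg : U = algebraMap (RatFunc k) K (algebraMap (Polynomial k) (RatFunc k) π) := by
    rw [hU, algebraMap_poly_eq_aeval]
  have hPU : P.1 U = exp (-2 : ℤ) := by
    rw [hUalg, he, hπ1, exp_pow']; norm_num
  set g : RatFunc k := f * algebraMap (Polynomial k) (RatFunc k) π ^ d with hg
  have hpg : p.1 g = 1 := by
    rw [hg, map_mul, map_pow, hpf, hπ1, exp_pow', ← exp_add, ← exp_zero]
    congr 1
    ring
  obtain ⟨c₁, hc₁, hDg⟩ := exists_D_exp_eq' ψ he hX hpg.le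
  -- `π'(x)` is a unit
  have hπ' : P.1 (Polynomial.aeval x (Polynomial.derivative π)) = 1 := by
    obtain ⟨a, b, hab⟩ := PerfectField.separable_of_irreducible hπ
    have h1 : Polynomial.aeval x a * U + Polynomial.aeval x b *
        Polynomial.aeval x (Polynomial.derivative π) = 1 := by
      rw [hU, ← map_mul, ← map_mul, ← map_add, hab, map_one]
    have h2 : P.1 (Polynomial.aeval x a * U) < 1 := by
      rw [map_mul, hPU]
      calc _ ≤ 1 * exp (-2 : ℤ) := mul_le_mul' (val_aeval_le_one P hxP _) le_rfl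
        _ = exp (-2 : ℤ) := one_mul _
        _ < 1 := by rw [← exp_zero, exp_lt_exp]; norm_num
    have h3 : P.1 (Polynomial.aeval x b * Polynomial.aeval x (Polynomial.derivative π)) = 1 := by
      have h4 : Polynomial.aeval x b * Polynomial.aeval x (Polynomial.derivative π) =
          1 - Polynomial.aeval x a * U := by rw [← h1]; ring
      rw [h4, Valuation.map_sub_eq_of_lt_left, map_one]
      rw [map_one]
      exact h2
    apply le_antisymm (val_aeval_le_one P hxP _)
    rw [map_mul] at h3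
    calc (1 : ℤᵐ⁰) = _ := h3.symm
      _ ≤ 1 * P.1 (Polynomial.aeval x (Polynomial.derivative π)) :=
          mul_le_mul' (val_aeval_le_one P hxP _) le_rfl
      _ = _ := one_mul _
  have hπ'0 : Polynomial.aeval x (Polynomial.derivative π) ≠ 0 := by
    intro h
    rw [h, map_zero] at hπ'
    exact zero_ne_one hπ'
  have hDU : LocRes.D F₀ (ψ U) =
      ψ (Polynomial.aeval x (Polynomial.derivative π)) * LocRes.D F₀ (ψ x) := by
    rw [hU, D_exp_aeval]
  have hG : algebraMap (RatFunc k) K f * U ^ d = algebraMap (RatFunc k) K g := by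
    rw [hg, map_mul, map_pow, hUalg]
  have hc : P.1 (c₁ * (Polynomial.aeval x (Polynomial.derivative π))⁻¹) ≤ 1 := by
    rw [map_mul, map_inv₀, hπ', inv_one, mul_one]
    exact hc₁
  have hDG : LocRes.D F₀ (ψ (algebraMap (RatFunc k) K g)) =
      ψ (c₁ * (Polynomial.aeval x (Polynomial.derivative π))⁻¹) * LocRes.D F₀ (ψ U) := by
    rw [hDg, hDU, map_mul, map_inv₀]
    have : ψ (Polynomial.aeval x (Polynomial.derivative π)) ≠ 0 := (map_ne_zero ψ).2 hπ'0
    rw [← hx]
    field_simp
  have hmain := val_D_ram_gen hψ hd heq hy hPU hG hc hDG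
  rw [hDU, map_mul, hψ.1, hπ', one_mul] at hmain
  exact hmain

/-- Order of `dx` at a ramified place above infinity, where `f` has a pole of odd order `d`. -/
theorem val_D_exp_ram_infinite [CharP k 2] {P : Place k K}
    {p : Place k (RatFunc k)} (he : IsOverWith P p 2) {ψ : K →ₐ[k] F₀⸨X⸩}
    (hψ : LocRes.IsExpansionAt P.1 ψ) (hX : 1 < p.1 RatFunc.X) {y : K} {f : RatFunc k}
    (heq : y ^ 2 + y = algebraMap (RatFunc k) K f) {d : ℕ} (hd : Odd d)
    (hord : p.ord f = -(d : ℤ)) (hy : P.1 y = exp (d : ℤ)) :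
    Valued.v (LocRes.D F₀ (ψ (algebraMap (RatFunc k) K RatFunc.X))) = exp (-((d : ℤ) - 3)) := by
  set x : K := algebraMap (RatFunc k) K RatFunc.X with hx
  have hpX : p.1 RatFunc.X = exp (1 : ℤ) := val_X_of_pole hX
  have hPx : P.1 x = exp (2 : ℤ) := by
    rw [hx, he, hpX, exp_pow']; norm_num
  have hx0 : x ≠ 0 := by
    intro h
    rw [h, map_zero] at hPx
    exact exp_ne_zero hPx.symm
  have hf0 : f ≠ 0 := by
    rintro rfl
    rw [ord_zero] at hord
    have := hd.pos
    omega
  have hpf : p.1 f = exp (d : ℤ) := by rw [val_eq_exp_neg_ord p hf0, hord, neg_neg]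
  set U : K := x⁻¹ with hU
  have hPU : P.1 U = exp (-2 : ℤ) := by
    rw [hU, map_inv₀, hPx, ← exp_neg]
  set g : RatFunc k := f * (RatFunc.X : RatFunc k)⁻¹ ^ d with hg
  have hpg : p.1 g = 1 := by
    rw [hg, map_mul, map_pow, map_inv₀, hpf, hpX, ← exp_neg, exp_pow', ← exp_add, ← exp_zero]
    congr 1
    ring
  have hg0 : g ≠ 0 := by
    intro h
    rw [h, map_zero] at hpg
    exact zero_ne_one hpg
  have hdeg0 : g.intDegree = 0 := by
    have := val_of_pole hX hg0
    rw [hpg, ← exp_zero, exp_inj] at this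
    exact this.symm
  set n : ℕ := g.denom.natDegree with hn
  have hnum : g.num.natDegree = n := by
    unfold RatFunc.intDegree at hdeg0
    omega
  have : Invertible x := invertibleOfNonzero hx0
  have hinv : ⅟x = U := by rw [hU]; exact invOf_eq_inv x
  have hN : Polynomial.aeval U (Polynomial.reflect n g.num) * x ^ n = Polynomial.aeval x g.num := by
    have := Polynomial.eval₂_reflect_mul_pow (algebraMap k K) x n g.num hnum.le
    rw [hinv] at this
    exact this
  have hM : Polynomial.aeval U (Polynomial.reflect n g.denom) * x ^ n =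
      Polynomial.aeval x g.denom := by
    have := Polynomial.eval₂_reflect_mul_pow (algebraMap k K) x n g.denom le_rfl
    rw [hinv] at this
    exact this
  have hgK : algebraMap (RatFunc k) K g =
      Polynomial.aeval U (Polynomial.reflect n g.num) /
        Polynomial.aeval U (Polynomial.reflect n g.denom) := by
    conv_lhs => rw [← RatFunc.num_div_denom g]
    rw [map_div₀, algebraMap_poly_eq_aeval, algebraMap_poly_eq_aeval, ← hN, ← hM,
      mul_div_mul_right _ _ (pow_ne_zero n hx0)]
  have hPU1 : P.1 U < 1 := by rw [hPU, ← exp_zero, exp_lt_exp]; norm_num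
  have hM1 : P.1 (Polynomial.aeval U (Polynomial.reflect n g.denom)) = 1 := by
    apply val_aeval_eq_one P hPU1
    rw [Polynomial.coeff_reflect, Polynomial.revAt_zero, hn, Polynomial.coeff_natDegree]
    exact Polynomial.leadingCoeff_ne_zero.2 g.denom_ne_zero
  obtain ⟨c, hc, hDq⟩ := exists_D_exp_quot ψ P hPU1.le (Polynomial.reflect n g.num)
    (Polynomial.reflect n g.denom) hM1
  have hG : algebraMap (RatFunc k) K f * U ^ d = algebraMap (RatFunc k) K g := by
    rw [hg, map_mul, map_pow, map_inv₀]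
  have hDG : LocRes.D F₀ (ψ (algebraMap (RatFunc k) K g)) = ψ c * LocRes.D F₀ (ψ U) := by
    rw [hgK]; exact hDq
  have hmain := val_D_ram_gen hψ hd heq hy hPU hG hc hDG
  rw [hU, D_exp_inv, map_mul, Valuation.map_neg, map_pow, map_inv₀, hψ.1, hPx, ← exp_neg,
    exp_pow'] at hmain
  have h4 : exp ((2 : ℕ) * (-2 : ℤ)) * exp (-((d : ℤ) - 3)) = exp (-((d : ℤ) + 1)) := by
    rw [← exp_add]
    congr 1
    push_cast
    ring
  rw [← h4] at hmain
  exact mul_left_cancel₀ exp_ne_zero hmain

end localK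

section mainAS

universe u v w

open Groth.Agent.Lib.Helper88.TG Groth.Agent.Lib.Helper88.Hyp Polynomial

variable {k : Type u} {K : Type v} [Field k] [Field K] [Algebra k K] [Algebra (RatFunc k) K]
  [IsScalarTower k (RatFunc k) K]
variable {F : Place k K → Type w} [∀ P, Field (F P)] [∀ P, Algebra k (F P)]
  [∀ P, FiniteDimensional k (F P)]
variable {φ : ∀ P : Place k K, K →ₐ[k] (F P)⸨X⸩}

/-- **Regular differentials of a general Artin–Schreier curve** `y² + y = f(x)` over a perfect field
of characteristic two, all poles of `f` of odd order: `x^i dx / q(x)`, `i < g`, are regular and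
every regular `z dx` has `z = a(x)/q(x)` with `deg a < g`. -/
theorem AS_regular_differentials_general [PerfectField k] [CharP k 2] (hK : IsFunctionField k K)
    (hdeg : Module.finrank (RatFunc k) K = 2) [Algebra.IsSeparable (RatFunc k) K]
    {y : K} (hy : y ∉ Set.range (algebraMap (RatFunc k) K)) {f : RatFunc k}
    (heq : y ^ 2 + y = algebraMap (RatFunc k) K f)
    (hodd : ∀ p : FunFld.Place k (RatFunc k), 1 < p.1 f → Odd (p.ord f))
    {q : k[X]} (hq0 : q ≠ 0)
    (hq : ∀ p : FunFld.Place k (RatFunc k), p.1 RatFunc.X ≤ 1 →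
      p.ord (algebraMap k[X] (RatFunc k) q) = if 1 < p.1 f then (1 - p.ord f) / 2 else 0)
    (hφ : ∀ P, LocRes.IsExpansionAt P.1 (φ P)) :
    (∀ i : ℕ, i < genus k K → ∀ P,
      LocRes.vDiff (φ P) (algebraMap (RatFunc k) K (RatFunc.X ^ i / algebraMap k[X] (RatFunc k) q))
        (algebraMap (RatFunc k) K RatFunc.X) ≤ 1) ∧
    ∀ z : K, (∀ P, LocRes.vDiff (φ P) z (algebraMap (RatFunc k) K RatFunc.X) ≤ 1) →
      ∃ a : k[X], a.degree < (genus k K : WithBot ℕ) ∧
        z = algebraMap (RatFunc k) K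
          (algebraMap k[X] (RatFunc k) a / algebraMap k[X] (RatFunc k) q) := by
  classical
  have hF : IsFunctionField k (RatFunc k) := isFunctionField_ratFunc k
  have : FiniteDimensional (RatFunc k) K := Module.finite_of_finrank_pos (by rw [hdeg]; norm_num)
  have : Algebra.IsAlgebraic (RatFunc k) K := Algebra.IsAlgebraic.of_finite _ _
  set x : K := algebraMap (RatFunc k) K RatFunc.X with hx
  set qF : RatFunc k := algebraMap k[X] (RatFunc k) q with hqF
  have hqF0 : qF ≠ 0 := by
    rw [hqF]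
    exact (map_ne_zero_iff _ (RatFunc.algebraMap_injective k)).2 hq0
  -- the place at infinity
  have hXk : (RatFunc.X : RatFunc k) ∉ Set.range (algebraMap k (RatFunc k)) :=
    not_mem_range_of_transcendental RatFunc.transcendental_X
  obtain ⟨pinf, hpinf⟩ := exists_pole hF hXk
  have hpinfX : 1 < pinf.1 RatFunc.X := (one_lt_val_iff pinf RatFunc.X_ne_zero).2 hpinf
  have hpole_iff : ∀ p : Place k (RatFunc k), 1 < p.1 f ↔ p.ord f < 0 := by
    intro p
    rcases eq_or_ne f 0 with rfl | hf0
    · rw [map_zero, ord_zero]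
      constructor
      · intro h; exact absurd h (not_lt.2 zero_le)
      · intro h; exact absurd h (lt_irrefl _)
    · exact one_lt_val_iff p hf0
  -- the divisor `D₀`
  set dinf : ℤ := if 1 < pinf.1 f then (1 - pinf.ord f) / 2 else 0 with hdinf
  set D₀ : Divisor k (RatFunc k) :=
    FunFld.div k qF + Finsupp.single pinf ((q.natDegree : ℤ) + dinf) with hD₀
  have hD₀fin : ∀ p : Place k (RatFunc k), p.1 RatFunc.X ≤ 1 →
      D₀ p = if 1 < p.1 f then (1 - p.ord f) / 2 else 0 := by
    intro p hp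
    have hne : pinf ≠ p := by
      rintro rfl
      exact absurd hp (not_le.2 hpinfX)
    rw [hD₀, Finsupp.add_apply, Finsupp.single_eq_of_ne hne.symm, add_zero, div_apply hF, hq p hp]
  have hD₀inf : D₀ pinf = dinf := by
    rw [hD₀, Finsupp.add_apply, Finsupp.single_eq_same, div_apply hF, hqF,
      ord_poly_of_pole hpinf hq0]
    ring
  have hD₀all : ∀ p : Place k (RatFunc k),
      D₀ p = if 1 < p.1 f then (1 - p.ord f) / 2 else 0 := by
    intro p
    by_cases hp : p.1 RatFunc.X ≤ 1
    · exact hD₀fin p hp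
    · rw [not_le] at hp
      have : p = pinf := place_eq_of_pole hp hpinfX
      rw [this, hD₀inf]
  have hpole' : ∀ p : Place k (RatFunc k), p.ord f < 0 → p.ord f = 1 - 2 * D₀ p := by
    intro p hp
    have hp1 := (hpole_iff p).2 hp
    rw [hD₀all p, if_pos hp1]
    obtain ⟨m, hm⟩ := hodd p hp1
    rw [hm]
    omega
  have hreg' : ∀ p : Place k (RatFunc k), 0 ≤ p.ord f → D₀ p = 0 := by
    intro p hp
    have hp1 : ¬ 1 < p.1 f := fun h => absurd ((hpole_iff p).1 h) (not_lt.2 hp)
    rw [hD₀all p, if_neg hp1]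
  have hgenus : (genus k K : ℤ) = (q.natDegree : ℤ) + dinf - 1 := by
    rw [AS_genus hK hdeg hy heq D₀ hpole' hreg', hD₀, deg_add, deg_div hF, deg_single,
      deg_of_pole hpinf]
    push_cast
    ring
  -- local data at a pole of `f`
  have hpoledata : ∀ p : Place k (RatFunc k), 1 < p.1 f →
      ∃ d : ℕ, Odd d ∧ p.ord f = -(d : ℤ) ∧ (1 - p.ord f) / 2 = ((d : ℤ) + 1) / 2 ∧
        2 * (((d : ℤ) + 1) / 2) = (d : ℤ) + 1 := by
    intro p hp
    have h1 := (hpole_iff p).1 hp
    obtain ⟨m, hm⟩ := hodd p hp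
    refine ⟨(-p.ord f).toNat, ?_, ?_, ?_, ?_⟩
    · rw [← Int.odd_coe_nat, Int.toNat_of_nonneg (by omega)]
      exact ⟨-m - 1, by rw [hm]; ring⟩
    · rw [Int.toNat_of_nonneg (by omega)]; ring
    · rw [Int.toNat_of_nonneg (by omega)]
      congr 1
      ring
    · rw [Int.toNat_of_nonneg (by omega), hm]
      omega
  -- first part
  have hzi : ∀ i : ℕ, algebraMap (RatFunc k) K (RatFunc.X ^ i / qF) =
      algebraMap (RatFunc k) K (RatFunc.X ^ i / qF) := fun _ => rfl
  have part1 : ∀ i : ℕ, i < genus k K → ∀ P,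
      LocRes.vDiff (φ P) (algebraMap (RatFunc k) K (RatFunc.X ^ i / qF)) x ≤ 1 := by
    intro i hi P
    have hi' : (i : ℤ) + 1 ≤ (q.natDegree : ℤ) + dinf - 1 := by
      rw [← hgenus]
      exact_mod_cast hi
    obtain ⟨p, e, he⟩ := exists_isOver_below (K := RatFunc k) P
    unfold LocRes.vDiff
    rw [map_mul, (hφ P).1, he, map_div₀, map_pow]
    by_cases hX : p.1 RatFunc.X ≤ 1
    · -- finite places
      have hxP : P.1 x ≤ 1 := (isOverWith_val_le_one_iff he RatFunc.X).2 hX
      have hXi : p.1 RatFunc.X ^ i ≤ 1 := pow_le_one' hX i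
      by_cases hpf : 1 < p.1 f
      · obtain ⟨d, hd, hord, hd1, hd2⟩ := hpoledata p hpf
        obtain ⟨he2, hyP, -⟩ := AS_ram hdeg hy heq hd hord ⟨e, he⟩
        have he' : e = 2 := isOverWith_unique he he2
        have hqv : p.1 qF = exp (-(((d : ℤ) + 1) / 2)) := by
          rw [val_eq_exp_neg_ord p hqF0, hq p hX, if_pos hpf, hd1]
        rw [val_D_exp_ram_finite he2 (hφ P) hX heq hd hord hyP, hqv, he']
        calc (p.1 RatFunc.X ^ i / exp (-(((d : ℤ) + 1) / 2))) ^ 2 * exp (-((d : ℤ) + 1))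
            ≤ (1 / exp (-(((d : ℤ) + 1) / 2))) ^ 2 * exp (-((d : ℤ) + 1)) := by
              apply mul_le_mul' _ le_rfl
              apply pow_le_pow_left₀ zero_le
              exact div_le_div_of_nonneg_right hXi zero_le
          _ = 1 := by
              rw [one_div, ← exp_neg, neg_neg, exp_pow', ← exp_add, ← exp_zero]
              congr 1
              push_cast
              rw [hd2]
              ring
      · have hqv : p.1 qF = 1 := by
          rw [val_eq_exp_neg_ord p hqF0, hq p hX, if_neg hpf, neg_zero, exp_zero]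
        rw [hqv, div_one]
        have h1 : Valued.v (LocRes.D (F P) (φ P x)) ≤ 1 := val_D_exp_le_one (hφ P) hxP
        calc (p.1 RatFunc.X ^ i) ^ e * Valued.v (LocRes.D (F P) (φ P x)) ≤ 1 * 1 :=
              mul_le_mul' (pow_le_one' hXi e) h1
          _ = 1 := one_mul _
    · -- the places above infinity
      rw [not_le] at hX
      have hpeq : p = pinf := place_eq_of_pole hX hpinfX
      have hpX : p.1 RatFunc.X = exp (1 : ℤ) := val_X_of_pole hX
      have hqv : p.1 qF = exp (q.natDegree : ℤ) := by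
        rw [val_of_pole hX hqF0, hqF, RatFunc.intDegree_polynomial]
      rw [hpX, hqv, exp_pow', ← exp_sub, exp_pow']
      by_cases hpf : 1 < p.1 f
      · obtain ⟨d, hd, hord, hd1, hd2⟩ := hpoledata p hpf
        obtain ⟨he2, hyP, -⟩ := AS_ram hdeg hy heq hd hord ⟨e, he⟩
        have he' : e = 2 := isOverWith_unique he he2
        rw [val_D_exp_ram_infinite he2 (hφ P) hX heq hd hord hyP, he', ← exp_add, ← exp_zero,
          exp_le_exp]
        have hdinf' : dinf = ((d : ℤ) + 1) / 2 := by
          rw [hdinf, ← hpeq, if_pos hpf, hd1]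
        rw [hdinf'] at hi'
        push_cast
        linarith
      · have hpf' : p.1 f ≤ 1 := not_lt.1 hpf
        obtain ⟨he1, -⟩ := AS_unram hdeg hy heq hpf' ⟨e, he⟩
        have he' : e = 1 := isOverWith_unique he he1
        have hPx : P.1 x = exp (1 : ℤ) := by rw [hx, he1, pow_one, hpX]
        rw [val_D_exp_of_pole (hφ P) hPx, he', ← exp_add, ← exp_zero, exp_le_exp]
        have hdinf' : dinf = 0 := by
          rw [hdinf, ← hpeq, if_neg hpf]
        rw [hdinf'] at hi'
        push_cast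
        linarith
  refine ⟨part1, ?_⟩
  -- second part: dimension count
  have : Algebra.IsSeparable (IntermediateField.adjoin k ({x} : Set K)) K := isSeparable_adjoin_X
  have hdg : DiffGen k K := diffGen_of_separable x
  have htr : Transcendental k x := transcendental_algebraMap_X
  have hv : KaehlerDifferential.D k K x ≠ 0 := by
    obtain ⟨P₀⟩ := exists_place hK
    obtain ⟨t, ht⟩ := (hφ P₀).2.2
    have hDt := D_exp_uniformizer_ne_zero (hφ P₀) ht
    have hvt : LocRes.vDiff (φ P₀) 1 t ≠ 0 := by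
      unfold LocRes.vDiff
      rw [map_one, one_mul, ne_eq, map_eq_zero]
      exact hDt
    have hdt := kaehler_D_ne_zero_of_vDiff_ne_zero (φ P₀) hvt
    obtain ⟨c, hc⟩ := kaehler_eq_smul_of_separable x (KaehlerDifferential.D k K t)
    intro h0
    rw [h0, smul_zero] at hc
    exact hdt hc
  obtain ⟨Cd, -, hCcan, hCv⟩ := exists_canonical_ordDiff' hK hφ hdg hv
  have hLC : ∀ z : K, z ∈ L Cd ↔ ∀ P, LocRes.vDiff (φ P) z x ≤ 1 := by
    intro z
    have h0 : z ∈ L Cd ↔ ∀ P : Place k K, P.1 z ≤ exp (Cd P) := Iff.rfl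
    rw [h0]
    refine forall_congr' fun P => ?_
    rw [hCv z P, exp_neg, mul_inv_le_iff₀ exp_pos, one_mul]
  have hell : ell Cd = genus k K := ((isCanonical_iff hK Cd).1 hCcan).1
  set g := genus k K with hgdef
  have hqx0 : aeval x q ≠ 0 := by
    rw [← algebraMap_poly_eq_aeval]
    exact (_root_.map_ne_zero _).2 hqF0
  let V := degreeLT k g
  let Θ₀ : V →ₗ[k] K :=
    (LinearMap.mulRight k (aeval x q)⁻¹).comp ((aeval x).toLinearMap.comp V.subtype)
  have hΘ₀ : ∀ a : V, Θ₀ a = aeval x a.1 / aeval x q := fun a => by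
    simp [Θ₀, div_eq_mul_inv]
  have hxi : ∀ i : ℕ, x ^ i / aeval x q = algebraMap (RatFunc k) K (RatFunc.X ^ i / qF) := by
    intro i
    rw [map_div₀, map_pow, hqF, algebraMap_poly_eq_aeval]
  have hΘL : ∀ a : V, Θ₀ a ∈ L Cd := by
    intro a
    rw [hΘ₀]
    have ha := a.2
    rw [mem_degreeLT] at ha
    have hn : a.1.natDegree < g ∨ a.1 = 0 := by
      by_cases h0 : a.1 = 0
      · exact Or.inr h0
      · exact Or.inl ((natDegree_lt_iff_degree_lt h0).2 ha)
    rcases hn with hn | hn
    · rw [aeval_eq_sum_range' hn, div_eq_mul_inv, Finset.sum_mul]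
      refine Submodule.sum_mem _ fun i hi => ?_
      rw [smul_mul_assoc, ← div_eq_mul_inv]
      refine Submodule.smul_mem _ _ ?_
      rw [hLC, hxi]
      exact part1 i (Finset.mem_range.1 hi)
    · rw [hn, map_zero, zero_div]
      exact Submodule.zero_mem _
  let Θ : V →ₗ[k] L Cd := Θ₀.codRestrict _ hΘL
  have hinj : Function.Injective Θ := by
    rw [← LinearMap.ker_eq_bot, LinearMap.ker_eq_bot']
    intro a ha
    have h0 : Θ₀ a = 0 := congrArg Subtype.val ha
    rw [hΘ₀, div_eq_zero_iff] at h0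
    rcases h0 with h0 | h0
    · exact Subtype.ext ((transcendental_iff.1 htr) a.1 h0)
    · exact absurd h0 hqx0
  have hV : Module.finrank k V = g := by
    rw [(degreeLTEquiv k g).finrank_eq, Module.finrank_fin_fun]
  have : Module.Finite k V := Module.Finite.equiv (degreeLTEquiv k g).symm
  have : FiniteDimensional k (L Cd) := finiteDimensional_L hK Cd
  have hsurj : Function.Surjective Θ :=
    (LinearMap.injective_iff_surjective_of_finrank_eq_finrank (by rw [hV]; exact hell.symm)).1 hinj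
  intro z hz
  obtain ⟨a, ha⟩ := hsurj ⟨z, (hLC z).2 hz⟩
  refine ⟨a.1, mem_degreeLT.1 a.2, ?_⟩
  have h1 : Θ₀ a = z := congrArg Subtype.val ha
  rw [← h1, hΘ₀, map_div₀, algebraMap_poly_eq_aeval, algebraMap_poly_eq_aeval]

end mainAS

end Groth.Agent.Lib.Helper44.FFExt
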