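/-
The adjoint divisor `Δ(φ) = (e-3)[φ] - [dx/f̂_y]` of a plane map is invariant under projective
changes of coordinates (S12616).
Author: helper44
-/
import Groth.Agent.Lib.Helper83.PlaneCoord
import Groth.Agent.Lib.Helper88.ResCanonical
import Groth.Agent.Lib.Helper88.FunFldDeg
import Groth.Agent.Lib.Helper44.FunFldMapDiv

set_option autoImplicit false

namespace Groth.Agent.Lib.Helper44.FFExt

open FunFld WithZero
open Groth.Agent.Lib.Helper88.FF

section adjoint

variable {k K : Type*} [Field k] [Field K] [Algebra k K]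

lemma exp_max' (m n : ℤ) : (exp (max m n) : ℤᵐ⁰) = max (exp m) (exp n) :=
  Monotone.map_max (fun _ _ h => exp_le_exp.2 h)

lemma max_one_exp_log (α : ℤᵐ⁰) : max 1 (exp (log α)) = max 1 α := by
  by_cases h : α = 0
  · rw [h, log_zero, exp_zero, max_self]
    exact (max_eq_left zero_le_one).symm
  · rw [exp_log h]

/-- `exp` of the coefficient of `mapDiv (1 : x : y)` at `P` is `max (1, |x|_P, |y|_P)`. -/
theorem exp_mapDiv_one (hK : IsFunctionField k K) (x y : K) (P : Place k K) :
    (exp (mapDiv k ![(1 : K), x, y] P) : ℤᵐ⁰) = max 1 (max (P.1 x) (P.1 y)) := by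
  rw [mapDiv_apply hK]
  have h1 : Finset.univ.inf' Finset.univ_nonempty (fun i => P.ord (![(1 : K), x, y] i)) =
      min (P.ord 1) (min (P.ord x) (P.ord y)) := by
    apply le_antisymm
    · refine le_min (Finset.inf'_le _ (Finset.mem_univ (0 : Fin 3)))
        (le_min (Finset.inf'_le _ (Finset.mem_univ (1 : Fin 3)))
          (Finset.inf'_le _ (Finset.mem_univ (2 : Fin 3))))
    · rw [Finset.le_inf'_iff]
      intro i _
      fin_cases i
      · exact min_le_left _ _
      · exact (min_le_right _ _).trans (min_le_left _ _)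
      · exact (min_le_right _ _).trans (min_le_right _ _)
  rw [h1, ord_one]
  have h2 : -min (0 : ℤ) (min (P.ord x) (P.ord y)) = max 0 (max (-P.ord x) (-P.ord y)) := by omega
  rw [h2, exp_max', exp_max', exp_zero]
  unfold Place.ord
  rw [neg_neg, neg_neg]
  have hd : ∀ a b c : ℤᵐ⁰, max a (max b c) = max (max a b) (max a c) :=
    fun a b c => sup_sup_distrib_left a b c
  rw [hd, max_one_exp_log, max_one_exp_log, ← hd]

/-- Valuation of a `k`-linear combination. -/
lemma val_sum_le (P : Place k K) (a : Fin 3 → k) (u : Fin 3 → K) (M : ℤᵐ⁰)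
    (hM : ∀ j, P.1 (u j) ≤ M) : P.1 (∑ j, algebraMap k K (a j) * u j) ≤ M := by
  apply Valuation.map_sum_le
  intro j _
  rw [map_mul]
  calc P.1 (algebraMap k K (a j)) * P.1 (u j) ≤ 1 * M := mul_le_mul' (P.2.1 (a j)) (hM j)
    _ = M := one_mul M

/-- Inverting a linear relation `X = A u` over `k`. -/
lemma inv_relation {A : Matrix (Fin 3) (Fin 3) k} (hA : A.det ≠ 0) {u X : Fin 3 → K}
    (hu : ∀ i, ∑ j, algebraMap k K (A i j) * u j = X i) (j : Fin 3) :
    ∑ i, algebraMap k K (A⁻¹ j i) * X i = u j := by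
  have hBA : A⁻¹ * A = 1 := Matrix.nonsing_inv_mul A (isUnit_iff_ne_zero.2 hA)
  calc ∑ i, algebraMap k K (A⁻¹ j i) * X i
      = ∑ i, algebraMap k K (A⁻¹ j i) * ∑ l, algebraMap k K (A i l) * u l := by
        simp only [hu]
    _ = ∑ l, (∑ i, algebraMap k K (A⁻¹ j i * A i l)) * u l := by
        simp only [Finset.mul_sum, Finset.sum_mul, map_mul]
        rw [Finset.sum_comm]
        apply Finset.sum_congr rfl
        intro l _
        apply Finset.sum_congr rfl
        intro i _
        ring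
    _ = ∑ l, algebraMap k K ((A⁻¹ * A) j l) * u l := by
        simp only [Matrix.mul_apply, map_sum]
    _ = u j := by
        rw [hBA]
        simp [Matrix.one_apply]

/-- The maximum of the valuations of three elements. -/
noncomputable def m3 (P : Place k K) (v : Fin 3 → K) : ℤᵐ⁰ :=
  max (P.1 (v 0)) (max (P.1 (v 1)) (P.1 (v 2)))

lemma le_m3 (P : Place k K) (v : Fin 3 → K) (j : Fin 3) : P.1 (v j) ≤ m3 P v := by
  unfold m3
  fin_cases j
  · exact le_max_left _ _
  · exact (le_max_left _ _).trans (le_max_right _ _)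
  · exact (le_max_right _ _).trans (le_max_right _ _)

lemma m3_le (P : Place k K) (v : Fin 3 → K) (M : ℤᵐ⁰) (h : ∀ j, P.1 (v j) ≤ M) : m3 P v ≤ M :=
  max_le (h 0) (max_le (h 1) (h 2))

lemma m3_eq_of_relation (P : Place k K) {A : Matrix (Fin 3) (Fin 3) k} (hA : A.det ≠ 0)
    {u X : Fin 3 → K} (hu : ∀ i, ∑ j, algebraMap k K (A i j) * u j = X i) :
    m3 P X = m3 P u := by
  apply le_antisymm
  · apply m3_le
    intro i
    rw [← hu i]
    exact val_sum_le P (A i) u _ (le_m3 P u)
  · apply m3_le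
    intro j
    rw [← inv_relation hA hu j]
    exact val_sum_le P (A⁻¹ j) X _ (le_m3 P X)

lemma m3_mul (P : Place k K) (c : K) (v : Fin 3 → K) :
    m3 P (fun j => c * v j) = P.1 c * m3 P v := by
  unfold m3
  simp only [map_mul]
  rw [max_mul_mul_left, max_mul_mul_left]

/-- **Transformation of the divisor of the map** under `(1, x, y)ᵗ = A u`,
`(1, x', y') = u / u₀`. -/
theorem mapDiv_change (hK : IsFunctionField k K) {A : Matrix (Fin 3) (Fin 3) k}
    (hA : A.det ≠ 0) {x y : K} {u : Fin 3 → K}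
    (hu : ∀ i, ∑ j, algebraMap k K (A i j) * u j = ![(1 : K), x, y] i) (hu0 : u 0 ≠ 0) :
    mapDiv k ![(1 : K), x, y] = mapDiv k ![(1 : K), u 1 / u 0, u 2 / u 0] - FunFld.div k (u 0) := by
  ext P
  rw [Finsupp.sub_apply, div_apply hK]
  have h1 := exp_mapDiv_one hK x y P
  have h2 := exp_mapDiv_one hK (u 1 / u 0) (u 2 / u 0) P
  have h3 : m3 P ![(1 : K), x, y] = m3 P u := m3_eq_of_relation P hA hu
  have h4 : m3 P u = P.1 (u 0) * m3 P ![(1 : K), u 1 / u 0, u 2 / u 0] := by
    rw [← m3_mul]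
    congr 1
    funext j
    fin_cases j
    · simp
    · simp only [Fin.mk_one, Fin.isValue, Matrix.cons_val_one, Matrix.cons_val_zero]
      field_simp
    · simp only [Fin.reduceFinMk, Fin.isValue, Matrix.cons_val]
      field_simp
  have h5 : m3 P ![(1 : K), x, y] = max 1 (max (P.1 x) (P.1 y)) := by
    unfold m3
    simp
  have h6 : m3 P ![(1 : K), u 1 / u 0, u 2 / u 0] =
      max 1 (max (P.1 (u 1 / u 0)) (P.1 (u 2 / u 0))) := by
    unfold m3
    simp
  rw [← h5, h3, h4, h6, ← h2, val_eq_exp_neg_ord P hu0, ← exp_add] at h1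
  have := exp_injective h1
  linarith

end adjoint

section diff

universe u v
variable {k : Type u} {K : Type v} [Field k] [Field K] [Algebra k K]

open LaurentSeries Groth.Agent.Lib.Helper88.TG

/-- The order of a differential read through an expansion only depends on the differential. -/
lemma vDiff_eq_of_smul_D_eq {F : Type*} [Field F] [Algebra k F] (φ : K →ₐ[k] LaurentSeries F)
    {g x g' x' : K}
    (h : g • KaehlerDifferential.D k K x = g' • KaehlerDifferential.D k K x') :
    LocRes.vDiff φ g x = LocRes.vDiff φ g' x' := by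
  let _i := φ.toRingHom.toAlgebra
  have _t : IsScalarTower k K (LaurentSeries F) := LocRes.isScalarTower_exp φ
  have h1 := congrArg (LocRes.dExp φ).liftKaehlerDifferential h
  simp only [map_smul, Derivation.liftKaehlerDifferential_comp_D] at h1
  unfold LocRes.vDiff
  exact congrArg Valued.v h1

/-- Orders of differentials: `ord (a u dv) = ord a + ord (u dv)`. -/
lemma ordDiff_mul_left {F : Type*} [Field F] [Algebra k F] {P : Place k K}
    {φ : K →ₐ[k] LaurentSeries F} (hφ : LocRes.IsExpansionAt P.1 φ) {a u v : K} (ha : a ≠ 0)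
    (h : LocRes.vDiff φ u v ≠ 0) :
    LocRes.ordDiff φ (a * u) v = P.ord a + LocRes.ordDiff φ u v := by
  unfold LocRes.ordDiff Place.ord
  have h1 : LocRes.vDiff φ (a * u) v = P.1 a * LocRes.vDiff φ u v := by
    unfold LocRes.vDiff
    rw [map_mul φ, mul_assoc, Valuation.map_mul, hφ.1]
  rw [h1, log_mul ((Valuation.ne_zero_iff _).2 ha) h]
  ring

/-- **S12616**: the adjoint divisor is invariant under projective coordinate changes. -/
theorem adjoint_change [IsAlgClosed k] (hK : IsFunctionField k K)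
    (f : MvPolynomial (Fin 3) k) (e : ℕ) (hf : f.IsHomogeneous e)
    (x y : K) (hfxy : MvPolynomial.aeval ![(1 : K), x, y] f = 0)
    (hdx : KaehlerDifferential.D k K x ≠ 0)
    (he : (mapDiv k ![(1 : K), x, y]).deg = e)
    (A : Matrix (Fin 3) (Fin 3) k) (hA : A.det ≠ 0)
    (u : Fin 3 → K) (hu : ∀ i, ∑ j, algebraMap k K (A i j) * u j = ![(1 : K), x, y] i)
    (hu0 : u 0 ≠ 0)
    (hfy : (MvPolynomial.aeval ![(1 : K), x, y] (MvPolynomial.pderiv 2 f)) ≠ 0)
    (hfy' : (MvPolynomial.aeval ![(1 : K), u 1 / u 0, u 2 / u 0] (MvPolynomial.pderiv 2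
      (MvPolynomial.aeval (fun i : Fin 3 => ∑ j, MvPolynomial.C (A i j) * MvPolynomial.X j) f)))
        ≠ 0)
    (Φ : Place k K → (K →ₐ[k] LaurentSeries k))
    (hΦ : ∀ P : Place k K, LocRes.IsExpansionAt P.1 (Φ P)) :
    ((mapDiv k ![(1 : K), x, y]).deg - 3) • mapDiv k ![(1 : K), x, y] -
        divDiff Φ (MvPolynomial.aeval ![(1 : K), x, y] (MvPolynomial.pderiv 2 f))⁻¹ x =
      ((mapDiv k ![(1 : K), u 1 / u 0, u 2 / u 0]).deg - 3) •
          mapDiv k ![(1 : K), u 1 / u 0, u 2 / u 0] -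
        divDiff Φ (MvPolynomial.aeval ![(1 : K), u 1 / u 0, u 2 / u 0] (MvPolynomial.pderiv 2
          (MvPolynomial.aeval (fun i : Fin 3 => ∑ j, MvPolynomial.C (A i j) * MvPolynomial.X j)
            f)))⁻¹ (u 1 / u 0) := by
  classical
  have hg : IsGeometric k K := isGeometric_of_isAlgClosed
  set g : K := (MvPolynomial.aeval ![(1 : K), x, y] (MvPolynomial.pderiv 2 f))⁻¹ with hgdef
  set g' : K := (MvPolynomial.aeval ![(1 : K), u 1 / u 0, u 2 / u 0] (MvPolynomial.pderiv 2
      (MvPolynomial.aeval (fun i : Fin 3 => ∑ j, MvPolynomial.C (A i j) * MvPolynomial.X j)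
        f)))⁻¹ with hg'def
  have hg0 : g ≠ 0 := inv_ne_zero hfy
  have hg'0 : g' ≠ 0 := inv_ne_zero hfy'
  have hid := Groth.Agent.Lib.Helper83.PlaneCoord.main k K f e hf x y hfxy A u hu hu0 hfy hfy'
  rw [← hgdef, ← hg'def] at hid
  set c : K := algebraMap k K A.det with hcdef
  set w : K := (u 0)⁻¹ ^ ((e : ℤ) - 3) with hwdef
  have hc0 : c ≠ 0 := (_root_.map_ne_zero (algebraMap k K)).2 hA
  have hw0 : w ≠ 0 := zpow_ne_zero _ (inv_ne_zero hu0)
  have hdx' : KaehlerDifferential.D k K (u 1 / u 0) ≠ 0 := by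
    intro h0
    rw [h0, smul_zero] at hid
    exact hdx ((smul_eq_zero.1 hid).resolve_left hg0)
  have hM := mapDiv_change hK hA hu hu0
  have hdeg : (mapDiv k ![(1 : K), u 1 / u 0, u 2 / u 0]).deg = e := by
    rw [← he, hM, deg_sub, deg_div hK, sub_zero]
  rw [he, hdeg]
  obtain ⟨-, hdd1⟩ := isCanonical_divDiff hK Φ hΦ hg0 hdx
  obtain ⟨-, hdd2⟩ := isCanonical_divDiff hK Φ hΦ hg'0 hdx'
  ext P
  rw [Finsupp.sub_apply, Finsupp.sub_apply, Finsupp.smul_apply, Finsupp.smul_apply,
    hdd1 P, hdd2 P, hM, Finsupp.sub_apply, div_apply hK]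
  have h1 : LocRes.ordDiff (Φ P) g x = LocRes.ordDiff (Φ P) (c * w * g') (u 1 / u 0) := by
    unfold LocRes.ordDiff
    rw [vDiff_eq_of_smul_D_eq (Φ P) hid]
  have h2 : LocRes.ordDiff (Φ P) (c * w * g') (u 1 / u 0) =
      P.ord (c * w) + LocRes.ordDiff (Φ P) g' (u 1 / u 0) :=
    ordDiff_mul_left (hΦ P) (mul_ne_zero hc0 hw0) (vDiff_ne_zero hK hg (hΦ P) hg'0 hdx')
  have h3 : P.ord (c * w) = -(((e : ℤ) - 3) * P.ord (u 0)) := by
    rw [ord_mul P hc0 hw0, hcdef, ord_algebraMap, zero_add, hwdef, ord_zpow, ord_inv]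
    ring
  rw [h1, h2, h3]
  simp only [smul_eq_mul]
  ring

end diff

end Groth.Agent.Lib.Helper44.FFExt
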