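/-
Towers of constant field extensions of function fields: nonsingularity of a place with respect to
`k''` versus `k'` and the places above (S12534).
Author: helper44
-/
import Groth.Agent.Lib.Helper34.FunFldNonsing3
import Groth.Agent.Lib.Helper88.FunFldApprox
import Groth.Agent.Lib.Helper44.FunFldExt2
import Groth.Agent.S11006

set_option autoImplicit false
set_option linter.unusedSectionVars false
set_option linter.style.haveILetI false

namespace Groth.Agent.Lib.Helper44.FFExt

open FunFld WithZero
open Groth.Agent.Lib.Helper88.FF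
open scoped TensorProduct

section coords

variable {R R' S S' : Type*} [Field R] [Field R'] [Field S] [Field S'] [Algebra R R'] [Algebra R S]
  [Algebra S S'] [Algebra R' S'] [Algebra R S'] [IsScalarTower R R' S'] [IsScalarTower R S S']

/-- Coordinates of an element of `S' = R' ⊗_R S` with respect to an `R`-basis of `R'`. -/
theorem exists_coords
    (h : Function.Surjective (Algebra.TensorProduct.productMap
      (IsScalarTower.toAlgHom R R' S') (IsScalarTower.toAlgHom R S S')))
    {m : ℕ} (w : Module.Basis (Fin m) R R') (z : S') :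
    ∃ c : Fin m → S, z = ∑ i, algebraMap S S' (c i) * algebraMap R' S' (w i) := by
  obtain ⟨τ, rfl⟩ := h z
  induction τ using TensorProduct.induction_on with
  | zero => exact ⟨fun _ => 0, by simp⟩
  | tmul a b =>
    refine ⟨fun i => (w.repr a i) • b, ?_⟩
    rw [Algebra.TensorProduct.productMap_apply_tmul]
    show algebraMap R' S' a * algebraMap S S' b = _
    conv_lhs => rw [← w.sum_repr a]
    rw [map_sum, Finset.sum_mul]
    apply Finset.sum_congr rfl
    intro i _
    show algebraMap R' S' ((w.repr a i) • w i) * algebraMap S S' b =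
      algebraMap S S' ((w.repr a i) • b) * algebraMap R' S' (w i)
    rw [Algebra.smul_def, Algebra.smul_def, map_mul, map_mul,
      ← IsScalarTower.algebraMap_apply R R' S', ← IsScalarTower.algebraMap_apply R S S']
    ring
  | add x y hx hy =>
    obtain ⟨c, hc⟩ := hx
    obtain ⟨d, hd⟩ := hy
    refine ⟨fun i => c i + d i, ?_⟩
    rw [map_add, hc, hd, ← Finset.sum_add_distrib]
    apply Finset.sum_congr rfl
    intro i _
    rw [map_add]
    ring

/-- Uniqueness of the coordinates. -/
theorem coords_unique
    (h : Function.Injective (Algebra.TensorProduct.productMap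
      (IsScalarTower.toAlgHom R R' S') (IsScalarTower.toAlgHom R S S')))
    {m : ℕ} (w : Module.Basis (Fin m) R R') (c : Fin m → S)
    (hc : ∑ i, algebraMap S S' (c i) * algebraMap R' S' (w i) = 0) : ∀ i, c i = 0 := by
  classical
  have h1 : Algebra.TensorProduct.productMap
      (IsScalarTower.toAlgHom R R' S') (IsScalarTower.toAlgHom R S S')
        (∑ i, w i ⊗ₜ[R] c i) = 0 := by
    rw [map_sum, ← hc]
    apply Finset.sum_congr rfl
    intro i _
    rw [Algebra.TensorProduct.productMap_apply_tmul]
    show algebraMap R' S' (w i) * algebraMap S S' (c i) = _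
    ring
  have h2 : ∑ i, w i ⊗ₜ[R] c i = 0 := h (by rw [h1, map_zero])
  intro j
  have h3 := congrArg (fun τ => TensorProduct.lid R S (LinearMap.rTensor S (w.coord j) τ)) h2
  simp only [map_sum, LinearMap.rTensor_tmul, TensorProduct.lid_tmul, map_zero,
    Module.Basis.coord_apply, Module.Basis.repr_self, Finsupp.single_apply] at h3
  simpa using h3

end coords

section G

variable {R R' S S' : Type*} [Field R] [Field R'] [Field S] [Field S'] [Algebra R R'] [Algebra R S]
  [Algebra S S'] [Algebra R' S'] [Algebra R S'] [IsScalarTower R R' S'] [IsScalarTower R S S']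

/-- The set of elements of `S'` with coordinates in a subring `A` of `S`. -/
def coordSet {m : ℕ} (w : Module.Basis (Fin m) R R') (A : Subring S) : Set S' :=
  {z | ∃ c : Fin m → S, (∀ i, c i ∈ A) ∧
    z = ∑ i, algebraMap S S' (c i) * algebraMap R' S' (w i)}

variable {m : ℕ} (w : Module.Basis (Fin m) R R') (A : Subring S)

lemma coordSet_zero : (0 : S') ∈ coordSet (S := S) (S' := S') w A :=
  ⟨fun _ => 0, fun _ => A.zero_mem, by simp⟩

lemma coordSet_add {z z' : S'} (hz : z ∈ coordSet w A) (hz' : z' ∈ coordSet w A) :
    z + z' ∈ coordSet w A := by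
  obtain ⟨c, hc, rfl⟩ := hz
  obtain ⟨d, hd, rfl⟩ := hz'
  refine ⟨fun i => c i + d i, fun i => A.add_mem (hc i) (hd i), ?_⟩
  rw [← Finset.sum_add_distrib]
  apply Finset.sum_congr rfl
  intro i _
  rw [map_add]
  ring

lemma coordSet_neg {z : S'} (hz : z ∈ coordSet w A) : -z ∈ coordSet w A := by
  obtain ⟨c, hc, rfl⟩ := hz
  refine ⟨fun i => -c i, fun i => A.neg_mem (hc i), ?_⟩
  rw [← Finset.sum_neg_distrib]
  apply Finset.sum_congr rfl
  intro i _
  rw [map_neg]
  ring

lemma coordSet_sum {ι : Type*} (s : Finset ι) (f : ι → S') (hf : ∀ i ∈ s, f i ∈ coordSet w A) :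
    ∑ i ∈ s, f i ∈ coordSet w A :=
  Finset.sum_induction f (fun z => z ∈ coordSet w A) (fun _ _ => coordSet_add w A)
    (coordSet_zero w A) hf

lemma coordSet_mul_A {a : S} (ha : a ∈ A) {z : S'} (hz : z ∈ coordSet w A) :
    algebraMap S S' a * z ∈ coordSet w A := by
  obtain ⟨c, hc, rfl⟩ := hz
  refine ⟨fun i => a * c i, fun i => A.mul_mem ha (hc i), ?_⟩
  rw [Finset.mul_sum]
  apply Finset.sum_congr rfl
  intro i _
  rw [map_mul]
  ring

variable (hA : ∀ r : R, algebraMap R S r ∈ A)
include hA

lemma coordSet_const (b : R') : algebraMap R' S' b ∈ coordSet w A := by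
  refine ⟨fun i => algebraMap R S (w.repr b i), fun i => hA _, ?_⟩
  conv_lhs => rw [← w.sum_repr b]
  rw [map_sum]
  apply Finset.sum_congr rfl
  intro i _
  rw [Algebra.smul_def, map_mul, ← IsScalarTower.algebraMap_apply R R' S',
    ← IsScalarTower.algebraMap_apply R S S']

lemma coordSet_mul_const (b : R') {z : S'} (hz : z ∈ coordSet w A) :
    algebraMap R' S' b * z ∈ coordSet w A := by
  obtain ⟨c, hc, rfl⟩ := hz
  rw [Finset.mul_sum]
  apply coordSet_sum
  intro i _
  have h1 : algebraMap R' S' b * (algebraMap S S' (c i) * algebraMap R' S' (w i)) =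
      algebraMap S S' (c i) * algebraMap R' S' (b * w i) := by
    rw [map_mul]
    ring
  rw [h1]
  exact coordSet_mul_A (S' := S') w A (hc i) (coordSet_const (S' := S') w A hA _)

lemma coordSet_mul {z z' : S'} (hz : z ∈ coordSet w A) (hz' : z' ∈ coordSet w A) :
    z * z' ∈ coordSet w A := by
  obtain ⟨c, hc, rfl⟩ := hz
  rw [Finset.sum_mul]
  apply coordSet_sum
  intro i _
  rw [mul_assoc]
  exact coordSet_mul_A (S' := S') w A (hc i) (coordSet_mul_const (S' := S') w A hA _ hz')

/-- The subring generated by the image of `A` and `R'` is the set of elements with coordinates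
in `A`. -/
theorem mem_closure_iff_coordSet (z : S') :
    z ∈ Subring.closure ((algebraMap S S') '' (A : Set S) ∪ Set.range (algebraMap R' S')) ↔
      z ∈ coordSet w A := by
  constructor
  · intro hz
    induction hz using Subring.closure_induction with
    | mem x hx =>
      rcases hx with ⟨a, ha, rfl⟩ | ⟨b, rfl⟩
      · have := coordSet_mul_A (S' := S') w A ha (coordSet_const (S' := S') w A hA 1)
        rwa [map_one, mul_one] at this
      · exact coordSet_const w A hA b
    | zero => exact coordSet_zero w A
    | one =>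
      have := coordSet_const (S := S) (S' := S') w A hA 1
      rwa [map_one] at this
    | add x y _ _ hx hy => exact coordSet_add w A hx hy
    | neg x _ hx => exact coordSet_neg w A hx
    | mul x y _ _ hx hy => exact coordSet_mul w A hA hx hy
  · rintro ⟨c, hc, rfl⟩
    apply Subring.sum_mem
    intro i _
    exact Subring.mul_mem _ (Subring.subset_closure (Or.inl ⟨c i, hc i, rfl⟩))
      (Subring.subset_closure (Or.inr ⟨w i, rfl⟩))

end G

section intlemma

open Polynomial

/-- A root of a monic polynomial with integral coefficients is integral. -/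
lemma isIntegral_of_monic_root {R A B : Type*} [CommRing R] [CommRing A] [CommRing B]
    [Algebra R A] [Algebra A B] [Algebra R B] [IsScalarTower R A B] (p : A[X]) (hp : p.Monic)
    (hc : ∀ i, IsIntegral R (p.coeff i)) (z : B) (hz : eval₂ (algebraMap A B) z p = 0) :
    IsIntegral R z := by
  let S := integralClosure R A
  have hsub : (↑p.coeffs : Set A) ⊆ S.toSubring := by
    intro a ha
    obtain ⟨n, -, rfl⟩ := Polynomial.mem_coeffs_iff.1 ha
    exact hc n
  let p' : S[X] := p.toSubring S.toSubring hsub
  have hmap : p'.map (algebraMap S A) = p := p.map_toSubring S.toSubring hsub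
  have hSz : IsIntegral S z := ⟨p', (p.monic_toSubring _ _).mpr hp, by
    rw [IsScalarTower.algebraMap_eq S A B, ← eval₂_map, hmap]
    exact hz⟩
  exact isIntegral_trans (R := R) (A := S) z hSz

end intlemma

section conv

variable {k K L : Type*} [Field k] [Field K] [Field L] [Algebra k K] [Algebra K L]
  (P : Place k K) [Algebra P.O L] [IsScalarTower P.O K L]

lemma algebraMap_O_apply' (r : P.O) : algebraMap P.O L r = algebraMap K L (r : K) := by
  rw [IsScalarTower.algebraMap_apply P.O K L]
  rfl

lemma range_algebraMap_O :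
    Set.range (algebraMap P.O L) = ((P.O.toSubring.map (algebraMap K L) : Subring L) : Set L) := by
  ext z
  constructor
  · rintro ⟨r, rfl⟩
    rw [algebraMap_O_apply']
    exact ⟨(r : K), r.2, rfl⟩
  · rintro ⟨x, hx, rfl⟩
    exact ⟨⟨x, hx⟩, algebraMap_O_apply' P _⟩

/-- Integrality over the image of `O_P` is integrality over `O_P`. -/
lemma isIntegral_map_iff (z : L) :
    IsIntegral (P.O.toSubring.map (algebraMap K L)) z ↔ IsIntegral P.O z := by
  let ρ : P.O →+* (P.O.toSubring.map (algebraMap K L)) :=
    ((algebraMap K L).comp P.O.subtype).codRestrict _ (fun r => ⟨(r : K), r.2, rfl⟩)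
  have hρ : Function.Surjective ρ := by
    rintro ⟨y, x, hx, rfl⟩
    exact ⟨⟨x, hx⟩, rfl⟩
  have hcomp : (algebraMap (P.O.toSubring.map (algebraMap K L)) L).comp ρ = algebraMap P.O L := by
    ext r
    exact (algebraMap_O_apply' P r).symm
  constructor
  · rintro ⟨q, hq, hqz⟩
    obtain ⟨p, hpq, -, hp⟩ := Polynomial.lifts_and_degree_eq_and_monic
      ((Polynomial.mem_lifts q).2 (Polynomial.map_surjective ρ hρ q)) hq
    refine ⟨p, hp, ?_⟩
    rw [← hcomp, ← Polynomial.eval₂_map, hpq]
    exact hqz
  · rintro ⟨p, hp, hpz⟩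
    refine ⟨p.map ρ, hp.map ρ, ?_⟩
    rw [Polynomial.eval₂_map, hcomp]
    exact hpz

/-- Adjoining to the image of `O_P` or to `O_P` gives the same set. -/
lemma mem_adjoin_map_iff (s : Set L) (z : L) :
    z ∈ Algebra.adjoin (P.O.toSubring.map (algebraMap K L)) s ↔ z ∈ Algebra.adjoin P.O s := by
  rw [← Subalgebra.mem_toSubring, ← Subalgebra.mem_toSubring (S := Algebra.adjoin P.O s),
    Algebra.adjoin_eq_ring_closure, Algebra.adjoin_eq_ring_closure, range_algebraMap_O]
  have h1 : Set.range (algebraMap (P.O.toSubring.map (algebraMap K L)) L) =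
      ((P.O.toSubring.map (algebraMap K L) : Subring L) : Set L) := by
    ext y
    constructor
    · rintro ⟨r, rfl⟩
      exact r.2
    · intro hy
      exact ⟨⟨y, hy⟩, rfl⟩
  rw [h1]

/-- Reformulation of nonsingularity. -/
lemma nonsing_iff (s : Set L) (hs : ∀ x ∈ s, IsIntegral P.O x) :
    integralClosure (P.O.toSubring.map (algebraMap K L)) L =
        Algebra.adjoin (P.O.toSubring.map (algebraMap K L)) s ↔
      ∀ z : L, IsIntegral P.O z → z ∈ Algebra.adjoin P.O s := by
  constructor
  · intro h z hz
    rw [← mem_adjoin_map_iff, ← h, mem_integralClosure_iff, isIntegral_map_iff]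
    exact hz
  · intro h
    apply SetLike.ext
    intro z
    rw [mem_integralClosure_iff, isIntegral_map_iff, mem_adjoin_map_iff]
    constructor
    · exact h z
    · intro hz
      have hle : Algebra.adjoin P.O s ≤ integralClosure P.O L := Algebra.adjoin_le hs
      exact hle hz

end conv

section main

open Groth.Agent.Lib.Helper34.FunFldIntFin

universe u v

variable {k k' k'' : Type u} {K K' K'' : Type v} [Field k] [Field k'] [Field k''] [Field K]
  [Field K'] [Field K'']
  [Algebra k k'] [Algebra k' k''] [Algebra k k''] [IsScalarTower k k' k'']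
  [FiniteDimensional k k'] [FiniteDimensional k' k'']
  [Algebra k K] [Algebra K K'] [Algebra k' K'] [Algebra k K'] [IsScalarTower k k' K']
  [IsScalarTower k K K']
  [Algebra K' K''] [Algebra k'' K''] [Algebra k' K''] [Algebra k K''] [Algebra K K'']
  [IsScalarTower k' k'' K''] [IsScalarTower k' K' K''] [IsScalarTower K K' K'']
  [IsScalarTower k K K'']

/-- Elements of `k'` have valuation `≤ 1` at every place of `K'` over `k`. -/
lemma val_const_le_one (Q : Place k K') (c : k') : Q.1 (algebraMap k' K' c) ≤ 1 := by
  have h1 : IsIntegral k c := Algebra.IsIntegral.isIntegral c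
  have h2 : IsIntegral k (algebraMap k' K' c) := h1.map (IsScalarTower.toAlgHom k k' K')
  exact val_le_one_of_isIntegral Q.1 (fun r => Q.2.1 r) h2

lemma exists_bound' {L : Type*} [Field L] [Algebra k L] (S : Finset (Place k L)) (T : Finset L) :
    ∃ N : ℤ, 0 ≤ N ∧ ∀ Q ∈ S, ∀ w ∈ T, Q.1 w ≤ exp N := by
  classical
  obtain ⟨B, hB⟩ := Finset.exists_le ((S ×ˢ T).image fun p => p.1.1 p.2)
  refine ⟨max 0 (log B), le_max_left _ _, fun Q hQ w hw => ?_⟩
  have h1 : Q.1 w ≤ B :=
    hB _ (Finset.mem_image.2 ⟨(Q, w), Finset.mem_product.2 ⟨hQ, hw⟩, rfl⟩)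
  exact h1.trans (le_exp_log.trans (exp_le_exp.2 (le_max_right _ _)))

/-- The explicit coordinates of a constant. -/
lemma const_coords {m : ℕ} (w : Module.Basis (Fin m) k' k'') (b : k'') :
    algebraMap k'' K'' b = ∑ i, algebraMap K' K'' (algebraMap k' K' (w.repr b i)) *
      algebraMap k'' K'' (w i) := by
  conv_lhs => rw [← w.sum_repr b]
  rw [map_sum]
  apply Finset.sum_congr rfl
  intro i _
  rw [Algebra.smul_def, map_mul, ← IsScalarTower.algebraMap_apply k' k'' K'',
    ← IsScalarTower.algebraMap_apply k' K' K'']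

lemma isIntegral_const_Q [IsScalarTower k K' K''] [IsScalarTower k k'' K'']
    [FiniteDimensional k k''] (Q : Place k K')
    [Algebra Q.O K''] [IsScalarTower Q.O K' K''] (c : k'') :
    IsIntegral Q.O (algebraMap k'' K'' c) := by
  haveI : IsScalarTower k Q.O K'' := IsScalarTower.of_algebraMap_eq (fun c => by
    rw [algebraMap_O_apply', IsScalarTower.algebraMap_apply k K' K'']
    rfl)
  have h1 : IsIntegral k c := Algebra.IsIntegral.isIntegral c
  have h2 : IsIntegral k (algebraMap k'' K'' c) := h1.map (IsScalarTower.toAlgHom k k'' K'')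
  exact h2.tower_top

lemma mem_adjoin_Q_iff {m : ℕ} (w : Module.Basis (Fin m) k' k'') (Q : Place k K')
    [Algebra Q.O K''] [IsScalarTower Q.O K' K''] (z : K'') :
    z ∈ Algebra.adjoin Q.O (Set.range (algebraMap k'' K'')) ↔ z ∈ coordSet w Q.O.toSubring := by
  rw [← Subalgebra.mem_toSubring, Algebra.adjoin_eq_ring_closure]
  have h1 : Set.range (algebraMap Q.O K'') =
      (algebraMap K' K'') '' (Q.O.toSubring : Set K') := by
    ext y
    constructor
    · rintro ⟨r, rfl⟩
      exact ⟨r.1, r.2, (algebraMap_O_apply' Q r).symm⟩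
    · rintro ⟨x, hx, rfl⟩
      exact ⟨⟨x, hx⟩, algebraMap_O_apply' Q _⟩
  rw [h1]
  exact mem_closure_iff_coordSet w Q.O.toSubring (fun r => val_const_le_one Q r) z

/-- **S12534**. -/
theorem nonsing_tower
    (h1 : Function.Bijective (Algebra.TensorProduct.productMap
      (IsScalarTower.toAlgHom k k' K') (IsScalarTower.toAlgHom k K K')))
    (h2 : Function.Bijective (Algebra.TensorProduct.productMap
      (IsScalarTower.toAlgHom k' k'' K'') (IsScalarTower.toAlgHom k' K' K'')))
    (hK : IsFunctionField k K) (P : Place k K) :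
    (integralClosure (P.O.toSubring.map (algebraMap K K'')) K'' =
        Algebra.adjoin (P.O.toSubring.map (algebraMap K K'')) (Set.range (algebraMap k'' K''))) ↔
      (integralClosure (P.O.toSubring.map (algebraMap K K')) K' =
          Algebra.adjoin (P.O.toSubring.map (algebraMap K K')) (Set.range (algebraMap k' K')) ∧
        ∀ Q : Place k K', IsOver Q P →
          integralClosure (Q.O.toSubring.map (algebraMap K' K'')) K'' =
            Algebra.adjoin (Q.O.toSubring.map (algebraMap K' K''))
              (Set.range (algebraMap k'' K''))) := by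
  classical
  -- scalar towers
  haveI T1 : IsScalarTower k K' K'' := IsScalarTower.of_algebraMap_eq (fun c => by
    rw [IsScalarTower.algebraMap_apply k K K', ← IsScalarTower.algebraMap_apply K K' K'',
      ← IsScalarTower.algebraMap_apply k K K''])
  haveI T2 : IsScalarTower k k' K'' := IsScalarTower.of_algebraMap_eq (fun c => by
    rw [IsScalarTower.algebraMap_apply k' K' K'', ← IsScalarTower.algebraMap_apply k k' K',
      ← IsScalarTower.algebraMap_apply k K' K''])
  haveI T3 : IsScalarTower k k'' K'' := IsScalarTower.of_algebraMap_eq (fun c => by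
    rw [IsScalarTower.algebraMap_apply k k' k'', ← IsScalarTower.algebraMap_apply k' k'' K'',
      ← IsScalarTower.algebraMap_apply k k' K''])
  haveI : FiniteDimensional k k'' := FiniteDimensional.trans k k' k''
  -- algebra instances
  letI aPK' : Algebra P.O K' := ((algebraMap K K').comp P.O.subtype).toAlgebra
  haveI tPK' : IsScalarTower P.O K K' := IsScalarTower.of_algebraMap_eq (fun _ => rfl)
  letI aPK'' : Algebra P.O K'' := ((algebraMap K K'').comp P.O.subtype).toAlgebra
  haveI tPK'' : IsScalarTower P.O K K'' := IsScalarTower.of_algebraMap_eq (fun _ => rfl)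
  haveI tPK'K'' : IsScalarTower P.O K' K'' := IsScalarTower.of_algebraMap_eq (fun r => by
    show algebraMap K K'' (r : K) = algebraMap K' K'' (algebraMap K K' (r : K))
    exact IsScalarTower.algebraMap_apply K K' K'' _)
  haveI fin' : Module.Finite K K' := (Groth.Agent.S11006.finrank_K' k k' K K' h1).1
  haveI tkPK' : IsScalarTower k P.O K' := IsScalarTower.of_algebraMap_eq (fun c => by
    rw [algebraMap_O_apply', IsScalarTower.algebraMap_apply k K K']
    rfl)
  haveI tkPK'' : IsScalarTower k P.O K'' := IsScalarTower.of_algebraMap_eq (fun c => by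
    rw [algebraMap_O_apply', IsScalarTower.algebraMap_apply k K K'']
    rfl)
  have hconst' : ∀ x ∈ Set.range (algebraMap k' K'), IsIntegral P.O x := by
    rintro _ ⟨c, rfl⟩
    have h1 : IsIntegral k c := Algebra.IsIntegral.isIntegral c
    have h2 : IsIntegral k (algebraMap k' K' c) := h1.map (IsScalarTower.toAlgHom k k' K')
    exact h2.tower_top
  have hconst'' : ∀ x ∈ Set.range (algebraMap k'' K''), IsIntegral P.O x := by
    rintro _ ⟨c, rfl⟩
    have h1 : IsIntegral k c := Algebra.IsIntegral.isIntegral c
    have h2 : IsIntegral k (algebraMap k'' K'' c) := h1.map (IsScalarTower.toAlgHom k k'' K'')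
    exact h2.tower_top
  rw [nonsing_iff P _ hconst'', nonsing_iff P _ hconst']
  -- basis of `k''` over `k'`
  let w : Module.Basis (Fin (Module.finrank k' k'')) k' k'' := Module.finBasis k' k''
  -- the integral closure of `O_P` in `K'`
  obtain ⟨b, -, hint, -, -⟩ := integral_structure (K' := K') hK P
  have hF1 : ∀ z : K', IsIntegral P.O z ↔ ∀ Q : Place k K', IsOver Q P → Q.1 z ≤ 1 :=
    fun z => (hint z).trans (mem_Bp hK P)
  -- `O_P[k']` maps into `O_P[k'']`
  have hL2 : ∀ a ∈ Algebra.adjoin P.O (Set.range (algebraMap k' K')),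
      algebraMap K' K'' a ∈ Algebra.adjoin P.O (Set.range (algebraMap k'' K'')) := by
    intro a ha
    induction ha using Algebra.adjoin_induction with
    | mem x hx =>
      obtain ⟨r, rfl⟩ := hx
      apply Algebra.subset_adjoin
      refine ⟨algebraMap k' k'' r, ?_⟩
      rw [← IsScalarTower.algebraMap_apply k' k'' K'', ← IsScalarTower.algebraMap_apply k' K' K'']
    | algebraMap r =>
      rw [← IsScalarTower.algebraMap_apply P.O K' K'']
      exact Subalgebra.algebraMap_mem _ r
    | add x y _ _ hx hy => rw [map_add]; exact Subalgebra.add_mem _ hx hy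
    | mul x y _ _ hx hy => rw [map_mul]; exact Subalgebra.mul_mem _ hx hy
  set A' : Subring K' := (Algebra.adjoin P.O (Set.range (algebraMap k' K'))).toSubring with hA'def
  have hA' : ∀ r : k', algebraMap k' K' r ∈ A' := fun r => Algebra.subset_adjoin ⟨r, rfl⟩
  have hadj : ∀ z : K'', z ∈ Algebra.adjoin P.O (Set.range (algebraMap k'' K'')) ↔
      z ∈ coordSet w A' := by
    intro z
    constructor
    · intro hz
      rw [← Subalgebra.mem_toSubring, Algebra.adjoin_eq_ring_closure] at hz
      rw [← mem_closure_iff_coordSet w A' hA']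
      refine Subring.closure_mono ?_ hz
      rintro y (⟨r, rfl⟩ | hy)
      · refine Or.inl ⟨algebraMap P.O K' r, Subalgebra.algebraMap_mem _ r, ?_⟩
        rw [← IsScalarTower.algebraMap_apply P.O K' K'']
      · exact Or.inr hy
    · rintro ⟨c, hc, rfl⟩
      refine Subalgebra.sum_mem _ (fun i _ => ?_)
      exact Subalgebra.mul_mem _ (hL2 _ (hc i)) (Algebra.subset_adjoin ⟨w i, rfl⟩)
  constructor
  · intro hNS
    refine ⟨?_, ?_⟩
    · -- nonsingularity with respect to `k'`
      intro z hz
      have hz'' : IsIntegral P.O (algebraMap K' K'' z) :=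
        hz.map (IsScalarTower.toAlgHom P.O K' K'')
      obtain ⟨c, hc, hzc⟩ := (hadj _).1 (hNS _ hz'')
      have hone := const_coords (K' := K') (K'' := K'') w 1
      rw [map_one] at hone
      have hzz : algebraMap K' K'' z = ∑ i, algebraMap K' K''
          (z * algebraMap k' K' (w.repr 1 i)) * algebraMap k'' K'' (w i) := by
        conv_lhs => rw [← mul_one (algebraMap K' K'' z), hone, Finset.mul_sum]
        apply Finset.sum_congr rfl
        intro i _
        rw [map_mul]
        ring
      have huniq : ∀ i, c i - z * algebraMap k' K' (w.repr 1 i) = 0 :=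
        coords_unique h2.1 w _ (by
          simp only [map_sub, sub_mul, Finset.sum_sub_distrib]
          rw [← hzc, ← hzz, sub_self])
      obtain ⟨j, hj⟩ : ∃ j, w.repr 1 j ≠ 0 := by
        by_contra hcon
        push Not at hcon
        have h0 : (1 : k'') = 0 := by
          rw [← w.sum_repr 1]
          simp [hcon]
        exact one_ne_zero h0
      have hzj : z = c j * algebraMap k' K' (w.repr 1 j)⁻¹ := by
        have h3 := huniq j
        rw [sub_eq_zero] at h3
        rw [h3, mul_assoc, ← map_mul, mul_inv_cancel₀ hj, map_one, mul_one]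
      rw [hzj]
      exact Subalgebra.mul_mem _ (hc j) (Algebra.subset_adjoin ⟨_, rfl⟩)
    · -- nonsingularity of the places above
      intro Q hQ
      letI aQ : Algebra Q.O K'' := ((algebraMap K' K'').comp Q.O.subtype).toAlgebra
      haveI tQ : IsScalarTower Q.O K' K'' := IsScalarTower.of_algebraMap_eq (fun _ => rfl)
      rw [nonsing_iff Q _ (by
        rintro _ ⟨c, rfl⟩
        exact isIntegral_const_Q Q c)]
      intro z hz
      obtain ⟨p, hpm, hpz⟩ := hz
      let T : Finset K' := (Finset.range (p.natDegree + 1)).image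
        (fun i => ((p.coeff i : Q.O) : K'))
      obtain ⟨N, hN0, hN⟩ := exists_bound' (Qs (K' := K') hK P) T
      obtain ⟨s, hs⟩ := weak_approx (Qs (K' := K') hK P) (fun Q' => if Q' = Q then 1 else 0)
        (max N 1)
      have hQmem : Q ∈ Qs (K' := K') hK P := (mem_Qs hK P Q).2 hQ
      have hsQ1 : Q.1 (s - 1) ≤ exp (-(max N 1)) := by
        have := hs Q hQmem
        rwa [if_pos rfl] at this
      have hsQ' : ∀ Q' : Place k K', IsOver Q' P → Q' ≠ Q → Q'.1 s ≤ exp (-(max N 1)) := by
        intro Q' h1 h2
        have := hs Q' ((mem_Qs hK P Q').2 h1)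
        rwa [if_neg h2, sub_zero] at this
      have hQs : Q.1 s = 1 := by
        have e1 : s = 1 + (s - 1) := by ring
        have hlt : Q.1 (s - 1) < Q.1 (1 : K') := by
          rw [map_one]
          refine lt_of_le_of_lt hsQ1 ?_
          rw [← exp_zero, exp_lt_exp]
          have : (1 : ℤ) ≤ max N 1 := le_max_right _ _
          linarith
        rw [e1, Valuation.map_add_eq_of_lt_left _ hlt, map_one]
      let s' : Q.O := ⟨s, by show Q.1 s ≤ 1; rw [hQs]⟩
      let q := Polynomial.scaleRoots p s'
      have hqm : q.Monic := (Polynomial.monic_scaleRoots_iff s').2 hpm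
      have hqz : Polynomial.eval₂ (algebraMap Q.O K'') (algebraMap Q.O K'' s' * z) q = 0 := by
        rw [Polynomial.scaleRoots_eval₂_mul, hpz, mul_zero]
      let qK : Polynomial K' := q.map (algebraMap Q.O K')
      have hqKm : qK.Monic := hqm.map _
      have hqKz : Polynomial.eval₂ (algebraMap K' K'') (algebraMap K' K'' s * z) qK = 0 := by
        rw [Polynomial.eval₂_map, ← IsScalarTower.algebraMap_eq Q.O K' K'']
        exact hqz
      have hcoef : ∀ i, IsIntegral P.O (qK.coeff i) := by
        intro i
        rw [Polynomial.coeff_map, Polynomial.coeff_scaleRoots, hF1]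
        intro Q' hQ'
        by_cases hQQ : Q' = Q
        · rw [hQQ]
          exact (p.coeff i * s' ^ (p.natDegree - i)).2
        · show Q'.1 (((p.coeff i * s' ^ (p.natDegree - i) : Q.O)) : K') ≤ 1
          rw [MulMemClass.coe_mul, SubmonoidClass.coe_pow, map_mul, map_pow]
          by_cases hi : i < p.natDegree
          · have hM1 : (1 : ℤ) ≤ max N 1 := le_max_right _ _
            have hM2 : N ≤ max N 1 := le_max_left _ _
            have h1 : Q'.1 ((p.coeff i : Q.O) : K') ≤ exp N :=
              hN Q' ((mem_Qs hK P Q').2 hQ') _ (Finset.mem_image.2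
                ⟨i, Finset.mem_range.2 (by omega), rfl⟩)
            have h2 : Q'.1 s ≤ exp (-(max N 1)) := hsQ' Q' hQ' hQQ
            have h3 : Q'.1 s ≤ 1 := h2.trans (by
              rw [← exp_zero, exp_le_exp]
              linarith)
            have h4 : Q'.1 s ^ (p.natDegree - i) ≤ Q'.1 s :=
              pow_le_of_le_one zero_le h3 (by omega)
            calc Q'.1 ((p.coeff i : Q.O) : K') * Q'.1 s ^ (p.natDegree - i)
                ≤ exp N * exp (-(max N 1)) := mul_le_mul' h1 (h4.trans h2)
              _ ≤ 1 := by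
                rw [← exp_add, ← exp_zero, exp_le_exp]
                linarith
          · have hi' : p.natDegree - i = 0 := by omega
            rw [hi', pow_zero, mul_one]
            rcases Nat.lt_or_ge p.natDegree i with h | h
            · rw [Polynomial.coeff_eq_zero_of_natDegree_lt h]
              simp
            · have hi'' : i = p.natDegree := by omega
              rw [hi'', hpm.coeff_natDegree]
              simp
      have hint' : IsIntegral P.O (algebraMap K' K'' s * z) :=
        isIntegral_of_monic_root qK hqKm hcoef _ hqKz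
      obtain ⟨d, hd, hzd⟩ := (hadj _).1 (hNS _ hint')
      obtain ⟨c, hzc⟩ := exists_coords h2.2 w z
      have huniq : ∀ i, d i - s * c i = 0 :=
        coords_unique h2.1 w _ (by
          simp only [map_sub, sub_mul, Finset.sum_sub_distrib, map_mul]
          rw [← hzd, hzc, Finset.mul_sum, sub_eq_zero]
          apply Finset.sum_congr rfl
          intro i _
          ring)
      have hci : ∀ i, Q.1 (c i) ≤ 1 := by
        intro i
        have h1 : IsIntegral P.O (d i) :=
          (Algebra.adjoin_le hconst' : Algebra.adjoin P.O (Set.range (algebraMap k' K')) ≤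
            integralClosure P.O K') (hd i)
        have h2 : Q.1 (d i) ≤ 1 := (hF1 _).1 h1 Q hQ
        rw [sub_eq_zero.1 (huniq i), map_mul, hQs, one_mul] at h2
        exact h2
      rw [mem_adjoin_Q_iff w Q]
      exact ⟨c, hci, hzc⟩
  · rintro ⟨hNS', hNSQ⟩ z hz
    obtain ⟨c, hzc⟩ := exists_coords h2.2 w z
    rw [hadj]
    refine ⟨c, fun i => ?_, hzc⟩
    apply hNS'
    rw [hF1]
    intro Q hQ
    letI aQ : Algebra Q.O K'' := ((algebraMap K' K'').comp Q.O.subtype).toAlgebra
    haveI tQ : IsScalarTower Q.O K' K'' := IsScalarTower.of_algebraMap_eq (fun _ => rfl)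
    have hPQ : ∀ r : P.O, Q.1 (algebraMap K K' (r : K)) ≤ 1 := by
      intro r
      obtain ⟨e, he⟩ := hQ
      rw [he]
      exact pow_le_one₀ zero_le r.2
    let ρ : P.O →+* Q.O :=
      ((algebraMap K K').comp P.O.subtype).codRestrict Q.O.toSubring (fun r => hPQ r)
    have hzQ : IsIntegral Q.O z := by
      have := IsIntegral.map_of_comp_eq ρ (RingHom.id K'') (by
        ext r
        show algebraMap K' K'' (algebraMap K K' (r : K)) = algebraMap K K'' (r : K)
        exact (IsScalarTower.algebraMap_apply K K' K'' _).symm) hz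
      exact this
    have hQns := (nonsing_iff Q _ (by
      rintro _ ⟨c, rfl⟩
      exact isIntegral_const_Q Q c)).1 (hNSQ Q hQ) z hzQ
    obtain ⟨d, hd, hzd⟩ := (mem_adjoin_Q_iff w Q z).1 hQns
    have huniq : ∀ i, c i - d i = 0 :=
      coords_unique h2.1 w _ (by
        simp only [map_sub, sub_mul, Finset.sum_sub_distrib]
        rw [← hzd, ← hzc, sub_self])
    rw [sub_eq_zero.1 (huniq i)]
    exact hd i

end main

end Groth.Agent.Lib.Helper44.FFExt
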