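/-
Genus under constant field extensions `K' = k' ⊗ K`: `g(K'/k') ≤ g(K/k)`, equality iff every
place of `K` is nonsingular with respect to `k'`.
Author: helper44
-/
import Groth.Agent.Lib.Helper44.FunFldConstTower
import Groth.Agent.Lib.Helper44.FunFldExt5
import Groth.Agent.Lib.Helper34.FunFldConstFin
import Groth.Agent.Lib.Helper88.FunFldRiemann
import Groth.Agent.Lib.Helper88.FunFldPlucker
import Groth.Agent.Lib.Helper88.FunFldResidue

set_option autoImplicit false
set_option linter.unusedSectionVars false
set_option linter.style.haveILetI false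

namespace Groth.Agent.Lib.Helper44.FFExt

open FunFld WithZero
open Groth.Agent.Lib.Helper88.FF Groth.Agent.Lib.Helper34.FunFldIntFin
  Groth.Agent.Lib.Helper34.FunFldConstFin
open scoped TensorProduct

section lin

variable {k k' K K' : Type*} [Field k] [Field k'] [Field K] [Field K'] [Algebra k k'] [Algebra k K]
  [Algebra K K'] [Algebra k' K'] [Algebra k K'] [IsScalarTower k k' K'] [IsScalarTower k K K']

/-- Linear disjointness: a `k`-linearly independent family of `K` stays `k'`-linearly independent
in `K' = k' ⊗ K`. -/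
theorem linearIndependent_map
    (h : Function.Injective (Algebra.TensorProduct.productMap
      (IsScalarTower.toAlgHom k k' K') (IsScalarTower.toAlgHom k K K')))
    {m : ℕ} (w : Module.Basis (Fin m) k k') {ι : Type*} [Fintype ι] (v : ι → K)
    (hv : LinearIndependent k v) : LinearIndependent k' (fun j => algebraMap K K' (v j)) := by
  classical
  rw [Fintype.linearIndependent_iff]
  intro l hl j
  have h1 : ∑ j, l j • algebraMap K K' (v j) =
      ∑ i, algebraMap K K' (∑ j, (w.repr (l j) i) • v j) * algebraMap k' K' (w i) := by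
    have h2 : ∀ j, l j • algebraMap K K' (v j) =
        ∑ i, algebraMap K K' ((w.repr (l j) i) • v j) * algebraMap k' K' (w i) := by
      intro j
      conv_lhs => rw [← w.sum_repr (l j)]
      rw [Finset.sum_smul]
      apply Finset.sum_congr rfl
      intro i _
      rw [Algebra.smul_def, Algebra.smul_def, Algebra.smul_def, map_mul (algebraMap k' K'),
        map_mul (algebraMap K K'), ← IsScalarTower.algebraMap_apply k k' K',
        ← IsScalarTower.algebraMap_apply k K K']
      ring
    simp only [h2]
    rw [Finset.sum_comm]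
    apply Finset.sum_congr rfl
    intro i _
    rw [map_sum, Finset.sum_mul]
  rw [h1] at hl
  have h3 := coords_unique h w _ hl
  have h4 : ∀ i, w.repr (l j) i = 0 := by
    intro i
    exact (Fintype.linearIndependent_iff.1 hv) _ (h3 i) j
  apply w.repr.injective
  ext i
  rw [h4 i]
  simp

/-- Rewriting a `k'`-combination of elements of `K` in coordinates. -/
lemma sum_smul_map_eq {m : ℕ} (w : Module.Basis (Fin m) k k') {ι : Type*} [Fintype ι] (v : ι → K)
    (l : ι → k') :
    ∑ j, l j • algebraMap K K' (v j) =
      ∑ i, algebraMap K K' (∑ j, (w.repr (l j) i) • v j) * algebraMap k' K' (w i) := by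
  have h2 : ∀ j, l j • algebraMap K K' (v j) =
      ∑ i, algebraMap K K' ((w.repr (l j) i) • v j) * algebraMap k' K' (w i) := by
    intro j
    conv_lhs => rw [← w.sum_repr (l j)]
    rw [Finset.sum_smul]
    apply Finset.sum_congr rfl
    intro i _
    rw [Algebra.smul_def, Algebra.smul_def, Algebra.smul_def, map_mul (algebraMap k' K'),
      map_mul (algebraMap K K'), ← IsScalarTower.algebraMap_apply k k' K',
      ← IsScalarTower.algebraMap_apply k K K']
    ring
  simp only [h2]
  rw [Finset.sum_comm]
  apply Finset.sum_congr rfl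
  intro i _
  rw [map_sum, Finset.sum_mul]

/-- Conversely, an element with coordinates in the `k`-span of `v` is a `k'`-combination. -/
lemma sum_coords_eq {m : ℕ} (w : Fin m → k') {ι : Type*} [Fintype ι] (v : ι → K)
    (a : Fin m → ι → k) :
    ∑ i, algebraMap K K' (∑ j, a i j • v j) * algebraMap k' K' (w i) =
      ∑ j, (∑ i, a i j • w i) • algebraMap K K' (v j) := by
  have h1 : ∀ i, algebraMap K K' (∑ j, a i j • v j) * algebraMap k' K' (w i) =
      ∑ j, (a i j • w i) • algebraMap K K' (v j) := by
    intro i
    rw [map_sum, Finset.sum_mul]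
    apply Finset.sum_congr rfl
    intro j _
    rw [Algebra.smul_def, Algebra.smul_def, Algebra.smul_def, map_mul (algebraMap k' K'),
      map_mul (algebraMap K K'), ← IsScalarTower.algebraMap_apply k k' K',
      ← IsScalarTower.algebraMap_apply k K K']
    ring
  simp only [h1]
  rw [Finset.sum_comm]
  apply Finset.sum_congr rfl
  intro j _
  rw [Finset.sum_smul]

end lin

section genus

universe u v

variable {k k' : Type u} {K K' : Type v} [Field k] [Field k'] [Field K] [Field K']
  [Algebra k k'] [FiniteDimensional k k'] [Algebra k K] [Algebra K K'] [Algebra k' K'] [Algebra k K']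
  [IsScalarTower k k' K'] [IsScalarTower k K K']

/-- Places of `K'` over `k` and over `k'`. -/
noncomputable def placeEquiv : Place k K' ≃ Place k' K' where
  toFun := ofK
  invFun := toK
  left_inv _ := rfl
  right_inv _ := rfl

variable (k' K') in
/-- The conorm of a divisor of `K/k` as a divisor of `K'/k'`. -/
noncomputable def cn (D : Divisor k K) : Divisor k' K' :=
  Finsupp.equivMapDomain placeEquiv (conorm K' D)

lemma cn_apply (D : Divisor k K) (Q' : Place k' K') :
    cn k' K' D Q' = conorm K' D (toK Q') := by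
  unfold cn
  rw [Finsupp.equivMapDomain_apply]
  rfl

section withh

variable (h : Function.Bijective (Algebra.TensorProduct.productMap
      (IsScalarTower.toAlgHom k k' K') (IsScalarTower.toAlgHom k K K')))
  (hK : IsFunctionField k K)

include h hK

lemma cn_apply_of_isOver (D : Divisor k K) (Q' : Place k' K') {P : Place k K}
    (hP : IsOver (toK (k := k) Q') P) :
    cn k' K' D Q' = ramIdx (toK (k := k) Q') P * D P := by
  haveI : Module.Finite K K' := (Groth.Agent.S11006.finrank_K' k k' K K' h).1
  rw [cn_apply, conorm_apply_of_isOver (fun P => finite_isOver hK P) D hP]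

lemma deg_cn (D : Divisor k K) : (cn k' K' D).deg = D.deg := by
  obtain ⟨hfin, hrank⟩ := Groth.Agent.S11006.finrank_K' k k' K K' h
  haveI := hfin
  have h1 : (conorm K' D).deg = (Module.finrank k k' : ℤ) * (cn k' K' D).deg := by
    unfold cn Divisor.deg
    rw [Finsupp.sum_equivMapDomain, Finsupp.sum, Finsupp.sum, Finset.mul_sum]
    apply Finset.sum_congr rfl
    intro Q _
    have h2 : Q.deg = Module.finrank k k' * (placeEquiv (k' := k') Q).deg :=
      deg_toK (k := k) (k' := k') (ofK (k' := k') Q)
    rw [h2]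
    push_cast
    ring
  have h3 := deg_conorm (K' := K') hK D
  rw [hrank, h1] at h3
  have hpos : (0 : ℤ) < Module.finrank k k' := by exact_mod_cast Module.finrank_pos
  exact mul_left_cancel₀ hpos.ne' h3

lemma map_mem_L_cn {D : Divisor k K} {x : K} (hx : x ∈ L D) :
    algebraMap K K' x ∈ L (cn k' K' D) := by
  haveI : Module.Finite K K' := (Groth.Agent.S11006.finrank_K' k k' K K' h).1
  haveI : Algebra.IsAlgebraic K K' := Algebra.IsAlgebraic.of_finite _ _
  intro Q'
  obtain ⟨P, hP⟩ := exists_isOver_below (K := K) (toK (k := k) Q')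
  rw [cn_apply_of_isOver h hK D Q' hP]
  have h1 := isOverWith_ramIdx hP
  have h2 : Q'.1 (algebraMap K K' x) = P.1 x ^ ramIdx (toK (k := k) Q') P := h1 x
  rw [h2]
  calc P.1 x ^ ramIdx (toK (k := k) Q') P
      ≤ (exp (D P)) ^ ramIdx (toK (k := k) Q') P := pow_le_pow_left₀ zero_le (hx P) _
    _ = exp ((ramIdx (toK (k := k) Q') P : ℤ) * D P) := exp_pow' _ _

/-- `ℓ(D) ≤ ℓ'(cn D)`. -/
lemma ell_le_ell_cn (hK' : IsFunctionField k' K') (D : Divisor k K) :
    ell D ≤ ell (cn k' K' D) := by
  classical
  haveI := finiteDimensional_L hK D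
  haveI := finiteDimensional_L hK' (cn k' K' D)
  let w : Module.Basis (Fin (Module.finrank k k')) k k' := Module.finBasis k k'
  let b : Module.Basis (Fin (ell D)) k (L D) := Module.finBasis k (L D)
  have hli : LinearIndependent k (fun j => ((b j : L D) : K)) := by
    have := b.linearIndependent
    exact this.map' (L D).subtype (Submodule.ker_subtype _)
  have hli' := linearIndependent_map h.1 w _ hli
  let v' : Fin (ell D) → L (cn k' K' D) := fun j =>
    ⟨algebraMap K K' ((b j : L D) : K), map_mem_L_cn h hK (b j).2⟩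
  have hli'' : LinearIndependent k' v' := by
    apply LinearIndependent.of_comp (L (cn k' K' D)).subtype
    exact hli'
  have := hli''.fintype_card_le_finrank
  rw [Fintype.card_fin] at this
  exact this

lemma delta_cn_le (hK' : IsFunctionField k' K') (D : Divisor k K) :
    delta (cn k' K' D) ≤ delta D := by
  unfold delta
  rw [deg_cn h hK]
  have := ell_le_ell_cn h hK hK' D
  have h2 : (ell D : ℤ) ≤ ell (cn k' K' D) := by exact_mod_cast this
  linarith

end withh

section main

variable (h : Function.Bijective (Algebra.TensorProduct.productMap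
      (IsScalarTower.toAlgHom k k' K') (IsScalarTower.toAlgHom k K K')))
  (hK : IsFunctionField k K) (hK' : IsFunctionField k' K')

include h hK hK'

/-- Every divisor of `K'/k'` is bounded by the conorm of an effective divisor of `K/k` which
avoids a given place not below the support. -/
lemma exists_le_cn (E : Divisor k' K') (P₀ : Place k K)
    (hP₀ : ∀ Q' ∈ E.support, ¬ IsOver (toK (k := k) Q') P₀) :
    ∃ D : Divisor k K, 0 ≤ D ∧ D P₀ = 0 ∧ E ≤ cn k' K' D := by
  classical
  haveI : Module.Finite K K' := (Groth.Agent.S11006.finrank_K' k k' K K' h).1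
  haveI : Algebra.IsAlgebraic K K' := Algebra.IsAlgebraic.of_finite _ _
  have hbel : ∀ Q' : Place k' K', ∃ P : Place k K, IsOver (toK (k := k) Q') P :=
    fun Q' => exists_isOver_below (K := K) (toK (k := k) Q')
  choose bel hbel using hbel
  let D : Divisor k K := ∑ Q' ∈ E.support, Finsupp.single (bel Q') ((E Q').natAbs : ℤ)
  have hD0 : 0 ≤ D := by
    intro P
    show (0 : ℤ) ≤ D P
    rw [Finsupp.finsetSum_apply]
    apply Finset.sum_nonneg
    intro Q' _
    rw [Finsupp.single_apply]
    split_ifs
    · exact Int.natCast_nonneg _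
    · exact le_refl _
  have hDge : ∀ Q' ∈ E.support, ((E Q').natAbs : ℤ) ≤ D (bel Q') := by
    intro Q' hQ'
    show _ ≤ (∑ Q'' ∈ E.support, Finsupp.single (bel Q'') ((E Q'').natAbs : ℤ)) (bel Q')
    rw [Finsupp.finsetSum_apply]
    have h1 : ∀ Q'' ∈ E.support, 0 ≤ (Finsupp.single (bel Q'') ((E Q'').natAbs : ℤ)) (bel Q') := by
      intro Q'' _
      rw [Finsupp.single_apply]
      split_ifs
      · exact Int.natCast_nonneg _
      · exact le_refl _
    have h2 := Finset.single_le_sum h1 hQ'
    rwa [Finsupp.single_eq_same] at h2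
  refine ⟨D, hD0, ?_, ?_⟩
  · show (∑ Q' ∈ E.support, Finsupp.single (bel Q') ((E Q').natAbs : ℤ)) P₀ = 0
    rw [Finsupp.finsetSum_apply]
    apply Finset.sum_eq_zero
    intro Q' hQ'
    rw [Finsupp.single_apply, if_neg]
    intro heq
    exact hP₀ Q' hQ' (heq ▸ hbel Q')
  · intro Q'
    show E Q' ≤ cn k' K' D Q'
    rw [cn_apply_of_isOver h hK D Q' (hbel Q')]
    have he : (1 : ℤ) ≤ ramIdx (toK (k := k) Q') (bel Q') := by
      have := ramIdx_pos (hbel Q')
      exact_mod_cast this
    have hDn : 0 ≤ D (bel Q') := hD0 (bel Q')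
    by_cases hQ' : Q' ∈ E.support
    · have h1 := hDge Q' hQ'
      have h2 : E Q' ≤ ((E Q').natAbs : ℤ) := Int.le_natAbs
      nlinarith
    · rw [Finsupp.notMem_support_iff.1 hQ']
      exact mul_nonneg (by linarith) hDn

/-- **The genus does not increase under constant field extension.** -/
theorem genus_le : genus k' K' ≤ genus k K := by
  apply csSup_le (Set.range_nonempty _)
  rintro _ ⟨E, rfl⟩
  obtain ⟨P₀⟩ := Groth.Agent.Lib.Helper88.FF.exists_place hK
  -- avoid nothing: use a bound without the avoidance condition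
  classical
  haveI : Module.Finite K K' := (Groth.Agent.S11006.finrank_K' k k' K K' h).1
  haveI : Algebra.IsAlgebraic K K' := Algebra.IsAlgebraic.of_finite _ _
  -- bound `E` by `E ⊔ 0`-like divisor supported away from nothing: apply the lemma to `E'`
  -- whose support avoids `P₀`, plus a multiple of `P₀`.
  let E₁ : Divisor k' K' := E.filter (fun Q' => ¬ IsOver (toK (k := k) Q') P₀)
  obtain ⟨D₁, hD₁0, -, hE₁⟩ := exists_le_cn h hK hK' E₁ P₀ (by
    intro Q' hQ'
    rw [Finsupp.support_filter, Finset.mem_filter] at hQ'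
    exact hQ'.2)
  -- the places over `P₀`
  let S : Finset (Place k' K') := E.support.filter (fun Q' => IsOver (toK (k := k) Q') P₀)
  let n : ℕ := ∑ Q' ∈ S, (E Q').natAbs
  let D : Divisor k K := D₁ + Finsupp.single P₀ (n : ℤ)
  have hE : E ≤ cn k' K' D := by
    intro Q'
    show E Q' ≤ cn k' K' D Q'
    obtain ⟨P, hP⟩ := exists_isOver_below (K := K) (toK (k := k) Q')
    have he : (1 : ℤ) ≤ ramIdx (toK (k := k) Q') P := by
      have := ramIdx_pos hP
      exact_mod_cast this
    by_cases hQ' : IsOver (toK (k := k) Q') P₀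
    · have hPP : P = P₀ := isOver_unique_below hP hQ'
      subst hPP
      rw [cn_apply_of_isOver h hK D Q' hP]
      show E Q' ≤ _ * (D₁ P + (Finsupp.single P (n : ℤ)) P)
      rw [Finsupp.single_eq_same]
      have hD1P : 0 ≤ D₁ P := hD₁0 P
      have hn : E Q' ≤ (n : ℤ) := by
        by_cases hsupp : Q' ∈ E.support
        · have hmem : Q' ∈ S := Finset.mem_filter.2 ⟨hsupp, hQ'⟩
          have h1 : (E Q').natAbs ≤ n :=
            Finset.single_le_sum (f := fun Q'' => (E Q'').natAbs) (fun _ _ => Nat.zero_le _) hmem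
          have h2 : E Q' ≤ ((E Q').natAbs : ℤ) := Int.le_natAbs
          have h3 : ((E Q').natAbs : ℤ) ≤ n := by exact_mod_cast h1
          linarith
        · rw [Finsupp.notMem_support_iff.1 hsupp]
          exact Int.natCast_nonneg _
      have hn0 : (0 : ℤ) ≤ n := Int.natCast_nonneg _
      nlinarith
    · have h1 : E Q' = E₁ Q' := by
        exact (Finsupp.filter_apply_pos (fun Q' => ¬ IsOver (toK (k := k) Q') P₀) E hQ').symm
      have h2 : E₁ Q' ≤ cn k' K' D₁ Q' := hE₁ Q'
      have hne : P ≠ P₀ := fun hc => hQ' (hc ▸ hP)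
      rw [cn_apply_of_isOver h hK D Q' hP]
      rw [cn_apply_of_isOver h hK D₁ Q' hP] at h2
      show E Q' ≤ _ * (D₁ P + (Finsupp.single P₀ (n : ℤ)) P)
      rw [Finsupp.single_apply, if_neg (Ne.symm hne), add_zero, h1]
      exact h2
  have h1 : delta E ≤ delta (cn k' K' D) := delta_mono hK' hE
  have h2 : delta (cn k' K' D) ≤ delta D := delta_cn_le h hK hK' D
  have h3 : delta D ≤ genus k K := delta_le_genus hK D
  have h4 : delta E ≤ genus k K := h1.trans (h2.trans h3)
  show (delta E).toNat ≤ genus k K
  omega

lemma cn_mono {D₁ D₂ : Divisor k K} (hD : D₁ ≤ D₂) : cn k' K' D₁ ≤ cn k' K' D₂ := by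
  haveI : Module.Finite K K' := (Groth.Agent.S11006.finrank_K' k k' K K' h).1
  haveI : Algebra.IsAlgebraic K K' := Algebra.IsAlgebraic.of_finite _ _
  intro Q'
  obtain ⟨P, hP⟩ := exists_isOver_below (K := K) (toK (k := k) Q')
  show cn k' K' D₁ Q' ≤ cn k' K' D₂ Q'
  rw [cn_apply_of_isOver h hK D₁ Q' hP, cn_apply_of_isOver h hK D₂ Q' hP]
  exact mul_le_mul_of_nonneg_left (hD P) (Int.natCast_nonneg _)

/-- Membership in `O_P[k']` through coordinates. -/
lemma mem_adjoin_iff_coords {m : ℕ} (w : Module.Basis (Fin m) k k') (P : Place k K)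
    [Algebra P.O K'] [IsScalarTower P.O K K'] (z : K') :
    z ∈ Algebra.adjoin P.O (Set.range (algebraMap k' K')) ↔ z ∈ coordSet w P.O.toSubring := by
  rw [← Subalgebra.mem_toSubring, Algebra.adjoin_eq_ring_closure]
  have h1 : Set.range (algebraMap P.O K') =
      (algebraMap K K') '' (P.O.toSubring : Set K) := by
    ext y
    constructor
    · rintro ⟨r, rfl⟩
      exact ⟨r.1, r.2, (algebraMap_O_apply' P r).symm⟩
    · rintro ⟨x, hx, rfl⟩
      exact ⟨⟨x, hx⟩, algebraMap_O_apply' P _⟩
  rw [h1]
  exact mem_closure_iff_coordSet w P.O.toSubring (fun r => P.2.1 r) z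

/-- **Equality of genera forces nonsingularity**: if `g(K'/k') = g(K/k)` then every place of `K`
is nonsingular with respect to `k'`. -/
theorem nonsing_of_genus_eq (heq : genus k' K' = genus k K) (P : Place k K)
    [Algebra P.O K'] [IsScalarTower P.O K K'] (z : K') (hz : IsIntegral P.O z) :
    z ∈ Algebra.adjoin P.O (Set.range (algebraMap k' K')) := by
  classical
  haveI fin' : Module.Finite K K' := (Groth.Agent.S11006.finrank_K' k k' K K' h).1
  haveI : Algebra.IsAlgebraic K K' := Algebra.IsAlgebraic.of_finite _ _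
  by_cases hz0 : z = 0
  · rw [hz0]
    exact Subalgebra.zero_mem _
  obtain ⟨-, -, hint, -, -⟩ := integral_structure (K' := K') hK P
  have hF1 : ∀ z : K', IsIntegral P.O z ↔ ∀ Q : Place k K', IsOver Q P → Q.1 z ≤ 1 :=
    fun z => (hint z).trans (mem_Bp hK P)
  let w : Module.Basis (Fin (Module.finrank k k')) k k' := Module.finBasis k k'
  -- the pole divisor of `z`
  let E : Divisor k' K' := (-FunFld.div k' z) ⊔ 0
  have hE : ∀ Q' : Place k' K', E Q' = max (-(Q'.ord z)) 0 := by
    intro Q'
    show (-FunFld.div k' z ⊔ 0) Q' = _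
    rw [Finsupp.sup_apply, Finsupp.neg_apply, div_apply hK']
    rfl
  obtain ⟨D₀, hD₀0, hD₀P, hED₀⟩ := exists_le_cn h hK hK' E P (by
    intro Q' hQ' hover
    have h1 : E Q' ≠ 0 := Finsupp.mem_support_iff.1 hQ'
    have h2 : (toK (k := k) Q').1 z ≤ 1 := (hF1 z).1 hz _ hover
    have h3 : 0 ≤ Q'.ord z := (val_le_one_iff Q' hz0).1 h2
    apply h1
    rw [hE]
    exact max_eq_right (by linarith))
  obtain ⟨P₁, hP₁⟩ := exists_place_ne hK P
  obtain ⟨N, hN⟩ := exists_delta_eq_genus_of_le hK
  obtain ⟨N', hN'⟩ := exists_delta_eq_genus_of_le hK'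
  let n : ℕ := (max N N' - D₀.deg).toNat
  let D : Divisor k K := D₀ + Finsupp.single P₁ (n : ℤ)
  have hDP : D P = 0 := by
    show D₀ P + (Finsupp.single P₁ (n : ℤ)) P = 0
    rw [hD₀P, Finsupp.single_apply, if_neg hP₁, add_zero]
  have hDdeg : max N N' ≤ D.deg := by
    show max N N' ≤ (D₀ + Finsupp.single P₁ (n : ℤ)).deg
    rw [deg_add, deg_single]
    have h1 : (1 : ℤ) ≤ P₁.deg := by exact_mod_cast deg_pos hK P₁
    have h2 : max N N' - D₀.deg ≤ (n : ℤ) := Int.self_le_toNat _
    have h3 : (0 : ℤ) ≤ n := Int.natCast_nonneg _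
    nlinarith
  have hD₀D : D₀ ≤ D := by
    intro P'
    show D₀ P' ≤ D₀ P' + (Finsupp.single P₁ (n : ℤ)) P'
    rw [Finsupp.single_apply]
    split_ifs
    · have h3 : (0 : ℤ) ≤ n := Int.natCast_nonneg _
      linarith
    · linarith
  have hzL : z ∈ L (cn k' K' D) := by
    intro Q'
    rw [val_le_exp_iff Q' hz0]
    have h1 : E Q' ≤ cn k' K' D Q' := (hED₀ Q').trans (cn_mono h hK hK' hD₀D Q')
    rw [hE] at h1
    have h2 : -(Q'.ord z) ≤ max (-(Q'.ord z)) 0 := le_max_left _ _
    linarith
  -- dimensions
  have hd1 : delta D = genus k K := hN D ((le_max_left _ _).trans hDdeg)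
  have hd2 : delta (cn k' K' D) = genus k' K' :=
    hN' _ (by rw [deg_cn h hK]; exact (le_max_right _ _).trans hDdeg)
  have hell : ell (cn k' K' D) = ell D := by
    unfold delta at hd1 hd2
    rw [deg_cn h hK] at hd2
    have : (ell (cn k' K' D) : ℤ) = ell D := by
      rw [heq] at hd2
      linarith
    exact_mod_cast this
  haveI := finiteDimensional_L hK D
  haveI := finiteDimensional_L hK' (cn k' K' D)
  let b : Module.Basis (Fin (ell D)) k (L D) := Module.finBasis k (L D)
  have hli : LinearIndependent k (fun j => ((b j : L D) : K)) := by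
    have := b.linearIndependent
    exact this.map' (L D).subtype (Submodule.ker_subtype _)
  have hli' := linearIndependent_map h.1 w _ hli
  let v' : Fin (ell D) → L (cn k' K' D) := fun j =>
    ⟨algebraMap K K' ((b j : L D) : K), map_mem_L_cn h hK (b j).2⟩
  have hli'' : LinearIndependent k' v' := by
    apply LinearIndependent.of_comp (L (cn k' K' D)).subtype
    exact hli'
  have hspan : Submodule.span k' (Set.range v') = ⊤ :=
    hli''.span_eq_top_of_card_eq_finrank' (by
      rw [Fintype.card_fin]
      exact hell.symm)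
  have hzmem : (⟨z, hzL⟩ : L (cn k' K' D)) ∈ Submodule.span k' (Set.range v') := by
    rw [hspan]
    trivial
  obtain ⟨l, hl⟩ := (Submodule.mem_span_range_iff_exists_fun k').1 hzmem
  have hzsum : z = ∑ j, l j • algebraMap K K' ((b j : L D) : K) := by
    have := congrArg (fun y : L (cn k' K' D) => (y : K')) hl
    simp only [Submodule.coe_sum, Submodule.coe_smul] at this
    exact this.symm
  rw [sum_smul_map_eq w] at hzsum
  rw [mem_adjoin_iff_coords h hK hK' w P]
  refine ⟨_, fun i => ?_, hzsum⟩
  have hc : (∑ j, (w.repr (l j) i) • ((b j : L D) : K)) ∈ L D :=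
    Submodule.sum_mem _ (fun j _ => Submodule.smul_mem _ _ (b j).2)
  have := hc P
  rwa [hDP, exp_zero] at this

/-- **Nonsingularity everywhere forces equality of genera.** -/
theorem genus_eq_of_nonsing
    (hns : ∀ (P : Place k K) [Algebra P.O K'] [IsScalarTower P.O K K'] (z : K'),
      IsIntegral P.O z → z ∈ Algebra.adjoin P.O (Set.range (algebraMap k' K'))) :
    genus k' K' = genus k K := by
  classical
  haveI fin' : Module.Finite K K' := (Groth.Agent.S11006.finrank_K' k k' K K' h).1
  haveI : Algebra.IsAlgebraic K K' := Algebra.IsAlgebraic.of_finite _ _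
  apply le_antisymm (genus_le h hK hK')
  obtain ⟨D, hD⟩ := exists_delta_eq_genus hK
  let w : Module.Basis (Fin (Module.finrank k k')) k k' := Module.finBasis k k'
  haveI := finiteDimensional_L hK D
  haveI := finiteDimensional_L hK' (cn k' K' D)
  let b : Module.Basis (Fin (ell D)) k (L D) := Module.finBasis k (L D)
  -- `L(cn D)` is spanned by the image of `L(D)`
  have hsub : ∀ z ∈ L (cn k' K' D),
      z ∈ Submodule.span k' (Set.range fun j => algebraMap K K' ((b j : L D) : K)) := by
    intro z hz
    obtain ⟨c, hzc⟩ := exists_coords h.2 w z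
    have hcL : ∀ i, c i ∈ L D := by
      intro i P
      letI aPK' : Algebra P.O K' := ((algebraMap K K').comp P.O.subtype).toAlgebra
      haveI tPK' : IsScalarTower P.O K K' := IsScalarTower.of_algebraMap_eq (fun _ => rfl)
      obtain ⟨-, -, hint, -, -⟩ := integral_structure (K' := K') hK P
      have hF1 : ∀ z : K', IsIntegral P.O z ↔ ∀ Q : Place k K', IsOver Q P → Q.1 z ≤ 1 :=
        fun z => (hint z).trans (mem_Bp hK P)
      obtain ⟨t, ht⟩ := exists_val_eq_exp P (-(D P))
      have ht0 : t ≠ 0 := by
        rintro rfl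
        rw [map_zero] at ht
        exact exp_ne_zero ht.symm
      have hzt : IsIntegral P.O (z * algebraMap K K' t) := by
        rw [hF1]
        intro Q hQ
        have h1 := isOverWith_ramIdx hQ
        have h2 : Q.1 (algebraMap K K' t) = P.1 t ^ ramIdx Q P := h1 t
        have h3 : Q.1 z ≤ exp (cn k' K' D (ofK Q)) := hz (ofK Q)
        rw [cn_apply_of_isOver h hK D (ofK Q) hQ] at h3
        rw [map_mul, h2, ht, exp_pow']
        calc Q.1 z * exp ((ramIdx Q P : ℤ) * -(D P))
            ≤ exp ((ramIdx (toK (k := k) (ofK (k' := k') Q)) P : ℤ) * D P) *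
                exp ((ramIdx Q P : ℤ) * -(D P)) := mul_le_mul' h3 le_rfl
          _ = 1 := by
            rw [← exp_add, ← exp_zero]
            congr 1
            show (ramIdx Q P : ℤ) * D P + (ramIdx Q P : ℤ) * -(D P) = 0
            ring
      have hmem := hns P _ hzt
      rw [mem_adjoin_iff_coords h hK hK' w P] at hmem
      obtain ⟨d, hd, hzd⟩ := hmem
      have huniq : ∀ i, d i - c i * t = 0 :=
        coords_unique h.1 w _ (by
          simp only [map_sub, sub_mul, Finset.sum_sub_distrib, map_mul]
          rw [← hzd, hzc, Finset.sum_mul, sub_eq_zero]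
          apply Finset.sum_congr rfl
          intro i _
          ring)
      have h5 : P.1 (c i * t) ≤ 1 := by
        rw [← sub_eq_zero.1 (huniq i)]
        exact hd i
      rw [map_mul, ht] at h5
      have h6 : P.1 (c i) = P.1 (c i) * exp (-(D P)) * exp (D P) := by
        rw [mul_assoc, ← exp_add, neg_add_cancel, exp_zero, mul_one]
      rw [h6]
      calc P.1 (c i) * exp (-(D P)) * exp (D P) ≤ 1 * exp (D P) := mul_le_mul' h5 le_rfl
        _ = exp (D P) := one_mul _
    -- expand the coordinates in the basis
    have hca : ∀ i, c i = ∑ j, (b.repr ⟨c i, hcL i⟩ j) • ((b j : L D) : K) := by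
      intro i
      have := congrArg (fun y : L D => (y : K)) (b.sum_repr ⟨c i, hcL i⟩)
      simp only [Submodule.coe_sum, Submodule.coe_smul] at this
      exact this.symm
    have hz2 : z = ∑ i, algebraMap K K' (∑ j, (b.repr ⟨c i, hcL i⟩ j) • ((b j : L D) : K)) *
        algebraMap k' K' (w i) := by
      rw [hzc]
      apply Finset.sum_congr rfl
      intro i _
      rw [← hca i]
    rw [hz2, sum_coords_eq]
    apply Submodule.sum_mem
    intro j _
    exact Submodule.smul_mem _ _ (Submodule.subset_span ⟨j, rfl⟩)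
  have hle : ell (cn k' K' D) ≤ ell D := by
    have h1 : Module.finrank k' (L (cn k' K' D)) ≤
        Module.finrank k' (Submodule.span k' (Set.range fun j : Fin (ell D) =>
          algebraMap K K' ((b j : L D) : K))) := by
      let f : L (cn k' K' D) →ₗ[k'] Submodule.span k' (Set.range fun j : Fin (ell D) =>
          algebraMap K K' ((b j : L D) : K)) :=
        LinearMap.codRestrict _ (L (cn k' K' D)).subtype (fun y => hsub y.1 y.2)
      have hf : Function.Injective f := by
        intro y y' hyy
        apply Subtype.ext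
        exact congrArg (fun u : Submodule.span k' (Set.range fun j : Fin (ell D) =>
          algebraMap K K' ((b j : L D) : K)) => (u : K')) hyy
      haveI : Module.Finite k' (Submodule.span k' (Set.range fun j : Fin (ell D) =>
          algebraMap K K' ((b j : L D) : K))) :=
        FiniteDimensional.span_of_finite k' (Set.finite_range _)
      exact LinearMap.finrank_le_finrank_of_injective hf
    have h2 := finrank_range_le_card (R := k') (fun j : Fin (ell D) =>
      algebraMap K K' ((b j : L D) : K))
    rw [Fintype.card_fin] at h2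
    exact h1.trans h2
  have h3 : delta D ≤ delta (cn k' K' D) := by
    unfold delta
    rw [deg_cn h hK]
    have : (ell (cn k' K' D) : ℤ) ≤ ell D := by exact_mod_cast hle
    linarith
  have h4 := delta_le_genus hK' (cn k' K' D)
  have : (genus k K : ℤ) ≤ genus k' K' := by
    rw [← hD]
    exact h3.trans h4
  exact_mod_cast this

end main

end genus

end Groth.Agent.Lib.Helper44.FFExt
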