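/-
Models of constant field extensions `k' ⊗ K` in a prescribed universe, and their calculus:
existence (via `Shrink`), transitivity, comparison.
Author: helper44
-/
import Groth.Agent.Lib.Helper44.FunFldConstTower
import Mathlib.Algebra.Algebra.Shrink
import Mathlib.Algebra.Field.Shrink

set_option autoImplicit false
set_option linter.unusedSectionVars false
set_option linter.style.haveILetI false

namespace Groth.Agent.Lib.Helper44.FFExt

open FunFld
open scoped TensorProduct

section exist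

universe u v

/-- **Existence of a model** of `k₂ ⊗ K₁` in the universe of `K₁`. -/
theorem exists_model (k₁ k₂ : Type u) (K₁ : Type v) [Field k₁] [Field k₂] [Field K₁]
    [Algebra k₁ k₂] [FiniteDimensional k₁ k₂] [Algebra k₁ K₁] (hg : IsGeometric k₁ K₁) :
    ∃ (K₂ : Type v) (_ : Field K₂) (_ : Algebra K₁ K₂) (_ : Algebra k₂ K₂) (_ : Algebra k₁ K₂)
      (_ : IsScalarTower k₁ k₂ K₂) (_ : IsScalarTower k₁ K₁ K₂),
      Function.Bijective (Algebra.TensorProduct.productMap
        (IsScalarTower.toAlgHom k₁ k₂ K₂) (IsScalarTower.toAlgHom k₁ K₁ K₂)) := by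
  classical
  letI fT : Field (k₂ ⊗[k₁] K₁) := (hg k₂ inferInstance).toField
  letI aK : Algebra K₁ (k₂ ⊗[k₁] K₁) :=
    (Algebra.TensorProduct.includeRight : K₁ →ₐ[k₁] k₂ ⊗[k₁] K₁).toRingHom.toAlgebra
  haveI t1 : IsScalarTower k₁ K₁ (k₂ ⊗[k₁] K₁) := IsScalarTower.of_algebraMap_eq (fun c => by
    show algebraMap k₁ (k₂ ⊗[k₁] K₁) c =
      (Algebra.TensorProduct.includeRight : K₁ →ₐ[k₁] k₂ ⊗[k₁] K₁) (algebraMap k₁ K₁ c)
    rw [AlgHom.commutes])
  have hid : Algebra.TensorProduct.productMap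
      (IsScalarTower.toAlgHom k₁ k₂ (k₂ ⊗[k₁] K₁)) (IsScalarTower.toAlgHom k₁ K₁ (k₂ ⊗[k₁] K₁)) =
      AlgHom.id k₁ (k₂ ⊗[k₁] K₁) := by
    apply Algebra.TensorProduct.ext'
    intro a b
    rw [Algebra.TensorProduct.productMap_apply_tmul]
    show (a ⊗ₜ[k₁] (1 : K₁)) * ((1 : k₂) ⊗ₜ[k₁] b) = a ⊗ₜ[k₁] b
    rw [Algebra.TensorProduct.tmul_mul_tmul, mul_one, one_mul]
  have hbij : Function.Bijective (Algebra.TensorProduct.productMap
      (IsScalarTower.toAlgHom k₁ k₂ (k₂ ⊗[k₁] K₁))
      (IsScalarTower.toAlgHom k₁ K₁ (k₂ ⊗[k₁] K₁))) := by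
    rw [hid]
    exact Function.bijective_id
  -- smallness
  let w : Module.Basis (Fin (Module.finrank k₁ k₂)) k₁ k₂ := Module.finBasis k₁ k₂
  haveI : Small.{v} (k₂ ⊗[k₁] K₁) := by
    let f : (Fin (Module.finrank k₁ k₂) → K₁) → k₂ ⊗[k₁] K₁ := fun c =>
      ∑ i, algebraMap K₁ (k₂ ⊗[k₁] K₁) (c i) * algebraMap k₂ (k₂ ⊗[k₁] K₁) (w i)
    have hf : Function.Surjective f := by
      intro z
      obtain ⟨c, hc⟩ := exists_coords hbij.2 w z
      exact ⟨c, hc.symm⟩
    exact small_of_surjective hf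
  haveI T1 : IsScalarTower k₁ k₂ (Shrink.{v} (k₂ ⊗[k₁] K₁)) :=
    IsScalarTower.of_algebraMap_eq (fun c => by
      show (Shrink.algEquiv k₁ (k₂ ⊗[k₁] K₁)).symm (algebraMap k₁ _ c) =
        (Shrink.algEquiv k₂ (k₂ ⊗[k₁] K₁)).symm (algebraMap k₂ _ (algebraMap k₁ k₂ c))
      rw [← IsScalarTower.algebraMap_apply k₁ k₂ (k₂ ⊗[k₁] K₁)]
      rfl)
  haveI T2 : IsScalarTower k₁ K₁ (Shrink.{v} (k₂ ⊗[k₁] K₁)) :=
    IsScalarTower.of_algebraMap_eq (fun c => by
      show (Shrink.algEquiv k₁ (k₂ ⊗[k₁] K₁)).symm (algebraMap k₁ _ c) =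
        (Shrink.algEquiv K₁ (k₂ ⊗[k₁] K₁)).symm (algebraMap K₁ _ (algebraMap k₁ K₁ c))
      rw [← IsScalarTower.algebraMap_apply k₁ K₁ (k₂ ⊗[k₁] K₁)]
      rfl)
  refine ⟨Shrink.{v} (k₂ ⊗[k₁] K₁), inferInstance, inferInstance, inferInstance, inferInstance,
    T1, T2, ?_⟩
  · have hprod : ∀ τ : k₂ ⊗[k₁] K₁, Algebra.TensorProduct.productMap
        (IsScalarTower.toAlgHom k₁ k₂ (Shrink.{v} (k₂ ⊗[k₁] K₁)))
        (IsScalarTower.toAlgHom k₁ K₁ (Shrink.{v} (k₂ ⊗[k₁] K₁))) τ =
        (Shrink.algEquiv k₁ (k₂ ⊗[k₁] K₁)).symm τ := by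
      intro τ
      induction τ using TensorProduct.induction_on with
      | zero => rw [map_zero, map_zero]
      | tmul a b =>
        rw [Algebra.TensorProduct.productMap_apply_tmul]
        show (Shrink.algEquiv k₁ (k₂ ⊗[k₁] K₁)).symm (a ⊗ₜ[k₁] (1 : K₁)) *
          (Shrink.algEquiv k₁ (k₂ ⊗[k₁] K₁)).symm ((1 : k₂) ⊗ₜ[k₁] b) = _
        rw [← map_mul, Algebra.TensorProduct.tmul_mul_tmul, mul_one, one_mul]
      | add x y hx hy => rw [map_add, map_add, hx, hy]
    have hfun : ⇑(Algebra.TensorProduct.productMap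
        (IsScalarTower.toAlgHom k₁ k₂ (Shrink.{v} (k₂ ⊗[k₁] K₁)))
        (IsScalarTower.toAlgHom k₁ K₁ (Shrink.{v} (k₂ ⊗[k₁] K₁)))) =
        ⇑(Shrink.algEquiv k₁ (k₂ ⊗[k₁] K₁)).symm := funext hprod
    rw [hfun]
    exact (Shrink.algEquiv k₁ (k₂ ⊗[k₁] K₁)).symm.bijective

end exist

section trans

universe u

variable {k k' k'' : Type u} {K K' K'' : Type*} [Field k] [Field k'] [Field k''] [Field K]
  [Field K'] [Field K'']
  [Algebra k k'] [Algebra k' k''] [Algebra k k''] [IsScalarTower k k' k'']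
  [FiniteDimensional k k'] [FiniteDimensional k' k'']
  [Algebra k K] [Algebra K K'] [Algebra k' K'] [Algebra k K'] [IsScalarTower k k' K']
  [IsScalarTower k K K']
  [Algebra K' K''] [Algebra k'' K''] [Algebra k' K''] [Algebra k K''] [Algebra K K'']
  [IsScalarTower k' k'' K''] [IsScalarTower k' K' K''] [IsScalarTower K K' K'']
  [IsScalarTower k K K''] [IsScalarTower k k'' K'']

/-- **Transitivity of models.** -/
theorem model_trans (hg : IsGeometric k K)
    (h1 : Function.Bijective (Algebra.TensorProduct.productMap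
      (IsScalarTower.toAlgHom k k' K') (IsScalarTower.toAlgHom k K K')))
    (h2 : Function.Bijective (Algebra.TensorProduct.productMap
      (IsScalarTower.toAlgHom k' k'' K'') (IsScalarTower.toAlgHom k' K' K''))) :
    Function.Bijective (Algebra.TensorProduct.productMap
      (IsScalarTower.toAlgHom k k'' K'') (IsScalarTower.toAlgHom k K K'')) := by
  classical
  haveI : FiniteDimensional k k'' := FiniteDimensional.trans k k' k''
  constructor
  · letI := (hg k'' inferInstance).toField
    exact (Algebra.TensorProduct.productMap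
      (IsScalarTower.toAlgHom k k'' K'') (IsScalarTower.toAlgHom k K K'')).toRingHom.injective
  · intro z
    let w' : Module.Basis (Fin (Module.finrank k k')) k k' := Module.finBasis k k'
    let w'' : Module.Basis (Fin (Module.finrank k' k'')) k' k'' := Module.finBasis k' k''
    obtain ⟨c, hc⟩ := exists_coords h2.2 w'' z
    have hd : ∀ b, ∃ d : Fin (Module.finrank k k') → K,
        c b = ∑ a, algebraMap K K' (d a) * algebraMap k' K' (w' a) :=
      fun b => exists_coords h1.2 w' (c b)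
    choose d hd using hd
    refine ⟨∑ b, ∑ a, (algebraMap k' k'' (w' a) * w'' b) ⊗ₜ[k] d b a, ?_⟩
    rw [hc, map_sum]
    apply Finset.sum_congr rfl
    intro b _
    rw [hd b, map_sum, map_sum, Finset.sum_mul]
    apply Finset.sum_congr rfl
    intro a _
    rw [Algebra.TensorProduct.productMap_apply_tmul]
    show algebraMap k'' K'' (algebraMap k' k'' (w' a) * w'' b) * algebraMap K K'' (d b a) = _
    rw [map_mul, map_mul, ← IsScalarTower.algebraMap_apply k' k'' K'',
      IsScalarTower.algebraMap_apply k' K' K'', IsScalarTower.algebraMap_apply K K' K'']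
    ring

end trans

section compare

universe u v

variable {k ka kb : Type u} {K Ka Kb : Type v} [Field k] [Field ka] [Field kb] [Field K]
  [Field Ka] [Field Kb]
  [Algebra k ka] [Algebra ka kb] [Algebra k kb] [IsScalarTower k ka kb]
  [FiniteDimensional k kb] [FiniteDimensional ka kb]
  [Algebra k K] [Algebra K Ka] [Algebra ka Ka] [Algebra k Ka] [IsScalarTower k ka Ka]
  [IsScalarTower k K Ka]
  [Algebra K Kb] [Algebra kb Kb] [Algebra k Kb] [IsScalarTower k kb Kb] [IsScalarTower k K Kb]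

/-- **Comparison of models**: a model for `kb` is a model over a model for `ka ⊆ kb`. -/
theorem model_compare (hga : IsGeometric ka Ka)
    (ha : Function.Bijective (Algebra.TensorProduct.productMap
      (IsScalarTower.toAlgHom k ka Ka) (IsScalarTower.toAlgHom k K Ka)))
    (hb : Function.Bijective (Algebra.TensorProduct.productMap
      (IsScalarTower.toAlgHom k kb Kb) (IsScalarTower.toAlgHom k K Kb))) :
    ∃ (_ : Algebra Ka Kb) (_ : Algebra ka Kb) (_ : IsScalarTower ka kb Kb)
      (_ : IsScalarTower ka Ka Kb),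
      Function.Bijective (Algebra.TensorProduct.productMap
        (IsScalarTower.toAlgHom ka kb Kb) (IsScalarTower.toAlgHom ka Ka Kb)) := by
  classical
  letI a1 : Algebra ka Kb := ((algebraMap kb Kb).comp (algebraMap ka kb)).toAlgebra
  haveI t1 : IsScalarTower ka kb Kb := IsScalarTower.of_algebraMap_eq (fun _ => rfl)
  haveI t2 : IsScalarTower k ka Kb := IsScalarTower.of_algebraMap_eq (fun c => by
    rw [IsScalarTower.algebraMap_apply k kb Kb, IsScalarTower.algebraMap_apply k ka kb]
    rfl)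
  let ea : ka ⊗[k] K ≃ₐ[k] Ka := AlgEquiv.ofBijective _ ha
  let φ : Ka →ₐ[k] Kb := (Algebra.TensorProduct.productMap
    (IsScalarTower.toAlgHom k ka Kb) (IsScalarTower.toAlgHom k K Kb)).comp ea.symm.toAlgHom
  letI a2 : Algebra Ka Kb := φ.toRingHom.toAlgebra
  have hφ : ∀ y : Ka, algebraMap Ka Kb y = φ y := fun _ => rfl
  have hφk : ∀ x : ka, φ (algebraMap ka Ka x) = algebraMap ka Kb x := by
    intro x
    have h1 : ea.symm (algebraMap ka Ka x) = x ⊗ₜ 1 := by
      rw [AlgEquiv.symm_apply_eq]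
      show _ = Algebra.TensorProduct.productMap _ _ (x ⊗ₜ 1)
      rw [Algebra.TensorProduct.productMap_apply_tmul, map_one, mul_one]
      rfl
    show Algebra.TensorProduct.productMap _ _ (ea.symm (algebraMap ka Ka x)) = _
    rw [h1, Algebra.TensorProduct.productMap_apply_tmul, map_one, mul_one]
    rfl
  have hφK : ∀ y : K, φ (algebraMap K Ka y) = algebraMap K Kb y := by
    intro y
    have h1 : ea.symm (algebraMap K Ka y) = 1 ⊗ₜ y := by
      rw [AlgEquiv.symm_apply_eq]
      show _ = Algebra.TensorProduct.productMap _ _ (1 ⊗ₜ y)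
      rw [Algebra.TensorProduct.productMap_apply_tmul, map_one, one_mul]
      rfl
    show Algebra.TensorProduct.productMap _ _ (ea.symm (algebraMap K Ka y)) = _
    rw [h1, Algebra.TensorProduct.productMap_apply_tmul, map_one, one_mul]
    rfl
  haveI t3 : IsScalarTower ka Ka Kb := IsScalarTower.of_algebraMap_eq (fun x => by
    rw [hφ, hφk])
  refine ⟨a2, a1, t1, t3, ?_, ?_⟩
  · letI := (hga kb inferInstance).toField
    exact (Algebra.TensorProduct.productMap
      (IsScalarTower.toAlgHom ka kb Kb) (IsScalarTower.toAlgHom ka Ka Kb)).toRingHom.injective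
  · intro z
    let w : Module.Basis (Fin (Module.finrank k kb)) k kb := Module.finBasis k kb
    obtain ⟨c, hc⟩ := exists_coords hb.2 w z
    refine ⟨∑ i, (w i) ⊗ₜ[ka] (algebraMap K Ka (c i)), ?_⟩
    rw [hc, map_sum]
    apply Finset.sum_congr rfl
    intro i _
    rw [Algebra.TensorProduct.productMap_apply_tmul]
    show algebraMap kb Kb (w i) * algebraMap Ka Kb (algebraMap K Ka (c i)) = _
    rw [hφ, hφK]
    ring

/-- Comparison of models, also recording compatibility with `K`. -/
theorem model_compare' (hga : IsGeometric ka Ka)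
    (ha : Function.Bijective (Algebra.TensorProduct.productMap
      (IsScalarTower.toAlgHom k ka Ka) (IsScalarTower.toAlgHom k K Ka)))
    (hb : Function.Bijective (Algebra.TensorProduct.productMap
      (IsScalarTower.toAlgHom k kb Kb) (IsScalarTower.toAlgHom k K Kb))) :
    ∃ (_ : Algebra Ka Kb) (_ : Algebra ka Kb) (_ : IsScalarTower ka kb Kb)
      (_ : IsScalarTower ka Ka Kb) (_ : IsScalarTower K Ka Kb),
      Function.Bijective (Algebra.TensorProduct.productMap
        (IsScalarTower.toAlgHom ka kb Kb) (IsScalarTower.toAlgHom ka Ka Kb)) := by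
  classical
  letI a1 : Algebra ka Kb := ((algebraMap kb Kb).comp (algebraMap ka kb)).toAlgebra
  haveI t1 : IsScalarTower ka kb Kb := IsScalarTower.of_algebraMap_eq (fun _ => rfl)
  haveI t2 : IsScalarTower k ka Kb := IsScalarTower.of_algebraMap_eq (fun c => by
    rw [IsScalarTower.algebraMap_apply k kb Kb, IsScalarTower.algebraMap_apply k ka kb]
    rfl)
  let ea : ka ⊗[k] K ≃ₐ[k] Ka := AlgEquiv.ofBijective _ ha
  let φ : Ka →ₐ[k] Kb := (Algebra.TensorProduct.productMap
    (IsScalarTower.toAlgHom k ka Kb) (IsScalarTower.toAlgHom k K Kb)).comp ea.symm.toAlgHom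
  letI a2 : Algebra Ka Kb := φ.toRingHom.toAlgebra
  have hφ : ∀ y : Ka, algebraMap Ka Kb y = φ y := fun _ => rfl
  have hφk : ∀ x : ka, φ (algebraMap ka Ka x) = algebraMap ka Kb x := by
    intro x
    have h1 : ea.symm (algebraMap ka Ka x) = x ⊗ₜ 1 := by
      rw [AlgEquiv.symm_apply_eq]
      show _ = Algebra.TensorProduct.productMap _ _ (x ⊗ₜ 1)
      rw [Algebra.TensorProduct.productMap_apply_tmul, map_one, mul_one]
      rfl
    show Algebra.TensorProduct.productMap _ _ (ea.symm (algebraMap ka Ka x)) = _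
    rw [h1, Algebra.TensorProduct.productMap_apply_tmul, map_one, mul_one]
    rfl
  have hφK : ∀ y : K, φ (algebraMap K Ka y) = algebraMap K Kb y := by
    intro y
    have h1 : ea.symm (algebraMap K Ka y) = 1 ⊗ₜ y := by
      rw [AlgEquiv.symm_apply_eq]
      show _ = Algebra.TensorProduct.productMap _ _ (1 ⊗ₜ y)
      rw [Algebra.TensorProduct.productMap_apply_tmul, map_one, one_mul]
      rfl
    show Algebra.TensorProduct.productMap _ _ (ea.symm (algebraMap K Ka y)) = _
    rw [h1, Algebra.TensorProduct.productMap_apply_tmul, map_one, one_mul]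
    rfl
  haveI t3 : IsScalarTower ka Ka Kb := IsScalarTower.of_algebraMap_eq (fun x => by
    rw [hφ, hφk])
  haveI t4 : IsScalarTower K Ka Kb := IsScalarTower.of_algebraMap_eq (fun y => by
    rw [hφ, hφK])
  refine ⟨a2, a1, t1, t3, t4, ?_, ?_⟩
  · letI := (hga kb inferInstance).toField
    exact (Algebra.TensorProduct.productMap
      (IsScalarTower.toAlgHom ka kb Kb) (IsScalarTower.toAlgHom ka Ka Kb)).toRingHom.injective
  · intro z
    let w : Module.Basis (Fin (Module.finrank k kb)) k kb := Module.finBasis k kb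
    obtain ⟨c, hc⟩ := exists_coords hb.2 w z
    refine ⟨∑ i, (w i) ⊗ₜ[ka] (algebraMap K Ka (c i)), ?_⟩
    rw [hc, map_sum]
    apply Finset.sum_congr rfl
    intro i _
    rw [Algebra.TensorProduct.productMap_apply_tmul]
    show algebraMap kb Kb (w i) * algebraMap Ka Kb (algebraMap K Ka (c i)) = _
    rw [hφ, hφK]
    ring

end compare

end Groth.Agent.Lib.Helper44.FFExt
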