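/-
Desingularization by a purely inseparable constant field extension (S12594): a finite purely
inseparable `k'/k` minimizing the genus of `k' ⊗ K` makes every place nonsingular.
Author: helper44
-/
import Groth.Agent.Lib.Helper44.FunFldGenusConst
import Groth.Agent.Lib.Helper44.FunFldModels
import Groth.Agent.Lib.Helper34.FunFldConstSep
import Mathlib.FieldTheory.Normal.Closure
import Mathlib.FieldTheory.Galois.Basic
import Mathlib.FieldTheory.PurelyInseparable.PerfectClosure
import Mathlib.FieldTheory.SeparableDegree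
import Mathlib.FieldTheory.IsAlgClosed.AlgebraicClosure

set_option autoImplicit false
set_option linter.unusedSectionVars false
set_option linter.style.haveILetI false

namespace Groth.Agent.Lib.Helper44.FFExt

open FunFld
open scoped TensorProduct

universe u v

open IntermediateField in
/-- A finite extension `k₁/k` embeds in a finite normal `N/k` which is separable over a purely
inseparable `F/k`. -/
theorem exists_normal_insep (k k₁ : Type u) [Field k] [Field k₁] [Algebra k k₁]
    [FiniteDimensional k k₁] :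
    ∃ (N : Type u) (_ : Field N) (_ : Algebra k N) (_ : Algebra k₁ N) (_ : IsScalarTower k k₁ N)
      (_ : FiniteDimensional k N) (_ : FiniteDimensional k₁ N)
      (F : Type u) (_ : Field F) (_ : Algebra k F) (_ : Algebra F N)
      (_ : IsScalarTower k F N) (_ : FiniteDimensional k F) (_ : FiniteDimensional F N),
      IsPurelyInseparable k F ∧ Algebra.IsSeparable F N := by
  classical
  haveI : Algebra.IsAlgebraic k k₁ := Algebra.IsAlgebraic.of_finite _ _
  haveI : IsAlgClosure k (AlgebraicClosure k₁) := IsAlgClosure.ofAlgebraic k k₁ _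
  haveI : Normal k (AlgebraicClosure k₁) := IsAlgClosure.normal _ _
  let N := normalClosure k k₁ (AlgebraicClosure k₁)
  haveI : FiniteDimensional k N := normalClosure.is_finiteDimensional k k₁ _
  haveI : Normal k N := normalClosure.normal k k₁ _
  haveI : FiniteDimensional k₁ N := FiniteDimensional.right k k₁ N
  let F : IntermediateField k N := IntermediateField.fixedField (⊤ : Subgroup (N ≃ₐ[k] N))
  haveI : IsGalois F N := IsGalois.of_fixed_field N (⊤ : Subgroup (N ≃ₐ[k] N))
  haveI : FiniteDimensional F N := FiniteDimensional.right k F N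
  refine ⟨N, inferInstance, inferInstance, inferInstance, inferInstance, inferInstance,
    inferInstance, F, inferInstance, inferInstance, inferInstance, inferInstance, inferInstance,
    inferInstance, ?_, inferInstance⟩
  rw [← le_perfectClosure_iff]
  intro x hx
  rw [mem_perfectClosure_iff_natSepDegree_eq_one]
  have hsplit : ((minpoly k x).map (algebraMap k N)).Splits := Normal.splits inferInstance x
  rw [Polynomial.natSepDegree_eq_of_splits _ hsplit]
  have hroots : ((minpoly k x).aroots N).toFinset = {x} := by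
    ext y
    rw [Multiset.mem_toFinset, Finset.mem_singleton, Polynomial.mem_aroots]
    constructor
    · rintro ⟨-, hy⟩
      have halg : IsAlgebraic k x := Algebra.IsAlgebraic.isAlgebraic x
      obtain ⟨σ, hσ⟩ := minpoly.exists_algEquiv_of_root' halg hy
      rw [← hσ]
      exact hx ⟨σ, Subgroup.mem_top σ⟩
    · rintro rfl
      exact ⟨minpoly.ne_zero (Algebra.IsIntegral.isIntegral y), minpoly.aeval k y⟩
  rw [hroots, Finset.card_singleton]

section iso

variable {k k₁ : Type u} {K Ka Kb : Type v} [Field k] [Field k₁] [Field K] [Field Ka] [Field Kb]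
  [Algebra k k₁] [FiniteDimensional k k₁]
  [Algebra k K] [Algebra K Ka] [Algebra k₁ Ka] [Algebra k Ka] [IsScalarTower k k₁ Ka]
  [IsScalarTower k K Ka]
  [Algebra K Kb] [Algebra k₁ Kb] [Algebra k Kb] [IsScalarTower k k₁ Kb] [IsScalarTower k K Kb]

/-- Two models of `k₁ ⊗ K` have the same genus. -/
theorem genus_model_le (hK : IsFunctionField k K) (hg : IsGeometric k K)
    (ha : Function.Bijective (Algebra.TensorProduct.productMap
      (IsScalarTower.toAlgHom k k₁ Ka) (IsScalarTower.toAlgHom k K Ka)))
    (hb : Function.Bijective (Algebra.TensorProduct.productMap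
      (IsScalarTower.toAlgHom k k₁ Kb) (IsScalarTower.toAlgHom k K Kb))) :
    genus k₁ Kb ≤ genus k₁ Ka := by
  classical
  obtain ⟨hKa, hga⟩ := Groth.Agent.S11006.result k k₁ K Ka ha hK hg
  obtain ⟨hKb, -⟩ := Groth.Agent.S11006.result k k₁ K Kb hb hK hg
  let ea : k₁ ⊗[k] K ≃ₐ[k] Ka := AlgEquiv.ofBijective _ ha
  let φ : Ka →ₐ[k] Kb := (Algebra.TensorProduct.productMap
    (IsScalarTower.toAlgHom k k₁ Kb) (IsScalarTower.toAlgHom k K Kb)).comp ea.symm.toAlgHom
  letI a2 : Algebra Ka Kb := φ.toRingHom.toAlgebra
  have hφ : ∀ y : Ka, algebraMap Ka Kb y = φ y := fun _ => rfl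
  have hφk : ∀ x : k₁, φ (algebraMap k₁ Ka x) = algebraMap k₁ Kb x := by
    intro x
    have h1 : ea.symm (algebraMap k₁ Ka x) = x ⊗ₜ 1 := by
      rw [AlgEquiv.symm_apply_eq]
      show _ = Algebra.TensorProduct.productMap _ _ (x ⊗ₜ 1)
      rw [Algebra.TensorProduct.productMap_apply_tmul, map_one, mul_one]
      rfl
    show Algebra.TensorProduct.productMap _ _ (ea.symm (algebraMap k₁ Ka x)) = _
    rw [h1, Algebra.TensorProduct.productMap_apply_tmul, map_one, mul_one]
    rfl
  have hφK : ∀ y : K, φ (algebraMap K Ka y) = algebraMap K Kb y := by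
    intro y
    have h1 : ea.symm (algebraMap K Ka y) = 1 ⊗ₜ y := by
      rw [AlgEquiv.symm_apply_eq]
      show _ = Algebra.TensorProduct.productMap _ _ (1 ⊗ₜ y)
      rw [Algebra.TensorProduct.productMap_apply_tmul, map_one, one_mul]
      rfl
    show Algebra.TensorProduct.productMap _ _ (ea.symm (algebraMap K Ka y)) = _
    rw [h1, Algebra.TensorProduct.productMap_apply_tmul, map_one, one_mul]
    rfl
  haveI t3 : IsScalarTower k₁ Ka Kb := IsScalarTower.of_algebraMap_eq (fun x => by
    rw [hφ, hφk])
  have hbij : Function.Bijective (Algebra.TensorProduct.productMap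
      (IsScalarTower.toAlgHom k₁ k₁ Kb) (IsScalarTower.toAlgHom k₁ Ka Kb)) := by
    constructor
    · letI := (hga k₁ inferInstance).toField
      exact (Algebra.TensorProduct.productMap
        (IsScalarTower.toAlgHom k₁ k₁ Kb) (IsScalarTower.toAlgHom k₁ Ka Kb)).toRingHom.injective
    · intro z
      let w : Module.Basis (Fin (Module.finrank k k₁)) k k₁ := Module.finBasis k k₁
      obtain ⟨c, hc⟩ := exists_coords hb.2 w z
      refine ⟨∑ i, (w i) ⊗ₜ[k₁] (algebraMap K Ka (c i)), ?_⟩
      rw [hc, map_sum]
      apply Finset.sum_congr rfl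
      intro i _
      rw [Algebra.TensorProduct.productMap_apply_tmul]
      show algebraMap k₁ Kb (w i) * algebraMap Ka Kb (algebraMap K Ka (c i)) = _
      rw [hφ, hφK]
      ring
  exact genus_le hbij hKa hKb

theorem genus_model_eq (hK : IsFunctionField k K) (hg : IsGeometric k K)
    (ha : Function.Bijective (Algebra.TensorProduct.productMap
      (IsScalarTower.toAlgHom k k₁ Ka) (IsScalarTower.toAlgHom k K Ka)))
    (hb : Function.Bijective (Algebra.TensorProduct.productMap
      (IsScalarTower.toAlgHom k k₁ Kb) (IsScalarTower.toAlgHom k K Kb))) :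
    genus k₁ Kb = genus k₁ Ka :=
  le_antisymm (genus_model_le hK hg ha hb) (genus_model_le hK hg hb ha)

end iso

section final

/-- The set of genera of all models of finite constant field extensions. -/
def genusSet (k : Type u) (K : Type v) [Field k] [Field K] [Algebra k K] : Set ℕ :=
  {n | ∃ (k₁ : Type u) (_ : Field k₁) (_ : Algebra k k₁) (_ : FiniteDimensional k k₁)
      (K₁ : Type v) (_ : Field K₁) (_ : Algebra K K₁) (_ : Algebra k₁ K₁) (_ : Algebra k K₁)
      (_ : IsScalarTower k k₁ K₁) (_ : IsScalarTower k K K₁),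
      Function.Bijective (Algebra.TensorProduct.productMap
        (IsScalarTower.toAlgHom k k₁ K₁) (IsScalarTower.toAlgHom k K K₁)) ∧ n = genus k₁ K₁}

variable {k : Type u} {K : Type v} [Field k] [Field K] [Algebra k K]

/-- **S12594**: a finite purely inseparable constant field extension makes the function field
nonsingular. -/
theorem exists_pi_nonsingular (hK : IsFunctionField k K) (hg : IsGeometric k K) :
    ∃ (k' : Type u) (_ : Field k') (_ : Algebra k k'), FiniteDimensional k k' ∧
      IsPurelyInseparable k k' ∧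
      ∀ (K' : Type v) [Field K'] [Algebra K K'] [Algebra k' K'] [Algebra k K']
        [IsScalarTower k k' K'] [IsScalarTower k K K'],
        Function.Bijective (Algebra.TensorProduct.productMap
          (IsScalarTower.toAlgHom k k' K') (IsScalarTower.toAlgHom k K K')) →
        ∀ (Q : Place k' K') (k'' : Type u) [Field k''] [Algebra k' k'']
          [FiniteDimensional k' k'']
          (K'' : Type v) [Field K''] [Algebra K' K''] [Algebra k'' K''] [Algebra k' K'']
          [IsScalarTower k' k'' K''] [IsScalarTower k' K' K''],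
          Function.Bijective (Algebra.TensorProduct.productMap
            (IsScalarTower.toAlgHom k' k'' K'') (IsScalarTower.toAlgHom k' K' K'')) →
          integralClosure (Q.O.toSubring.map (algebraMap K' K'')) K'' =
            Algebra.adjoin (Q.O.toSubring.map (algebraMap K' K''))
              (Set.range (algebraMap k'' K'')) := by
  classical
  have hne : (genusSet k K).Nonempty := by
    obtain ⟨K₂, f, a1, a2, a3, t1, t2, hb⟩ := exists_model k k K hg
    exact ⟨_, k, inferInstance, inferInstance, inferInstance, K₂, f, a1, a2, a3, t1, t2, hb, rfl⟩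
  obtain ⟨k₁, fk₁, ak₁, fdk₁, K₁, fK₁, aKK₁, ak₁K₁, akK₁, t1, t2, h₁, hn₀⟩ := Nat.sInf_mem hne
  have hmin : ∀ n ∈ genusSet k K, genus k₁ K₁ ≤ n := fun n hn => hn₀ ▸ Nat.sInf_le hn
  obtain ⟨hK₁, hg₁⟩ := Groth.Agent.S11006.result k k₁ K K₁ h₁ hK hg
  obtain ⟨N, fN, akN, ak₁N, tN, fdkN, fdk₁N, F, fF, akF, aFN, tF, fdkF, fdFN, hpi, hsep⟩ :=
    exists_normal_insep k k₁
  -- a model for `N` over `(k₁, K₁)`
  obtain ⟨KN, fKN, aK₁KN, aNKN, ak₁KN, tA, tB, hN⟩ := exists_model k₁ N K₁ hg₁
  letI akKN : Algebra k KN := ((algebraMap k₁ KN).comp (algebraMap k k₁)).toAlgebra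
  letI aKKN : Algebra K KN := ((algebraMap K₁ KN).comp (algebraMap K K₁)).toAlgebra
  haveI tC : IsScalarTower K K₁ KN := IsScalarTower.of_algebraMap_eq (fun _ => rfl)
  haveI tD : IsScalarTower k K KN := IsScalarTower.of_algebraMap_eq (fun c => by
    show algebraMap k₁ KN (algebraMap k k₁ c) =
      algebraMap K₁ KN (algebraMap K K₁ (algebraMap k K c))
    rw [← IsScalarTower.algebraMap_apply k K K₁, IsScalarTower.algebraMap_apply k k₁ K₁,
      ← IsScalarTower.algebraMap_apply k₁ K₁ KN])
  haveI tE : IsScalarTower k N KN := IsScalarTower.of_algebraMap_eq (fun c => by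
    show algebraMap k₁ KN (algebraMap k k₁ c) = algebraMap N KN (algebraMap k N c)
    rw [IsScalarTower.algebraMap_apply k k₁ N, ← IsScalarTower.algebraMap_apply k₁ N KN])
  have hN' := model_trans hg h₁ hN
  obtain ⟨hKN, hgN⟩ := Groth.Agent.S11006.result k₁ N K₁ KN hN hK₁ hg₁
  have hgenN : genus N KN = genus k₁ K₁ := by
    apply le_antisymm (genus_le hN hK₁ hKN)
    exact hmin _ ⟨N, fN, akN, fdkN, KN, fKN, aKKN, aNKN, akKN, tE, tD, hN', rfl⟩
  -- a model for `F` over `(k, K)`
  obtain ⟨KF, fKF, aKKF, aFKF, akKF, tG, tH, hF⟩ := exists_model k F K hg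
  obtain ⟨hKF, hgF⟩ := Groth.Agent.S11006.result k F K KF hF hK hg
  obtain ⟨aKFKN, aFKN, tI, tJ, hFN⟩ := model_compare (k := k) (ka := F) (kb := N) (K := K)
    (Ka := KF) (Kb := KN) hgF hF hN'
  have hgenF : genus N KN = genus F KF := by
    apply genus_eq_of_nonsing hFN hKF hKN
    intro P _ _ z hz
    haveI : Module.Finite KF KN := (Groth.Agent.S11006.finrank_K' F N KF KN hFN).1
    obtain ⟨Q, hQ⟩ := exists_isOver_above (K' := KN) hKF P
    have h3 := (Groth.Agent.Lib.Helper34.FunFldConstSep.main hFN hKF P Q hQ).1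
    have hz' : z ∈ (integralClosure P.O KN).toSubring := hz
    rw [h3] at hz'
    exact hz'
  refine ⟨F, fF, akF, fdkF, hpi, ?_⟩
  intro K' _ _ _ _ _ _ h1 Q k'' _ _ _ K'' _ _ _ _ _ _ h2
  obtain ⟨hK', hg'⟩ := Groth.Agent.S11006.result k F K K' h1 hK hg
  obtain ⟨hK'', -⟩ := Groth.Agent.S11006.result F k'' K' K'' h2 hK' hg'
  have hgen' : genus F K' = genus k₁ K₁ := by
    rw [genus_model_eq hK hg hF h1, ← hgenF, hgenN]
  -- `K''` as a model over `(k, K)`
  letI akk'' : Algebra k k'' := ((algebraMap F k'').comp (algebraMap k F)).toAlgebra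
  haveI s1 : IsScalarTower k F k'' := IsScalarTower.of_algebraMap_eq (fun _ => rfl)
  haveI s2 : FiniteDimensional k k'' := FiniteDimensional.trans k F k''
  letI akK'' : Algebra k K'' := ((algebraMap F K'').comp (algebraMap k F)).toAlgebra
  letI aKK'' : Algebra K K'' := ((algebraMap K' K'').comp (algebraMap K K')).toAlgebra
  haveI s3 : IsScalarTower K K' K'' := IsScalarTower.of_algebraMap_eq (fun _ => rfl)
  haveI s4 : IsScalarTower k K K'' := IsScalarTower.of_algebraMap_eq (fun c => by
    show algebraMap F K'' (algebraMap k F c) =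
      algebraMap K' K'' (algebraMap K K' (algebraMap k K c))
    rw [← IsScalarTower.algebraMap_apply k K K', IsScalarTower.algebraMap_apply k F K',
      ← IsScalarTower.algebraMap_apply F K' K''])
  haveI s5 : IsScalarTower k k'' K'' := IsScalarTower.of_algebraMap_eq (fun c => by
    show algebraMap F K'' (algebraMap k F c) = algebraMap k'' K'' (algebraMap F k'' (algebraMap k F c))
    rw [← IsScalarTower.algebraMap_apply F k'' K''])
  have h12 := model_trans hg h1 h2
  have hge : genus k₁ K₁ ≤ genus k'' K'' :=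
    hmin _ ⟨k'', inferInstance, akk'', s2, K'', inferInstance, aKK'', inferInstance, akK'',
      s5, s4, h12, rfl⟩
  have hle : genus k'' K'' ≤ genus F K' := genus_le h2 hK' hK''
  have heq : genus k'' K'' = genus F K' := le_antisymm hle (hgen' ▸ hge)
  -- conclude
  letI aQ : Algebra Q.O K'' := ((algebraMap K' K'').comp Q.O.subtype).toAlgebra
  haveI tQ : IsScalarTower Q.O K' K'' := IsScalarTower.of_algebraMap_eq (fun _ => rfl)
  haveI tQ' : IsScalarTower F Q.O K'' := IsScalarTower.of_algebraMap_eq (fun c => by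
    rw [algebraMap_O_apply', IsScalarTower.algebraMap_apply F K' K'']
    rfl)
  have hconst : ∀ y ∈ Set.range (algebraMap k'' K''), IsIntegral Q.O y := by
    rintro _ ⟨c, rfl⟩
    have e1 : IsIntegral F c := Algebra.IsIntegral.isIntegral c
    have e2 : IsIntegral F (algebraMap k'' K'' c) := e1.map (IsScalarTower.toAlgHom F k'' K'')
    exact e2.tower_top
  rw [nonsing_iff Q _ hconst]
  exact fun z hz => nonsing_of_genus_eq h2 hK' hK'' heq Q z hz

end final

end Groth.Agent.Lib.Helper44.FFExt
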