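/-
Splitting fields of places (S12591): every place of a geometric function field has a finite
constant field extension over which all places above it have degree one.
Author: helper44
-/
import Groth.Agent.Lib.Helper44.FunFldDesing
import Groth.Agent.Lib.Helper34.FunFldNonsing2
import Groth.Agent.Lib.Helper34.FunFldInsepUnique
import Groth.Agent.Lib.Helper34.FunFldZetaSplit2
import Mathlib.FieldTheory.SplittingField.Construction
import Mathlib.FieldTheory.Normal.Basic

set_option autoImplicit false
set_option linter.unusedSectionVars false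
set_option linter.style.haveILetI false

namespace Groth.Agent.Lib.Helper44.FFExt

open FunFld WithZero
open Groth.Agent.Lib.Helper88.FF Groth.Agent.Lib.Helper34.FunFldIntFin
  Groth.Agent.Lib.Helper34.FunFldConstFin Groth.Agent.Lib.Helper34.FunFldZetaSplit
  Groth.Agent.Lib.Helper34.FunFldNonsing2 Groth.Agent.Lib.Helper34.FunFldInsepUnique
open scoped TensorProduct

universe u v

section split

/-- A finite extension `R₀/k₀` (possibly in a larger universe) is split by a finite extension of
`k₀` in the universe of `k₀`: all minimal polynomials split. -/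
theorem exists_splitting (k₀ : Type u) (R₀ : Type v) [Field k₀] [Field R₀] [Algebra k₀ R₀]
    [FiniteDimensional k₀ R₀] :
    ∃ (k' : Type u) (_ : Field k') (_ : Algebra k₀ k') (_ : FiniteDimensional k₀ k'),
      ∀ β : R₀, ((minpoly k₀ β).map (algebraMap k₀ k')).Splits := by
  classical
  let b := Module.finBasis k₀ R₀
  let p : Polynomial k₀ := ∏ i, minpoly k₀ (b i)
  have hp0 : p ≠ 0 := Finset.prod_ne_zero_iff.2
    (fun i _ => minpoly.ne_zero (Algebra.IsIntegral.isIntegral (b i)))
  refine ⟨p.SplittingField, inferInstance, inferInstance, inferInstance, ?_⟩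
  intro β
  have htop : IntermediateField.adjoin k₀ (Set.range b) = ⊤ := by
    rw [eq_top_iff]
    intro x _
    have hx : x ∈ Submodule.span k₀ (Set.range b) := b.mem_span x
    have hle : Submodule.span k₀ (Set.range b) ≤
        (IntermediateField.adjoin k₀ (Set.range b)).toSubalgebra.toSubmodule :=
      Submodule.span_le.2 (IntermediateField.subset_adjoin k₀ _)
    exact hle hx
  have hβ : β ∈ IntermediateField.adjoin k₀ (Set.range b) := by
    rw [htop]
    exact IntermediateField.mem_top
  refine IntermediateField.splits_of_mem_adjoin k₀ R₀ (S := Set.range b) ?_ hβ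
  rintro _ ⟨i, rfl⟩
  refine ⟨Algebra.IsIntegral.isIntegral _, ?_⟩
  have hsp : (p.map (algebraMap k₀ p.SplittingField)).Splits :=
    Polynomial.SplittingField.splits p
  have hdvd : minpoly k₀ (b i) ∣ p := Finset.dvd_prod_of_mem _ (Finset.mem_univ i)
  exact Polynomial.Splits.of_dvd hsp (Polynomial.map_ne_zero hp0)
    (Polynomial.map_dvd _ hdvd)

end split

section main

attribute [-instance] IsLocalRing.ResidueField.algebra IsLocalRing.instModuleResidueFieldOfAlgebra

variable {k : Type u} {K : Type v} [Field k] [Field K] [Algebra k K]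

lemma finrank_eq_one_of_surjective {k' F : Type*} [Field k'] [Field F] [Algebra k' F]
    (h : Function.Surjective (algebraMap k' F)) : Module.finrank k' F = 1 :=
  (finrank_eq_one_iff_of_nonzero' (1 : F) one_ne_zero).2 (fun w => by
    obtain ⟨c, rfl⟩ := h w
    exact ⟨c, by rw [Algebra.smul_def, mul_one]⟩)

/-- Splitting field of a place, with the hypothesis `IsOver` on the places above. -/
theorem exists_splitting_field' (hK : IsFunctionField k K) (hg : IsGeometric k K) (P : Place k K) :
    ∃ (k' : Type u) (_ : Field k') (_ : Algebra k k'), FiniteDimensional k k' ∧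
      ∀ (K' : Type v) [Field K'] [Algebra K K'] [Algebra k' K'] [Algebra k K']
        [IsScalarTower k k' K'] [IsScalarTower k K K'],
        Function.Bijective (Algebra.TensorProduct.productMap
          (IsScalarTower.toAlgHom k k' K') (IsScalarTower.toAlgHom k K K')) →
        ∀ Q : Place k' K', IsOver (toK (k := k) Q) P → Q.deg = 1 := by
  classical
  obtain ⟨k₀, fk₀, akk₀, fdk₀, hpi, hns₀⟩ := exists_pi_nonsingular hK hg
  obtain ⟨K₀, fK₀, aKK₀, ak₀K₀, akK₀, t1, t2, h₀⟩ := exists_model k k₀ K hg
  obtain ⟨hK₀, hg₀⟩ := Groth.Agent.S11006.result k k₀ K K₀ h₀ hK hg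
  haveI fKK₀ : Module.Finite K K₀ := (Groth.Agent.S11006.finrank_K' k k₀ K K₀ h₀).1
  obtain ⟨Q₀, hQ₀⟩ := exists_isOver_above (K' := K₀) hK P
  obtain ⟨Q₀', hdef⟩ : ∃ Q' : Place k₀ K₀, toK (k := k) Q' = Q₀ := ⟨ofK Q₀, rfl⟩
  have fdres := finiteDimensional_residueField hK₀ Q₀'
  haveI fdres' : FiniteDimensional k₀ (IsLocalRing.ResidueField Q₀'.O) := fdres
  obtain ⟨k', fk', ak₀k', fdk₀k', hsplit⟩ :=
    exists_splitting k₀ (IsLocalRing.ResidueField Q₀'.O)
  letI akk' : Algebra k k' := ((algebraMap k₀ k').comp (algebraMap k k₀)).toAlgebra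
  haveI tkk' : IsScalarTower k k₀ k' := IsScalarTower.of_algebraMap_eq (fun _ => rfl)
  haveI fdkk' : FiniteDimensional k k' := FiniteDimensional.trans k k₀ k'
  refine ⟨k', fk', akk', fdkk', ?_⟩
  intro K' _ _ _ _ _ _ h1 Q hext
  obtain ⟨aK₀K', ak₀K', t3, t4, t5, h01⟩ := model_compare' (k := k) (ka := k₀) (kb := k')
    (K := K) (Ka := K₀) (Kb := K') hg₀ h₀ h1
  haveI fK₀K' : Module.Finite K₀ K' := (Groth.Agent.S11006.finrank_K' k₀ k' K₀ K' h01).1
  haveI fKK' : Module.Finite K K' := (Groth.Agent.S11006.finrank_K' k k' K K' h1).1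
  -- the place below `Q` in `K₀`
  obtain ⟨Qb, hQb⟩ := exists_isOver_below (K := K₀) (toK (k := k₀) Q)
  have hQbP : IsOver (toK (k := k) Qb) P := by
    apply isOver_of_val_le_one_iff
    intro y
    have e1 := isOverWith_val_le_one_iff (isOverWith_ramIdx hQb) (algebraMap K K₀ y)
    have e2 : (toK (k := k₀) Q).1 (algebraMap K₀ K' (algebraMap K K₀ y)) ≤ 1 ↔ P.1 y ≤ 1 := by
      rw [← IsScalarTower.algebraMap_apply K K₀ K']
      exact isOverWith_val_le_one_iff (isOverWith_ramIdx hext) y
    exact e1.symm.trans e2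
  have hQbeq : toK (k := k) Qb = Q₀ := unique_of_pi_const (P := P) h₀.2 hQbP hQ₀
  have hQbeq' : Qb = Q₀' := by
    apply Subtype.ext
    have := congrArg Subtype.val (hQbeq.trans hdef.symm)
    exact this
  subst hQbeq'
  -- nonsingularity of `Qb` in `K'`
  have hns := hns₀ K₀ h₀ Qb k' K' h01
  letI aQ : Algebra Qb.O K' := ((algebraMap K₀ K').comp Qb.O.subtype).toAlgebra
  haveI tQ : IsScalarTower Qb.O K₀ K' := IsScalarTower.of_algebraMap_eq (fun _ => rfl)
  haveI tQ' : IsScalarTower k₀ Qb.O K' := IsScalarTower.of_algebraMap_eq (fun c => by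
    rw [algebraMap_O_apply', IsScalarTower.algebraMap_apply k₀ K₀ K']
    rfl)
  have hconst : ∀ y ∈ Set.range (algebraMap k' K'), IsIntegral Qb.O y := by
    rintro _ ⟨c, rfl⟩
    have e1 : IsIntegral k₀ c := Algebra.IsIntegral.isIntegral c
    have e2 : IsIntegral k₀ (algebraMap k' K' c) := e1.map (IsScalarTower.toAlgHom k₀ k' K')
    exact e2.tower_top
  have hns1 := (nonsing_iff Qb _ hconst).1 hns
  have hns2 : (integralClosure Qb.O K').toSubring =
      (Algebra.adjoin Qb.O (Set.range (algebraMap k' K'))).toSubring := by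
    apply SetLike.ext
    intro z
    constructor
    · intro hz
      exact hns1 z hz
    · intro hz
      have hle : Algebra.adjoin Qb.O (Set.range (algebraMap k' K')) ≤ integralClosure Qb.O K' :=
        Algebra.adjoin_le hconst
      exact hle hz
  -- the residue field of `Q` is the image of `k'`
  let ι : k' →+* IsLocalRing.ResidueField (toK (k := k₀) Q).O :=
    algebraMap k' (IsLocalRing.ResidueField Q.O)
  have hall : ∀ y : IsLocalRing.ResidueField (toK (k := k₀) Q).O, y ∈ ι.range := by
    intro y
    refine residue_induction hK₀ Qb hns2 (toK (k := k₀) Q) hQb ι.range ?_ ?_ y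
    · intro x
      let ρ : IsLocalRing.ResidueField Qb.O →+* IsLocalRing.ResidueField (toK (k := k₀) Q).O :=
        IsLocalRing.ResidueField.map (toO hQb)
      have hρ : IsLocalRing.residue (toK (k := k₀) Q).O (toO hQb x) =
          ρ (IsLocalRing.residue Qb.O x) := rfl
      rw [hρ]
      set β := IsLocalRing.residue Qb.O x with hβ
      have hcomp : ρ.comp (algebraMap k₀ (IsLocalRing.ResidueField Qb.O)) =
          ι.comp (algebraMap k₀ k') := by
        ext c
        show IsLocalRing.residue (toK (k := k₀) Q).O (toO hQb ⟨algebraMap k₀ K₀ c, _⟩) =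
          IsLocalRing.residue Q.O ⟨algebraMap k' K' (algebraMap k₀ k' c), _⟩
        congr 1
        apply Subtype.ext
        show algebraMap K₀ K' (algebraMap k₀ K₀ c) = algebraMap k' K' (algebraMap k₀ k' c)
        rw [← IsScalarTower.algebraMap_apply k₀ K₀ K', ← IsScalarTower.algebraMap_apply k₀ k' K']
      have hm0 : minpoly k₀ β ≠ 0 := minpoly.ne_zero (Algebra.IsIntegral.isIntegral β)
      have hroot : (((minpoly k₀ β).map (algebraMap k₀ k')).map ι).IsRoot (ρ β) := by
        rw [Polynomial.IsRoot.def, Polynomial.map_map, Polynomial.eval_map, ← hcomp,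
          ← Polynomial.hom_eval₂]
        have : Polynomial.eval₂ (algebraMap k₀ (IsLocalRing.ResidueField Qb.O)) β (minpoly k₀ β)
            = 0 := minpoly.aeval k₀ β
        rw [this, map_zero]
      exact Polynomial.Splits.mem_range_of_isRoot (hsplit β) (Polynomial.map_ne_zero hm0) hroot
    · intro c
      exact ⟨c, rfl⟩
  exact finrank_eq_one_of_surjective (fun y => hall y)

/-- **S12591**: every place has a splitting field of finite degree. -/
theorem exists_splitting_field (hK : IsFunctionField k K) (hg : IsGeometric k K) (P : Place k K) :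
    ∃ (k' : Type u) (_ : Field k') (_ : Algebra k k'), FiniteDimensional k k' ∧
      ∀ (K' : Type v) [Field K'] [Algebra K K'] [Algebra k' K'] [Algebra k K']
        [IsScalarTower k k' K'] [IsScalarTower k K K'],
        Function.Bijective (Algebra.TensorProduct.productMap
          (IsScalarTower.toAlgHom k k' K') (IsScalarTower.toAlgHom k K K')) →
        ∀ Q : Place k' K', P.1.HasExtension Q.1 → Q.deg = 1 := by
  obtain ⟨k', fk', akk', fdkk', hsp⟩ := exists_splitting_field' hK hg P
  refine ⟨k', fk', akk', fdkk', ?_⟩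
  intro K' _ _ _ _ _ _ h1 Q hext
  haveI fKK' : Module.Finite K K' := (Groth.Agent.S11006.finrank_K' k k' K K' h1).1
  haveI : P.1.HasExtension (toK (k := k) Q).1 := hext
  exact hsp K' h1 Q (isOver_of_hasExtension P (toK (k := k) Q))

end main

end Groth.Agent.Lib.Helper44.FFExt
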