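/-
Counting places above a nonsingular place in a splitting field (S12592): the number of places is
the separable degree of the residue field, the ramification index is the inseparable degree.
Author: helper44
-/
import Groth.Agent.Lib.Helper44.FunFldSplit
import Mathlib.Algebra.Polynomial.Identities
import Mathlib.FieldTheory.PurelyInseparable.Basic
import Mathlib.FieldTheory.SeparableDegree

set_option autoImplicit false
set_option linter.unusedSectionVars false
set_option linter.style.haveILetI false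

namespace Groth.Agent.Lib.Helper44.FFExt

open FunFld WithZero Polynomial
open Groth.Agent.Lib.Helper88.FF Groth.Agent.Lib.Helper34.FunFldIntFin
  Groth.Agent.Lib.Helper34.FunFldConstFin Groth.Agent.Lib.Helper34.FunFldZetaSplit
  Groth.Agent.Lib.Helper34.FunFldNonsing
open scoped TensorProduct

section ratplace

attribute [-instance] IsLocalRing.ResidueField.algebra IsLocalRing.instModuleResidueFieldOfAlgebra

variable {k k' K K' : Type*} [Field k] [Field k'] [Field K] [Field K']
  [Algebra k k'] [Algebra k K] [Algebra K K'] [Algebra k' K'] [Algebra k K']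
  [IsScalarTower k k' K'] [IsScalarTower k K K'] [Algebra.IsIntegral k k']

/-- `Q` is rational over `k'`: every element of `O_Q` is congruent to a constant of `k'`. -/
def IsRat (k' : Type*) {K' : Type*} [Field k'] [Field K'] [Algebra k K'] [Algebra k' K']
    (Q : Place k K') : Prop :=
  ∀ z : K', Q.1 z ≤ 1 → ∃ c : k', Q.1 (z - algebraMap k' K' c) < 1

lemma cval_le_one (Q : Place k K') (c : k') : Q.1 (algebraMap k' K' c) ≤ 1 :=
  Groth.Agent.Lib.Helper34.FunFldInsepUnique.val_const_le_one Q c

lemma cval_eq_one (Q : Place k K') {c : k'} (hc : c ≠ 0) : Q.1 (algebraMap k' K' c) = 1 :=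
  Groth.Agent.Lib.Helper34.FunFldInsepUnique.val_const_eq_one Q hc

lemma const_eq_zero_of_val_lt (Q : Place k K') {c : k'} (hc : Q.1 (algebraMap k' K' c) < 1) :
    c = 0 := by
  by_contra h
  rw [cval_eq_one Q h] at hc
  exact lt_irrefl _ hc

/-- Taylor expansion with valuation control. -/
lemma val_taylor (f : k[X]) (Q : Place k K') {a b : K'} (ha : Q.1 a ≤ 1) (hb : Q.1 b ≤ 1) :
    ∃ κ : K', Q.1 κ ≤ 1 ∧
      aeval a f = aeval b f + aeval b (derivative f) * (a - b) + κ * (a - b) ^ 2 := by
  obtain ⟨κ, hκ⟩ := binomExpansion (f.map (algebraMap k Q.O)) (⟨b, hb⟩ : Q.O)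
    ((⟨a, ha⟩ : Q.O) - ⟨b, hb⟩)
  refine ⟨κ, κ.2, ?_⟩
  have hcoe : ∀ (g : k[X]) (u : Q.O),
      (((g.map (algebraMap k Q.O)).eval u : Q.O) : K') = aeval (u : K') g := by
    intro g u
    rw [eval_map, aeval_def]
    exact hom_eval₂ g (algebraMap k Q.O) Q.O.subtype u
  have h1 : ((((f.map (algebraMap k Q.O)).eval ((⟨b, hb⟩ : Q.O) + ((⟨a, ha⟩ : Q.O) - ⟨b, hb⟩)) :
      Q.O)) : K') = _ := congrArg (fun w : Q.O => (w : K')) hκ
  rw [add_sub_cancel] at h1
  rw [hcoe] at h1
  rw [h1]
  push_cast
  rw [hcoe, derivative_map, hcoe]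

/-- **Separable residues are congruent to constants modulo `m_P O_Q`.** -/
theorem sep_congr {Q : Place k K'} {P : Place k K} (hQP : IsOver Q P) (hrat : IsRat k' Q)
    (y : P.O) (hsep : IsSeparable k (IsLocalRing.residue P.O y)) :
    ∃ c : k', Q.1 (algebraMap K K' (y : K) - algebraMap k' K' c) ≤
      exp (-(ramIdx Q P : ℤ)) := by
  obtain ⟨f, hf⟩ : ∃ f : k[X], f = minpoly k (IsLocalRing.residue P.O y) := ⟨_, rfl⟩
  have hfsep : f.Separable := hf ▸ hsep
  -- `f(y)` has positive order at `P`
  have h1 : P.1 (aeval (y : K) f) < 1 := by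
    have e1 : aeval (y : K) f = ((aeval y f : P.O) : K) :=
      Polynomial.aeval_algHom_apply (inclO P) y f
    have e2 : IsLocalRing.residue P.O (aeval y f) = 0 := by
      have h := Polynomial.aeval_algHom_apply (resAlg P) y f
      rw [← resAlg_apply, ← h, resAlg_apply, hf]
      exact minpoly.aeval k _
    rw [e1]
    exact (Valuation.mem_maximalIdeal_iff _ _).1 ((IsLocalRing.residue_eq_zero_iff _).1 e2)
  obtain ⟨u, hu⟩ : ∃ u : K', u = algebraMap K K' (y : K) := ⟨_, rfl⟩
  have hu1 : Q.1 u ≤ 1 := hu ▸ val_algebraMap_le_one hQP y.2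
  have hfu : aeval u f = algebraMap K K' (aeval (y : K) f) := by
    rw [hu]
    exact Polynomial.aeval_algebraMap_apply K' (y : K) f
  have hQfu : Q.1 (aeval u f) ≤ exp (-(ramIdx Q P : ℤ)) := by
    rw [hfu, isOverWith_ramIdx hQP]
    have h2 : P.1 (aeval (y : K) f) ≤ exp (-1 : ℤ) := lt_one_iff_le_exp_neg_one.1 h1
    calc P.1 (aeval (y : K) f) ^ ramIdx Q P ≤ exp (-1 : ℤ) ^ ramIdx Q P :=
          pow_le_pow_left' h2 _
      _ = exp (-(ramIdx Q P : ℤ)) := by rw [exp_pow']; congr 1; ring
  have hQfu1 : Q.1 (aeval u f) < 1 := by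
    rw [hfu]
    exact (isOverWith_val_lt_one_iff (isOverWith_ramIdx hQP) _).2 h1
  obtain ⟨c, hc⟩ := hrat u hu1
  rw [← hu]
  obtain ⟨c', hc'⟩ : ∃ c' : K', c' = algebraMap k' K' c := ⟨_, rfl⟩
  refine ⟨c, ?_⟩
  rw [← hc'] at hc ⊢
  have hc'1 : Q.1 c' ≤ 1 := hc' ▸ cval_le_one Q c
  obtain ⟨κ, hκ1, hκ⟩ := val_taylor f Q hu1 hc'1
  have hfc : aeval c' f = algebraMap k' K' (aeval c f) := by
    rw [hc']
    exact Polynomial.aeval_algebraMap_apply K' c f
  have hdc : aeval c' (derivative f) = algebraMap k' K' (aeval c (derivative f)) := by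
    rw [hc']
    exact Polynomial.aeval_algebraMap_apply K' c (derivative f)
  have hd1 : Q.1 (aeval c' (derivative f)) ≤ 1 := hdc ▸ cval_le_one Q _
  have ht2 : Q.1 (aeval c' (derivative f) * (u - c')) < 1 := by
    rw [map_mul]
    calc Q.1 (aeval c' (derivative f)) * Q.1 (u - c') ≤ 1 * Q.1 (u - c') :=
          mul_le_mul' hd1 le_rfl
      _ = Q.1 (u - c') := one_mul _
      _ < 1 := hc
  have ht3' : Q.1 (κ * (u - c')) < 1 := by
    rw [map_mul]
    calc Q.1 κ * Q.1 (u - c') ≤ 1 * Q.1 (u - c') := mul_le_mul' hκ1 le_rfl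
      _ = Q.1 (u - c') := one_mul _
      _ < 1 := hc
  have ht3 : Q.1 (κ * (u - c') ^ 2) < 1 := by
    have : κ * (u - c') ^ 2 = (κ * (u - c')) * (u - c') := by ring
    rw [this, map_mul]
    calc Q.1 (κ * (u - c')) * Q.1 (u - c') ≤ 1 * Q.1 (u - c') := mul_le_mul' ht3'.le le_rfl
      _ = Q.1 (u - c') := one_mul _
      _ < 1 := hc
  -- `c` is a root of `f`
  have hroot : aeval c f = 0 := by
    apply const_eq_zero_of_val_lt Q
    rw [← hfc]
    have : aeval c' f = aeval u f - aeval c' (derivative f) * (u - c') - κ * (u - c') ^ 2 := by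
      rw [hκ]; ring
    rw [this]
    refine lt_of_le_of_lt (Valuation.map_sub _ _ _) (max_lt ?_ ht3)
    exact lt_of_le_of_lt (Valuation.map_sub _ _ _) (max_lt hQfu1 ht2)
  have hD : aeval c (derivative f) ≠ 0 := hfsep.aeval_derivative_ne_zero hroot
  have hDval : Q.1 (aeval c' (derivative f)) = 1 := by
    rw [hdc]
    exact cval_eq_one Q hD
  have hfac : aeval u f = (u - c') * (aeval c' (derivative f) + κ * (u - c')) := by
    rw [hκ, hfc, hroot, map_zero]; ring
  have hunit : Q.1 (aeval c' (derivative f) + κ * (u - c')) = 1 := by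
    rw [Valuation.map_add_eq_of_lt_left _ (by rw [hDval]; exact ht3'), hDval]
  rw [hfac, map_mul, hunit, mul_one] at hQfu
  exact hQfu

/-- Valuation of a `k'`-combination of powers of a uniformizer. -/
lemma val_sum_const_mul_pow (Q : Place k K') {π : K'} (hπ : Q.1 π = exp (-1 : ℤ)) :
    ∀ (e : ℕ) (a : Fin e → k'), (∃ l, a l ≠ 0) →
      exp (-(e : ℤ)) < Q.1 (∑ l : Fin e, algebraMap k' K' (a l) * π ^ (l : ℕ)) := by
  intro e
  induction e with
  | zero =>
    rintro a ⟨l, -⟩
    exact l.elim0
  | succ e ih =>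
    intro a ha
    rw [Fin.sum_univ_castSucc]
    have hlast : Q.1 (algebraMap k' K' (a (Fin.last e)) * π ^ ((Fin.last e : Fin (e + 1)) : ℕ)) ≤
        exp (-(e : ℤ)) := by
      rw [map_mul, map_pow, hπ, Fin.val_last, exp_pow']
      calc Q.1 (algebraMap k' K' (a (Fin.last e))) * exp ((e : ℤ) * -1) ≤
            1 * exp ((e : ℤ) * -1) := mul_le_mul' (cval_le_one Q _) le_rfl
        _ = exp (-(e : ℤ)) := by rw [one_mul]; congr 1; ring
    have hstep : exp (-((e + 1 : ℕ) : ℤ)) < exp (-(e : ℤ)) := by
      rw [exp_lt_exp]; push_cast; linarith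
    by_cases hex : ∃ l : Fin e, a (Fin.castSucc l) ≠ 0
    · have h1 := ih (fun l => a (Fin.castSucc l)) hex
      have h2 : Q.1 (algebraMap k' K' (a (Fin.last e)) * π ^ ((Fin.last e : Fin (e + 1)) : ℕ)) <
          Q.1 (∑ l : Fin e, algebraMap k' K' (a (Fin.castSucc l)) * π ^ ((Fin.castSucc l : Fin (e + 1)) : ℕ)) :=
        lt_of_le_of_lt hlast h1
      rw [Valuation.map_add_eq_of_lt_left _ h2]
      exact hstep.trans h1
    · push Not at hex
      have hz : ∑ l : Fin e, algebraMap k' K' (a (Fin.castSucc l)) *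
          π ^ ((Fin.castSucc l : Fin (e + 1)) : ℕ) = 0 := by
        apply Finset.sum_eq_zero
        intro l _
        rw [hex l, map_zero, zero_mul]
      rw [hz, zero_add]
      have hne : a (Fin.last e) ≠ 0 := by
        obtain ⟨l, hl⟩ := ha
        refine Fin.lastCases ?_ (fun l' hl' => ?_) l hl
        · exact fun h => h
        · exact absurd (hex l') hl'
      rw [map_mul, map_pow, hπ, Fin.val_last, exp_pow', cval_eq_one Q hne, one_mul]
      rw [exp_lt_exp]; push_cast; linarith

section ramle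

variable [FiniteDimensional K K'] (hK : IsFunctionField k K) (P : Place k K)
  [Algebra P.O K'] [IsScalarTower P.O K K']

include hK in
/-- **Upper bound for the ramification index at a rational place above a nonsingular place**:
if `F_P` is spanned over its separable part by `i` elements then `e(Q|P) ≤ i`. -/
theorem ramIdx_le_of_rat
    (hns : (integralClosure P.O K').toSubring =
      (Algebra.adjoin P.O (Set.range (algebraMap k' K'))).toSubring)
    {Q : Place k K'} (hQP : IsOver Q P) (hrat : IsRat k' Q) {i : ℕ} (B : Fin i → P.O)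
    (hB : ∀ x : P.O, ∃ y : Fin i → P.O,
      (∀ j, IsSeparable k (IsLocalRing.residue P.O (y j))) ∧
      P.1 ((x : K) - ∑ j, (y j : K) * (B j : K)) < 1) :
    ramIdx Q P ≤ i := by
  classical
  obtain ⟨e, he⟩ : ∃ e : ℕ, e = ramIdx Q P := ⟨_, rfl⟩
  rw [← he]
  have hlt1 : exp (-(e : ℤ)) ≤ (1 : ℤᵐ⁰) := by
    rw [← exp_zero, exp_le_exp]; omega
  have hBQ : ∀ j, Q.1 (algebraMap K K' (B j : K)) ≤ 1 := fun j =>
    val_algebraMap_le_one hQP (B j).2
  -- the approximation property
  let Good : K' → Prop := fun z => ∃ c : Fin i → k',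
    Q.1 (z - ∑ j, algebraMap k' K' (c j) * algebraMap K K' (B j : K)) ≤ exp (-(e : ℤ))
  have good_add : ∀ z₁ z₂, Good z₁ → Good z₂ → Good (z₁ + z₂) := by
    rintro z₁ z₂ ⟨c₁, h₁⟩ ⟨c₂, h₂⟩
    refine ⟨fun j => c₁ j + c₂ j, ?_⟩
    have : z₁ + z₂ - ∑ j, algebraMap k' K' (c₁ j + c₂ j) * algebraMap K K' (B j : K) =
        (z₁ - ∑ j, algebraMap k' K' (c₁ j) * algebraMap K K' (B j : K)) +
        (z₂ - ∑ j, algebraMap k' K' (c₂ j) * algebraMap K K' (B j : K)) := by
      simp only [map_add, add_mul, Finset.sum_add_distrib]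
      ring
    rw [this]
    exact (Q.1.map_add _ _).trans (max_le h₁ h₂)
  have good_small : ∀ z, Q.1 z ≤ exp (-(e : ℤ)) → Good z := by
    intro z hz
    refine ⟨fun _ => 0, ?_⟩
    simp only [map_zero, zero_mul, Finset.sum_const_zero, sub_zero]
    exact hz
  have good_cmul : ∀ (a : k') z, Good z → Good (algebraMap k' K' a * z) := by
    rintro a z ⟨c, hc⟩
    refine ⟨fun j => a * c j, ?_⟩
    have : algebraMap k' K' a * z - ∑ j, algebraMap k' K' (a * c j) * algebraMap K K' (B j : K) =
        algebraMap k' K' a * (z - ∑ j, algebraMap k' K' (c j) * algebraMap K K' (B j : K)) := by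
      simp only [map_mul, mul_sub, Finset.mul_sum, mul_assoc]
    rw [this, map_mul]
    calc Q.1 (algebraMap k' K' a) * _ ≤ 1 * exp (-(e : ℤ)) := mul_le_mul' (cval_le_one Q a) hc
      _ = exp (-(e : ℤ)) := one_mul _
  have good_base : ∀ x : P.O, Good (algebraMap K K' (x : K)) := by
    intro x
    obtain ⟨y, hysep, hy⟩ := hB x
    have hc : ∀ j, ∃ c : k', Q.1 (algebraMap K K' (y j : K) - algebraMap k' K' c) ≤
        exp (-(ramIdx Q P : ℤ)) := fun j => sep_congr hQP hrat (y j) (hysep j)
    choose c hc using hc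
    refine ⟨c, ?_⟩
    have h1 : Q.1 (algebraMap K K' ((x : K) - ∑ j, (y j : K) * (B j : K))) ≤ exp (-(e : ℤ)) := by
      rw [isOverWith_ramIdx hQP, ← he]
      have h2 := lt_one_iff_le_exp_neg_one.1 hy
      calc _ ≤ exp (-1 : ℤ) ^ e := pow_le_pow_left' h2 _
        _ = exp (-(e : ℤ)) := by rw [exp_pow']; congr 1; ring
    have h3 : algebraMap K K' (x : K) - ∑ j, algebraMap k' K' (c j) * algebraMap K K' (B j : K) =
        algebraMap K K' ((x : K) - ∑ j, (y j : K) * (B j : K)) +
        ∑ j, (algebraMap K K' (y j : K) - algebraMap k' K' (c j)) * algebraMap K K' (B j : K) := by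
      simp only [map_sub, map_sum, map_mul, sub_mul, Finset.sum_sub_distrib]
      ring
    rw [h3]
    refine (Q.1.map_add _ _).trans (max_le h1 ?_)
    apply Valuation.map_sum_le
    intro j _
    rw [map_mul]
    calc _ ≤ exp (-(e : ℤ)) * 1 := mul_le_mul' (he ▸ hc j) (hBQ j)
      _ = exp (-(e : ℤ)) := mul_one _
  have good_iota : ∀ τ : k' ⊗[k] P.O, Good (iota (K' := K') P τ) := by
    intro τ
    induction τ using TensorProduct.induction_on with
    | zero =>
      rw [map_zero]
      exact good_small 0 (by rw [map_zero]; exact zero_le)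
    | tmul a x =>
      rw [iota_tmul]
      exact good_cmul a _ (good_base x)
    | add τ₁ τ₂ h₁ h₂ =>
      rw [map_add]
      exact good_add _ _ h₁ h₂
  have good_all : ∀ z : K', Q.1 z ≤ 1 → Good z := by
    intro z hz
    obtain ⟨r, hr⟩ := weak_approx (Qs (K' := K') hK P) (fun Q' => if Q' = Q then z else 0) e
    have hrQ : Q.1 (r - z) ≤ exp (-(e : ℤ)) := by
      have := hr Q ((mem_Qs hK P Q).2 hQP)
      rwa [if_pos rfl] at this
    have hrB : r ∈ Bp (K' := K') hK P := by
      rw [mem_Bp]
      intro Q' hQ'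
      by_cases hQQ : Q' = Q
      · subst hQQ
        have h1 : r = (r - z) + z := by ring
        rw [h1]
        exact (Q'.1.map_add _ _).trans (max_le (hrQ.trans hlt1) hz)
      · have := hr Q' ((mem_Qs hK P Q').2 hQ')
        rw [if_neg hQQ, sub_zero] at this
        exact this.trans hlt1
    obtain ⟨b, -, hint, -, -⟩ := integral_structure (K' := K') hK P
    have hrint : IsIntegral P.O r := (hint r).2 hrB
    have hradj : r ∈ Algebra.adjoin P.O (Set.range (algebraMap k' K')) := by
      have h1 : r ∈ (integralClosure P.O K').toSubring := hrint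
      rw [hns] at h1
      exact h1
    obtain ⟨τ, hτ⟩ := (mem_adjoin_iff P r).1 hradj
    have h2 : z = r + (z - r) := by ring
    rw [h2]
    refine good_add _ _ (hτ ▸ good_iota τ) (good_small _ ?_)
    rw [← Valuation.map_neg]
    have : -(z - r) = r - z := by ring
    rw [this]
    exact hrQ
  -- dimension count
  by_contra hcon
  push Not at hcon
  obtain ⟨π, hπ⟩ := exists_uniformizer Q
  have hπl : ∀ l : Fin e, Q.1 (π ^ (l : ℕ)) ≤ 1 := by
    intro l
    rw [map_pow]
    exact pow_le_one₀ zero_le (hπ ▸ (lt_one_iff_le_exp_neg_one.2 le_rfl).le)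
  have hc : ∀ l : Fin e, Good (π ^ (l : ℕ)) := fun l => good_all _ (hπl l)
  choose c hc using hc
  have hdep : ¬ LinearIndependent k' c := by
    intro hli
    have := hli.fintype_card_le_finrank
    rw [Fintype.card_fin, Module.finrank_fin_fun] at this
    omega
  obtain ⟨g, hg0, hgne⟩ := Fintype.not_linearIndependent_iff.1 hdep
  have hsum : ∑ l : Fin e, algebraMap k' K' (g l) * π ^ (l : ℕ) =
      ∑ l : Fin e, algebraMap k' K' (g l) *
        (π ^ (l : ℕ) - ∑ j, algebraMap k' K' (c l j) * algebraMap K K' (B j : K)) := by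
    have h0 : ∑ l : Fin e, algebraMap k' K' (g l) *
        ∑ j, algebraMap k' K' (c l j) * algebraMap K K' (B j : K) = 0 := by
      simp only [Finset.mul_sum]
      rw [Finset.sum_comm]
      apply Finset.sum_eq_zero
      intro j _
      have hj : ∑ l : Fin e, g l * c l j = 0 := by
        have := congrFun hg0 j
        simpa [Finset.sum_apply, Pi.smul_apply, smul_eq_mul] using this
      simp only [← mul_assoc, ← map_mul, ← Finset.sum_mul, ← map_sum]
      rw [hj, map_zero, zero_mul]
    simp only [mul_sub, Finset.sum_sub_distrib]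
    rw [h0, sub_zero]
  have hle : Q.1 (∑ l : Fin e, algebraMap k' K' (g l) * π ^ (l : ℕ)) ≤ exp (-(e : ℤ)) := by
    rw [hsum]
    apply Valuation.map_sum_le
    intro l _
    rw [map_mul]
    calc _ ≤ 1 * exp (-(e : ℤ)) := mul_le_mul' (cval_le_one Q _) (hc l)
      _ = exp (-(e : ℤ)) := one_mul _
  exact absurd hle (not_le.2 (val_sum_const_mul_pow Q hπ e g hgne))

end ramle

section emb

/-- Uniqueness of the constant approximating an element at a rational place. -/
lemma const_unique (Q : Place k K') {z : K'} {c₁ c₂ : k'}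
    (h₁ : Q.1 (z - algebraMap k' K' c₁) < 1) (h₂ : Q.1 (z - algebraMap k' K' c₂) < 1) :
    c₁ = c₂ := by
  rw [← sub_eq_zero]
  apply const_eq_zero_of_val_lt Q
  have : algebraMap k' K' (c₁ - c₂) = (z - algebraMap k' K' c₂) - (z - algebraMap k' K' c₁) := by
    rw [map_sub]; ring
  rw [this]
  exact lt_of_le_of_lt (Valuation.map_sub _ _ _) (max_lt h₂ h₁)

/-- The constant approximating `x ∈ O_P` at a rational place `Q` above `P`. -/
noncomputable def ratFun {Q : Place k K'} {P : Place k K} (hQP : IsOver Q P) (hrat : IsRat k' Q)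
    (x : P.O) : k' :=
  Classical.choose (hrat (algebraMap K K' (x : K)) (val_algebraMap_le_one hQP x.2))

lemma ratFun_spec {Q : Place k K'} {P : Place k K} (hQP : IsOver Q P) (hrat : IsRat k' Q)
    (x : P.O) : Q.1 (algebraMap K K' (x : K) - algebraMap k' K' (ratFun hQP hrat x)) < 1 :=
  Classical.choose_spec (hrat (algebraMap K K' (x : K)) (val_algebraMap_le_one hQP x.2))

lemma ratFun_eq {Q : Place k K'} {P : Place k K} (hQP : IsOver Q P) (hrat : IsRat k' Q)
    (x : P.O) {c : k'} (hc : Q.1 (algebraMap K K' (x : K) - algebraMap k' K' c) < 1) :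
    ratFun hQP hrat x = c :=
  const_unique Q (ratFun_spec hQP hrat x) hc

/-- `ratFun` as a ring homomorphism `O_P → k'`. -/
noncomputable def ratHom {Q : Place k K'} {P : Place k K} (hQP : IsOver Q P) (hrat : IsRat k' Q) :
    P.O →+* k' where
  toFun := ratFun hQP hrat
  map_one' := by
    refine ratFun_eq hQP hrat _ ?_
    rw [show ((1 : P.O) : K) = 1 from rfl, map_one, map_one, sub_self, map_zero]
    exact zero_lt_one
  map_zero' := by
    refine ratFun_eq hQP hrat _ ?_
    rw [show ((0 : P.O) : K) = 0 from rfl, map_zero, map_zero, sub_self, map_zero]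
    exact zero_lt_one
  map_add' x y := by
    refine ratFun_eq hQP hrat _ ?_
    have : algebraMap K K' ((x + y : P.O) : K) -
        algebraMap k' K' (ratFun hQP hrat x + ratFun hQP hrat y) =
        (algebraMap K K' (x : K) - algebraMap k' K' (ratFun hQP hrat x)) +
        (algebraMap K K' (y : K) - algebraMap k' K' (ratFun hQP hrat y)) := by
      rw [show ((x + y : P.O) : K) = (x : K) + (y : K) from rfl, map_add, map_add]; ring
    rw [this]
    exact lt_of_le_of_lt (Q.1.map_add _ _) (max_lt (ratFun_spec hQP hrat x) (ratFun_spec hQP hrat y))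
  map_mul' x y := by
    refine ratFun_eq hQP hrat _ ?_
    have : algebraMap K K' ((x * y : P.O) : K) -
        algebraMap k' K' (ratFun hQP hrat x * ratFun hQP hrat y) =
        algebraMap K K' (x : K) * (algebraMap K K' (y : K) - algebraMap k' K' (ratFun hQP hrat y)) +
        algebraMap k' K' (ratFun hQP hrat y) *
          (algebraMap K K' (x : K) - algebraMap k' K' (ratFun hQP hrat x)) := by
      rw [show ((x * y : P.O) : K) = (x : K) * (y : K) from rfl, map_mul, map_mul]; ring
    rw [this]
    refine lt_of_le_of_lt (Q.1.map_add _ _) (max_lt ?_ ?_)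
    · rw [map_mul]
      calc _ ≤ 1 * Q.1 (algebraMap K K' (y : K) - algebraMap k' K' (ratFun hQP hrat y)) :=
            mul_le_mul' (val_algebraMap_le_one hQP x.2) le_rfl
        _ = _ := one_mul _
        _ < 1 := ratFun_spec hQP hrat y
    · rw [map_mul]
      calc _ ≤ 1 * Q.1 (algebraMap K K' (x : K) - algebraMap k' K' (ratFun hQP hrat x)) :=
            mul_le_mul' (cval_le_one Q _) le_rfl
        _ = _ := one_mul _
        _ < 1 := ratFun_spec hQP hrat x

lemma ratHom_apply {Q : Place k K'} {P : Place k K} (hQP : IsOver Q P) (hrat : IsRat k' Q)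
    (x : P.O) : ratHom hQP hrat x = ratFun hQP hrat x := rfl

lemma ratHom_eq_zero {Q : Place k K'} {P : Place k K} (hQP : IsOver Q P) (hrat : IsRat k' Q)
    {x : P.O} (hx : P.1 (x : K) < 1) : ratHom hQP hrat x = 0 := by
  refine ratFun_eq hQP hrat _ ?_
  rw [map_zero, sub_zero]
  exact (isOverWith_val_lt_one_iff (isOverWith_ramIdx hQP) _).2 hx

instance {Q : Place k K'} {P : Place k K} (hQP : IsOver Q P) (hrat : IsRat k' Q) :
    IsLocalHom (ratHom hQP hrat) := by
  constructor
  intro x hx
  rw [← IsLocalRing.notMem_maximalIdeal, Valuation.mem_maximalIdeal_iff]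
  intro hlt
  rw [ratHom_eq_zero hQP hrat hlt] at hx
  exact not_isUnit_zero hx

/-- The embedding `F_P → k'` attached to a rational place `Q` above `P`. -/
noncomputable def ratEmb {Q : Place k K'} {P : Place k K} (hQP : IsOver Q P) (hrat : IsRat k' Q) :
    IsLocalRing.ResidueField P.O →ₐ[k] k' :=
  { IsLocalRing.ResidueField.lift (ratHom hQP hrat) with
    commutes' := by
      intro a
      show IsLocalRing.ResidueField.lift (ratHom hQP hrat)
        (IsLocalRing.residue P.O (algebraMap k P.O a)) = algebraMap k k' a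
      rw [IsLocalRing.ResidueField.lift_residue_apply]
      refine ratFun_eq hQP hrat _ ?_
      have : algebraMap K K' ((algebraMap k P.O a : P.O) : K) = algebraMap k' K' (algebraMap k k' a) := by
        show algebraMap K K' (algebraMap k K a) = _
        rw [← IsScalarTower.algebraMap_apply k K K', ← IsScalarTower.algebraMap_apply k k' K']
      rw [this, sub_self, map_zero]
      exact zero_lt_one }

lemma ratEmb_spec {Q : Place k K'} {P : Place k K} (hQP : IsOver Q P) (hrat : IsRat k' Q)
    (x : P.O) : Q.1 (algebraMap K K' (x : K) -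
      algebraMap k' K' (ratEmb hQP hrat (IsLocalRing.residue P.O x))) < 1 := by
  have : ratEmb hQP hrat (IsLocalRing.residue P.O x) = ratFun hQP hrat x := by
    show IsLocalRing.ResidueField.lift (ratHom hQP hrat) (IsLocalRing.residue P.O x) = _
    rw [IsLocalRing.ResidueField.lift_residue_apply]
    rfl
  rw [this]
  exact ratFun_spec hQP hrat x

end emb

section inj

variable [FiniteDimensional K K'] (hK : IsFunctionField k K) (P : Place k K)
  [Algebra P.O K'] [IsScalarTower P.O K K']

include hK in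
/-- **A rational place above a nonsingular place is determined by its embedding `F_P → k'`.** -/
theorem ratEmb_injective
    (hns : (integralClosure P.O K').toSubring =
      (Algebra.adjoin P.O (Set.range (algebraMap k' K'))).toSubring)
    {Q₁ Q₂ : Place k K'} (h₁ : IsOver Q₁ P) (h₂ : IsOver Q₂ P) (r₁ : IsRat k' Q₁)
    (r₂ : IsRat k' Q₂) (heq : ratEmb h₁ r₁ = ratEmb h₂ r₂) : Q₁ = Q₂ := by
  classical
  by_contra hne
  obtain ⟨r, hr⟩ := weak_approx (Qs (K' := K') hK P) (fun Q' => if Q' = Q₂ then 1 else 0) 1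
  have hlt : exp (-1 : ℤ) < (1 : ℤᵐ⁰) := by rw [← exp_zero, exp_lt_exp]; norm_num
  have hr1 : Q₁.1 r < 1 := by
    have := hr Q₁ ((mem_Qs hK P Q₁).2 h₁)
    rw [if_neg hne, sub_zero] at this
    exact lt_of_le_of_lt this hlt
  have hr2 : Q₂.1 (r - 1) < 1 := by
    have := hr Q₂ ((mem_Qs hK P Q₂).2 h₂)
    rw [if_pos rfl] at this
    exact lt_of_le_of_lt this hlt
  have hrB : r ∈ Bp (K' := K') hK P := by
    rw [mem_Bp]
    intro Q' hQ'
    by_cases hQQ : Q' = Q₂
    · subst hQQ
      have h1 : r = (r - 1) + 1 := by ring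
      rw [h1]
      exact (Q'.1.map_add _ _).trans (max_le hr2.le (by rw [map_one]))
    · have := hr Q' ((mem_Qs hK P Q').2 hQ')
      rw [if_neg hQQ, sub_zero] at this
      exact this.trans hlt.le
  obtain ⟨b, -, hint, -, -⟩ := integral_structure (K' := K') hK P
  have hrint : IsIntegral P.O r := (hint r).2 hrB
  have hradj : r ∈ Algebra.adjoin P.O (Set.range (algebraMap k' K')) := by
    have h1 : r ∈ (integralClosure P.O K').toSubring := hrint
    rw [hns] at h1
    exact h1
  obtain ⟨τ, hτ⟩ := (mem_adjoin_iff P r).1 hradj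
  have key : ∀ τ : k' ⊗[k] P.O, ∃ c : k',
      Q₁.1 (iota (K' := K') P τ - algebraMap k' K' c) < 1 ∧
      Q₂.1 (iota (K' := K') P τ - algebraMap k' K' c) < 1 := by
    intro τ
    induction τ using TensorProduct.induction_on with
    | zero =>
      refine ⟨0, ?_, ?_⟩ <;>
      · rw [map_zero, map_zero, sub_self, map_zero]
        exact zero_lt_one
    | tmul a x =>
      refine ⟨a * ratEmb h₁ r₁ (IsLocalRing.residue P.O x), ?_, ?_⟩
      · rw [iota_tmul, map_mul, ← mul_sub, map_mul]
        calc _ ≤ 1 * _ := mul_le_mul' (cval_le_one Q₁ a) le_rfl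
          _ = _ := one_mul _
          _ < 1 := ratEmb_spec h₁ r₁ x
      · rw [heq, iota_tmul, map_mul, ← mul_sub, map_mul]
        calc _ ≤ 1 * _ := mul_le_mul' (cval_le_one Q₂ a) le_rfl
          _ = _ := one_mul _
          _ < 1 := ratEmb_spec h₂ r₂ x
    | add τ₁ τ₂ ih₁ ih₂ =>
      obtain ⟨c₁, h11, h12⟩ := ih₁
      obtain ⟨c₂, h21, h22⟩ := ih₂
      have e : iota (K' := K') P (τ₁ + τ₂) - algebraMap k' K' (c₁ + c₂) =
          (iota (K' := K') P τ₁ - algebraMap k' K' c₁) +
          (iota (K' := K') P τ₂ - algebraMap k' K' c₂) := by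
        rw [map_add, map_add]; ring
      refine ⟨c₁ + c₂, ?_, ?_⟩
      · rw [e]
        exact lt_of_le_of_lt (Q₁.1.map_add _ _) (max_lt h11 h21)
      · rw [e]
        exact lt_of_le_of_lt (Q₂.1.map_add _ _) (max_lt h12 h22)
  obtain ⟨c, hc1, hc2⟩ := key τ
  rw [hτ] at hc1 hc2
  have hc0 : c = 0 := by
    apply const_eq_zero_of_val_lt Q₁
    have : algebraMap k' K' c = r - (r - algebraMap k' K' c) := by ring
    rw [this]
    exact lt_of_le_of_lt (Valuation.map_sub _ _ _) (max_lt hr1 hc1)
  rw [hc0, map_zero, sub_zero] at hc2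
  have : Q₂.1 (1 : K') < 1 := by
    have h1 : (1 : K') = r - (r - 1) := by ring
    rw [h1]
    exact lt_of_le_of_lt (Valuation.map_sub _ _ _) (max_lt hc2 hr2)
  rw [map_one] at this
  exact lt_irrefl _ this

include hK in
/-- **The number of places above a nonsingular place all of whose extensions are rational is at
most the separable degree of the residue field.** -/
theorem card_Qs_le [FiniteDimensional k (IsLocalRing.ResidueField P.O)]
    (hns : (integralClosure P.O K').toSubring =
      (Algebra.adjoin P.O (Set.range (algebraMap k' K'))).toSubring)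
    (hall : ∀ Q : Place k K', IsOver Q P → IsRat k' Q) :
    (Qs (K' := K') hK P).card ≤ Field.finSepDegree k (IsLocalRing.ResidueField P.O) := by
  classical
  let g : {Q // Q ∈ Qs (K' := K') hK P} →
      (IsLocalRing.ResidueField P.O →ₐ[k] AlgebraicClosure k') := fun Q =>
    (IsScalarTower.toAlgHom k k' (AlgebraicClosure k')).comp
      (ratEmb ((mem_Qs hK P Q.1).1 Q.2) (hall Q.1 ((mem_Qs hK P Q.1).1 Q.2)))
  have hg : Function.Injective g := by
    intro Q₁ Q₂ h12
    apply Subtype.ext
    refine ratEmb_injective hK P hns ((mem_Qs hK P Q₁.1).1 Q₁.2) ((mem_Qs hK P Q₂.1).1 Q₂.2)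
      (hall Q₁.1 ((mem_Qs hK P Q₁.1).1 Q₁.2)) (hall Q₂.1 ((mem_Qs hK P Q₂.1).1 Q₂.2)) ?_
    apply AlgHom.ext
    intro β
    have := congrArg (fun φ : IsLocalRing.ResidueField P.O →ₐ[k] AlgebraicClosure k' => φ β) h12
    exact (algebraMap k' (AlgebraicClosure k')).injective this
  have h1 := Fintype.card_le_of_injective g hg
  rw [Fintype.card_coe] at h1
  rw [Field.finSepDegree_eq_of_isAlgClosed k (IsLocalRing.ResidueField P.O) (AlgebraicClosure k'),
    Nat.card_eq_fintype_card]
  exact h1

end inj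

end ratplace

section final

universe u v

attribute [-instance] IsLocalRing.ResidueField.algebra IsLocalRing.instModuleResidueFieldOfAlgebra

variable {k k' : Type u} {K K' : Type v} [Field k] [Field k'] [Field K] [Field K']
  [Algebra k k'] [FiniteDimensional k k'] [Algebra k K] [Algebra K K'] [Algebra k' K']
  [Algebra k K'] [IsScalarTower k k' K'] [IsScalarTower k K K']

/-- A place of degree one over `k'` is rational. -/
lemma isRat_of_deg_eq_one (Q : Place k' K') (hdeg : Q.deg = 1) : IsRat k' (toK (k := k) Q) := by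
  intro z hz
  have hz' : Q.1 z ≤ 1 := hz
  have hsurj := (finrank_eq_one_iff_of_nonzero' (1 : IsLocalRing.ResidueField Q.O) one_ne_zero).1
    hdeg (IsLocalRing.residue Q.O ⟨z, hz'⟩)
  obtain ⟨c, hc⟩ := hsurj
  refine ⟨c, ?_⟩
  have h1 : IsLocalRing.residue Q.O (⟨z, hz'⟩ - algebraMap k' Q.O c) = 0 := by
    rw [map_sub, ← hc]
    have : c • (1 : IsLocalRing.ResidueField Q.O) =
        IsLocalRing.residue Q.O (algebraMap k' Q.O c) := by
      rw [Algebra.smul_def, mul_one]
      rfl
    exact sub_eq_zero.2 this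
  exact (Valuation.mem_maximalIdeal_iff _ _).1 ((IsLocalRing.residue_eq_zero_iff _).1 h1)

/-- **S12592**: places above a nonsingular place in a splitting field. -/
theorem card_places_splitting
    (h : Function.Bijective (Algebra.TensorProduct.productMap
      (IsScalarTower.toAlgHom k k' K') (IsScalarTower.toAlgHom k K K')))
    (hK : IsFunctionField k K) (P : Place k K)
    (hns : integralClosure (P.O.toSubring.map (algebraMap K K')) K' =
        Algebra.adjoin (P.O.toSubring.map (algebraMap K K')) (Set.range (algebraMap k' K')))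
    (hsplit : ∀ Q : Place k' K',
      (∃ e : ℕ, ∀ z : K, Q.1 (algebraMap K K' z) = P.1 z ^ e) → Q.deg = 1) :
    {Q : Place k' K' | ∃ e : ℕ, ∀ z : K, Q.1 (algebraMap K K' z) = P.1 z ^ e}.Finite ∧
    {Q : Place k' K' | ∃ e : ℕ, ∀ z : K, Q.1 (algebraMap K K' z) = P.1 z ^ e}.ncard =
      Field.finSepDegree k (IsLocalRing.ResidueField P.O) ∧
    ∀ Q : Place k' K', (∃ e : ℕ, ∀ z : K, Q.1 (algebraMap K K' z) = P.1 z ^ e) →
      ∀ z : K, Q.1 (algebraMap K K' z) = P.1 z ^
        Module.finrank (separableClosure k (IsLocalRing.ResidueField P.O))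
          (IsLocalRing.ResidueField P.O) := by
  classical
  haveI fKK' : Module.Finite K K' := (Groth.Agent.S11006.finrank_K' k k' K K' h).1
  have hrank : Module.finrank K K' = Module.finrank k k' :=
    (Groth.Agent.S11006.finrank_K' k k' K K' h).2
  -- `O_P`-algebra structure
  letI aP : Algebra P.O K' := ((algebraMap K K').comp P.O.subtype).toAlgebra
  haveI tP : IsScalarTower P.O K K' := IsScalarTower.of_algebraMap_eq (fun _ => rfl)
  haveI tP' : IsScalarTower k P.O K' := IsScalarTower.of_algebraMap_eq (fun c => by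
    rw [algebraMap_O_apply', IsScalarTower.algebraMap_apply k K K']
    rfl)
  have hconst : ∀ y ∈ Set.range (algebraMap k' K'), IsIntegral P.O y := by
    rintro _ ⟨c, rfl⟩
    have e1 : IsIntegral k c := Algebra.IsIntegral.isIntegral c
    have e2 : IsIntegral k (algebraMap k' K' c) := e1.map (IsScalarTower.toAlgHom k k' K')
    exact e2.tower_top
  have hns1 := (nonsing_iff P _ hconst).1 hns
  have hns2 : (integralClosure P.O K').toSubring =
      (Algebra.adjoin P.O (Set.range (algebraMap k' K'))).toSubring := by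
    apply SetLike.ext
    intro z
    constructor
    · intro hz
      exact hns1 z hz
    · intro hz
      have hle : Algebra.adjoin P.O (Set.range (algebraMap k' K')) ≤ integralClosure P.O K' :=
        Algebra.adjoin_le hconst
      exact hle hz
  -- residue field
  have fdF0 := finiteDimensional_residueField hK P
  haveI fdF : FiniteDimensional k (IsLocalRing.ResidueField P.O) := fdF0
  -- rationality
  have hall : ∀ Q : Place k K', IsOver Q P → IsRat k' Q := by
    intro Q hQ
    exact isRat_of_deg_eq_one (ofK Q) (hsplit (ofK Q) hQ)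
  -- sum formula
  have hsum := sum_ramIdx_mul_deg hK P (Qs (K' := K') hK P) (mem_Qs hK P)
  have hdeg : ∀ Q ∈ Qs (K' := K') hK P, Q.deg = Module.finrank k k' := by
    intro Q hQ
    have h1 := deg_toK (k := k) (ofK (k' := k') Q)
    rw [hsplit (ofK Q) ((mem_Qs hK P Q).1 hQ), mul_one] at h1
    exact h1
  have hn : 0 < Module.finrank k k' := Module.finrank_pos
  have hsum' : ∑ Q ∈ Qs (K' := K') hK P, ramIdx Q P = P.deg := by
    have h1 : ∑ Q ∈ Qs (K' := K') hK P, ramIdx Q P * Q.deg =
        (∑ Q ∈ Qs (K' := K') hK P, ramIdx Q P) * Module.finrank k k' := by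
      rw [Finset.sum_mul]
      exact Finset.sum_congr rfl (fun Q hQ => by rw [hdeg Q hQ])
    rw [h1, hrank, mul_comm] at hsum
    exact Nat.eq_of_mul_eq_mul_left hn hsum
  -- the inseparable degree
  obtain ⟨i, hi⟩ : ∃ i : ℕ, i = Module.finrank (separableClosure k (IsLocalRing.ResidueField P.O))
    (IsLocalRing.ResidueField P.O) := ⟨_, rfl⟩
  have hipos : 0 < i := hi ▸ Module.finrank_pos
  have hsi : Field.finSepDegree k (IsLocalRing.ResidueField P.O) * i = P.deg := by
    rw [hi]
    exact Field.finSepDegree_mul_finInsepDegree k (IsLocalRing.ResidueField P.O)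
  -- lifts of a basis
  let bas : Module.Basis (Fin i) (separableClosure k (IsLocalRing.ResidueField P.O))
      (IsLocalRing.ResidueField P.O) := hi ▸ Module.finBasis _ _
  have hBex : ∀ j, ∃ B : P.O, IsLocalRing.residue P.O B = bas j :=
    fun j => IsLocalRing.residue_surjective _
  choose B hB using hBex
  have hBprop : ∀ x : P.O, ∃ y : Fin i → P.O,
      (∀ j, IsSeparable k (IsLocalRing.residue P.O (y j))) ∧
      P.1 ((x : K) - ∑ j, (y j : K) * (B j : K)) < 1 := by
    intro x
    have hyex : ∀ j, ∃ y : P.O, IsLocalRing.residue P.O y =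
        ((bas.repr (IsLocalRing.residue P.O x) j :
          separableClosure k (IsLocalRing.ResidueField P.O)) : IsLocalRing.ResidueField P.O) :=
      fun j => IsLocalRing.residue_surjective _
    choose y hy using hyex
    refine ⟨y, fun j => ?_, ?_⟩
    · rw [hy j]
      exact mem_separableClosure_iff.1 (bas.repr (IsLocalRing.residue P.O x) j).2
    · have h0 : IsLocalRing.residue P.O (x - ∑ j, y j * B j) = 0 := by
        rw [map_sub, map_sum]
        simp only [map_mul, hy, hB]
        have := bas.sum_repr (IsLocalRing.residue P.O x)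
        rw [sub_eq_zero]
        conv_lhs => rw [← this]
        exact Finset.sum_congr rfl (fun j _ => IntermediateField.smul_def _ _)
      have h1 := (Valuation.mem_maximalIdeal_iff _ _).1 ((IsLocalRing.residue_eq_zero_iff _).1 h0)
      have h2 : ((x - ∑ j, y j * B j : P.O) : K) = (x : K) - ∑ j, (y j : K) * (B j : K) := by
        push_cast
        rfl
      rw [← h2]
      exact h1
  have hram : ∀ Q ∈ Qs (K' := K') hK P, ramIdx Q P ≤ i := by
    intro Q hQ
    exact ramIdx_le_of_rat hK P hns2 ((mem_Qs hK P Q).1 hQ) (hall Q ((mem_Qs hK P Q).1 hQ)) B hBprop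
  have hcard := card_Qs_le (k' := k') (K' := K') hK P hns2 hall
  -- conclusion on cardinalities
  have hle1 : P.deg ≤ (Qs (K' := K') hK P).card * i := by
    rw [← hsum']
    calc ∑ Q ∈ Qs (K' := K') hK P, ramIdx Q P ≤ ∑ _Q ∈ Qs (K' := K') hK P, i :=
          Finset.sum_le_sum hram
      _ = (Qs (K' := K') hK P).card * i := by rw [Finset.sum_const, smul_eq_mul]
  have hcardeq : (Qs (K' := K') hK P).card =
      Field.finSepDegree k (IsLocalRing.ResidueField P.O) := by
    apply le_antisymm hcard
    have : Field.finSepDegree k (IsLocalRing.ResidueField P.O) * i ≤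
        (Qs (K' := K') hK P).card * i := hsi ▸ hle1
    exact Nat.le_of_mul_le_mul_right this hipos
  have hrameq : ∀ Q ∈ Qs (K' := K') hK P, ramIdx Q P = i := by
    have h1 : ∑ Q ∈ Qs (K' := K') hK P, ramIdx Q P = ∑ _Q ∈ Qs (K' := K') hK P, i := by
      rw [hsum', Finset.sum_const, smul_eq_mul, hcardeq, hsi]
    exact (Finset.sum_eq_sum_iff_of_le hram).1 h1
  -- translation to places over `k'`
  have himage : (toK (k := k)) '' {Q : Place k' K' | ∃ e : ℕ, ∀ z : K,
      Q.1 (algebraMap K K' z) = P.1 z ^ e} = ((Qs (K' := K') hK P : Finset (Place k K')) : Set _) := by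
    ext Q₁
    constructor
    · rintro ⟨Q, hQ, rfl⟩
      exact (mem_Qs hK P _).2 hQ
    · intro hQ₁
      exact ⟨ofK Q₁, (mem_Qs hK P Q₁).1 hQ₁, rfl⟩
  have hinj : Function.Injective (toK (k := k) : Place k' K' → Place k K') := by
    intro Q₁ Q₂ h12
    apply Subtype.ext
    exact congrArg (fun Q : Place k K' => Q.1) h12
  refine ⟨?_, ?_, ?_⟩
  · apply Set.Finite.of_finite_image _ hinj.injOn
    rw [himage]
    exact Finset.finite_toSet _
  · rw [← Set.ncard_image_of_injective _ hinj, himage, Set.ncard_coe_finset, hcardeq]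
  · intro Q hQ z
    have hQ' : IsOver (toK (k := k) Q) P := hQ
    have h1 := isOverWith_ramIdx hQ' z
    rw [hrameq _ ((mem_Qs hK P _).2 hQ'), hi] at h1
    exact h1

end final

end Groth.Agent.Lib.Helper44.FFExt
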