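/-
The fundamental equality `∑ e(Q|P) deg Q = [K' : E] deg P` for a finite extension `K'/E` where `E`
is a finite extension of a function field `K/k` (so `k` need not be algebraically closed in `E`).
Also: positivity of degrees of places of such fields.
Author: helper44
-/
import Groth.Agent.Lib.Helper44.FunFldExt5

set_option autoImplicit false
set_option linter.style.haveILetI false

namespace Groth.Agent.Lib.Helper44.FFExt

open FunFld WithZero
open Groth.Agent.Lib.Helper88.FF

section degpos

variable {k K K' : Type*} [Field k] [Field K] [Field K'] [Algebra k K] [Algebra K K'] [Algebra k K']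
  [IsScalarTower k K K'] [FiniteDimensional K K']

/-- Places of a finite extension of a function field have positive degree over `k`. -/
theorem deg_pos' (hK : IsFunctionField k K) (Q : Place k K') : 0 < Q.deg := by
  have hK' := isFunctionField_algebraicClosure (K' := K') hK
  rw [deg_eq_finrank_mul_deg Q]
  haveI := finiteDimensional_algebraicClosure (K' := K') hK
  exact Nat.mul_pos Module.finrank_pos (deg_pos hK' _)

theorem finiteDimensional_residue' (hK : IsFunctionField k K) (Q : Place k K') :
    FiniteDimensional k (IsLocalRing.ResidueField Q.O) :=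
  Module.finite_of_finrank_pos (deg_pos' hK Q)

end degpos

section tower

variable {k K E K' : Type*} [Field k] [Field K] [Field E] [Field K'] [Algebra k K] [Algebra K E]
  [Algebra k E] [IsScalarTower k K E] [FiniteDimensional K E]
  [Algebra E K'] [Algebra k K'] [IsScalarTower k E K'] [FiniteDimensional E K']

/-- **Fundamental equality** over a base `E` that is a finite extension of a function field. -/
theorem sum_ramIdx_mul_deg' (hK : IsFunctionField k K) (P : Place k E)
    (Qs : Finset (Place k K')) (hQs : ∀ Q, Q ∈ Qs ↔ IsOver Q P) :
    ∑ Q ∈ Qs, ramIdx Q P * Q.deg = Module.finrank E K' * P.deg := by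
  classical
  have hE : IsFunctionField (algebraicClosure k E) E :=
    isFunctionField_algebraicClosure (K := K) (K' := E) hK
  haveI tow1 : IsScalarTower (algebraicClosure k E) E K' := inferInstance
  haveI tow2 : IsScalarTower k (algebraicClosure k E) K' :=
    IsScalarTower.of_algebraMap_eq (fun c => by
      show algebraMap k K' c = algebraMap E K' (algebraMap (algebraicClosure k E) E
        (algebraMap k (algebraicClosure k E) c))
      rw [← IsScalarTower.algebraMap_apply k (algebraicClosure k E) E,
        ← IsScalarTower.algebraMap_apply k E K'])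
  -- transport of places of `K'`
  let toB : Place k K' → Place (algebraicClosure k E) K' := fun Q =>
    ⟨Q.1, fun c => by
      apply val_le_one_of_isIntegral (R := k) Q.1 Q.2.1
      show IsIntegral k (algebraMap E K' (c : E))
      exact (mem_algebraicClosure_iff'.1 c.2).map (IsScalarTower.toAlgHom k E K'), Q.2.2⟩
  let ofB : Place (algebraicClosure k E) K' → Place k K' := fun Q =>
    ⟨Q.1, fun c => by
      rw [IsScalarTower.algebraMap_apply k (algebraicClosure k E) K']
      exact Q.2.1 _, Q.2.2⟩
  have htoB_inj : Function.Injective toB := by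
    intro Q₁ Q₂ h
    apply Subtype.ext
    exact congrArg (fun Q : Place (algebraicClosure k E) K' => Q.1) h
  have htoB_ofB : ∀ Q, toB (ofB Q) = Q := fun Q => Subtype.ext rfl
  set P₁ : Place (algebraicClosure k E) E := toAlgClosurePlace P with hP₁
  have hover : ∀ (Q : Place k K') (e : ℕ), IsOverWith (toB Q) P₁ e ↔ IsOverWith Q P e :=
    fun _ _ => Iff.rfl
  have hover' : ∀ Q : Place k K', IsOver (toB Q) P₁ ↔ IsOver Q P := fun _ => Iff.rfl
  have hram : ∀ Q : Place k K', ramIdx (toB Q) P₁ = ramIdx Q P := by
    intro Q
    by_cases h : IsOver Q P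
    · have h1 := isOverWith_ramIdx h
      exact ramIdx_eq ((hover Q _).2 h1)
    · rw [ramIdx_eq_zero h, ramIdx_eq_zero (fun h' => h ((hover' Q).1 h'))]
  have hdeg : ∀ Q : Place k K',
      Q.deg = Module.finrank k (algebraicClosure k E) * (toB Q).deg := by
    intro Q
    let i1 : Algebra k (IsLocalRing.ResidueField (toB Q).O) := Place.algRes Q
    have i2 : IsScalarTower k (algebraicClosure k E) (IsLocalRing.ResidueField (toB Q).O) :=
      IsScalarTower.of_algebraMap_eq (fun c => by
        show IsLocalRing.residue Q.O (algebraMap k Q.O c) =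
          IsLocalRing.residue (toB Q).O (algebraMap (algebraicClosure k E) (toB Q).O
            (algebraMap k (algebraicClosure k E) c))
        congr 1
        apply Subtype.ext
        show algebraMap k K' c = algebraMap (algebraicClosure k E) K'
          (algebraMap k (algebraicClosure k E) c)
        rw [← IsScalarTower.algebraMap_apply k (algebraicClosure k E) K'])
    have h := @Module.finrank_mul_finrank k (algebraicClosure k E)
      (IsLocalRing.ResidueField (toB Q).O) _ _ _ Algebra.toModule Algebra.toModule
      Algebra.toModule i2 _ _ _ _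
    exact h.symm
  have hQs₁ : ∀ Q₁, Q₁ ∈ Qs.image toB ↔ IsOver Q₁ P₁ := by
    intro Q₁
    rw [Finset.mem_image]
    constructor
    · rintro ⟨Q, hQ, rfl⟩
      exact (hover' Q).2 ((hQs Q).1 hQ)
    · intro h
      refine ⟨ofB Q₁, ?_, htoB_ofB Q₁⟩
      rw [hQs, ← hover', htoB_ofB]
      exact h
  have hmain := sum_ramIdx_mul_deg hE P₁ (Qs.image toB) hQs₁
  rw [Finset.sum_image (fun a _ b _ h => htoB_inj h)] at hmain
  have hPdeg : P.deg = Module.finrank k (algebraicClosure k E) * P₁.deg :=
    deg_eq_finrank_mul_deg P
  calc ∑ Q ∈ Qs, ramIdx Q P * Q.deg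
      = Module.finrank k (algebraicClosure k E) * ∑ Q ∈ Qs, ramIdx (toB Q) P₁ * (toB Q).deg := by
        rw [Finset.mul_sum]
        apply Finset.sum_congr rfl
        intro Q _
        rw [hram, hdeg Q]; ring
    _ = Module.finrank E K' * P.deg := by
        rw [hmain, hPdeg]; ring

end tower

end Groth.Agent.Lib.Helper44.FFExt
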