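/-
Places of `k̄ ⊗ K` are defined over finite extensions of `k` (S12593).
Author: helper44
-/
import Groth.Agent.Lib.Helper44.FunFldSplitCount
import Groth.Agent.Lib.Helper44.FunFldTower
import Mathlib.FieldTheory.IsAlgClosed.Basic
import Mathlib.FieldTheory.IntermediateField.Adjoin.Algebra
import Mathlib.FieldTheory.IntermediateField.Adjoin.Basic

set_option autoImplicit false
set_option linter.unusedSectionVars false
set_option linter.style.haveILetI false

namespace Groth.Agent.Lib.Helper44.FFExt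

open FunFld WithZero
open Groth.Agent.Lib.Helper88.FF Groth.Agent.Lib.Helper34.FunFldIntFin
  Groth.Agent.Lib.Helper34.FunFldConstFin
open scoped TensorProduct

namespace DefOver

universe u v

section model

variable {k kbar : Type u} {K Kbar : Type v} [Field k] [Field kbar] [Field K] [Field Kbar]
  [Algebra k kbar] [Algebra k K] [Algebra K Kbar] [Algebra kbar Kbar]
  [Algebra k Kbar] [IsScalarTower k kbar Kbar] [IsScalarTower k K Kbar]

/-- `K̄ = k̄K` is integral over `K`. -/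
theorem isIntegral_Kbar [Algebra.IsAlgebraic k kbar]
    (hs : Function.Surjective (Algebra.TensorProduct.productMap
      (IsScalarTower.toAlgHom k kbar Kbar) (IsScalarTower.toAlgHom k K Kbar))) :
    Algebra.IsIntegral K Kbar := by
  constructor
  intro z
  obtain ⟨τ, rfl⟩ := hs z
  induction τ using TensorProduct.induction_on with
  | zero => rw [map_zero]; exact isIntegral_zero
  | tmul c y =>
    rw [Algebra.TensorProduct.productMap_apply_tmul]
    refine IsIntegral.mul ?_ isIntegral_algebraMap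
    have e1 : IsIntegral k c := Algebra.IsIntegral.isIntegral c
    have e2 : IsIntegral k (algebraMap kbar Kbar c) := e1.map (IsScalarTower.toAlgHom k kbar Kbar)
    exact e2.tower_top
  | add x y hx hy => rw [map_add]; exact hx.add hy

variable {k₂ : Type u} [Field k₂] [Algebra k k₂]

/-- The subfield `φ(k₂)K` of `K̄`. -/
def FF (K : Type v) {Kbar : Type v} [Field K] [Field Kbar] [Algebra K Kbar] [Algebra kbar Kbar]
    (φ : k₂ →ₐ[k] kbar) : IntermediateField K Kbar :=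
  IntermediateField.adjoin K (Set.range fun c : k₂ => algebraMap kbar Kbar (φ c))

lemma gen_mem_FF (φ : k₂ →ₐ[k] kbar) (c : k₂) :
    algebraMap kbar Kbar (φ c) ∈ FF (Kbar := Kbar) K φ :=
  IntermediateField.subset_adjoin K _ ⟨c, rfl⟩

noncomputable instance algFF (φ : k₂ →ₐ[k] kbar) : Algebra k₂ (FF (Kbar := Kbar) K φ) :=
  RingHom.toAlgebra
    { toFun := fun c => ⟨algebraMap kbar Kbar (φ c), gen_mem_FF φ c⟩
      map_one' := by apply Subtype.ext; simp
      map_mul' := fun a b => by apply Subtype.ext; simp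
      map_zero' := by apply Subtype.ext; simp
      map_add' := fun a b => by apply Subtype.ext; simp }

lemma algebraMap_FF_coe (φ : k₂ →ₐ[k] kbar) (c : k₂) :
    ((algebraMap k₂ (FF (Kbar := Kbar) K φ) c : FF (Kbar := Kbar) K φ) : Kbar) =
      algebraMap kbar Kbar (φ c) := rfl

instance towerFF (φ : k₂ →ₐ[k] kbar) : IsScalarTower k k₂ (FF (Kbar := Kbar) K φ) :=
  IsScalarTower.of_algebraMap_eq (fun c => by
    apply Subtype.ext
    rw [algebraMap_FF_coe, AlgHom.commutes, ← IsScalarTower.algebraMap_apply k kbar Kbar]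
    rfl)

lemma FF_toSubalgebra [Algebra.IsAlgebraic K Kbar] (φ : k₂ →ₐ[k] kbar) :
    (FF (Kbar := Kbar) K φ).toSubalgebra =
      Algebra.adjoin K (Set.range fun c : k₂ => algebraMap kbar Kbar (φ c)) :=
  IntermediateField.adjoin_toSubalgebra _

/-- `(k₂, φ(k₂)K)` is a model of `k₂ ⊗ K`. -/
theorem FF_bijective [FiniteDimensional k k₂] [Algebra.IsAlgebraic K Kbar] (hg : IsGeometric k K)
    (φ : k₂ →ₐ[k] kbar) :
    Function.Bijective (Algebra.TensorProduct.productMap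
      (IsScalarTower.toAlgHom k k₂ (FF (Kbar := Kbar) K φ))
      (IsScalarTower.toAlgHom k K (FF (Kbar := Kbar) K φ))) := by
  constructor
  · letI := (hg k₂ inferInstance).toField
    exact (Algebra.TensorProduct.productMap
      (IsScalarTower.toAlgHom k k₂ (FF (Kbar := Kbar) K φ))
      (IsScalarTower.toAlgHom k K (FF (Kbar := Kbar) K φ))).toRingHom.injective
  · intro z
    have hz : (z : Kbar) ∈
        Algebra.adjoin K (Set.range fun c : k₂ => algebraMap kbar Kbar (φ c)) := by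
      rw [← FF_toSubalgebra]
      exact z.2
    have key : ∀ w ∈ Algebra.adjoin K (Set.range fun c : k₂ => algebraMap kbar Kbar (φ c)),
        ∃ τ : k₂ ⊗[k] K, ((Algebra.TensorProduct.productMap
          (IsScalarTower.toAlgHom k k₂ (FF (Kbar := Kbar) K φ))
          (IsScalarTower.toAlgHom k K (FF (Kbar := Kbar) K φ)) τ : FF (Kbar := Kbar) K φ) : Kbar)
          = w := by
      intro w hw
      induction hw using Algebra.adjoin_induction with
      | mem x hx =>
        obtain ⟨c, rfl⟩ := hx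
        refine ⟨c ⊗ₜ 1, ?_⟩
        rw [Algebra.TensorProduct.productMap_apply_tmul, map_one, mul_one]
        rfl
      | algebraMap y =>
        refine ⟨1 ⊗ₜ y, ?_⟩
        rw [Algebra.TensorProduct.productMap_apply_tmul, map_one, one_mul]
        rfl
      | add x y _ _ hx hy =>
        obtain ⟨a, rfl⟩ := hx
        obtain ⟨b, rfl⟩ := hy
        exact ⟨a + b, by rw [map_add]; rfl⟩
      | mul x y _ _ hx hy =>
        obtain ⟨a, rfl⟩ := hx
        obtain ⟨b, rfl⟩ := hy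
        exact ⟨a * b, by rw [map_mul]; rfl⟩
    obtain ⟨τ, hτ⟩ := key z hz
    exact ⟨τ, Subtype.ext hτ⟩

lemma FF_le {k₃ : Type u} [Field k₃] [Algebra k k₃] (φ₁ : k₂ →ₐ[k] kbar) (φ₂ : k₃ →ₐ[k] kbar)
    (hle : ∀ c, ∃ c', φ₂ c' = φ₁ c) : FF (Kbar := Kbar) K φ₁ ≤ FF (Kbar := Kbar) K φ₂ := by
  apply IntermediateField.adjoin_le_iff.2
  rintro _ ⟨c, rfl⟩
  obtain ⟨c', hc'⟩ := hle c
  show algebraMap kbar Kbar (φ₁ c) ∈ FF (Kbar := Kbar) K φ₂
  rw [← hc']
  exact gen_mem_FF φ₂ c'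

lemma FF_val_le {E₁ E₂ : IntermediateField k kbar} (h : E₁ ≤ E₂) :
    FF (Kbar := Kbar) K E₁.val ≤ FF (Kbar := Kbar) K E₂.val :=
  FF_le _ _ (fun c => ⟨⟨c, h c.2⟩, rfl⟩)

/-- Every element of `K̄` lies in `EK` for a finite `E/k`. -/
theorem exists_finite_mem [Algebra.IsAlgebraic k kbar]
    (hs : Function.Surjective (Algebra.TensorProduct.productMap
      (IsScalarTower.toAlgHom k kbar Kbar) (IsScalarTower.toAlgHom k K Kbar))) (z : Kbar) :
    ∃ E : IntermediateField k kbar, FiniteDimensional k E ∧ z ∈ FF (Kbar := Kbar) K E.val := by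
  obtain ⟨τ, rfl⟩ := hs z
  induction τ using TensorProduct.induction_on with
  | zero => exact ⟨⊥, inferInstance, by rw [map_zero]; exact zero_mem _⟩
  | tmul c y =>
    refine ⟨IntermediateField.adjoin k {c}, ?_, ?_⟩
    · exact IntermediateField.adjoin.finiteDimensional (Algebra.IsIntegral.isIntegral c)
    · rw [Algebra.TensorProduct.productMap_apply_tmul]
      refine mul_mem ?_ (algebraMap_mem _ y)
      exact gen_mem_FF (IntermediateField.val _) ⟨c, IntermediateField.mem_adjoin_simple_self k c⟩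
  | add x y hx hy =>
    obtain ⟨E₁, f₁, h₁⟩ := hx
    obtain ⟨E₂, f₂, h₂⟩ := hy
    refine ⟨E₁ ⊔ E₂, inferInstance, ?_⟩
    rw [map_add]
    exact add_mem (FF_val_le le_sup_left h₁) (FF_val_le le_sup_right h₂)

end model

section unique

variable {k K E₁ E₂ : Type*} [Field k] [Field K] [Field E₁] [Field E₂] [Algebra k K]
  [Algebra K E₁] [Algebra k E₁] [IsScalarTower k K E₁] [FiniteDimensional K E₁]
  [Algebra E₁ E₂] [Algebra k E₂] [IsScalarTower k E₁ E₂] [FiniteDimensional E₁ E₂]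
  [Algebra K E₂] [IsScalarTower K E₁ E₂] [IsScalarTower k K E₂]

/-- If every place of `E₂` has degree at least `n₂ ≥ [E₂:E₁] deg P₁`, then there is exactly one
place above `P₁` and its degree is `n₂`. -/
theorem unique_above_of_deg (hK : IsFunctionField k K) (P₁ : Place k E₁) (n₂ : ℕ) (hn₂ : 0 < n₂)
    (hdeg : ∀ Q : Place k E₂, n₂ ≤ Q.deg) (hle : Module.finrank E₁ E₂ * P₁.deg ≤ n₂) :
    (∀ Q : Place k E₂, IsOver Q P₁ → Q.deg = n₂) ∧
    (∀ Q Q' : Place k E₂, IsOver Q P₁ → IsOver Q' P₁ → Q = Q') := by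
  classical
  haveI : FiniteDimensional K E₂ := FiniteDimensional.trans K E₁ E₂
  obtain ⟨P₀, hP₀⟩ := exists_isOver_below (K := K) P₁
  have hfin := finite_isOver (K' := E₂) hK P₀
  let Qs : Finset (Place k E₂) := hfin.toFinset.filter (fun Q => IsOver Q P₁)
  have hQs : ∀ Q, Q ∈ Qs ↔ IsOver Q P₁ := by
    intro Q
    rw [Finset.mem_filter, Set.Finite.mem_toFinset]
    constructor
    · exact fun h => h.2
    · intro h
      exact ⟨isOver_trans hP₀ h, h⟩
  have hsum := sum_ramIdx_mul_deg' hK P₁ Qs hQs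
  have hterm : ∀ Q ∈ Qs, n₂ ≤ ramIdx Q P₁ * Q.deg := by
    intro Q hQ
    calc n₂ ≤ Q.deg := hdeg Q
      _ = 1 * Q.deg := (one_mul _).symm
      _ ≤ ramIdx Q P₁ * Q.deg := Nat.mul_le_mul_right _ (ramIdx_pos ((hQs Q).1 hQ))
  constructor
  · intro Q hQ
    apply le_antisymm _ (hdeg Q)
    have h1 : ramIdx Q P₁ * Q.deg ≤ ∑ Q ∈ Qs, ramIdx Q P₁ * Q.deg :=
      Finset.single_le_sum (f := fun Q => ramIdx Q P₁ * Q.deg) (fun _ _ => Nat.zero_le _)
        ((hQs Q).2 hQ)
    calc Q.deg = 1 * Q.deg := (one_mul _).symm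
      _ ≤ ramIdx Q P₁ * Q.deg := Nat.mul_le_mul_right _ (ramIdx_pos hQ)
      _ ≤ _ := h1
      _ = _ := hsum
      _ ≤ n₂ := hle
  · intro Q Q' hQ hQ'
    by_contra hne
    have h2 : ({Q, Q'} : Finset (Place k E₂)) ⊆ Qs := by
      intro x hx
      rw [Finset.mem_insert, Finset.mem_singleton] at hx
      rcases hx with rfl | rfl
      · exact (hQs _).2 hQ
      · exact (hQs _).2 hQ'
    have h3 : ∑ x ∈ ({Q, Q'} : Finset (Place k E₂)), ramIdx x P₁ * x.deg ≤
        ∑ x ∈ Qs, ramIdx x P₁ * x.deg := Finset.sum_le_sum_of_subset h2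
    rw [Finset.sum_pair hne, hsum] at h3
    have h4 := hterm Q ((hQs _).2 hQ)
    have h5 := hterm Q' ((hQs _).2 hQ')
    omega

/-- The place between: if `Q₃` lies over `Q₂` and over `Q₁` then `Q₂` lies over `Q₁`. -/
theorem isOver_mid {K₁ K₂ K₃ : Type*} [Field K₁] [Field K₂] [Field K₃] [Algebra k K₁]
    [Algebra k K₂] [Algebra k K₃] [Algebra K₁ K₂] [Algebra K₂ K₃] [Algebra K₁ K₃]
    [IsScalarTower K₁ K₂ K₃] [IsScalarTower k K₁ K₂] [IsScalarTower k K₂ K₃]
    [IsScalarTower k K₁ K₃] [Algebra.IsAlgebraic K₁ K₂]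
    {Q₃ : Place k K₃} {Q₂ : Place k K₂} {Q₁ : Place k K₁}
    (h32 : IsOver Q₃ Q₂) (h31 : IsOver Q₃ Q₁) : IsOver Q₂ Q₁ := by
  obtain ⟨Q₁', h21⟩ := exists_isOver_below (K := K₁) Q₂
  have h31' : IsOver Q₃ Q₁' := isOver_trans h21 h32
  rwa [isOver_unique_below h31 h31']

end unique

section main

variable {k kbar : Type u} {K Kbar : Type v} [Field k] [Field kbar] [Field K] [Field Kbar]
  [Algebra k kbar] [Algebra k K] [Algebra K Kbar] [Algebra kbar Kbar]
  [Algebra k Kbar] [IsScalarTower k kbar Kbar] [IsScalarTower k K Kbar]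

/-- The place of an intermediate field below a place of `K̄`. -/
theorem exists_below_F [Algebra.IsAlgebraic K Kbar] (F : IntermediateField K Kbar)
    (Qk : Place k Kbar) : ∃ P : Place k F, IsOver Qk P := by
  haveI : IsScalarTower k F Kbar := IsScalarTower.of_algebraMap_eq (fun _ => rfl)
  haveI : Algebra.IsAlgebraic F Kbar := Algebra.IsAlgebraic.tower_top (K := K) F
  exact exists_isOver_below (K := F) Qk

/-- **Key uniqueness**: above a place of `φ₁(k₁)K` of degree one over `k₁` there is exactly one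
place of `φ₂(k₂)K ⊇ φ₁(k₁)K`, and it has degree one over `k₂`. -/
theorem key_unique {k₁ k₂ : Type u} [Field k₁] [Field k₂] [Algebra k k₁] [Algebra k k₂]
    [FiniteDimensional k k₁] [FiniteDimensional k k₂] [Algebra.IsAlgebraic K Kbar]
    (hK : IsFunctionField k K) (hg : IsGeometric k K)
    (φ₁ : k₁ →ₐ[k] kbar) (φ₂ : k₂ →ₐ[k] kbar)
    (hle : FF (Kbar := Kbar) K φ₁ ≤ FF (Kbar := Kbar) K φ₂)
    {Qk Qk' : Place k Kbar} {P₁ : Place k (FF (Kbar := Kbar) K φ₁)}
    (hP₁ : P₁.deg = Module.finrank k k₁)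
    (h1 : IsOver Qk P₁) (h1' : IsOver Qk' P₁) {R R' : Place k (FF (Kbar := Kbar) K φ₂)}
    (hR : IsOver Qk R) (hR' : IsOver Qk' R') : R = R' ∧ R.deg = Module.finrank k k₂ := by
  classical
  have hb₁ := FF_bijective (Kbar := Kbar) hg φ₁
  have hb₂ := FF_bijective (Kbar := Kbar) hg φ₂
  obtain ⟨f₁, r₁⟩ := Groth.Agent.S11006.finrank_K' k k₁ K (FF (Kbar := Kbar) K φ₁) hb₁
  obtain ⟨f₂, r₂⟩ := Groth.Agent.S11006.finrank_K' k k₂ K (FF (Kbar := Kbar) K φ₂) hb₂
  haveI := f₁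
  haveI := f₂
  obtain ⟨hK₂, -⟩ := Groth.Agent.S11006.result k k₂ K (FF (Kbar := Kbar) K φ₂) hb₂ hK hg
  letI a12 : Algebra (FF (Kbar := Kbar) K φ₁) (FF (Kbar := Kbar) K φ₂) :=
    (IntermediateField.inclusion hle).toRingHom.toAlgebra
  haveI t1 : IsScalarTower K (FF (Kbar := Kbar) K φ₁) (FF (Kbar := Kbar) K φ₂) :=
    IsScalarTower.of_algebraMap_eq (fun _ => rfl)
  haveI t2 : IsScalarTower k (FF (Kbar := Kbar) K φ₁) (FF (Kbar := Kbar) K φ₂) :=
    IsScalarTower.of_algebraMap_eq (fun _ => rfl)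
  haveI t3 : IsScalarTower (FF (Kbar := Kbar) K φ₁) (FF (Kbar := Kbar) K φ₂) Kbar :=
    IsScalarTower.of_algebraMap_eq (fun _ => rfl)
  haveI t4 : IsScalarTower k (FF (Kbar := Kbar) K φ₁) Kbar :=
    IsScalarTower.of_algebraMap_eq (fun _ => rfl)
  haveI t5 : IsScalarTower k (FF (Kbar := Kbar) K φ₂) Kbar :=
    IsScalarTower.of_algebraMap_eq (fun _ => rfl)
  haveI fd12 : FiniteDimensional (FF (Kbar := Kbar) K φ₁) (FF (Kbar := Kbar) K φ₂) :=
    Module.Finite.of_restrictScalars_finite K _ _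
  have hR1 : IsOver R P₁ := isOver_mid hR h1
  have hR1' : IsOver R' P₁ := isOver_mid hR' h1'
  have htower : Module.finrank K (FF (Kbar := Kbar) K φ₁) *
      Module.finrank (FF (Kbar := Kbar) K φ₁) (FF (Kbar := Kbar) K φ₂) =
      Module.finrank K (FF (Kbar := Kbar) K φ₂) := Module.finrank_mul_finrank K _ _
  have hdeg : ∀ Q : Place k (FF (Kbar := Kbar) K φ₂), Module.finrank k k₂ ≤ Q.deg := by
    intro Q
    have h := deg_toK (k := k) (ofK (k' := k₂) Q)
    have hpos := deg_pos hK₂ (ofK (k' := k₂) Q)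
    calc Module.finrank k k₂ = Module.finrank k k₂ * 1 := (mul_one _).symm
      _ ≤ Module.finrank k k₂ * (ofK (k' := k₂) Q).deg := Nat.mul_le_mul_left _ hpos
      _ = Q.deg := h.symm
  have hle' : Module.finrank (FF (Kbar := Kbar) K φ₁) (FF (Kbar := Kbar) K φ₂) * P₁.deg ≤
      Module.finrank k k₂ := by
    rw [hP₁, ← r₁, ← r₂, ← htower, mul_comm]
  obtain ⟨hA, hB⟩ := unique_above_of_deg hK P₁ (Module.finrank k k₂) Module.finrank_pos hdeg hle'
  exact ⟨hB R R' hR1 hR1', hA R hR1⟩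

/-- **S12593**: every place of `K̄ = k̄ ⊗ K` is defined over a finite extension of `k`. -/
theorem place_defined_over_finite [IsAlgClosure k kbar]
    (h : Function.Bijective (Algebra.TensorProduct.productMap
      (IsScalarTower.toAlgHom k kbar Kbar) (IsScalarTower.toAlgHom k K Kbar)))
    (hK : IsFunctionField k K) (hg : IsGeometric k K) (Q : Place kbar Kbar) :
    ∃ k' : IntermediateField k kbar, FiniteDimensional k k' ∧
      (∃ z ∈ Algebra.adjoin K (Set.range fun c : k' => algebraMap kbar Kbar c),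
        Q.1 z = WithZero.exp (-1)) ∧
      ∀ Q' : Place kbar Kbar,
        (∃ e : ℕ, ∀ z ∈ Algebra.adjoin K (Set.range fun c : k' => algebraMap kbar Kbar c),
          Q'.1 z = Q.1 z ^ e) → Q' = Q := by
  classical
  haveI : IsAlgClosed kbar := IsAlgClosure.isAlgClosed k
  haveI hint : Algebra.IsIntegral K Kbar := isIntegral_Kbar h.2
  haveI halg : Algebra.IsAlgebraic K Kbar := inferInstance
  obtain ⟨Qk, hQk⟩ : ∃ Qk : Place k Kbar, Qk = toK (k := k) Q := ⟨_, rfl⟩
  obtain ⟨P, hP⟩ := exists_isOver_below (K := K) Qk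
  obtain ⟨k₂, fk₂, ak₂, fdk₂, hsplit⟩ := exists_splitting_field' hK hg P
  let φ : k₂ →ₐ[k] kbar := IsAlgClosed.lift
  obtain ⟨π, hπ⟩ := exists_uniformizer Q
  obtain ⟨E₁, fE₁, hπE₁⟩ := exists_finite_mem (K := K) h.2 π
  haveI fφ : FiniteDimensional k φ.fieldRange :=
    Module.Finite.equiv (AlgHom.equivFieldRange φ).toLinearEquiv
  obtain ⟨E, hE⟩ : ∃ E : IntermediateField k kbar, E = φ.fieldRange ⊔ E₁ := ⟨_, rfl⟩
  haveI fE : FiniteDimensional k E := hE ▸ inferInstance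
  have hφE : FF (Kbar := Kbar) K φ ≤ FF (Kbar := Kbar) K E.val :=
    FF_le _ _ (fun c => ⟨⟨φ c, hE ▸ (le_sup_left : φ.fieldRange ≤ φ.fieldRange ⊔ E₁)
      (AlgHom.mem_fieldRange.2 ⟨c, rfl⟩)⟩, rfl⟩)
  have hE₁E : FF (Kbar := Kbar) K E₁.val ≤ FF (Kbar := Kbar) K E.val :=
    FF_val_le (hE ▸ le_sup_right)
  have hsub : ∀ E' : IntermediateField k kbar, (FF (Kbar := Kbar) K E'.val).toSubalgebra =
      Algebra.adjoin K (Set.range fun c : E' => algebraMap kbar Kbar c) :=
    fun E' => FF_toSubalgebra E'.val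
  refine ⟨E, fE, ⟨π, ?_, hπ⟩, ?_⟩
  · rw [← hsub E]
    exact hE₁E hπE₁
  -- places below
  obtain ⟨Q₂, hQ₂⟩ := exists_below_F (FF (Kbar := Kbar) K φ) Qk
  obtain ⟨QE, hQE⟩ := exists_below_F (FF (Kbar := Kbar) K E.val) Qk
  have hb := FF_bijective (Kbar := Kbar) hg φ
  haveI fFφ : Module.Finite K (FF (Kbar := Kbar) K φ) :=
    (Groth.Agent.S11006.finrank_K' k k₂ K (FF (Kbar := Kbar) K φ) hb).1
  haveI t5 : IsScalarTower k (FF (Kbar := Kbar) K φ) Kbar :=
    IsScalarTower.of_algebraMap_eq (fun _ => rfl)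
  have hQ₂P : IsOver Q₂ P := isOver_mid hQ₂ hP
  have hdeg₂ : Q₂.deg = Module.finrank k k₂ := by
    have h1 := hsplit (FF (Kbar := Kbar) K φ) hb (ofK (k' := k₂) Q₂) hQ₂P
    have h2 := deg_toK (k := k) (ofK (k' := k₂) Q₂)
    rw [h1, mul_one] at h2
    exact h2
  have hdegE : QE.deg = Module.finrank k E :=
    (key_unique hK hg φ E.val hφE hdeg₂ hQ₂ hQ₂ hQE hQE).2
  -- uniqueness
  rintro Q' ⟨e, he⟩
  by_contra hne
  have he0 : e ≠ 0 := by
    rintro rfl
    have := he 0 (zero_mem _)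
    rw [map_zero, pow_zero] at this
    exact zero_ne_one this
  obtain ⟨Qk', hQk'⟩ : ∃ Qk' : Place k Kbar, Qk' = toK (k := k) Q' := ⟨_, rfl⟩
  have hsep : ∃ w : Kbar, Q.1 w ≤ 1 ∧ ¬ Q'.1 w ≤ 1 := by
    by_contra hcon
    push Not at hcon
    exact hne (place_eq_of_le hcon).symm
  obtain ⟨w, hw1, hw2⟩ := hsep
  obtain ⟨E₂, fE₂, hwE₂⟩ := exists_finite_mem (K := K) h.2 w
  obtain ⟨E', hE'⟩ : ∃ E' : IntermediateField k kbar, E' = E ⊔ E₂ := ⟨_, rfl⟩
  haveI fE' : FiniteDimensional k E' := hE' ▸ inferInstance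
  have hEE' : FF (Kbar := Kbar) K E.val ≤ FF (Kbar := Kbar) K E'.val :=
    FF_val_le (hE' ▸ le_sup_left)
  have hwE' : w ∈ FF (Kbar := Kbar) K E'.val := FF_val_le (hE' ▸ le_sup_right) hwE₂
  obtain ⟨R, hR⟩ := exists_below_F (FF (Kbar := Kbar) K E'.val) Qk
  obtain ⟨R', hR'⟩ := exists_below_F (FF (Kbar := Kbar) K E'.val) Qk'
  have hQk'E : IsOver Qk' QE := by
    apply isOver_of_val_le_one_iff
    intro x
    have e1 : Q'.1 (x : Kbar) = Q.1 (x : Kbar) ^ e := he _ (by rw [← hsub E]; exact x.2)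
    have e2 := isOverWith_val_le_one_iff (isOverWith_ramIdx hQE) x
    rw [hQk] at e2
    rw [hQk']
    show Q'.1 (x : Kbar) ≤ 1 ↔ _
    rw [e1, pow_le_one_iff_of_nonneg zero_le he0]
    exact e2
  have hRR' := (key_unique hK hg E.val E'.val hEE' hdegE hQE hQk'E hR hR').1
  have c1 : R.1 ⟨w, hwE'⟩ ≤ 1 :=
    (isOverWith_val_le_one_iff (isOverWith_ramIdx hR) ⟨w, hwE'⟩).1 (by rw [hQk]; exact hw1)
  have c2 : ¬ R'.1 ⟨w, hwE'⟩ ≤ 1 := fun hc => hw2 (by
    have := (isOverWith_val_le_one_iff (isOverWith_ramIdx hR') ⟨w, hwE'⟩).2 hc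
    rw [hQk'] at this
    exact this)
  rw [hRR'] at c1
  exact c2 c1

end main

end DefOver

end Groth.Agent.Lib.Helper44.FFExt
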