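/-
Automorphisms of an elliptic function field `y² = x³ + ax + b` fixing the place at infinity:
they are `x ↦ u²x, y ↦ u³y` with `a(u⁴-1) = 0 = b(u⁶-1)`, and the count `2/4/6`.
Author: helper44
-/
import Groth.Agent.Lib.Helper44.FunFldGalois
import Groth.Agent.Lib.Helper44.FunFldASReduce
import Groth.Agent.Lib.Helper88.FunFldEllBasis
import Groth.Agent.Lib.Helper88.FunFldLinSeries2
import Mathlib.RingTheory.RootsOfUnity.AlgebraicallyClosed

set_option autoImplicit false

namespace Groth.Agent.Lib.Helper44.FFExt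

open FunFld WithZero
open Groth.Agent.Lib.Helper88.FF

section ellaut

variable {k K : Type*} [Field k] [Field K] [Algebra k K]

/-- An automorphism preserving the valuation of `P` preserves the spaces `L(nP)`. -/
lemma algEquiv_mem_L_single {P : Place k K} (σ : K ≃ₐ[k] K) (hσ : ∀ z, P.1 (σ z) = P.1 z)
    {n : ℤ} {z : K} (hz : z ∈ L (Finsupp.single P n : Divisor k K)) :
    σ z ∈ L (Finsupp.single P n : Divisor k K) := by
  classical
  intro Q
  show Q.1 (σ z) ≤ exp ((Finsupp.single P n : Divisor k K) Q)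
  by_cases hQ : Q = P
  · rw [hQ, Finsupp.single_eq_same, hσ]
    have : P.1 z ≤ exp ((Finsupp.single P n : Divisor k K) P) := hz P
    rwa [Finsupp.single_eq_same] at this
  · rw [Finsupp.single_eq_of_ne hQ, exp_zero]
    have hne : comapPlace (K := k) σ Q ≠ P := by
      intro h
      apply hQ
      apply place_ext
      intro w
      obtain ⟨w', rfl⟩ := σ.surjective w
      rw [hσ, ← h]
      rfl
    have : (comapPlace (K := k) σ Q).1 z ≤
        exp ((Finsupp.single P n : Divisor k K) (comapPlace (K := k) σ Q)) :=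
      hz (comapPlace (K := k) σ Q)
    rw [Finsupp.single_eq_of_ne hne, exp_zero] at this
    exact this

/-- **Classification**: an automorphism of the elliptic function field fixing `P` is
`x ↦ u²x, y ↦ u³y`. -/
theorem ellAut_class [IsAlgClosed k] (hK : IsFunctionField k K) (hgen : genus k K = 1)
    (P : Place k K) (h2 : (2 : k) ≠ 0) (h3 : (3 : k) ≠ 0) {a b : k} {x y : K}
    (heq : y ^ 2 = x ^ 3 + algebraMap k K a * x + algebraMap k K b)
    (hx : x ∈ L (Finsupp.single P 2 : Divisor k K)) (hx2 : P.ord x = -2)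
    (hy : y ∈ L (Finsupp.single P 3 : Divisor k K)) (hy3 : P.ord y = -3)
    (σ : K ≃ₐ[k] K) (hσ : ∀ z, P.1 (σ z) = P.1 z) :
    ∃ u : kˣ, σ x = algebraMap k K ((u : k) ^ 2) * x ∧ σ y = algebraMap k K ((u : k) ^ 3) * y ∧
      a * ((u : k) ^ 4 - 1) = 0 ∧ b * ((u : k) ^ 6 - 1) = 0 := by
  classical
  have hP1 : P.deg = 1 := deg_eq_one_of_isAlgClosed hK P
  have hx0 : x ≠ 0 := by
    rintro rfl
    rw [ord_zero] at hx2
    omega
  have hy0 : y ≠ 0 := by
    rintro rfl
    rw [ord_zero] at hy3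
    omega
  obtain ⟨-, hspan2⟩ := elliptic_basis hK hgen P hP1 x y hx hx2 hy hy3 2 (by norm_num)
  obtain ⟨-, hspan3⟩ := elliptic_basis hK hgen P hP1 x y hx hx2 hy hy3 3 (by norm_num)
  obtain ⟨hLI6, -⟩ := elliptic_basis hK hgen P hP1 x y hx hx2 hy hy3 6 (by norm_num)
  -- `σ x = β + α x`
  have hσx : σ x ∈ L (Finsupp.single P ((2 : ℕ) : ℤ) : Divisor k K) := algEquiv_mem_L_single σ hσ hx
  rw [← hspan2, Submodule.mem_span_range_iff_exists_fun] at hσx
  obtain ⟨c2, hc2⟩ := hσx
  rw [Fintype.sum_sum_type] at hc2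
  simp only [Sum.elim_inl, Sum.elim_inr] at hc2
  have h21 : ∀ f : Fin (2 / 2 + 1) → K, ∑ i, f i = f ⟨0, by norm_num⟩ + f ⟨1, by norm_num⟩ :=
    fun f => Fin.sum_univ_two f
  have h20 : ∀ f : Fin ((2 - 1) / 2) → K, ∑ i, f i = 0 := fun f => Fin.sum_univ_zero f
  rw [h21, h20] at hc2
  obtain ⟨β, hβ⟩ : ∃ β : k, β = c2 (Sum.inl ⟨0, by norm_num⟩) := ⟨_, rfl⟩
  obtain ⟨α, hα⟩ : ∃ α : k, α = c2 (Sum.inl ⟨1, by norm_num⟩) := ⟨_, rfl⟩
  rw [← hβ, ← hα] at hc2
  simp only [pow_zero, pow_one, add_zero, Algebra.smul_def, mul_one] at hc2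
  -- `σ y = ε + δ x + γ y`
  have hσy : σ y ∈ L (Finsupp.single P ((3 : ℕ) : ℤ) : Divisor k K) := algEquiv_mem_L_single σ hσ hy
  rw [← hspan3, Submodule.mem_span_range_iff_exists_fun] at hσy
  obtain ⟨c3, hc3⟩ := hσy
  rw [Fintype.sum_sum_type] at hc3
  simp only [Sum.elim_inl, Sum.elim_inr] at hc3
  have h31 : ∀ f : Fin (3 / 2 + 1) → K, ∑ i, f i = f ⟨0, by norm_num⟩ + f ⟨1, by norm_num⟩ :=
    fun f => Fin.sum_univ_two f
  have h30 : ∀ f : Fin ((3 - 1) / 2) → K, ∑ i, f i = f ⟨0, by norm_num⟩ :=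
    fun f => Fin.sum_univ_one f
  rw [h31, h30] at hc3
  obtain ⟨ε, hε⟩ : ∃ ε : k, ε = c3 (Sum.inl ⟨0, by norm_num⟩) := ⟨_, rfl⟩
  obtain ⟨δ, hδ⟩ : ∃ δ : k, δ = c3 (Sum.inl ⟨1, by norm_num⟩) := ⟨_, rfl⟩
  obtain ⟨γ, hγ⟩ : ∃ γ : k, γ = c3 (Sum.inr ⟨0, by norm_num⟩) := ⟨_, rfl⟩
  rw [← hε, ← hδ, ← hγ] at hc3
  simp only [pow_zero, pow_one, Algebra.smul_def, mul_one, one_mul] at hc3
  -- the relation
  have hrel : (σ y) ^ 2 = (σ x) ^ 3 + algebraMap k K a * σ x + algebraMap k K b := by
    rw [← map_pow, heq, map_add, map_add, map_mul, map_pow, σ.commutes, σ.commutes]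
  rw [← hc2, ← hc3] at hrel
  -- coefficients
  have h61 : ∀ f : Fin (6 / 2 + 1) → K, ∑ i, f i =
      f ⟨0, by norm_num⟩ + f ⟨1, by norm_num⟩ + f ⟨2, by norm_num⟩ + f ⟨3, by norm_num⟩ :=
    fun f => Fin.sum_univ_four f
  have h60 : ∀ f : Fin ((6 - 1) / 2) → K, ∑ i, f i = f ⟨0, by norm_num⟩ + f ⟨1, by norm_num⟩ :=
    fun f => Fin.sum_univ_two f
  let C : Fin (6 / 2 + 1) ⊕ Fin ((6 - 1) / 2) → k := Sum.elim
    ![ε ^ 2 + γ ^ 2 * b - (β ^ 3 + a * β + b), 2 * ε * δ + γ ^ 2 * a - (3 * β ^ 2 * α + a * α),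
      δ ^ 2 - 3 * β * α ^ 2, γ ^ 2 - α ^ 3]
    ![2 * ε * γ, 2 * δ * γ]
  have hCl0 : C (Sum.inl ⟨0, by norm_num⟩) = ε ^ 2 + γ ^ 2 * b - (β ^ 3 + a * β + b) := rfl
  have hCl1 : C (Sum.inl ⟨1, by norm_num⟩) =
      2 * ε * δ + γ ^ 2 * a - (3 * β ^ 2 * α + a * α) := rfl
  have hCl2 : C (Sum.inl ⟨2, by norm_num⟩) = δ ^ 2 - 3 * β * α ^ 2 := rfl
  have hCl3 : C (Sum.inl ⟨3, by norm_num⟩) = γ ^ 2 - α ^ 3 := rfl
  have hCr0 : C (Sum.inr ⟨0, by norm_num⟩) = 2 * ε * γ := rfl
  have hCr1 : C (Sum.inr ⟨1, by norm_num⟩) = 2 * δ * γ := rfl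
  have hC := Fintype.linearIndependent_iff.1 hLI6 C (by
    rw [Fintype.sum_sum_type]
    simp only [Sum.elim_inl, Sum.elim_inr]
    rw [h61, h60, hCl0, hCl1, hCl2, hCl3, hCr0, hCr1]
    simp only [pow_zero, pow_one,
      Algebra.smul_def, mul_one, one_mul, map_sub, map_add, map_mul, map_pow, map_ofNat]
    linear_combination hrel - (algebraMap k K γ) ^ 2 * heq)
  have hC0 := hC (Sum.inl ⟨0, by norm_num⟩)
  have hC1 := hC (Sum.inl ⟨1, by norm_num⟩)
  have hC2 := hC (Sum.inl ⟨2, by norm_num⟩)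
  have hC3 := hC (Sum.inl ⟨3, by norm_num⟩)
  have hE0 := hC (Sum.inr ⟨0, by norm_num⟩)
  have hE1 := hC (Sum.inr ⟨1, by norm_num⟩)
  rw [hCl0] at hC0
  rw [hCl1] at hC1
  rw [hCl2] at hC2
  rw [hCl3] at hC3
  rw [hCr0] at hE0
  rw [hCr1] at hE1
  clear_value C
  have hα0 : α ≠ 0 := by
    intro h0
    rw [h0, map_zero, zero_mul, add_zero] at hc2
    have hxe : x = algebraMap k K β := by
      apply σ.injective
      rw [← hc2, σ.commutes]
    rw [hxe, ord_algebraMap] at hx2
    omega
  have hγ0 : γ ≠ 0 := by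
    intro h0
    apply hα0
    have h3' : α ^ 3 = 0 := by rw [h0] at hC3; linear_combination -hC3
    exact (pow_eq_zero_iff (by norm_num)).1 h3'
  have hε0 : ε = 0 := by
    rcases mul_eq_zero.1 hE0 with h | h
    · rcases mul_eq_zero.1 h with h | h
      · exact absurd h h2
      · exact h
    · exact absurd h hγ0
  have hδ0 : δ = 0 := by
    rcases mul_eq_zero.1 hE1 with h | h
    · rcases mul_eq_zero.1 h with h | h
      · exact absurd h h2
      · exact h
    · exact absurd h hγ0
  have hβ0 : β = 0 := by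
    have h3' : 3 * β * α ^ 2 = 0 := by rw [hδ0] at hC2; linear_combination -hC2
    rcases mul_eq_zero.1 h3' with h | h
    · rcases mul_eq_zero.1 h with h | h
      · exact absurd h h3
      · exact h
    · exact absurd ((pow_eq_zero_iff (by norm_num)).1 h) hα0
  rw [hε0, hβ0] at hC0
  rw [hε0, hβ0] at hC1
  rw [hε0, hδ0, map_zero, zero_mul, add_zero, zero_add] at hc3
  rw [hβ0, map_zero, zero_add] at hc2
  have hu2 : (γ / α) ^ 2 = α := by
    field_simp
    linear_combination hC3
  have hu3 : (γ / α) ^ 3 = γ := by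
    have : (γ / α) ^ 3 = (γ / α) ^ 2 * (γ / α) := by ring
    rw [this, hu2]
    field_simp
  refine ⟨Units.mk0 (γ / α) (div_ne_zero hγ0 hα0), ?_, ?_, ?_, ?_⟩
  · rw [Units.val_mk0, hu2, hc2]
  · rw [Units.val_mk0, hu3, hc3]
  · rw [Units.val_mk0]
    have h4 : (γ / α) ^ 4 = α ^ 2 := by
      have : (γ / α) ^ 4 = ((γ / α) ^ 2) ^ 2 := by ring
      rw [this, hu2]
    rw [h4]
    have h5 : α * (a * (α ^ 2 - 1)) = 0 := by linear_combination hC1 - a * hC3
    rcases mul_eq_zero.1 h5 with h | h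
    · exact absurd h hα0
    · exact h
  · rw [Units.val_mk0]
    have h6 : (γ / α) ^ 6 = γ ^ 2 := by
      have : (γ / α) ^ 6 = ((γ / α) ^ 3) ^ 2 := by ring
      rw [this, hu3]
    rw [h6]
    linear_combination hC0

end ellaut

section fieldconstr

open Polynomial IntermediateField

/-- Field-theoretic construction: if `K = k(x,y) = k(x',y')` is quadratic over `k(x)` with
`y² = h(x)`, `y'² = h(x')` and `x, x'` transcendental, there is a `k`-automorphism
`x ↦ x', y ↦ y'`. -/
theorem exists_algEquiv_of_quadratic {k K : Type*} [Field k] [Field K] [Algebra k K]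
    {x y x' y' : K} (htr : Transcendental k x) (htr' : Transcendental k x')
    (hfin : Module.finrank (IntermediateField.adjoin k ({x} : Set K)) K = 2)
    (h : k[X]) (heq : y ^ 2 = aeval x h) (heq' : y' ^ 2 = aeval x' h)
    (hxy : IntermediateField.adjoin k ({x, y} : Set K) = ⊤)
    (hxy' : IntermediateField.adjoin k ({x', y'} : Set K) = ⊤) :
    ∃ σ : K ≃ₐ[k] K, σ x = x' ∧ σ y = y' := by
  classical
  let F := IntermediateField.adjoin k ({x} : Set K)
  let g : F := IntermediateField.AdjoinSimple.gen k x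
  have hg : algebraMap F K g = x := IntermediateField.AdjoinSimple.algebraMap_gen k x
  let e₁ := RatFunc.algEquivOfTranscendental x htr
  let e₂ := RatFunc.algEquivOfTranscendental x' htr'
  let ι : F →ₐ[k] K := (IntermediateField.val _).comp
    ((e₂ : RatFunc k →ₐ[k] k⟮x'⟯).comp (e₁.symm : F →ₐ[k] RatFunc k))
  have hιg : ι g = x' := by
    show ((e₂ (e₁.symm g) : k⟮x'⟯) : K) = x'
    rw [RatFunc.algEquivOfTranscendental_symm_gen, RatFunc.algEquivOfTranscendental_X]
  let q : F[X] := X ^ 2 - C (aeval g h)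
  have hq_monic : q.Monic := monic_X_pow_sub_C _ (by norm_num)
  have hq_deg : q.natDegree = 2 := natDegree_X_pow_sub_C
  have hqy : aeval y q = 0 := by
    simp only [q, map_sub, map_pow, aeval_X, aeval_C]
    rw [← aeval_algebraMap_apply, hg, heq, sub_self]
  have hint : IsIntegral F y := ⟨q, hq_monic, hqy⟩
  have htop : F⟮y⟯ = ⊤ := by
    have := IntermediateField.adjoin_adjoin_left k ({x} : Set K) ({y} : Set K)
    rw [Set.singleton_union, hxy] at this
    exact IntermediateField.restrictScalars_eq_top_iff.1 this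
  have hmin : minpoly F y = q := by
    have hdeg : (minpoly F y).natDegree = 2 := by
      rw [← IntermediateField.adjoin.finrank hint, htop, IntermediateField.finrank_top', hfin]
    symm
    exact Polynomial.eq_of_monic_of_dvd_of_natDegree_le (minpoly.monic hint) hq_monic
      (minpoly.dvd F y hqy) (by rw [hq_deg, hdeg])
  let e : AdjoinRoot (minpoly F y) ≃ₐ[F] K :=
    (IntermediateField.adjoinRootEquivAdjoin F hint).trans
      ((IntermediateField.equivOfEq htop).trans IntermediateField.topEquiv)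
  have he_root : e (AdjoinRoot.root _) = y := by
    simp [e, IntermediateField.adjoinRootEquivAdjoin_apply_root]
  have h0 : (minpoly F y).eval₂ (ι : F →+* K) y' = 0 := by
    rw [hmin]
    simp only [q, eval₂_sub, eval₂_pow, eval₂_X, eval₂_C]
    rw [RingHom.coe_coe, ← Polynomial.aeval_algHom_apply, hιg, heq', sub_self]
  let σ₀ : K →+* K := (AdjoinRoot.lift (ι : F →+* K) y' h0).comp
    (e.symm : K →+* AdjoinRoot (minpoly F y))
  have hσ₀F : ∀ f : F, σ₀ (algebraMap F K f) = ι f := by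
    intro f
    show AdjoinRoot.lift (ι : F →+* K) y' h0 (e.symm (algebraMap F K f)) = _
    rw [e.symm.commutes, AdjoinRoot.algebraMap_eq, AdjoinRoot.lift_of]
    rfl
  have hσ₀y : σ₀ y = y' := by
    show AdjoinRoot.lift (ι : F →+* K) y' h0 (e.symm y) = _
    have hsy : e.symm y = AdjoinRoot.root (minpoly F y) := by
      rw [AlgEquiv.symm_apply_eq, he_root]
    rw [hsy, AdjoinRoot.lift_root]
  let σ₁ : K →ₐ[k] K := { σ₀ with
    commutes' := fun c => by
      show σ₀ (algebraMap k K c) = algebraMap k K c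
      have hc : algebraMap k K c = algebraMap F K (algebraMap k F c) :=
        IsScalarTower.algebraMap_apply k F K c
      calc σ₀ (algebraMap k K c) = σ₀ (algebraMap F K (algebraMap k F c)) := by rw [← hc]
        _ = ι (algebraMap k F c) := hσ₀F _
        _ = algebraMap k K c := ι.commutes c }
  have hσ₁x : σ₁ x = x' := by
    show σ₀ x = x'
    rw [← hg, hσ₀F, hιg]
  have hσ₁y : σ₁ y = y' := hσ₀y
  have hsurj : Function.Surjective σ₁ := by
    have htop' : σ₁.fieldRange = ⊤ := by
      rw [eq_top_iff, ← hxy', IntermediateField.adjoin_le_iff]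
      rintro z (rfl | rfl)
      · exact ⟨x, hσ₁x⟩
      · exact ⟨y, hσ₁y⟩
    intro z
    have hz : z ∈ σ₁.fieldRange := by rw [htop']; trivial
    exact hz
  exact ⟨AlgEquiv.ofBijective σ₁ ⟨σ₁.toRingHom.injective, hsurj⟩, hσ₁x, hσ₁y⟩

end fieldconstr

section ellaut2

variable {k K : Type*} [Field k] [Field K] [Algebra k K]

open Polynomial in
/-- **Existence**: for `u` with `a(u⁴-1) = 0 = b(u⁶-1)` there is an automorphism
`x ↦ u²x, y ↦ u³y` preserving the valuation of `P`. -/
theorem ellAut_exists [IsAlgClosed k] (hK : IsFunctionField k K)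
    (P : Place k K) {a b : k} {x y : K}
    (heq : y ^ 2 = x ^ 3 + algebraMap k K a * x + algebraMap k K b)
    (hxy : IntermediateField.adjoin k ({x, y} : Set K) = ⊤)
    (hx : x ∈ L (Finsupp.single P 2 : Divisor k K)) (hx2 : P.ord x = -2)
    (u : kˣ) (ha : a * ((u : k) ^ 4 - 1) = 0) (hb : b * ((u : k) ^ 6 - 1) = 0) :
    ∃ σ : K ≃ₐ[k] K, (∀ z, P.1 (σ z) = P.1 z) ∧ σ x = algebraMap k K ((u : k) ^ 2) * x ∧
      σ y = algebraMap k K ((u : k) ^ 3) * y := by
  classical
  have hP1 : P.deg = 1 := deg_eq_one_of_isAlgClosed hK P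
  have hx0 : x ≠ 0 := by
    rintro rfl
    rw [ord_zero] at hx2
    omega
  have hxQ : ∀ Q : Place k K, Q ≠ P → 0 ≤ Q.ord x := by
    intro Q hQ
    apply ord_nonneg_of_val_le_one
    have : Q.1 x ≤ exp ((Finsupp.single P 2 : Divisor k K) Q) := hx Q
    rwa [Finsupp.single_eq_of_ne hQ, exp_zero] at this
  obtain ⟨htr, hfin⟩ := finrank_adjoin_of_single_pole hK hP1 (n := 2) (by norm_num) hx0
    (by rw [hx2]; rfl) hxQ
  have hu2 : algebraMap k K ((u : k) ^ 2) ≠ 0 :=
    (_root_.map_ne_zero (algebraMap k K)).2 (pow_ne_zero _ u.ne_zero)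
  have hu3 : algebraMap k K ((u : k) ^ 3) ≠ 0 :=
    (_root_.map_ne_zero (algebraMap k K)).2 (pow_ne_zero _ u.ne_zero)
  have hx'0 : algebraMap k K ((u : k) ^ 2) * x ≠ 0 := mul_ne_zero hu2 hx0
  have hx'ord : P.ord (algebraMap k K ((u : k) ^ 2) * x) = -2 := by
    rw [ord_mul P hu2 hx0, ord_algebraMap, hx2]
    ring
  have hx'Q : ∀ Q : Place k K, Q ≠ P → 0 ≤ Q.ord (algebraMap k K ((u : k) ^ 2) * x) := by
    intro Q hQ
    rw [ord_mul Q hu2 hx0, ord_algebraMap, zero_add]
    exact hxQ Q hQ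
  obtain ⟨htr', -⟩ := finrank_adjoin_of_single_pole hK hP1 (n := 2) (by norm_num) hx'0
    (by rw [hx'ord]; rfl) hx'Q
  have ha' : algebraMap k K a * ((algebraMap k K u) ^ 4 - 1) = 0 := by
    rw [← map_pow, ← map_one (algebraMap k K), ← map_sub, ← map_mul, ha, map_zero]
  have hb' : algebraMap k K b * ((algebraMap k K u) ^ 6 - 1) = 0 := by
    rw [← map_pow, ← map_one (algebraMap k K), ← map_sub, ← map_mul, hb, map_zero]
  have hxy' : IntermediateField.adjoin k
      ({algebraMap k K ((u : k) ^ 2) * x, algebraMap k K ((u : k) ^ 3) * y} : Set K) = ⊤ := by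
    rw [eq_top_iff, ← hxy, IntermediateField.adjoin_le_iff]
    rintro z (rfl | rfl)
    · have : z = (algebraMap k K ((u : k) ^ 2))⁻¹ * (algebraMap k K ((u : k) ^ 2) * z) := by
        field_simp
      rw [this]
      exact mul_mem (inv_mem (IntermediateField.algebraMap_mem _ _))
        (IntermediateField.subset_adjoin _ _ (by simp))
    · have : z = (algebraMap k K ((u : k) ^ 3))⁻¹ * (algebraMap k K ((u : k) ^ 3) * z) := by
        field_simp
      rw [this]
      exact mul_mem (inv_mem (IntermediateField.algebraMap_mem _ _))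
        (IntermediateField.subset_adjoin _ _ (by simp))
  obtain ⟨σ, hσx, hσy⟩ := exists_algEquiv_of_quadratic htr htr' hfin
    (X ^ 3 + C a * X + C b) (y := y) (y' := algebraMap k K ((u : k) ^ 3) * y)
    (by simp only [map_add, map_mul, map_pow, aeval_X, aeval_C]; exact heq)
    (by
      simp only [map_add, map_mul, map_pow, aeval_X, aeval_C]
      linear_combination (algebraMap k K u) ^ 6 * heq + (algebraMap k K u) ^ 2 * x * ha' + hb')
    hxy hxy'
  refine ⟨σ, ?_, hσx, hσy⟩
  have hQP : comapPlace (K := k) σ P = P := by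
    by_contra hne
    have h1 : (comapPlace (K := k) σ P).1 x ≤
        exp ((Finsupp.single P 2 : Divisor k K) (comapPlace (K := k) σ P)) := hx _
    rw [Finsupp.single_eq_of_ne hne, exp_zero] at h1
    have h2' : 0 ≤ (comapPlace (K := k) σ P).ord x := ord_nonneg_of_val_le_one _ h1
    rw [comapPlace_ord, hσx, hx'ord] at h2'
    omega
  intro z
  have := congrArg (fun Q : Place k K => Q.1 z) hQP
  exact this

/-- A `k`-automorphism of `K = k(x,y)` is determined by its values at `x`, `y`. -/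
lemma algEquiv_eq_of_adjoin {x y : K} (hxy : IntermediateField.adjoin k ({x, y} : Set K) = ⊤)
    (σ τ : K ≃ₐ[k] K) (hx : σ x = τ x) (hy : σ y = τ y) : σ = τ := by
  apply AlgEquiv.ext
  intro z
  have hz : z ∈ IntermediateField.adjoin k ({x, y} : Set K) := by rw [hxy]; trivial
  induction hz using IntermediateField.adjoin_induction with
  | mem z hz =>
    rcases hz with rfl | rfl
    · exact hx
    · exact hy
  | algebraMap c => rw [σ.commutes, τ.commutes]
  | add a b _ _ ha hb => rw [map_add, map_add, ha, hb]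
  | inv a _ ha => rw [map_inv₀, map_inv₀, ha]
  | mul a b _ _ ha hb => rw [map_mul, map_mul, ha, hb]

/-- Number of `n`-th roots of unity in an algebraically closed field with `n ≠ 0`. -/
lemma natCard_units_pow_eq_one (k : Type*) [Field k] [IsAlgClosed k] (n : ℕ) (hn : (n : k) ≠ 0) :
    Nat.card {u : kˣ // u ^ n = 1} = n := by
  have : NeZero (n : k) := ⟨hn⟩
  have : NeZero n := .of_neZero_natCast k
  have h := HasEnoughRootsOfUnity.natCard_rootsOfUnity k n
  refine Eq.trans ?_ h
  apply Nat.card_congr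
  exact Equiv.subtypeEquivRight (fun u => (mem_rootsOfUnity n u).symm)

/-- **S19397**: the automorphism group of an elliptic function field fixing the place at
infinity has order `6`, `4`, `2` according to `a = 0`, `b = 0`, otherwise. -/
theorem card_ellAut [IsAlgClosed k] (h2 : (2 : k) ≠ 0) (h3 : (3 : k) ≠ 0)
    (hK : IsFunctionField k K) (hgen : genus k K = 1) (P : Place k K)
    (a b : k) (hdisc : 4 * a ^ 3 + 27 * b ^ 2 ≠ 0) (x y : K)
    (heq : y ^ 2 = x ^ 3 + algebraMap k K a * x + algebraMap k K b)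
    (hxy : IntermediateField.adjoin k ({x, y} : Set K) = ⊤)
    (hx : x ∈ L (Finsupp.single P 2 : Divisor k K)) (hx2 : P.ord x = -2)
    (hy : y ∈ L (Finsupp.single P 3 : Divisor k K)) (hy3 : P.ord y = -3)
    [Decidable (a = 0)] [Decidable (b = 0)] :
    Nat.card {σ : K ≃ₐ[k] K // ∀ z : K, P.1 (σ z) = P.1 z} =
      if a = 0 then 6 else if b = 0 then 4 else 2 := by
  have hx0 : x ≠ 0 := by
    rintro rfl
    rw [ord_zero] at hx2
    omega
  have hy0 : y ≠ 0 := by
    rintro rfl
    rw [ord_zero] at hy3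
    omega
  have hGT : Nat.card {σ : K ≃ₐ[k] K // ∀ z : K, P.1 (σ z) = P.1 z} =
      Nat.card {u : kˣ // a * ((u : k) ^ 4 - 1) = 0 ∧ b * ((u : k) ^ 6 - 1) = 0} := by
    symm
    choose f hf using (fun u : {u : kˣ // a * ((u : k) ^ 4 - 1) = 0 ∧ b * ((u : k) ^ 6 - 1) = 0} =>
      ellAut_exists hK P heq hxy hx hx2 u.1 u.2.1 u.2.2)
    apply Nat.card_eq_of_bijective
      (fun u => (⟨f u, (hf u).1⟩ : {σ : K ≃ₐ[k] K // ∀ z : K, P.1 (σ z) = P.1 z}))
    constructor
    · intro u u' h
      have h' : f u = f u' := congrArg Subtype.val h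
      have e2 : ((u.1 : kˣ) : k) ^ 2 = ((u'.1 : kˣ) : k) ^ 2 := by
        have h1 := (hf u).2.1
        rw [h', (hf u').2.1] at h1
        exact (algebraMap k K).injective (mul_right_cancel₀ hx0 h1.symm)
      have e3 : ((u.1 : kˣ) : k) ^ 3 = ((u'.1 : kˣ) : k) ^ 3 := by
        have h1 := (hf u).2.2
        rw [h', (hf u').2.2] at h1
        exact (algebraMap k K).injective (mul_right_cancel₀ hy0 h1.symm)
      apply Subtype.ext
      apply Units.ext
      have hu0 : ((u.1 : kˣ) : k) ≠ 0 := u.1.ne_zero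
      have hu0' : ((u'.1 : kˣ) : k) ≠ 0 := u'.1.ne_zero
      have e1 : ((u.1 : kˣ) : k) = ((u.1 : kˣ) : k) ^ 3 / ((u.1 : kˣ) : k) ^ 2 := by field_simp
      rw [e1, e3, e2]
      field_simp
    · rintro ⟨σ, hσ⟩
      obtain ⟨u, h1, h2', h3', h4⟩ := ellAut_class hK hgen P h2 h3 heq hx hx2 hy hy3 σ hσ
      refine ⟨⟨u, h3', h4⟩, ?_⟩
      apply Subtype.ext
      exact algEquiv_eq_of_adjoin hxy _ _ (by rw [(hf _).2.1, h1]) (by rw [(hf _).2.2, h2'])
  rw [hGT]
  by_cases ha : a = 0
  · rw [if_pos ha]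
    have hb : b ≠ 0 := by
      rintro rfl
      apply hdisc
      rw [ha]
      ring
    have h6 : ((6 : ℕ) : k) ≠ 0 := by
      have : ((6 : ℕ) : k) = 2 * 3 := by norm_num
      rw [this]
      exact mul_ne_zero h2 h3
    refine Eq.trans ?_ (natCard_units_pow_eq_one k 6 h6)
    apply Nat.card_congr
    apply Equiv.subtypeEquivRight
    intro u
    rw [ha, zero_mul]
    constructor
    · rintro ⟨-, h⟩
      rcases mul_eq_zero.1 h with h | h
      · exact absurd h hb
      · apply Units.ext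
        push_cast
        linear_combination h
    · intro h
      refine ⟨rfl, ?_⟩
      have h' : (u : k) ^ 6 = 1 := by
        rw [← Units.val_pow_eq_pow_val, h, Units.val_one]
      rw [h']
      ring
  · rw [if_neg ha]
    by_cases hb : b = 0
    · rw [if_pos hb]
      have h4 : ((4 : ℕ) : k) ≠ 0 := by
        have : ((4 : ℕ) : k) = 2 * 2 := by norm_num
        rw [this]
        exact mul_ne_zero h2 h2
      refine Eq.trans ?_ (natCard_units_pow_eq_one k 4 h4)
      apply Nat.card_congr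
      apply Equiv.subtypeEquivRight
      intro u
      rw [hb, zero_mul]
      constructor
      · rintro ⟨h, -⟩
        rcases mul_eq_zero.1 h with h | h
        · exact absurd h ha
        · apply Units.ext
          push_cast
          linear_combination h
      · intro h
        refine ⟨?_, rfl⟩
        have h' : (u : k) ^ 4 = 1 := by
          rw [← Units.val_pow_eq_pow_val, h, Units.val_one]
        rw [h']
        ring
    · rw [if_neg hb]
      have h2' : ((2 : ℕ) : k) ≠ 0 := by exact_mod_cast h2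
      refine Eq.trans ?_ (natCard_units_pow_eq_one k 2 h2')
      apply Nat.card_congr
      apply Equiv.subtypeEquivRight
      intro u
      constructor
      · rintro ⟨h4, h6⟩
        have h4' : (u : k) ^ 4 = 1 := by
          rcases mul_eq_zero.1 h4 with h | h
          · exact absurd h ha
          · linear_combination h
        have h6' : (u : k) ^ 6 = 1 := by
          rcases mul_eq_zero.1 h6 with h | h
          · exact absurd h hb
          · linear_combination h
        apply Units.ext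
        push_cast
        have : (u : k) ^ 6 = (u : k) ^ 4 * (u : k) ^ 2 := by ring
        rw [this, h4', one_mul] at h6'
        exact h6'
      · intro h
        have h' : (u : k) ^ 2 = 1 := by
          rw [← Units.val_pow_eq_pow_val, h, Units.val_one]
        have h4' : (u : k) ^ 4 = 1 := by
          have : (u : k) ^ 4 = ((u : k) ^ 2) ^ 2 := by ring
          rw [this, h', one_pow]
        have h6' : (u : k) ^ 6 = 1 := by
          have : (u : k) ^ 6 = ((u : k) ^ 2) ^ 3 := by ring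
          rw [this, h', one_pow]
        rw [h4', h6']
        simp

end ellaut2

end Groth.Agent.Lib.Helper44.FFExt
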