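/-
Existence of the total Hasse derivative (Hasse family) with respect to a separating transcendental
element `s` of a field extension `K/k`: a `k`-algebra map `H : K → K⟦X⟧` with `H s = s + X` and
constant term the identity. Construction: `k(s) → K⟦X⟧`, `s ↦ s + X` (localization), then lift
along the formally smooth (separable algebraic) extension `K / k(s)` using completeness of `K⟦X⟧`.
Author: helper44
-/
import Groth.Prelude.Def_LocRes
import Mathlib

set_option autoImplicit false
set_option linter.unusedSectionVars false
set_option linter.style.haveILetI false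

namespace Groth.Agent.Lib.Helper44.HasseExist

open LocRes PowerSeries
open scoped IntermediateField.algebraAdjoinAdjoin

variable {k K : Type*} [Field k] [Field K] [Algebra k K]

/-- `p ↦ p(s + X)`. -/
noncomputable def shiftPoly (s : K) : Polynomial k →ₐ[k] K⟦X⟧ :=
  Polynomial.aeval (PowerSeries.C s + PowerSeries.X)

lemma constantCoeff_shiftPoly (s : K) (p : Polynomial k) :
    PowerSeries.constantCoeff (shiftPoly s p) = Polynomial.aeval s p := by
  have h : (PowerSeries.constantCoeff (R := K)).comp (shiftPoly (k := k) s).toRingHom =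
      (Polynomial.aeval s : Polynomial k →ₐ[k] K).toRingHom := by
    apply Polynomial.ringHom_ext
    · intro a
      show PowerSeries.constantCoeff (shiftPoly (k := k) s (Polynomial.C a)) =
        Polynomial.aeval s (Polynomial.C a)
      rw [shiftPoly, Polynomial.aeval_C, Polynomial.aeval_C, PowerSeries.algebraMap_apply,
        PowerSeries.constantCoeff_C]
    · show PowerSeries.constantCoeff (shiftPoly (k := k) s Polynomial.X) =
        Polynomial.aeval s Polynomial.X
      rw [shiftPoly, Polynomial.aeval_X, Polynomial.aeval_X, map_add,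
        PowerSeries.constantCoeff_C, PowerSeries.constantCoeff_X, add_zero]
  exact congrArg (fun f => f p) h

/-- Existence of a Hasse family for a separating transcendental element. -/
theorem exists_isHasseFamily (s : K) (hs : Transcendental k s)
    [Algebra.IsSeparable (IntermediateField.adjoin k ({s} : Set K)) K] :
    ∃ H : K →ₐ[k] K⟦X⟧, IsHasseFamily s H := by
  classical
  have hinj : Function.Injective (Polynomial.aeval s : Polynomial k →ₐ[k] K) :=
    transcendental_iff_injective.1 hs
  let A : Subalgebra k K := Algebra.adjoin k ({s} : Set K)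
  let F : IntermediateField k K := IntermediateField.adjoin k ({s} : Set K)
  let e : Polynomial k ≃ₐ[k] A :=
    (AlgEquiv.ofInjective (Polynomial.aeval s) hinj).trans
      (Subalgebra.equivOfEq _ _ (Algebra.adjoin_singleton_eq_range_aeval k s).symm)
  have he : ∀ p : Polynomial k, ((e p : A) : K) = Polynomial.aeval s p := fun p => rfl
  let g₀ : A →ₐ[k] K⟦X⟧ := (shiftPoly s).comp e.symm.toAlgHom
  have hg₀cc : ∀ a : A, PowerSeries.constantCoeff (g₀ a) = (a : K) := by
    intro a
    show PowerSeries.constantCoeff (shiftPoly s (e.symm a)) = (a : K)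
    rw [constantCoeff_shiftPoly, ← he, AlgEquiv.apply_symm_apply]
  have hunits : ∀ y : nonZeroDivisors A, IsUnit (g₀.toRingHom y) := by
    intro y
    show IsUnit (g₀ (y : A))
    rw [PowerSeries.isUnit_iff_constantCoeff, hg₀cc, isUnit_iff_ne_zero]
    have := nonZeroDivisors.ne_zero y.2
    intro h0
    exact this (Subtype.ext h0)
  let ι : F →+* K⟦X⟧ := IsLocalization.lift (M := nonZeroDivisors A) (S := F) hunits
  have hι : ∀ a : A, ι (algebraMap A F a) = g₀ a := fun a => IsLocalization.lift_eq hunits a
  have hιcc : ∀ a : F, PowerSeries.constantCoeff (ι a) = (a : K) := by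
    have h : (PowerSeries.constantCoeff (R := K)).comp ι = algebraMap F K := by
      apply IsLocalization.ringHom_ext (nonZeroDivisors A)
      ext a
      show PowerSeries.constantCoeff (ι (algebraMap A F a)) = _
      rw [hι, hg₀cc]
      rfl
    intro a
    exact congrArg (fun f => f a) h
  letI algFT : Algebra F K⟦X⟧ := ι.toAlgebra
  haveI : Algebra.FormallyEtale F K := Algebra.FormallyEtale.of_isSeparable F K
  let I : Ideal K⟦X⟧ := Ideal.span {(PowerSeries.X : K⟦X⟧)}
  have hmemI : ∀ φ : K⟦X⟧, φ ∈ I ↔ PowerSeries.constantCoeff φ = 0 := by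
    intro φ
    rw [Ideal.mem_span_singleton, PowerSeries.X_dvd_iff]
  letI algFQ : Algebra F (K⟦X⟧ ⧸ I) := Ideal.instAlgebraQuotient F I
  let f : @AlgHom F K (K⟦X⟧ ⧸ I) _ _ _ _ algFQ :=
    { toRingHom := (Ideal.Quotient.mk I).comp (PowerSeries.C : K →+* K⟦X⟧)
      commutes' := by
        intro a
        show Ideal.Quotient.mk I (PowerSeries.C (algebraMap F K a)) =
          Ideal.Quotient.mk I (ι a)
        rw [Ideal.Quotient.eq, hmemI, map_sub, PowerSeries.constantCoeff_C, hιcc]
        exact sub_self _ }
  obtain ⟨g, hg⟩ := Algebra.FormallySmooth.exists_mkₐ_comp_eq_of_isAdicComplete (R := F) (A := K)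
    (I := I) f
  have hgcc : ∀ y : K, PowerSeries.constantCoeff (g y) = y := by
    intro y
    have h1 : Ideal.Quotient.mk I (g y) = Ideal.Quotient.mk I (PowerSeries.C y) :=
      congrArg (fun h => h y) hg
    rw [Ideal.Quotient.eq, hmemI, map_sub, PowerSeries.constantCoeff_C, sub_eq_zero] at h1
    exact h1
  have hsA : s ∈ A := Algebra.self_mem_adjoin_singleton k s
  have hgs : g s = PowerSeries.C s + PowerSeries.X := by
    have h1 : s = algebraMap F K (algebraMap A F ⟨s, hsA⟩) := rfl
    have h2 : e Polynomial.X = ⟨s, hsA⟩ := by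
      apply Subtype.ext
      rw [he, Polynomial.aeval_X]
    have h3 : e.symm ⟨s, hsA⟩ = Polynomial.X := by
      rw [← h2, AlgEquiv.symm_apply_apply]
    conv_lhs => rw [h1]
    rw [g.commutes]
    show ι (algebraMap A F ⟨s, hsA⟩) = _
    rw [hι]
    show shiftPoly s (e.symm ⟨s, hsA⟩) = _
    rw [h3]
    simp [shiftPoly]
  refine ⟨{ toRingHom := g.toRingHom
            commutes' := ?_ }, hgs, hgcc⟩
  intro c
  show g (algebraMap k K c) = algebraMap k K⟦X⟧ c
  have h1 : algebraMap k K c = algebraMap F K (algebraMap A F (algebraMap k A c)) := rfl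
  rw [h1, g.commutes]
  show ι (algebraMap A F (algebraMap k A c)) = _
  rw [hι, AlgHom.commutes]

end Groth.Agent.Lib.Helper44.HasseExist
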