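/-
Ramification groups of a place in an extension of function fields (valuative definition):
`IsRam Q j σ` says `v_Q (σ x - x) ≥ j` for all `x ∈ O_Q`.  Main result: if the residue field of
`Q` is separable over `k`, every element of `O_Q` is congruent mod `m_Q` to an element fixed by a
given finite group of automorphisms acting trivially on the residue field; consequently
`σ ∈ G_j` iff `v_Q (σ t - t) ≥ j` for a uniformizer `t`.
Author: helper44
-/
import Groth.Agent.Lib.Helper44.FunFldGalois2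
import Mathlib.RingTheory.Invariant.Galois

set_option autoImplicit false
set_option linter.style.haveILetI false

namespace Groth.Agent.Lib.Helper44.FFExt

open FunFld WithZero Polynomial
open Groth.Agent.Lib.Helper88.FF

/-- **Residue classes have fixed representatives.**  A finite group acting on a local ring `B`
trivially on the residue field, whose residue field is separable over a field `k` fixed by the
action: every element of `B` is congruent modulo the maximal ideal to a fixed element. -/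
theorem exists_fixed_sub_mem_maximalIdeal
    {k B G : Type*} [Field k] [CommRing B] [IsLocalRing B] [Algebra k B]
    [Group G] [Finite G] [MulSemiringAction G B] [SMulCommClass G k B]
    (hsep : ∀ x : B, ∃ p : Polynomial k, p.Separable ∧ aeval x p ∈ IsLocalRing.maximalIdeal B)
    (htriv : ∀ (g : G) (b : B), g • b - b ∈ IsLocalRing.maximalIdeal B) (x : B) :
    ∃ a : B, (∀ g : G, g • a = a) ∧ x - a ∈ IsLocalRing.maximalIdeal B := by
  classical
  let A := FixedPoints.subalgebra k B G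
  let m := IsLocalRing.maximalIdeal B
  let P := m.under A
  haveI : Algebra.IsInvariant A B G := ⟨fun b hb => ⟨⟨b, hb⟩, rfl⟩⟩
  haveI : Algebra.IsIntegral A B := Algebra.IsInvariant.isIntegral A B G
  haveI : m.LiesOver P := ⟨rfl⟩
  haveI : m.IsMaximal := IsLocalRing.maximalIdeal.isMaximal B
  haveI : P.IsMaximal := Ideal.IsMaximal.under A m
  letI := Ideal.Quotient.field P
  letI := Ideal.Quotient.field m
  haveI hnormal : Normal (A ⧸ P) (B ⧸ m) := Ideal.Quotient.normal G P m
  haveI hsepAlg : Algebra.IsSeparable (A ⧸ P) (B ⧸ m) := by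
    refine ⟨fun y => ?_⟩
    obtain ⟨y, rfl⟩ := Ideal.Quotient.mk_surjective y
    obtain ⟨p, hp, hpy⟩ := hsep y
    have h0 : aeval (Ideal.Quotient.mk m y) (p.map (algebraMap k (A ⧸ P))) = 0 := by
      rw [aeval_map_algebraMap]
      have : aeval (Ideal.Quotient.mk m y) p = Ideal.Quotient.mk m (aeval y p) := by
        rw [← Ideal.Quotient.algebraMap_eq, ← aeval_algebraMap_apply]
      rw [this, Ideal.Quotient.eq_zero_iff_mem]
      exact hpy
    exact (hp.map (f := algebraMap k (A ⧸ P))).of_dvd (minpoly.dvd _ _ h0)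
  haveI : IsGalois (A ⧸ P) (B ⧸ m) := ⟨⟩
  haveI : Module.Finite (A ⧸ P) (B ⧸ m) := Ideal.Quotient.finite_of_isInvariant G P m
  have hfix : ∀ f : (B ⧸ m) ≃ₐ[A ⧸ P] (B ⧸ m),
      f (Ideal.Quotient.mk m x) = Ideal.Quotient.mk m x := by
    intro f
    obtain ⟨g, rfl⟩ := Ideal.Quotient.stabilizerHom_surjective G P m f
    rw [Ideal.Quotient.stabilizerHom_apply, Ideal.Quotient.eq]
    exact htriv g.1 x
  obtain ⟨a, ha⟩ := (IsGalois.mem_range_algebraMap_iff_fixed (F := A ⧸ P) (E := B ⧸ m) _).2 hfix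
  obtain ⟨a, rfl⟩ := Ideal.Quotient.mk_surjective a
  refine ⟨a.1, fun g => a.2 g, ?_⟩
  rw [← Ideal.Quotient.eq]
  exact ha.symm

variable {k K K' : Type*} [Field k] [Field K] [Field K'] [Algebra k K] [Algebra K K'] [Algebra k K']
  [IsScalarTower k K K']

/-- `σ` lies in the `j`-th ramification group of `Q` (numbering: `j = 0` decomposition group,
`j = 1` inertia group, `j = 2` wild inertia, ...). -/
def IsRam (Q : Place k K') (j : ℕ) (σ : K' ≃ₐ[K] K') : Prop :=
  ∀ x : K', Q.1 x ≤ 1 → Q.1 (σ x - x) ≤ exp (-(j : ℤ))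

namespace IsRam

variable {Q : Place k K'} {j : ℕ} {σ τ : K' ≃ₐ[K] K'}

lemma exp_neg_le_one (j : ℕ) : (exp (-(j : ℤ)) : ℤᵐ⁰) ≤ 1 := by
  rw [← exp_zero, exp_le_exp]; omega

lemma map_le_one (h : IsRam Q j σ) {x : K'} (hx : Q.1 x ≤ 1) : Q.1 (σ x) ≤ 1 := by
  have h1 : σ x = (σ x - x) + x := by ring
  rw [h1]
  exact (Q.1.map_add _ _).trans (max_le ((h x hx).trans (exp_neg_le_one j)) hx)

lemma comapPlace_eq (h : IsRam Q j σ) : comapPlace σ Q = Q :=
  (place_eq_of_le (P := Q) (Q := comapPlace σ Q) fun _ hy => h.map_le_one hy).symm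

lemma val_apply (h : IsRam Q j σ) (y : K') : Q.1 (σ y) = Q.1 y := by
  conv_rhs => rw [← h.comapPlace_eq]
  rfl

lemma mono {j' : ℕ} (hj : j' ≤ j) (h : IsRam Q j σ) : IsRam Q j' σ := by
  intro x hx
  refine (h x hx).trans ?_
  rw [exp_le_exp]; omega

lemma one (Q : Place k K') (j : ℕ) : IsRam Q j (1 : K' ≃ₐ[K] K') := by
  intro x _
  simp

lemma mul (hσ : IsRam Q j σ) (hτ : IsRam Q j τ) : IsRam Q j (σ * τ) := by
  intro x hx
  have h1 : (σ * τ) x - x = (σ (τ x) - τ x) + (τ x - x) := by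
    rw [AlgEquiv.mul_apply]; ring
  rw [h1]
  exact (Q.1.map_add _ _).trans (max_le (hσ _ (hτ.map_le_one hx)) (hτ x hx))

lemma inv (hσ : IsRam Q j σ) : IsRam Q j σ⁻¹ := by
  intro x hx
  have h1 : Q.1 (σ⁻¹ x - x) = Q.1 (σ (σ⁻¹ x - x)) := (hσ.val_apply _).symm
  have h2 : σ (σ⁻¹ x - x) = -(σ x - x) := by
    rw [map_sub, ← AlgEquiv.mul_apply, mul_inv_cancel, AlgEquiv.one_apply]; ring
  rw [h1, h2, Valuation.map_neg]
  exact hσ x hx

end IsRam

/-- The `j`-th ramification group as a subgroup of the automorphism group. -/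
def ramSubgroup (Q : Place k K') (j : ℕ) : Subgroup (K' ≃ₐ[K] K') where
  carrier := {σ | IsRam Q j σ}
  mul_mem' := fun h1 h2 => IsRam.mul h1 h2
  one_mem' := IsRam.one Q j
  inv_mem' := fun h => IsRam.inv h

lemma mem_ramSubgroup {Q : Place k K'} {j : ℕ} {σ : K' ≃ₐ[K] K'} :
    σ ∈ ramSubgroup (K := K) Q j ↔ IsRam Q j σ := Iff.rfl

/-- The action on `O_Q` of a group of automorphisms preserving `O_Q`. -/
def ramAction (Q : Place k K') (H : Subgroup (K' ≃ₐ[K] K'))
    (hH : ∀ σ ∈ H, ∀ x : K', Q.1 x ≤ 1 → Q.1 (σ x) ≤ 1) : MulSemiringAction H Q.O where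
  smul σ x := ⟨σ.1 x.1, hH σ.1 σ.2 x.1 x.2⟩
  one_smul x := Subtype.ext rfl
  mul_smul σ τ x := Subtype.ext rfl
  smul_zero σ := Subtype.ext (map_zero σ.1)
  smul_add σ x y := Subtype.ext (map_add σ.1 x.1 y.1)
  smul_one σ := Subtype.ext (map_one σ.1)
  smul_mul σ x y := Subtype.ext (map_mul σ.1 x.1 y.1)

/-- **Fixed representatives of residue classes**: if the residue field of `Q` is separable over
`k` and the finite group `H` acts trivially on it, every element of `O_Q` is congruent mod `m_Q`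
to an `H`-fixed element of `O_Q`. -/
theorem exists_fixed_of_isRam (Q : Place k K') [Algebra.IsSeparable k (IsLocalRing.ResidueField Q.O)]
    (H : Subgroup (K' ≃ₐ[K] K')) [Finite H] (hH : ∀ σ ∈ H, IsRam Q 1 σ) {x : K'}
    (hx : Q.1 x ≤ 1) : ∃ a : K', Q.1 a ≤ 1 ∧ (∀ σ ∈ H, σ a = a) ∧ Q.1 (x - a) < 1 := by
  letI act : MulSemiringAction H Q.O := ramAction Q H (fun σ hσ x hx => (hH σ hσ).map_le_one hx)
  have hsmul : ∀ (σ : H) (y : Q.O), ((σ • y : Q.O) : K') = σ.1 y.1 := fun _ _ => rfl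
  haveI : SMulCommClass H k Q.O := ⟨fun σ c y => by
    apply Subtype.ext
    rw [hsmul, Algebra.smul_def, Algebra.smul_def]
    show σ.1 (algebraMap k K' c * y.1) = algebraMap k K' c * σ.1 y.1
    rw [map_mul, IsScalarTower.algebraMap_apply k K K', σ.1.commutes]⟩
  have hsep : ∀ y : Q.O, ∃ p : Polynomial k, p.Separable ∧
      aeval y p ∈ IsLocalRing.maximalIdeal Q.O := by
    intro y
    refine ⟨minpoly k (IsLocalRing.residue Q.O y), Algebra.IsSeparable.isSeparable k _, ?_⟩
    rw [← IsLocalRing.residue_eq_zero_iff, aeval_def, hom_eval₂]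
    exact minpoly.aeval k (IsLocalRing.residue Q.O y)
  have htriv : ∀ (g : H) (b : Q.O), g • b - b ∈ IsLocalRing.maximalIdeal Q.O := by
    intro g b
    rw [Valuation.mem_maximalIdeal_iff]
    show Q.1 (g.1 b.1 - b.1) < 1
    rw [lt_one_iff_le_exp_neg_one]
    exact hH g.1 g.2 b.1 b.2
  obtain ⟨a, ha, hxa⟩ := exists_fixed_sub_mem_maximalIdeal (k := k) (G := H) hsep htriv ⟨x, hx⟩
  refine ⟨a.1, a.2, fun σ hσ => ?_, ?_⟩
  · have := congrArg Subtype.val (ha ⟨σ, hσ⟩)
    exact this
  · rw [Valuation.mem_maximalIdeal_iff] at hxa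
    exact hxa

/-- **Criterion for the higher ramification groups**: for `σ` in the inertia group and a
uniformizer `t`, `σ ∈ G_j` iff `v_Q (σ t - t) ≥ j`. -/
theorem isRam_iff_uniformizer [Finite (K' ≃ₐ[K] K')] (Q : Place k K')
    [Algebra.IsSeparable k (IsLocalRing.ResidueField Q.O)]
    {σ : K' ≃ₐ[K] K'} (hσ : IsRam Q 1 σ) {t : K'} (ht : Q.1 t = exp (-1 : ℤ)) {j : ℕ}
    (hj : 1 ≤ j) : IsRam Q j σ ↔ Q.1 (σ t - t) ≤ exp (-(j : ℤ)) := by
  constructor
  · intro h
    exact h t (by rw [ht, ← exp_zero, exp_le_exp]; omega)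
  · intro h
    have hH : ∀ τ ∈ Subgroup.zpowers σ, IsRam Q 1 τ := by
      intro τ hτ
      have hle : Subgroup.zpowers σ ≤ ramSubgroup (K := K) Q 1 := by
        rw [Subgroup.zpowers_le]; exact hσ
      exact hle hτ
    have ht0 : t ≠ 0 := by
      rintro rfl
      rw [map_zero] at ht
      exact exp_ne_zero ht.symm
    induction j, hj using Nat.le_induction with
    | base => exact hσ
    | succ j hj ih =>
      have hj' : Q.1 (σ t - t) ≤ exp (-(j : ℤ)) := h.trans (by rw [exp_le_exp]; push_cast; omega)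
      have ihj := ih hj'
      intro x hx
      obtain ⟨a, ha1, haσ, hxa⟩ := exists_fixed_of_isRam Q (Subgroup.zpowers σ) hH hx
      have hσa : σ a = a := haσ σ (Subgroup.mem_zpowers σ)
      set x₁ : K' := (x - a) / t with hx₁
      have hx₁1 : Q.1 x₁ ≤ 1 := by
        rw [hx₁, map_div₀, ht]
        rw [lt_one_iff_le_exp_neg_one] at hxa
        rw [div_le_iff₀ (exp_pos), one_mul]
        exact hxa
      have hxe : x = a + t * x₁ := by
        rw [hx₁]; field_simp; ring
      have hkey : σ x - x = (σ t - t) * σ x₁ + t * (σ x₁ - x₁) := by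
        rw [hxe, map_add, map_mul, hσa]; ring
      rw [hkey]
      refine (Q.1.map_add _ _).trans (max_le ?_ ?_)
      · rw [map_mul]
        calc Q.1 (σ t - t) * Q.1 (σ x₁) ≤ exp (-((j + 1 : ℕ) : ℤ)) * 1 :=
              mul_le_mul' h (hσ.map_le_one hx₁1)
          _ = _ := mul_one _
      · rw [map_mul, ht]
        calc exp (-1 : ℤ) * Q.1 (σ x₁ - x₁) ≤ exp (-1 : ℤ) * exp (-(j : ℤ)) :=
              mul_le_mul' le_rfl (ihj x₁ hx₁1)
          _ = exp (-((j + 1 : ℕ) : ℤ)) := by
              rw [← exp_add]; congr 1; push_cast; ring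

end Groth.Agent.Lib.Helper44.FFExt
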