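/-
Ramification groups, part 2: the tame character `σ ↦ σ t / t mod m_Q` on the inertia group,
its kernel is the wild inertia group, and the quotient `G₁ / G₂` is cyclic.
Author: helper44
-/
import Groth.Agent.Lib.Helper44.FunFldInertia
import Mathlib.RingTheory.IntegralDomain

set_option autoImplicit false
set_option linter.style.haveILetI false

namespace Groth.Agent.Lib.Helper44.FFExt

open FunFld WithZero Polynomial
open Groth.Agent.Lib.Helper88.FF

variable {k K K' : Type*} [Field k] [Field K] [Field K'] [Algebra k K] [Algebra K K'] [Algebra k K']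
  [IsScalarTower k K K']

lemma uniformizer_ne_zero {Q : Place k K'} {t : K'} (ht : Q.1 t = exp (-1 : ℤ)) : t ≠ 0 := by
  rintro rfl
  rw [map_zero] at ht
  exact exp_ne_zero ht.symm

lemma val_apply_div_self {Q : Place k K'} {t : K'} (ht : Q.1 t = exp (-1 : ℤ))
    {σ : K' ≃ₐ[K] K'} (hσ : IsRam Q 1 σ) : Q.1 (σ t / t) = 1 := by
  rw [map_div₀, hσ.val_apply, ht]
  exact div_self exp_ne_zero

/-- The tame character on the inertia group. -/
noncomputable def tameChar (Q : Place k K') {t : K'} (ht : Q.1 t = exp (-1 : ℤ)) :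
    ramSubgroup (K := K) Q 1 →* IsLocalRing.ResidueField Q.O where
  toFun σ := IsLocalRing.residue Q.O ⟨σ.1 t / t, (val_apply_div_self ht σ.2).le⟩
  map_one' := by
    have h : (⟨((1 : ramSubgroup (K := K) Q 1) : K' ≃ₐ[K] K') t / t,
        (val_apply_div_self ht (1 : ramSubgroup (K := K) Q 1).2).le⟩ : Q.O) = 1 := by
      apply Subtype.ext
      show ((1 : ramSubgroup (K := K) Q 1) : K' ≃ₐ[K] K') t / t = 1
      rw [Subgroup.coe_one, AlgEquiv.one_apply, div_self (uniformizer_ne_zero ht)]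
    show IsLocalRing.residue Q.O _ = 1
    rw [h, map_one]
  map_mul' σ τ := by
    have ht0 := uniformizer_ne_zero ht
    set u : Q.O := ⟨τ.1 t / t, (val_apply_div_self ht τ.2).le⟩ with hu
    set w : Q.O := ⟨σ.1 t / t, (val_apply_div_self ht σ.2).le⟩ with hw
    set su : Q.O := ⟨σ.1 u.1, σ.2.map_le_one u.2⟩ with hsu
    have h1 : (⟨(σ * τ).1 t / t, (val_apply_div_self ht (σ * τ).2).le⟩ : Q.O) = su * w := by
      apply Subtype.ext
      show (σ.1 * τ.1) t / t = σ.1 (τ.1 t / t) * (σ.1 t / t)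
      rw [AlgEquiv.mul_apply, map_div₀]
      have : σ.1 t ≠ 0 := (map_ne_zero σ.1).2 ht0
      field_simp
    have h2 : IsLocalRing.residue Q.O su = IsLocalRing.residue Q.O u := by
      rw [← sub_eq_zero, ← map_sub, IsLocalRing.residue_eq_zero_iff,
        Valuation.mem_maximalIdeal_iff]
      show Q.1 (σ.1 u.1 - u.1) < 1
      rw [lt_one_iff_le_exp_neg_one]
      exact σ.2 u.1 u.2
    show IsLocalRing.residue Q.O _ = IsLocalRing.residue Q.O w * IsLocalRing.residue Q.O u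
    rw [h1, map_mul, h2, mul_comm]

lemma tameChar_eq_one_iff (Q : Place k K') {t : K'} (ht : Q.1 t = exp (-1 : ℤ))
    (σ : ramSubgroup (K := K) Q 1) :
    tameChar Q ht σ = 1 ↔ Q.1 (σ.1 t - t) ≤ exp (-(2 : ℤ)) := by
  have ht0 := uniformizer_ne_zero ht
  set w : Q.O := ⟨σ.1 t / t, (val_apply_div_self ht σ.2).le⟩ with hw
  have h0 : tameChar Q ht σ = IsLocalRing.residue Q.O w := rfl
  have h1 : IsLocalRing.residue Q.O w = 1 ↔ w - 1 ∈ IsLocalRing.maximalIdeal Q.O := by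
    rw [← IsLocalRing.residue_eq_zero_iff, map_sub, map_one, sub_eq_zero]
  rw [h0, h1, Valuation.mem_maximalIdeal_iff]
  have h2 : ((w - 1 : Q.O) : K') = (σ.1 t - t) / t := by
    show σ.1 t / t - 1 = (σ.1 t - t) / t
    field_simp
  rw [h2, map_div₀, ht, div_lt_iff₀ exp_pos, one_mul]
  have := lt_exp_succ_iff (x := Q.1 (σ.1 t - t)) (n := -2)
  simpa using this

/-- `G₁ / G₂` is cyclic: there is `σ₀ ∈ G₁` such that every `σ ∈ G₁` is `σ₀ ^ n` modulo `G₂`. -/
theorem exists_generator_mod_wild [Finite (K' ≃ₐ[K] K')] (Q : Place k K')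
    [Algebra.IsSeparable k (IsLocalRing.ResidueField Q.O)] :
    ∃ σ₀ : K' ≃ₐ[K] K', IsRam Q 1 σ₀ ∧
      ∀ σ : K' ≃ₐ[K] K', IsRam Q 1 σ → ∃ n : ℕ, IsRam Q 2 ((σ₀ ^ n)⁻¹ * σ) := by
  obtain ⟨t, ht⟩ := exists_uniformizer Q
  let f := (tameChar (K := K) Q ht).toHomUnits
  have hker : ∀ σ : ramSubgroup (K := K) Q 1, σ ∈ f.ker ↔ tameChar Q ht σ = 1 := by
    intro σ
    rw [MonoidHom.mem_ker, ← Units.val_inj, Units.val_one]
    rfl
  haveI : IsCyclic (ramSubgroup (K := K) Q 1 ⧸ f.ker) :=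
    isCyclic_of_injective_ringHom ((Units.coeHom _).comp (QuotientGroup.kerLift f))
      (Units.val_injective.comp (QuotientGroup.kerLift_injective f))
  obtain ⟨g₀, hg₀⟩ := IsCyclic.exists_monoid_generator (α := ramSubgroup (K := K) Q 1 ⧸ f.ker)
  obtain ⟨σ₀, rfl⟩ := QuotientGroup.mk_surjective g₀
  refine ⟨σ₀.1, σ₀.2, fun σ hσ => ?_⟩
  obtain ⟨n, hn⟩ := hg₀ (QuotientGroup.mk ⟨σ, hσ⟩)
  refine ⟨n, ?_⟩
  have hn' : ((σ₀ ^ n : ramSubgroup (K := K) Q 1) : ramSubgroup (K := K) Q 1 ⧸ f.ker) =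
      ((⟨σ, hσ⟩ : ramSubgroup (K := K) Q 1) : ramSubgroup (K := K) Q 1 ⧸ f.ker) := hn
  rw [QuotientGroup.eq, hker, tameChar_eq_one_iff] at hn'
  have hmem : IsRam Q 1 ((σ₀.1 ^ n)⁻¹ * σ) :=
    ((σ₀ ^ n)⁻¹ * (⟨σ, hσ⟩ : ramSubgroup (K := K) Q 1)).2
  exact (isRam_iff_uniformizer Q hmem ht (by norm_num)).2 hn'

end Groth.Agent.Lib.Helper44.FFExt
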