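/-
Ramification groups, part 3: for `i ≥ 2` the map `σ ↦ σ u - u mod m_Q^{i+1}` is additive on `G_i`;
consequences: commutators of `G_i` lie in `G_{i+1}`, `σ^p ∈ G_{i+1}` in characteristic `p`, and
`G_i = G_{i+1}` in characteristic `0`.
Author: helper44
-/
import Groth.Agent.Lib.Helper44.FunFldInertia2

set_option autoImplicit false
set_option linter.style.haveILetI false

namespace Groth.Agent.Lib.Helper44.FFExt

open FunFld WithZero Polynomial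
open Groth.Agent.Lib.Helper88.FF

variable {k K K' : Type*} [Field k] [Field K] [Field K'] [Algebra k K] [Algebra K K'] [Algebra k K']
  [IsScalarTower k K K']

lemma le_exp_mul {a b : ℤᵐ⁰} {m n : ℤ} (ha : a ≤ exp m) (hb : b ≤ exp n) :
    a * b ≤ exp (m + n) := by
  rw [exp_add]; exact mul_le_mul' ha hb

lemma val_pow_uniformizer {Q : Place k K'} {u : K'} (hu : Q.1 u = exp (-1 : ℤ)) (n : ℕ) :
    Q.1 (u ^ n) = exp (-(n : ℤ)) := by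
  rw [map_pow, hu, ← exp_nsmul]; congr 1; simp

/-- `v((ρ u)^n - u^n) ≥ i + n - 1` for `ρ ∈ G_i`. -/
lemma IsRam.val_pow_sub_pow {Q : Place k K'} {i : ℕ} {ρ : K' ≃ₐ[K] K'} (hρ : IsRam Q i ρ)
    {u : K'} (hu : Q.1 u = exp (-1 : ℤ)) (n : ℕ) (hn : 1 ≤ n) :
    Q.1 ((ρ u) ^ n - u ^ n) ≤ exp (-((i : ℤ) + n - 1)) := by
  rw [← geom_sum₂_mul, map_mul, mul_comm]
  have h1 : Q.1 (ρ u - u) ≤ exp (-(i : ℤ)) :=
    hρ u (by rw [hu, ← exp_zero, exp_le_exp]; omega)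
  have h2 : Q.1 (∑ l ∈ Finset.range n, ρ u ^ l * u ^ (n - 1 - l)) ≤ exp (-((n : ℤ) - 1)) := by
    apply Valuation.map_sum_le
    intro l hl
    rw [Finset.mem_range] at hl
    rw [map_mul, map_pow, map_pow, hρ.val_apply, hu, ← exp_nsmul, ← exp_nsmul, ← exp_add,
      exp_le_exp]
    simp only [nsmul_eq_mul, mul_neg, mul_one]
    omega
  refine (le_exp_mul h1 h2).trans ?_
  rw [exp_le_exp]; omega

/-- **Additivity** of `ρ ↦ ρ u - u` modulo `m_Q^{i+1}` on `G_i`, `i ≥ 2`. -/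
theorem IsRam.val_mul_sub {Q : Place k K'} {i : ℕ} (hi : 2 ≤ i) {ρ₁ ρ₂ : K' ≃ₐ[K] K'}
    (h₁ : IsRam Q i ρ₁) (h₂ : IsRam Q i ρ₂) {u : K'} (hu : Q.1 u = exp (-1 : ℤ)) :
    Q.1 ((ρ₁ * ρ₂) u - ρ₁ u - ρ₂ u + u) ≤ exp (-((i : ℤ) + 1)) := by
  have hu0 := uniformizer_ne_zero hu
  have hu1 : Q.1 u ≤ 1 := by rw [hu, ← exp_zero, exp_le_exp]; omega
  set b : K' := (ρ₂ u - u) / u ^ i with hb
  have hb1 : Q.1 b ≤ 1 := by
    rw [hb, map_div₀, val_pow_uniformizer hu, div_le_iff₀ exp_pos, one_mul]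
    exact h₂ u hu1
  have h2u : ρ₂ u = u + b * u ^ i := by
    rw [hb]; field_simp; ring
  have hkey : (ρ₁ * ρ₂) u - ρ₁ u - ρ₂ u + u =
      (ρ₁ b - b) * (ρ₁ u) ^ i + b * ((ρ₁ u) ^ i - u ^ i) := by
    rw [AlgEquiv.mul_apply]
    conv_lhs => rw [h2u]
    rw [map_add, map_mul, map_pow]; ring
  rw [hkey]
  refine (Q.1.map_add _ _).trans (max_le ?_ ?_)
  · rw [map_mul]
    have e1 : Q.1 (ρ₁ b - b) ≤ exp (-(i : ℤ)) := h₁ b hb1
    have e2 : Q.1 ((ρ₁ u) ^ i) ≤ exp (-(i : ℤ)) := by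
      rw [map_pow, h₁.val_apply, ← map_pow, val_pow_uniformizer hu]
    refine (le_exp_mul e1 e2).trans ?_
    rw [exp_le_exp]; omega
  · rw [map_mul]
    have e2 := h₁.val_pow_sub_pow hu i (by omega)
    have e3 : Q.1 b * Q.1 ((ρ₁ u) ^ i - u ^ i) ≤ 1 * exp (-((i : ℤ) + i - 1)) :=
      mul_le_mul' hb1 e2
    rw [one_mul] at e3
    refine e3.trans ?_
    rw [exp_le_exp]; omega

/-- Commutators of `G_i` lie in `G_{i+1}` (`i ≥ 2`). -/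
theorem IsRam.commutator [Finite (K' ≃ₐ[K] K')] {Q : Place k K'}
    [Algebra.IsSeparable k (IsLocalRing.ResidueField Q.O)] {i : ℕ} (hi : 2 ≤ i)
    {σ τ : K' ≃ₐ[K] K'} (hσ : IsRam Q i σ) (hτ : IsRam Q i τ) :
    IsRam Q (i + 1) (σ * τ * σ⁻¹ * τ⁻¹) := by
  obtain ⟨t, ht⟩ := exists_uniformizer Q
  have hc : IsRam Q i (σ * τ * σ⁻¹ * τ⁻¹) := ((hσ.mul hτ).mul hσ.inv).mul hτ.inv
  rw [isRam_iff_uniformizer Q (hc.mono (by omega)) ht (by omega)]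
  set w : K' := (σ⁻¹ * τ⁻¹) t with hw
  have hw1 : Q.1 w = exp (-1 : ℤ) := by
    rw [hw, (hσ.inv.mul hτ.inv).val_apply, ht]
  have e1 : (σ * τ * σ⁻¹ * τ⁻¹) t = (σ * τ) w := by
    rw [hw, mul_assoc (σ * τ) σ⁻¹ τ⁻¹, AlgEquiv.mul_apply (σ * τ)]
  have e2 : t = (τ * σ) w := by
    rw [hw, ← AlgEquiv.mul_apply]
    have : τ * σ * (σ⁻¹ * τ⁻¹) = 1 := by group
    rw [this, AlgEquiv.one_apply]
  have e3 : (σ * τ * σ⁻¹ * τ⁻¹) t - t =
      ((σ * τ) w - σ w - τ w + w) - ((τ * σ) w - τ w - σ w + w) := by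
    rw [e1]; conv_lhs => rw [e2]
    ring
  rw [e3]
  have a1 := hσ.val_mul_sub hi hτ hw1
  have a2 := hτ.val_mul_sub hi hσ hw1
  have : ((i + 1 : ℕ) : ℤ) = (i : ℤ) + 1 := by push_cast; rfl
  rw [this]
  exact (Q.1.map_sub _ _).trans (max_le a1 a2)

/-- `σ^n u - u ≡ n (σ u - u)` modulo `m_Q^{i+1}` for `σ ∈ G_i`, `i ≥ 2`. -/
theorem IsRam.val_pow_sub {Q : Place k K'} {i : ℕ} (hi : 2 ≤ i) {σ : K' ≃ₐ[K] K'}
    (hσ : IsRam Q i σ) {u : K'} (hu : Q.1 u = exp (-1 : ℤ)) (n : ℕ) :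
    Q.1 ((σ ^ n) u - u - (n : K') * (σ u - u)) ≤ exp (-((i : ℤ) + 1)) := by
  induction n with
  | zero => simp
  | succ n ih =>
    have hpow : IsRam Q i (σ ^ n) := (ramSubgroup (K := K) Q i).pow_mem hσ n
    have a1 := hpow.val_mul_sub hi hσ hu
    have e : (σ ^ (n + 1)) u - u - ((n + 1 : ℕ) : K') * (σ u - u) =
        ((σ ^ n * σ) u - (σ ^ n) u - σ u + u) + ((σ ^ n) u - u - (n : K') * (σ u - u)) := by
      rw [pow_succ]; push_cast; ring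
    rw [e]
    exact (Q.1.map_add _ _).trans (max_le a1 ih)

/-- In characteristic `p`, `σ ∈ G_i` (`i ≥ 2`) implies `σ^p ∈ G_{i+1}`. -/
theorem IsRam.pow_char [Finite (K' ≃ₐ[K] K')] {Q : Place k K'}
    [Algebra.IsSeparable k (IsLocalRing.ResidueField Q.O)] {i : ℕ} (hi : 2 ≤ i)
    {σ : K' ≃ₐ[K] K'} (hσ : IsRam Q i σ) (p : ℕ) [CharP K' p] :
    IsRam Q (i + 1) (σ ^ p) := by
  obtain ⟨t, ht⟩ := exists_uniformizer Q
  have hpow : IsRam Q i (σ ^ p) := (ramSubgroup (K := K) Q i).pow_mem hσ p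
  rw [isRam_iff_uniformizer Q (hpow.mono (by omega)) ht (by omega)]
  have h := hσ.val_pow_sub hi ht p
  rw [CharP.cast_eq_zero K' p, zero_mul, sub_zero] at h
  have : ((i + 1 : ℕ) : ℤ) = (i : ℤ) + 1 := by push_cast; rfl
  rw [this]
  exact h

/-- In characteristic `0`, `G_i = G_{i+1}` for `i ≥ 2`. -/
theorem IsRam.succ_of_charZero [Finite (K' ≃ₐ[K] K')] [CharZero k] {Q : Place k K'}
    [Algebra.IsSeparable k (IsLocalRing.ResidueField Q.O)] {i : ℕ} (hi : 2 ≤ i)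
    {σ : K' ≃ₐ[K] K'} (hσ : IsRam Q i σ) : IsRam Q (i + 1) σ := by
  obtain ⟨t, ht⟩ := exists_uniformizer Q
  rw [isRam_iff_uniformizer Q (hσ.mono (by omega)) ht (by omega)]
  have hn0 : 0 < orderOf σ := orderOf_pos σ
  have h := hσ.val_pow_sub hi ht (orderOf σ)
  rw [pow_orderOf_eq_one, AlgEquiv.one_apply, sub_self, zero_sub, Valuation.map_neg, map_mul] at h
  have hc : ((orderOf σ : ℕ) : K') = algebraMap k K' ((orderOf σ : ℕ) : k) := by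
    rw [map_natCast]
  have hv : Q.1 ((orderOf σ : ℕ) : K') = 1 := by
    rw [hc]
    exact val_algebraMap Q (Nat.cast_ne_zero.2 hn0.ne')
  rw [hv, one_mul] at h
  have : ((i + 1 : ℕ) : ℤ) = (i : ℤ) + 1 := by push_cast; rfl
  rw [this]
  exact h

end Groth.Agent.Lib.Helper44.FFExt
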