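import Groth.Agent.Lib.Helper44.FunFldInertia3
import Groth.Agent.Lib.Helper44.FunFldTower
import Mathlib.NumberTheory.RamificationInertia.Galois

set_option autoImplicit false
set_option linter.style.haveILetI false

namespace Groth.Agent.Lib.Helper44.FFExt

open FunFld WithZero Polynomial
open Groth.Agent.Lib.Helper88.FF
open scoped Pointwise

/-- Orbit-stabiliser count for a finite group acting on a local ring with separable residue
field: `|G| = |inertia| * [B/m : A/(m ∩ A)]`, `A` the ring of invariants. -/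
theorem card_eq_card_inertia_mul_finrank
    {k B G : Type*} [Field k] [CommRing B] [IsLocalRing B] [Algebra k B]
    [Group G] [Finite G] [MulSemiringAction G B] [SMulCommClass G k B]
    (hsep : ∀ x : B, ∃ p : Polynomial k, p.Separable ∧ aeval x p ∈ IsLocalRing.maximalIdeal B) :
    Nat.card G = Nat.card ((IsLocalRing.maximalIdeal B).inertia G) *
      Module.finrank (FixedPoints.subalgebra k B G ⧸
        (IsLocalRing.maximalIdeal B).under (FixedPoints.subalgebra k B G))
        (B ⧸ IsLocalRing.maximalIdeal B) := by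
  classical
  let A := FixedPoints.subalgebra k B G
  let m := IsLocalRing.maximalIdeal B
  let P := m.under A
  haveI : Algebra.IsInvariant A B G := ⟨fun b hb => ⟨⟨b, hb⟩, rfl⟩⟩
  haveI : Algebra.IsIntegral A B := Algebra.IsInvariant.isIntegral A B G
  haveI : m.IsMaximal := IsLocalRing.maximalIdeal.isMaximal B
  haveI : P.IsMaximal := Ideal.IsMaximal.under A m
  letI := Ideal.Quotient.field P
  letI := Ideal.Quotient.field m
  haveI hnormal : Normal (A ⧸ P) (B ⧸ m) := Ideal.Quotient.normal G P m
  haveI hsepAlg : Algebra.IsSeparable (A ⧸ P) (B ⧸ m) := by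
    refine ⟨fun y => ?_⟩
    obtain ⟨y, rfl⟩ := Ideal.Quotient.mk_surjective y
    obtain ⟨p, hp, hpy⟩ := hsep y
    have h0 : aeval (Ideal.Quotient.mk m y) (p.map (algebraMap k (A ⧸ P))) = 0 := by
      rw [aeval_map_algebraMap]
      have : aeval (Ideal.Quotient.mk m y) p = Ideal.Quotient.mk m (aeval y p) := by
        rw [← Ideal.Quotient.algebraMap_eq, ← aeval_algebraMap_apply]
      rw [this, Ideal.Quotient.eq_zero_iff_mem]
      exact hpy
    exact (hp.map (f := algebraMap k (A ⧸ P))).of_dvd (minpoly.dvd _ _ h0)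
  haveI : IsGalois (A ⧸ P) (B ⧸ m) := ⟨⟩
  haveI : Module.Finite (A ⧸ P) (B ⧸ m) := Ideal.Quotient.finite_of_isInvariant G P m
  have hstab : MulAction.stabilizer G m = ⊤ := by
    rw [eq_top_iff]
    intro g _
    rw [MulAction.mem_stabilizer_iff]
    exact IsLocalRing.eq_maximalIdeal (by
      rw [Ideal.pointwise_smul_eq_comap]
      exact Ideal.comap_isMaximal_of_surjective _ (MulSemiringAction.toRingEquiv G B g⁻¹).surjective)
  have h1 : Nat.card G = Nat.card (MulAction.stabilizer G m) := by
    rw [hstab]; exact (Nat.card_congr Subgroup.topEquiv.toEquiv).symm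
  have hidx : (m.inertia (MulAction.stabilizer G m)).index =
      Nat.card ((B ⧸ m) ≃ₐ[A ⧸ P] (B ⧸ m)) := Nat.card_congr
    (Ideal.Quotient.stabilizerQuotientInertiaEquiv G P m).toEquiv
  rw [h1, ← IsGalois.card_aut_eq_finrank (A ⧸ P) (B ⧸ m), ← hidx,
    ← ((m.inertia G).subgroupOf (MulAction.stabilizer G m)).card_mul_index,
    Nat.card_congr (Subgroup.subgroupOfEquivOfLe (Ideal.inertia_le_stabilizer (M := G) m)).toEquiv,
    AddSubgroup.subgroupOf_inertia]

theorem card_mul_finrank_le
    {k B C G : Type*} [Field k] [CommRing B] [IsLocalRing B] [Algebra k B]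
    [CommRing C] [IsLocalRing C] [Algebra k C]
    [Group G] [Finite G] [MulSemiringAction G B] [SMulCommClass G k B]
    [Module.Finite k (IsLocalRing.ResidueField B)]
    (hsep : ∀ x : B, ∃ p : Polynomial k, p.Separable ∧ aeval x p ∈ IsLocalRing.maximalIdeal B)
    (φ : C →ₐ[k] B) (hfix : ∀ (g : G) (c : C), g • φ c = φ c)
    (hloc : ∀ c ∈ IsLocalRing.maximalIdeal C, φ c ∈ IsLocalRing.maximalIdeal B) :
    Nat.card G * Module.finrank k (IsLocalRing.ResidueField C) ≤
      Nat.card ((IsLocalRing.maximalIdeal B).inertia G) *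
        Module.finrank k (IsLocalRing.ResidueField B) := by
  classical
  let A := FixedPoints.subalgebra k B G
  let m := IsLocalRing.maximalIdeal B
  let P := m.under A
  have hA2 := card_eq_card_inertia_mul_finrank (k := k) (G := G) hsep
  haveI : Algebra.IsInvariant A B G := ⟨fun b hb => ⟨⟨b, hb⟩, rfl⟩⟩
  haveI : Algebra.IsIntegral A B := Algebra.IsInvariant.isIntegral A B G
  haveI : m.IsMaximal := IsLocalRing.maximalIdeal.isMaximal B
  haveI : P.IsMaximal := Ideal.IsMaximal.under A m
  letI := Ideal.Quotient.field P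
  letI := Ideal.Quotient.field m
  have htower : Module.finrank k (A ⧸ P) * Module.finrank (A ⧸ P) (B ⧸ m) =
      Module.finrank k (B ⧸ m) := Module.finrank_mul_finrank k (A ⧸ P) (B ⧸ m)
  let ψ : C →ₐ[k] A := φ.codRestrict A (fun c g => hfix g c)
  let χ : C →ₐ[k] A ⧸ P := (Ideal.Quotient.mkₐ k P).comp ψ
  have hker : ∀ c ∈ IsLocalRing.maximalIdeal C, χ c = 0 := by
    intro c hc
    show Ideal.Quotient.mk P (ψ c) = 0
    rw [Ideal.Quotient.eq_zero_iff_mem]
    exact hloc c hc
  let θ : IsLocalRing.ResidueField C →ₐ[k] A ⧸ P :=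
    Ideal.Quotient.liftₐ (IsLocalRing.maximalIdeal C) χ hker
  have hinj : Function.Injective θ := θ.toRingHom.injective
  haveI hfinB : Module.Finite k (B ⧸ m) := ‹Module.Finite k (IsLocalRing.ResidueField B)›
  haveI : Module.Finite k (A ⧸ P) :=
    Module.Finite.of_injective (IsScalarTower.toAlgHom k (A ⧸ P) (B ⧸ m)).toLinearMap
      (RingHom.injective _)
  have hle : Module.finrank k (IsLocalRing.ResidueField C) ≤ Module.finrank k (A ⧸ P) :=
    LinearMap.finrank_le_finrank_of_injective (f := θ.toLinearMap) hinj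
  calc Nat.card G * Module.finrank k (IsLocalRing.ResidueField C)
      ≤ Nat.card G * Module.finrank k (A ⧸ P) := Nat.mul_le_mul_left _ hle
    _ = Nat.card ((IsLocalRing.maximalIdeal B).inertia G) *
          (Module.finrank k (A ⧸ P) * Module.finrank (A ⧸ P) (B ⧸ m)) := by
        rw [hA2]; ring
    _ = _ := by rw [htower]; rfl


variable {k K K' : Type*} [Field k] [Field K] [Field K'] [Algebra k K] [Algebra K K'] [Algebra k K']
  [IsScalarTower k K K']

/-- The inclusion `O_P → O_Q` for `Q` over `P`, as a `k`-algebra map. -/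
def oMap {Q : Place k K'} {P : Place k K} (h : IsOver Q P) : P.O →ₐ[k] Q.O where
  toFun x := ⟨algebraMap K K' x.1, (isOverWith_val_le_one_iff (isOverWith_ramIdx h) x.1).2 x.2⟩
  map_one' := Subtype.ext (map_one _)
  map_mul' x y := Subtype.ext (map_mul _ _ _)
  map_zero' := Subtype.ext (map_zero _)
  map_add' x y := Subtype.ext (map_add _ _ _)
  commutes' c := Subtype.ext (by
    show algebraMap K K' (algebraMap k K c) = algebraMap k K' c
    rw [← IsScalarTower.algebraMap_apply])

lemma oMap_mem_maximalIdeal {Q : Place k K'} {P : Place k K} (h : IsOver Q P) (c : P.O)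
    (hc : c ∈ IsLocalRing.maximalIdeal P.O) : oMap h c ∈ IsLocalRing.maximalIdeal Q.O := by
  rw [Valuation.mem_maximalIdeal_iff] at hc ⊢
  exact (isOverWith_val_lt_one_iff (isOverWith_ramIdx h) c.1).2 hc

lemma sep_hyp (Q : Place k K') [Algebra.IsSeparable k (IsLocalRing.ResidueField Q.O)] :
    ∀ y : Q.O, ∃ p : Polynomial k, p.Separable ∧
      aeval y p ∈ IsLocalRing.maximalIdeal Q.O := by
  intro y
  refine ⟨minpoly k (IsLocalRing.residue Q.O y), Algebra.IsSeparable.isSeparable k _, ?_⟩
  rw [← IsLocalRing.residue_eq_zero_iff, aeval_def, hom_eval₂]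
  exact minpoly.aeval k (IsLocalRing.residue Q.O y)

/-- The decomposition group is the `0`-th ramification group. -/
lemma decompositionSubgroup_eq (Q : Place k K') :
    (Q.O).decompositionSubgroup K = ramSubgroup (K := K) Q 0 := by
  ext σ
  rw [MulAction.mem_stabilizer_iff, smul_O, mem_ramSubgroup]
  constructor
  · intro h
    have h1 : comapPlace σ⁻¹ Q = Q := place_eq_of_O_eq h
    have h2 : IsRam Q 0 σ⁻¹ := by
      intro x hx
      have h3 : Q.1 (σ⁻¹ x) ≤ 1 := by
        have : (comapPlace σ⁻¹ Q).1 x ≤ 1 := by rw [h1]; exact hx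
        exact this
      have h4 : (exp (-((0 : ℕ) : ℤ)) : ℤᵐ⁰) = 1 := by simp
      rw [h4]
      exact (Q.1.map_sub _ _).trans (max_le h3 hx)
    have := h2.inv
    rwa [inv_inv] at this
  · intro h
    rw [h.inv.comapPlace_eq]

/-- **Local count**: `|H| deg P ≤ |H ∩ G₁| deg Q` for a finite group `H` of automorphisms
preserving `O_Q`. -/
theorem card_mul_deg_le {Q : Place k K'} [Algebra.IsSeparable k (IsLocalRing.ResidueField Q.O)]
    [FiniteDimensional k (IsLocalRing.ResidueField Q.O)]
    {P : Place k K} (h : IsOver Q P) (H : Subgroup (K' ≃ₐ[K] K')) [Finite H]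
    (hH : ∀ σ ∈ H, IsRam Q 0 σ) :
    Nat.card H * P.deg ≤ Nat.card {σ : H // IsRam Q 1 σ.1} * Q.deg := by
  letI act : MulSemiringAction H Q.O := ramAction Q H (fun σ hσ x hx => (hH σ hσ).map_le_one hx)
  have hsmul : ∀ (σ : H) (y : Q.O), ((σ • y : Q.O) : K') = σ.1 y.1 := fun _ _ => rfl
  haveI : SMulCommClass H k Q.O := ⟨fun σ c y => by
    apply Subtype.ext
    rw [hsmul, Algebra.smul_def, Algebra.smul_def]
    show σ.1 (algebraMap k K' c * y.1) = algebraMap k K' c * σ.1 y.1
    rw [map_mul, IsScalarTower.algebraMap_apply k K K', σ.1.commutes]⟩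
  have hmain := card_mul_finrank_le (k := k) (G := H) (sep_hyp Q) (oMap h)
    (fun g c => Subtype.ext (g.1.commutes c.1)) (oMap_mem_maximalIdeal h)
  have hcard : Nat.card ((IsLocalRing.maximalIdeal Q.O).inertia H) =
      Nat.card {σ : H // IsRam Q 1 σ.1} := by
    apply Nat.card_congr
    refine Equiv.subtypeEquivRight (fun σ => ?_)
    constructor
    · intro hσ x hx
      have := hσ ⟨x, hx⟩
      rw [Submodule.mem_toAddSubgroup, Valuation.mem_maximalIdeal_iff] at this
      show Q.1 (σ.1 x - x) ≤ exp (-1 : ℤ)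
      rw [← lt_one_iff_le_exp_neg_one]
      exact this
    · intro hσ x
      rw [Submodule.mem_toAddSubgroup, Valuation.mem_maximalIdeal_iff]
      show Q.1 (σ.1 x.1 - x.1) < 1
      rw [lt_one_iff_le_exp_neg_one]
      exact hσ x.1 x.2
  rw [hcard] at hmain
  exact hmain

/-- **Global count**: `|G_Z| deg P = e deg Q` in a Galois extension. -/
theorem card_ram_zero_mul_deg [FiniteDimensional K K'] [IsGalois K K'] (hK : IsFunctionField k K)
    {Q : Place k K'} {P : Place k K} {e : ℕ} (he : IsOverWith Q P e) :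
    Nat.card (ramSubgroup (K := K) Q 0) * P.deg = e * Q.deg := by
  classical
  have hover : IsOver Q P := ⟨e, he⟩
  have h1 := card_isOver_mul_card_decomposition (K := K) hover
  rw [decompositionSubgroup_eq] at h1
  have hfin := finite_isOver (K' := K') hK P
  set Qs := hfin.toFinset with hQs
  have hmem : ∀ Q', Q' ∈ Qs ↔ IsOver Q' P := fun Q' => by rw [hQs, Set.Finite.mem_toFinset]; rfl
  have h2 := sum_ramIdx_mul_deg hK P Qs hmem
  have h3 : ∀ Q' ∈ Qs, ramIdx Q' P * Q'.deg = e * Q.deg := by
    intro Q' hQ'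
    obtain ⟨σ, rfl⟩ := exists_comapPlace_eq_of_isOver hover ((hmem Q').1 hQ')
    rw [ramIdx_eq (isOverWith_comapPlace he σ), deg_comapPlace]
  rw [Finset.sum_congr rfl h3, Finset.sum_const, smul_eq_mul] at h2
  have hcard : Nat.card {Q' : Place k K' // IsOver Q' P} = Qs.card := by
    rw [hQs]
    exact Nat.card_eq_card_finite_toFinset hfin
  rw [hcard] at h1
  have hpos : 0 < Qs.card := Finset.card_pos.2 ⟨Q, (hmem Q).2 hover⟩
  have h4 : Qs.card * (Nat.card (ramSubgroup (K := K) Q 0) * P.deg) = Qs.card * (e * Q.deg) := by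
    rw [h2, ← h1]; ring
  exact Nat.eq_of_mul_eq_mul_left hpos h4

/-- If every element of `O_Q` is congruent mod `m_Q` to an element of `K`, then
`deg P = deg Q`. -/
theorem deg_eq_of_forall_exists {Q : Place k K'} {P : Place k K} (h : IsOver Q P)
    (hs : ∀ x : K', Q.1 x ≤ 1 → ∃ a : K, Q.1 (x - algebraMap K K' a) < 1) : P.deg = Q.deg := by
  let χ : P.O →ₐ[k] IsLocalRing.ResidueField Q.O :=
    (Ideal.Quotient.mkₐ k (IsLocalRing.maximalIdeal Q.O)).comp (oMap h)
  have hker : ∀ c ∈ IsLocalRing.maximalIdeal P.O, χ c = 0 := by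
    intro c hc
    show Ideal.Quotient.mk (IsLocalRing.maximalIdeal Q.O) (oMap h c) = 0
    rw [Ideal.Quotient.eq_zero_iff_mem]
    exact oMap_mem_maximalIdeal h c hc
  let θ : IsLocalRing.ResidueField P.O →ₐ[k] IsLocalRing.ResidueField Q.O :=
    Ideal.Quotient.liftₐ (IsLocalRing.maximalIdeal P.O) χ hker
  have hinj : Function.Injective θ := θ.toRingHom.injective
  have hsurj : Function.Surjective θ := by
    intro y
    obtain ⟨y, rfl⟩ := Ideal.Quotient.mk_surjective y
    obtain ⟨a, ha⟩ := hs y.1 y.2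
    have ha1 : P.1 a ≤ 1 := by
      rw [← isOverWith_val_le_one_iff (isOverWith_ramIdx h)]
      have : algebraMap K K' a = y.1 - (y.1 - algebraMap K K' a) := by ring
      rw [this]
      exact (Q.1.map_sub _ _).trans (max_le y.2 ha.le)
    refine ⟨Ideal.Quotient.mk _ ⟨a, ha1⟩, ?_⟩
    show Ideal.Quotient.mk (IsLocalRing.maximalIdeal Q.O) (oMap h ⟨a, ha1⟩) = _
    rw [Ideal.Quotient.eq, ← Ideal.neg_mem_iff, Valuation.mem_maximalIdeal_iff]
    show Q.1 (-(algebraMap K K' a - y.1)) < 1
    rw [neg_sub]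
    exact ha
  exact (LinearEquiv.ofBijective θ.toLinearMap ⟨hinj, hsurj⟩).finrank_eq

/-- **Total ramification over the fixed field of a subgroup of the inertia group**: if all
elements of `H` lie in the inertia group of `Q`, then `Q` has ramification index `|H| = [K' : K'^H]`
over the place of `K'^H` below it. -/
theorem exists_isOverWith_fixedField [FiniteDimensional K K'] [IsGalois K K']
    (hK : IsFunctionField k K) (Q : Place k K')
    [Algebra.IsSeparable k (IsLocalRing.ResidueField Q.O)]
    (H : Subgroup (K' ≃ₐ[K] K')) (hH : ∀ σ ∈ H, IsRam Q 1 σ) :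
    ∃ Q₁ : Place k (IntermediateField.fixedField H), IsOverWith Q Q₁ (Nat.card H) := by
  classical
  haveI : Algebra.IsAlgebraic (IntermediateField.fixedField H) K' :=
    Algebra.IsAlgebraic.of_finite _ _
  haveI : IsScalarTower k (IntermediateField.fixedField H) K' :=
    IsScalarTower.of_algebraMap_eq (fun _ => rfl)
  obtain ⟨Q₁, e₁, he₁⟩ := exists_isOver_below (K := IntermediateField.fixedField H) Q
  have hover : IsOver Q Q₁ := ⟨e₁, he₁⟩
  have huniq : ∀ Q' : Place k K', IsOver Q' Q₁ → Q' = Q := by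
    intro Q' hQ'
    obtain ⟨τ, rfl⟩ := exists_comapPlace_eq_of_isOver (K := IntermediateField.fixedField H)
      hover hQ'
    have hτ : τ.restrictScalars K ∈ H := by
      have h1 : τ.restrictScalars K ∈
          IntermediateField.fixingSubgroup (IntermediateField.fixedField H) := by
        rw [IntermediateField.mem_fixingSubgroup_iff]
        intro x hx
        exact τ.commutes ⟨x, hx⟩
      rwa [IntermediateField.fixingSubgroup_fixedField H] at h1
    apply place_ext
    intro x
    show Q.1 (τ x) = Q.1 x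
    exact (hH _ hτ).val_apply x
  have hdeg : Q₁.deg = Q.deg := deg_eq_of_forall_exists hover (fun x hx => by
    obtain ⟨a, _, haσ, hxa⟩ := exists_fixed_of_isRam Q H hH hx
    exact ⟨⟨a, (IntermediateField.mem_fixedField_iff H a).2 haσ⟩, hxa⟩)
  have hsum := sum_ramIdx_mul_deg' (K := K) (E := IntermediateField.fixedField H) hK Q₁ {Q}
    (fun Q' => by
      rw [Finset.mem_singleton]
      exact ⟨fun h => h ▸ hover, huniq Q'⟩)
  rw [Finset.sum_singleton, hdeg] at hsum
  have hpos := deg_pos' hK Q
  have hram : ramIdx Q Q₁ = Module.finrank (IntermediateField.fixedField H) K' :=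
    Nat.eq_of_mul_eq_mul_right hpos hsum
  refine ⟨Q₁, ?_⟩
  rw [← IntermediateField.finrank_fixedField_eq_card H, ← hram]
  exact isOverWith_ramIdx hover

/-- **The inertia group has order `e(Q|P)`** (residue field of `Q` separable over `k`). -/
theorem card_ramSubgroup_one [FiniteDimensional K K'] [IsGalois K K']
    (hK : IsFunctionField k K) {Q : Place k K'}
    [Algebra.IsSeparable k (IsLocalRing.ResidueField Q.O)] {P : Place k K} {e : ℕ}
    (he : IsOverWith Q P e) : Nat.card (ramSubgroup (K := K) Q 1) = e := by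
  classical
  have hover : IsOver Q P := ⟨e, he⟩
  haveI := finiteDimensional_residue' hK Q
  have hpos := deg_pos' hK Q
  -- lower bound
  have h1 := card_mul_deg_le hover (ramSubgroup (K := K) Q 0) (fun σ hσ => hσ)
  have h2 := card_ram_zero_mul_deg hK he
  have hcard : Nat.card {σ : ramSubgroup (K := K) Q 0 // IsRam Q 1 σ.1} =
      Nat.card (ramSubgroup (K := K) Q 1) :=
    Nat.card_congr
      { toFun := fun σ => ⟨σ.1.1, σ.2⟩
        invFun := fun σ => ⟨⟨σ.1, IsRam.mono (Nat.zero_le 1) σ.2⟩, σ.2⟩
        left_inv := fun _ => rfl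
        right_inv := fun _ => rfl }
  rw [hcard, h2] at h1
  have hge : e ≤ Nat.card (ramSubgroup (K := K) Q 1) := Nat.le_of_mul_le_mul_right h1 hpos
  -- upper bound
  obtain ⟨Q₁, hQ₁⟩ := exists_isOverWith_fixedField hK Q (ramSubgroup (K := K) Q 1)
    (fun σ hσ => hσ)
  haveI : IsScalarTower k (IntermediateField.fixedField (ramSubgroup (K := K) Q 1)) K' :=
    IsScalarTower.of_algebraMap_eq (fun _ => rfl)
  haveI : Algebra.IsAlgebraic K (IntermediateField.fixedField (ramSubgroup (K := K) Q 1)) :=
    Algebra.IsAlgebraic.of_finite _ _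
  obtain ⟨P', e', he'⟩ := exists_isOver_below (K := K) Q₁
  have htrans := isOverWith_trans he' hQ₁
  have hP' : P' = P := isOver_unique_below ⟨_, htrans⟩ hover
  subst hP'
  have heq := isOverWith_unique htrans he
  have he'pos := isOverWith_pos he'
  have hle : Nat.card (ramSubgroup (K := K) Q 1) ≤ e := by
    rw [← heq]
    exact Nat.le_mul_of_pos_left _ he'pos
  exact le_antisymm hle hge

/-- Mathlib's inertia subgroup (image in the Galois group) is the first ramification group. -/
lemma inertiaSubgroup_map_eq (Q : Place k K') :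
    ((Q.O).inertiaSubgroup K).map ((Q.O).decompositionSubgroup K).subtype =
      ramSubgroup (K := K) Q 1 := by
  ext σ
  rw [Subgroup.mem_map, mem_ramSubgroup]
  have key : ∀ g : (Q.O).decompositionSubgroup K,
      g ∈ (Q.O).inertiaSubgroup K ↔ IsRam Q 1 g.1 := by
    intro g
    unfold ValuationSubring.inertiaSubgroup
    rw [MonoidHom.mem_ker, RingEquiv.ext_iff]
    constructor
    · intro hg x hx
      have := hg (IsLocalRing.residue Q.O ⟨x, hx⟩)
      rw [MulSemiringAction.toRingAut_apply, RingAut.one_apply,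
        MulSemiringAction.toRingEquiv_apply_apply, ← IsLocalRing.ResidueField.residue_smul, ← sub_eq_zero, ← map_sub,
        IsLocalRing.residue_eq_zero_iff, Valuation.mem_maximalIdeal_iff] at this
      show Q.1 (g.1 x - x) ≤ exp (-1 : ℤ)
      rw [← lt_one_iff_le_exp_neg_one]
      exact this
    · intro hg y
      obtain ⟨x, rfl⟩ := IsLocalRing.residue_surjective y
      rw [MulSemiringAction.toRingAut_apply, RingAut.one_apply,
        MulSemiringAction.toRingEquiv_apply_apply, ← IsLocalRing.ResidueField.residue_smul, ← sub_eq_zero, ← map_sub,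
        IsLocalRing.residue_eq_zero_iff, Valuation.mem_maximalIdeal_iff]
      show Q.1 (g.1 x.1 - x.1) < 1
      rw [lt_one_iff_le_exp_neg_one]
      exact hg x.1 x.2
  constructor
  · rintro ⟨g, hg, rfl⟩
    exact (key g).1 hg
  · intro hσ
    have hmem : σ ∈ (Q.O).decompositionSubgroup K := by
      rw [decompositionSubgroup_eq]
      exact IsRam.mono (Nat.zero_le 1) hσ
    exact ⟨⟨σ, hmem⟩, (key ⟨σ, hmem⟩).2 hσ, rfl⟩

/-- Cardinality of Mathlib's inertia subgroup. -/
theorem card_inertiaSubgroup [FiniteDimensional K K'] [IsGalois K K']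
    (hK : IsFunctionField k K) {Q : Place k K'}
    [Algebra.IsSeparable k (IsLocalRing.ResidueField Q.O)] {P : Place k K} {e : ℕ}
    (he : IsOverWith Q P e) : Nat.card ((Q.O).inertiaSubgroup K) = e := by
  rw [← card_ramSubgroup_one hK he, ← inertiaSubgroup_map_eq]
  exact Nat.card_congr
    (((Q.O).inertiaSubgroup K).equivMapOfInjective _ (Subgroup.subtype_injective _)).toEquiv

end Groth.Agent.Lib.Helper44.FFExt
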