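/-
Inertia groups over a base field that is only a finite extension of a function field (so `k`
need not be algebraically closed in it), by base change to the algebraic closure of `k`; and the
characterisation of subextensions unramified at a place as the subfields of the inertia field.
Author: helper44
-/
import Groth.Agent.Lib.Helper44.FunFldInertia4

set_option autoImplicit false
set_option linter.style.haveILetI false

namespace Groth.Agent.Lib.Helper44.FFExt

open FunFld WithZero Polynomial
open Groth.Agent.Lib.Helper88.FF

section base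

variable {k K E K' : Type*} [Field k] [Field K] [Field E] [Field K'] [Algebra k K] [Algebra K E]
  [Algebra k E] [IsScalarTower k K E] [FiniteDimensional K E]
  [Algebra E K'] [Algebra k K'] [IsScalarTower k E K'] [FiniteDimensional E K']

omit [FiniteDimensional E K'] [IsScalarTower k E K'] in
lemma isScalarTower_algebraicClosure [IsScalarTower k E K'] :
    IsScalarTower k (algebraicClosure k E) K' :=
  IsScalarTower.of_algebraMap_eq (fun c => by
    show algebraMap k K' c = algebraMap E K' (algebraMap (algebraicClosure k E) E
      (algebraMap k (algebraicClosure k E) c))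
    rw [← IsScalarTower.algebraMap_apply k (algebraicClosure k E) E,
      ← IsScalarTower.algebraMap_apply k E K'])

/-- A place of `K'/k` as a place over the algebraic closure of `k` in the intermediate
field `E`. -/
def toBasePlace (Q : Place k K') : Place (algebraicClosure k E) K' :=
  ⟨Q.1, fun c => by
    apply val_le_one_of_isIntegral (R := k) Q.1 Q.2.1
    show IsIntegral k (algebraMap E K' (c : E))
    exact (mem_algebraicClosure_iff'.1 c.2).map (IsScalarTower.toAlgHom k E K'), Q.2.2⟩

/-- **Order of the inertia group** for a Galois extension `K'/E` where `E` is a finite extension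
of a function field `K/k`. -/
theorem card_ramSubgroup_one' [IsGalois E K'] (hK : IsFunctionField k K) {Q : Place k K'}
    [Algebra.IsSeparable k (IsLocalRing.ResidueField Q.O)] {P : Place k E} {e : ℕ}
    (he : IsOverWith Q P e) : Nat.card (ramSubgroup (K := E) Q 1) = e := by
  have hE : IsFunctionField (algebraicClosure k E) E :=
    isFunctionField_algebraicClosure (K := K) (K' := E) hK
  haveI tow2 : IsScalarTower k (algebraicClosure k E) K' := isScalarTower_algebraicClosure
  set Q₁ : Place (algebraicClosure k E) K' := toBasePlace (E := E) Q with hQ₁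
  set P₁ : Place (algebraicClosure k E) E := toAlgClosurePlace P with hP₁
  have he₁ : IsOverWith Q₁ P₁ e := he
  letI i1 : Algebra k (IsLocalRing.ResidueField Q₁.O) := Place.algRes Q
  haveI i2 : IsScalarTower k (algebraicClosure k E) (IsLocalRing.ResidueField Q₁.O) :=
    IsScalarTower.of_algebraMap_eq (fun c => by
      show IsLocalRing.residue Q.O (algebraMap k Q.O c) =
        IsLocalRing.residue Q₁.O (algebraMap (algebraicClosure k E) Q₁.O
          (algebraMap k (algebraicClosure k E) c))
      congr 1
      apply Subtype.ext
      show algebraMap k K' c = algebraMap (algebraicClosure k E) K'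
        (algebraMap k (algebraicClosure k E) c)
      rw [← IsScalarTower.algebraMap_apply k (algebraicClosure k E) K'])
  haveI i3 : Algebra.IsSeparable k (IsLocalRing.ResidueField Q₁.O) :=
    ‹Algebra.IsSeparable k (IsLocalRing.ResidueField Q.O)›
  haveI i4 : Algebra.IsSeparable (algebraicClosure k E) (IsLocalRing.ResidueField Q₁.O) :=
    Algebra.isSeparable_tower_top_of_isSeparable k (algebraicClosure k E) _
  have hmain := card_ramSubgroup_one hE he₁
  have hsub : ramSubgroup (K := E) Q₁ 1 = ramSubgroup (K := E) Q 1 := by
    ext σ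
    exact Iff.rfl
  rw [← hsub]
  exact hmain

end base

section unram

variable {k K K' : Type*} [Field k] [Field K] [Field K'] [Algebra k K] [Algebra K K'] [Algebra k K']
  [IsScalarTower k K K'] [FiniteDimensional K K'] [IsGalois K K']

/-- **Unramified subextensions**: the value group of `Q` on an intermediate field `E` equals its
value group on `K` iff `E` is contained in the inertia field of `Q`. -/
theorem range_comap_eq_iff_le_fixedField (hK : IsFunctionField k K) (Q : Place k K')
    [Algebra.IsSeparable k (IsLocalRing.ResidueField Q.O)] (E : IntermediateField K K') :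
    Set.range (Q.1.comap (algebraMap E K')) = Set.range (Q.1.comap (algebraMap K K')) ↔
      E ≤ IntermediateField.fixedField (ramSubgroup (K := K) Q 1) := by
  classical
  haveI : Algebra.IsAlgebraic K K' := Algebra.IsAlgebraic.of_finite _ _
  obtain ⟨P, e, he⟩ := exists_isOver_below (K := K) Q
  have hcard := card_ramSubgroup_one hK he
  have hKE : Set.range (Q.1.comap (algebraMap K K')) ⊆ Set.range (Q.1.comap (algebraMap E K')) := by
    rintro _ ⟨y, rfl⟩
    exact ⟨algebraMap K E y, rfl⟩
  constructor
  · intro hrange
    haveI : IsScalarTower k E K' := IsScalarTower.of_algebraMap_eq (fun _ => rfl)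
    haveI : Algebra.IsAlgebraic E K' := Algebra.IsAlgebraic.of_finite _ _
    haveI : Algebra.IsAlgebraic K E := Algebra.IsAlgebraic.of_finite _ _
    obtain ⟨QE, eE, heE⟩ := exists_isOver_below (K := E) Q
    obtain ⟨P', e', he'⟩ := exists_isOver_below (K := K) QE
    have htrans := isOverWith_trans he' heE
    have hP' : P' = P := isOver_unique_below ⟨_, htrans⟩ ⟨e, he⟩
    subst hP'
    have heq : e' * eE = e := isOverWith_unique htrans he
    have heEpos := isOverWith_pos heE
    have he'pos := isOverWith_pos he'
    -- `e' = 1`
    obtain ⟨t, ht⟩ := exists_uniformizer QE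
    have hmem : Q.1 (algebraMap E K' t) ∈ Set.range (Q.1.comap (algebraMap K K')) := by
      rw [← hrange]; exact ⟨t, rfl⟩
    obtain ⟨y, hy⟩ := hmem
    have hy' : Q.1 (algebraMap K K' y) = Q.1 (algebraMap E K' t) := hy
    rw [he y, heE t, ht] at hy'
    have hy0 : y ≠ 0 := by
      rintro rfl
      rw [map_zero, zero_pow (isOverWith_ne_zero he), exp_pow'] at hy'
      exact exp_ne_zero hy'.symm
    rw [val_eq_exp_neg_ord P' hy0, exp_pow', exp_pow', exp_inj] at hy'
    have he'1 : e' = 1 := by
      have h1 : ((e' : ℤ) * (eE : ℤ)) * (-P'.ord y) = (eE : ℤ) * (-1) := by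
        rw [← hy', ← heq]; push_cast; ring
      have h2 : (eE : ℤ) * ((e' : ℤ) * (-P'.ord y)) = (eE : ℤ) * (-1) := by rw [← h1]; ring
      have heE0 : (eE : ℤ) ≠ 0 := by exact_mod_cast heEpos.ne'
      have h3 : (e' : ℤ) * (-P'.ord y) = -1 := mul_left_cancel₀ heE0 h2
      have h4 : (e' : ℤ) ∣ 1 := ⟨P'.ord y, by linarith⟩
      have h5 : (e' : ℤ) = 1 := Int.eq_one_of_dvd_one (by positivity) h4
      exact_mod_cast h5
    have heEe : eE = e := by rw [← heq, he'1, one_mul]
    -- inertia groups
    have hcardE := card_ramSubgroup_one' (K := K) (E := E) hK heE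
    let φ : ramSubgroup (K := E) Q 1 → ramSubgroup (K := K) Q 1 :=
      fun σ => ⟨σ.1.restrictScalars K, σ.2⟩
    have hφinj : Function.Injective φ := by
      intro σ τ h
      apply Subtype.ext
      apply AlgEquiv.ext
      intro x
      have := congrArg (fun ρ : ramSubgroup (K := K) Q 1 => ρ.1 x) h
      exact this
    have hφbij : Function.Bijective φ := by
      rw [Nat.bijective_iff_injective_and_card]
      exact ⟨hφinj, by rw [hcardE, hcard, heEe]⟩
    intro x hx
    rw [IntermediateField.mem_fixedField_iff]
    intro τ hτ
    obtain ⟨σ, hσ⟩ := hφbij.2 ⟨τ, hτ⟩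
    have h1 : τ x = σ.1 x := by
      have := congrArg (fun ρ : ramSubgroup (K := K) Q 1 => ρ.1 x) hσ
      exact this.symm
    rw [h1]
    exact σ.1.commutes ⟨x, hx⟩
  · intro hle
    apply Set.Subset.antisymm _ hKE
    obtain ⟨QT, hQT⟩ := exists_isOverWith_fixedField hK Q (ramSubgroup (K := K) Q 1)
      (fun σ hσ => hσ)
    rw [hcard] at hQT
    rintro _ ⟨x, rfl⟩
    obtain ⟨y, hy⟩ := P.2.2 (QT.1 ⟨x.1, hle x.2⟩)
    refine ⟨y, ?_⟩
    show Q.1 (algebraMap K K' y) = Q.1 (algebraMap E K' x)
    rw [he y, hy, ← hQT ⟨x.1, hle x.2⟩]
    rfl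

end unram

end Groth.Agent.Lib.Helper44.FFExt
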