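/-
Infinitely many places with separable residue field in a geometric function field: a general
function field has infinitely many places; for a separating variable `t` and a primitive element `y`
integral over `k[t]`, the places above `t = c` avoiding the zeros of the discriminant and of
`g'(y)` have residue field `k[ȳ]` with `ȳ` separable over `k`.
Author: helper44
-/
import Groth.Agent.Lib.Helper44.FunFldASH1
import Groth.Agent.Lib.Helper88.FunFldStrong
import Groth.Agent.Lib.Helper88.FunFldResidue
import Groth.Agent.Lib.Helper97.FunFldSep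
import Mathlib.RingTheory.Discriminant
import Mathlib.RingTheory.Adjoin.PowerBasis
import Mathlib.FieldTheory.PrimitiveElement
import Mathlib.FieldTheory.Minpoly.IsIntegrallyClosed
import Mathlib.FieldTheory.SeparableClosure
import Mathlib.RingTheory.Valuation.LocalSubring

set_option autoImplicit false

namespace Groth.Agent.Lib.Helper44.FFExt

open FunFld WithZero
open Groth.Agent.Lib.Helper88.FF

section infinite

variable {k K : Type*} [Field k] [Field K] [Algebra k K]

/-- A function field of one variable has infinitely many places. -/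
theorem infinite_place_general (hK : IsFunctionField k K) : Infinite (Place k K) := by
  classical
  by_contra hfin
  rw [not_infinite_iff_finite] at hfin
  have : Fintype (Place k K) := Fintype.ofFinite _
  obtain ⟨⟨t, ht, -⟩, -⟩ := id hK
  have htk : t ∉ Set.range (algebraMap k K) := not_mem_range_of_transcendental ht
  obtain ⟨Pinf, hPinf⟩ := exists_pole hK htk
  set T : Finset (Place k K) := Finset.univ.erase Pinf with hT
  have hinfT : Pinf ∉ T := Finset.notMem_erase _ _
  have hπ : ∀ P : Place k K, ∃ π : K, P.1 π = exp (-1 : ℤ) := fun P => exists_uniformizer P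
  choose π hπ using hπ
  obtain ⟨z, hz, -⟩ := strong_approx_le hK Pinf T hinfT π (fun _ => -2)
  have hzT : ∀ P ∈ T, P.1 z = exp (-1 : ℤ) := by
    intro P hP
    have h1 : z = π P + (z - π P) := by ring
    rw [h1, Valuation.map_add_eq_of_lt_left, hπ]
    rw [hπ]
    apply lt_of_le_of_lt (hz P hP)
    rw [exp_lt_exp]; norm_num
  have hwT : ∀ P ∈ T, P.1 (1 + z) = 1 := by
    intro P hP
    rw [Valuation.map_add_eq_of_lt_left, map_one]
    rw [map_one, hzT P hP, ← exp_zero, exp_lt_exp]; norm_num
  by_cases hw : (1 + z) ∈ Set.range (algebraMap k K)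
  · obtain ⟨c, hc⟩ := hw
    by_cases hTne : T.Nonempty
    · obtain ⟨P, hP⟩ := hTne
      have h1 := hzT P hP
      have h2 : z = algebraMap k K (c - 1) := by rw [map_sub, hc, map_one]; ring
      rw [h2] at h1
      rcases eq_or_ne (c - 1) 0 with h3 | h3
      · rw [h3, map_zero, map_zero] at h1
        exact exp_ne_zero h1.symm
      · rw [val_algebraMap P h3, ← exp_zero, exp_inj] at h1
        norm_num at h1
    · rw [Finset.not_nonempty_iff_eq_empty] at hTne
      obtain ⟨P₀, hP₀⟩ := exists_zero hK htk
      have : P₀ ∈ T := by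
        rw [hT, Finset.mem_erase]
        refine ⟨?_, Finset.mem_univ _⟩
        rintro rfl
        omega
      rw [hTne] at this
      simp at this
  · obtain ⟨P₀, hP₀⟩ := exists_zero hK hw
    obtain ⟨P₁, hP₁⟩ := exists_pole hK hw
    have h0 : P₀ = Pinf := by
      by_contra hne
      have := hwT P₀ (Finset.mem_erase.2 ⟨hne, Finset.mem_univ _⟩)
      rw [ord_eq_zero_of_val_eq_one this] at hP₀
      omega
    have h1 : P₁ = Pinf := by
      by_contra hne
      have := hwT P₁ (Finset.mem_erase.2 ⟨hne, Finset.mem_univ _⟩)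
      rw [ord_eq_zero_of_val_eq_one this] at hP₁
      omega
    rw [h0] at hP₀
    rw [h1] at hP₁
    omega

end infinite

section integral

variable {k K : Type*} [Field k] [Field K] [Algebra k K]

/-- An element regular at all places where `t` is regular is integral over `k[t]`. -/
theorem isIntegral_adjoin_of_regular (hK : IsFunctionField k K) {t z : K}
    (hz : ∀ Q : Place k K, Q.1 t ≤ 1 → Q.1 z ≤ 1) :
    IsIntegral (Algebra.adjoin k ({t} : Set K)) z := by
  set s : Set K := Set.range (algebraMap k K) ∪ {t} with hs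
  have h1 : z ∈ (integralClosure (Subring.closure s) K).toSubring := by
    rw [← iInf_valuationSubring_superset, Subring.mem_iInf]
    rintro ⟨V, hV⟩
    show z ∈ V
    by_cases htop : ∀ x : K, x ∈ V
    · exact htop z
    · push Not at htop
      obtain ⟨x, hx⟩ := htop
      obtain ⟨P, hP⟩ := exists_place_of_valuationSubring hK V
        (fun c => hV (Or.inl ⟨c, rfl⟩)) hx
      rw [← hP]
      apply hz
      rw [hP]
      exact hV (Or.inr rfl)
  obtain ⟨p, hp, hpz⟩ := h1
  have hle : Subring.closure s ≤ (Algebra.adjoin k ({t} : Set K)).toSubring := by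
    rw [Subring.closure_le]
    rintro x (⟨c, rfl⟩ | rfl)
    · exact Subalgebra.algebraMap_mem _ c
    · exact Algebra.subset_adjoin rfl
  refine ⟨p.map (Subring.inclusion hle), hp.map _, ?_⟩
  rw [Polynomial.eval₂_map]
  exact hpz

end integral

section residue

variable {k K : Type*} [Field k] [Field K] [Algebra k K]

/-- The elements of `O_P` whose residue lies in a given subalgebra of the residue field. -/
def resPre (P : Place k K) (A : Subalgebra k (IsLocalRing.ResidueField P.O)) : Subalgebra k K where
  carrier := {w | ∃ hw : P.1 w ≤ 1, IsLocalRing.residue P.O ⟨w, hw⟩ ∈ A}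
  mul_mem' := by
    rintro a b ⟨ha, ha'⟩ ⟨hb, hb'⟩
    have hab : P.1 (a * b) ≤ 1 := by rw [map_mul]; exact mul_le_one' ha hb
    refine ⟨hab, ?_⟩
    have : (⟨a * b, hab⟩ : P.O) = ⟨a, ha⟩ * ⟨b, hb⟩ := rfl
    rw [this, map_mul]
    exact A.mul_mem ha' hb'
  add_mem' := by
    rintro a b ⟨ha, ha'⟩ ⟨hb, hb'⟩
    have hab : P.1 (a + b) ≤ 1 := (P.1.map_add a b).trans (max_le ha hb)
    refine ⟨hab, ?_⟩
    have : (⟨a + b, hab⟩ : P.O) = ⟨a, ha⟩ + ⟨b, hb⟩ := rfl
    rw [this, map_add]
    exact A.add_mem ha' hb'
  algebraMap_mem' := fun c => ⟨P.2.1 c, A.algebraMap_mem c⟩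

lemma mem_resPre {P : Place k K} {A : Subalgebra k (IsLocalRing.ResidueField P.O)} {w : K} :
    w ∈ resPre P A ↔ ∃ hw : P.1 w ≤ 1, IsLocalRing.residue P.O ⟨w, hw⟩ ∈ A := Iff.rfl

/-- If `t ≡ c` at `P`, then `t` has residue in every subalgebra. -/
lemma mem_resPre_of_val_sub_lt {P : Place k K} (A : Subalgebra k (IsLocalRing.ResidueField P.O))
    {t : K} {c : k} (hP : P.1 (t - algebraMap k K c) < 1) : t ∈ resPre P A := by
  have ht : P.1 t ≤ 1 := by
    have : t = (t - algebraMap k K c) + algebraMap k K c := by ring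
    rw [this]
    exact (P.1.map_add _ _).trans (max_le hP.le (P.2.1 c))
  refine ⟨ht, ?_⟩
  have h1 : IsLocalRing.residue P.O ⟨t, ht⟩ =
      algebraMap k (IsLocalRing.ResidueField P.O) c := by
    have h2 : IsLocalRing.residue P.O (⟨t, ht⟩ - algebraMap k P.O c) = 0 := by
      rw [IsLocalRing.residue_eq_zero_iff, Valuation.mem_maximalIdeal_iff]
      exact hP
    rw [map_sub, sub_eq_zero] at h2
    rw [h2]
    rfl
  rw [h1]
  exact A.algebraMap_mem c

/-- An element with a root of a polynomial at which the derivative does not vanish is separable. -/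
lemma isSeparable_of_aeval_derivative_ne_zero {L : Type*} [Field L] [Algebra k L] {x : L}
    {h : Polynomial k} (h0 : Polynomial.aeval x h = 0)
    (h1 : Polynomial.aeval x (Polynomial.derivative h) ≠ 0) : IsSeparable k x := by
  have hne : h ≠ 0 := by
    rintro rfl
    simp at h1
  have halg : IsAlgebraic k x := ⟨h, hne, h0⟩
  have hint : IsIntegral k x := halg.isIntegral
  obtain ⟨q, hq⟩ := minpoly.dvd k x h0
  rw [hq, Polynomial.derivative_mul, map_add, map_mul, map_mul, minpoly.aeval, zero_mul,
    add_zero] at h1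
  have h2 : Polynomial.derivative (minpoly k x) ≠ 0 := by
    intro h3
    rw [h3, map_zero, zero_mul] at h1
    exact h1 rfl
  exact (Polynomial.separable_iff_derivative_ne_zero (minpoly.irreducible hint)).2 h2

/-- **The residue field is generated by the residue of a primitive element** at the places where the
discriminant is a unit. -/
theorem adjoin_residue_eq_top_of_discr (hK : IsFunctionField k K) {t y D : K}
    (ht : t ∉ Set.range (algebraMap k K)) {c : k} (P : Place k K)
    (hP : P.1 (t - algebraMap k K c) < 1) (hy : P.1 y ≤ 1) (hD1 : P.1 D = 1)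
    (hD : ∀ z, IsIntegral (Algebra.adjoin k ({t} : Set K)) z →
      D * z ∈ Algebra.adjoin k ({t, y} : Set K)) :
    Algebra.adjoin k {IsLocalRing.residue P.O ⟨y, hy⟩} = ⊤ := by
  classical
  set A := Algebra.adjoin k {IsLocalRing.residue P.O ⟨y, hy⟩} with hA
  have hfd := finiteDimensional_residueField hK P
  have hfd' : @Module.Finite k (IsLocalRing.ResidueField P.O) _ _ Algebra.toModule := hfd
  have halgR : Algebra.IsAlgebraic k (IsLocalRing.ResidueField P.O) :=
    Algebra.IsAlgebraic.of_finite _ _
  have hle : Algebra.adjoin k ({t, y} : Set K) ≤ resPre P A := by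
    apply Algebra.adjoin_le
    rintro x (rfl | rfl)
    · exact mem_resPre_of_val_sub_lt A hP
    · exact ⟨hy, Algebra.subset_adjoin rfl⟩
  have htP : P.1 t ≤ 1 := (mem_resPre_of_val_sub_lt A hP).1
  rw [eq_top_iff]
  intro ζ _
  obtain ⟨z, rfl⟩ := IsLocalRing.residue_surjective ζ
  obtain ⟨Pinf, hPinf⟩ := exists_pole hK ht
  have ht0 : t ≠ 0 := by
    rintro rfl
    exact ht ⟨0, map_zero _⟩
  have hPinf' : 1 < Pinf.1 t := (one_lt_val_iff Pinf ht0).2 hPinf
  have hne : Pinf ≠ P := by
    rintro rfl
    exact absurd htP (not_le.2 hPinf')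
  obtain ⟨z', hz1, hz2⟩ := strong_approx_le hK Pinf {P}
    (by rw [Finset.mem_singleton]; exact hne) (fun _ => (z : K)) (fun _ => -1)
  have hz1' : P.1 (z' - (z : K)) ≤ exp (-1 : ℤ) := hz1 P (Finset.mem_singleton_self P)
  have hlt : exp (-1 : ℤ) < (1 : ℤᵐ⁰) := by
    rw [← exp_zero, exp_lt_exp]; norm_num
  have hz'P : P.1 z' ≤ 1 := by
    have : z' = (z' - (z : K)) + (z : K) := by ring
    rw [this]
    exact (P.1.map_add _ _).trans (max_le (hz1'.trans hlt.le) z.2)
  have hz'int : IsIntegral (Algebra.adjoin k ({t} : Set K)) z' := by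
    apply isIntegral_adjoin_of_regular hK
    intro Q hQ
    by_cases hQP : Q = P
    · rw [hQP]; exact hz'P
    · apply hz2 Q
      · rintro rfl
        exact absurd hQ (not_le.2 hPinf')
      · rw [Finset.mem_singleton]; exact hQP
  -- residues
  have hres : IsLocalRing.residue P.O z = IsLocalRing.residue P.O ⟨z', hz'P⟩ := by
    rw [← sub_eq_zero, ← map_sub, IsLocalRing.residue_eq_zero_iff, Valuation.mem_maximalIdeal_iff]
    have h2 : P.1 ((z : K) - z') ≤ exp (-1 : ℤ) := by
      rw [← Valuation.map_neg]
      have : -((z : K) - z') = z' - (z : K) := by ring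
      rw [this]
      exact hz1'
    exact lt_of_le_of_lt h2 hlt
  rw [hres]
  obtain ⟨hDz, hDz'⟩ := hle (hD z' hz'int)
  obtain ⟨hD1', hD'⟩ := hle (by
    have := hD 1 isIntegral_one
    rwa [mul_one] at this)
  have hmul : IsLocalRing.residue P.O ⟨D * z', hDz⟩ =
      IsLocalRing.residue P.O ⟨D, hD1'⟩ * IsLocalRing.residue P.O ⟨z', hz'P⟩ := by
    rw [← map_mul]
    rfl
  have hDne : IsLocalRing.residue P.O ⟨D, hD1'⟩ ≠ 0 := by
    rw [Ne, IsLocalRing.residue_eq_zero_iff, Valuation.mem_maximalIdeal_iff]
    show ¬ P.1 D < 1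
    rw [hD1]
    exact lt_irrefl _
  have hinv : (IsLocalRing.residue P.O ⟨D, hD1'⟩)⁻¹ ∈ A :=
    A.inv_mem_of_algebraic (x := ⟨_, hD'⟩) (Algebra.IsAlgebraic.isAlgebraic _)
  have : IsLocalRing.residue P.O ⟨z', hz'P⟩ =
      (IsLocalRing.residue P.O ⟨D, hD1'⟩)⁻¹ * IsLocalRing.residue P.O ⟨D * z', hDz⟩ := by
    rw [hmul, inv_mul_cancel_left₀ hDne]
  rw [this]
  exact A.mul_mem hinv hDz'

/-- The residue of an element satisfying a polynomial relation over `k[t]` whose derivative at the
element is a unit at `P` is separable over `k`. -/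
theorem isSeparable_residue_of_derivative_unit {t y : K} {c : k} (P : Place k K)
    (hP : P.1 (t - algebraMap k K c) < 1) (hy : P.1 y ≤ 1)
    (g : Polynomial (Algebra.adjoin k ({t} : Set K))) (hg : Polynomial.aeval y g = 0)
    (hg' : P.1 (Polynomial.aeval y (Polynomial.derivative g)) = 1) :
    IsSeparable k (IsLocalRing.residue P.O ⟨y, hy⟩) := by
  have hR : Algebra.adjoin k ({t} : Set K) ≤ resPre P ⊥ :=
    Algebra.adjoin_le (by rintro x rfl; exact mem_resPre_of_val_sub_lt ⊥ hP)
  let incl : Algebra.adjoin k ({t} : Set K) →+* P.O :=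
    (algebraMap (Algebra.adjoin k ({t} : Set K)) K).codRestrict P.O (fun r => (hR r.2).1)
  let ρ : Algebra.adjoin k ({t} : Set K) →+* IsLocalRing.ResidueField P.O :=
    (IsLocalRing.residue P.O).comp incl
  have hρ : ∀ r, ρ r ∈ Set.range (algebraMap k (IsLocalRing.ResidueField P.O)) := by
    intro r
    obtain ⟨hr, hr'⟩ := hR r.2
    exact Algebra.mem_bot.1 hr'
  have key : ∀ q : Polynomial (Algebra.adjoin k ({t} : Set K)),
      ∃ hq : P.1 (Polynomial.aeval y q) ≤ 1,
        Polynomial.eval₂ ρ (IsLocalRing.residue P.O ⟨y, hy⟩) q =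
          IsLocalRing.residue P.O ⟨Polynomial.aeval y q, hq⟩ := by
    intro q
    have h1 : ((Polynomial.eval₂ incl ⟨y, hy⟩ q : P.O) : K) = Polynomial.aeval y q := by
      have := Polynomial.hom_eval₂ q incl P.O.subtype ⟨y, hy⟩
      exact this
    have hq : P.1 (Polynomial.aeval y q) ≤ 1 := by
      rw [← h1]
      exact (Polynomial.eval₂ incl ⟨y, hy⟩ q : P.O).2
    refine ⟨hq, ?_⟩
    have h2 := Polynomial.hom_eval₂ q incl (IsLocalRing.residue P.O) ⟨y, hy⟩
    rw [← h2]
    congr 1
    exact Subtype.ext h1
  have hlift : g.map ρ ∈ Polynomial.lifts (algebraMap k (IsLocalRing.ResidueField P.O)) := by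
    rw [Polynomial.lifts_iff_coeff_lifts]
    intro n
    rw [Polynomial.coeff_map]
    exact hρ _
  obtain ⟨h, hh⟩ := hlift
  apply isSeparable_of_aeval_derivative_ne_zero (h := h)
  · rw [← Polynomial.eval_map_algebraMap]
    have hh' : h.map (algebraMap k (IsLocalRing.ResidueField P.O)) = g.map ρ := hh
    rw [hh', Polynomial.eval_map]
    obtain ⟨hq, hq'⟩ := key g
    rw [hq']
    have : (⟨Polynomial.aeval y g, hq⟩ : P.O) = 0 := Subtype.ext hg
    rw [this, map_zero]
  · rw [← Polynomial.eval_map_algebraMap, ← Polynomial.derivative_map]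
    have hh' : h.map (algebraMap k (IsLocalRing.ResidueField P.O)) = g.map ρ := hh
    rw [hh', Polynomial.derivative_map, Polynomial.eval_map]
    obtain ⟨hq, hq'⟩ := key (Polynomial.derivative g)
    rw [hq', Ne, IsLocalRing.residue_eq_zero_iff, Valuation.mem_maximalIdeal_iff]
    show ¬ P.1 (Polynomial.aeval y (Polynomial.derivative g)) < 1
    rw [hg']
    exact lt_irrefl _

end residue

section main

universe u v

variable {k : Type u} {K : Type v} [Field k] [Field K] [Algebra k K]

open IntermediateField IntermediateField.algebraAdjoinAdjoin in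
/-- **A geometric function field has infinitely many places with separable residue field.** -/
theorem infinite_separable_places (hK : IsFunctionField k K) (hg : IsGeometric k K) :
    {P : Place k K | Algebra.IsSeparable k (IsLocalRing.ResidueField P.O)}.Infinite := by
  classical
  rcases finite_or_infinite k with hfin | hinf
  · have : PerfectField k := PerfectField.ofFinite
    have hall : ∀ P : Place k K, Algebra.IsSeparable k (IsLocalRing.ResidueField P.O) := by
      intro P
      have hfd := finiteDimensional_residueField hK P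
      have hfd' : @Module.Finite k (IsLocalRing.ResidueField P.O) _ _ Algebra.toModule := hfd
      have : Algebra.IsAlgebraic k (IsLocalRing.ResidueField P.O) :=
        Algebra.IsAlgebraic.of_finite _ _
      infer_instance
    have := infinite_place_general hK
    have hU : {P : Place k K | Algebra.IsSeparable k (IsLocalRing.ResidueField P.O)} =
        Set.univ := Set.eq_univ_of_forall hall
    rw [hU]
    exact Set.infinite_univ
  · obtain ⟨t, ht, hsep⟩ := Groth.Agent.Lib.Helper97.FunFldSep.exists_sepVar hK hg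
    have htk : t ∉ Set.range (algebraMap k K) := not_mem_range_of_transcendental ht
    have hfdF : FiniteDimensional k⟮t⟯ K := finiteDimensional_adjoin_of_transcendental hK ht
    have hufd : UniqueFactorizationMonoid (Algebra.adjoin k ({t} : Set K)) :=
      ht.uniqueFactorizationMonoid_adjoin
    obtain ⟨y₀, hy₀⟩ := Field.exists_primitive_element k⟮t⟯ K
    have halg : IsAlgebraic (Algebra.adjoin k ({t} : Set K)) y₀ :=
      (IsFractionRing.isAlgebraic_iff (Algebra.adjoin k ({t} : Set K)) k⟮t⟯ K).2
        (Algebra.IsAlgebraic.isAlgebraic y₀)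
    obtain ⟨r, hr0, hry⟩ := halg.exists_integral_multiple
    obtain ⟨y, hydef⟩ : ∃ y : K, y = r • y₀ := ⟨_, rfl⟩
    rw [← hydef] at hry
    have hrK : (r : K) ≠ 0 := fun h => hr0 (Subtype.ext h)
    have hyy₀ : y = (r : K) * y₀ := by rw [hydef]; rfl
    have hyF : k⟮t⟯⟮y⟯ = ⊤ := by
      rw [eq_top_iff, ← hy₀]
      apply IntermediateField.adjoin_simple_le_iff.2
      have h1 : y ∈ k⟮t⟯⟮y⟯ := IntermediateField.mem_adjoin_simple_self _ _
      have h2 : (r : K) ∈ k⟮t⟯⟮y⟯ := by
        have : (r : K) = algebraMap k⟮t⟯ K ⟨r, algebra_adjoin_le_adjoin k _ r.2⟩ := rfl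
        rw [this]
        exact IntermediateField.algebraMap_mem _ _
      have h3 : y₀ = (r : K)⁻¹ * y := by
        rw [hyy₀, inv_mul_cancel_left₀ hrK]
      rw [h3]
      exact mul_mem (inv_mem h2) h1
    have hyint : IsIntegral k⟮t⟯ y := Algebra.IsIntegral.isIntegral y
    have hadj : Algebra.adjoin k⟮t⟯ {y} = ⊤ := by
      rw [← IntermediateField.adjoin_simple_toSubalgebra_of_isAlgebraic hyint.isAlgebraic, hyF]
      rfl
    let pb := PowerBasis.ofAdjoinEqTop hyint hadj
    have hpbgen : pb.gen = y := PowerBasis.ofAdjoinEqTop_gen _ _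
    obtain ⟨DF, hDFdef⟩ : ∃ DF : k⟮t⟯, DF = Algebra.discr k⟮t⟯ pb.basis := ⟨_, rfl⟩
    have hDF0 : DF ≠ 0 := by
      rw [hDFdef]
      exact Algebra.discr_not_zero_of_basis k⟮t⟯ pb.basis
    have hunion : ∀ x : K, x ∈ Algebra.adjoin (Algebra.adjoin k ({t} : Set K)) ({y} : Set K) →
        x ∈ Algebra.adjoin k ({t, y} : Set K) := by
      intro x hx
      have h2 := Algebra.adjoin_union_eq_adjoin_adjoin k ({t} : Set K) ({y} : Set K)
      have h3 : x ∈ (Algebra.adjoin (Algebra.adjoin k ({t} : Set K)) ({y} : Set K)).restrictScalars k :=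
        hx
      rw [← h2] at h3
      exact h3
    have hD : ∀ z, IsIntegral (Algebra.adjoin k ({t} : Set K)) z →
        (DF : K) * z ∈ Algebra.adjoin k ({t, y} : Set K) := by
      intro z hz
      have h1 := Algebra.discr_mul_isIntegral_mem_adjoin (R := Algebra.adjoin k ({t} : Set K))
        (K := k⟮t⟯) (B := pb) (by rw [hpbgen]; exact hry) hz
      rw [hpbgen, ← hDFdef] at h1
      exact hunion _ h1
    -- the derivative of the minimal polynomial
    set g₀ := minpoly (Algebra.adjoin k ({t} : Set K)) y with hg₀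
    have hg₀y : Polynomial.aeval y g₀ = 0 := minpoly.aeval _ y
    obtain ⟨w, hwdef⟩ : ∃ w : K, w = Polynomial.aeval y (Polynomial.derivative g₀) := ⟨_, rfl⟩
    have hw0 : w ≠ 0 := by
      have hmin : minpoly k⟮t⟯ y = g₀.map (algebraMap (Algebra.adjoin k ({t} : Set K)) k⟮t⟯) :=
        minpoly.isIntegrallyClosed_eq_field_fractions' k⟮t⟯ hry
      have hsepy : (minpoly k⟮t⟯ y).Separable := Algebra.IsSeparable.isSeparable k⟮t⟯ y
      have := hsepy.aeval_derivative_ne_zero (minpoly.aeval _ y)
      rw [hmin, Polynomial.derivative_map, Polynomial.aeval_map_algebraMap] at this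
      rw [hwdef]
      exact this
    have hwmem : w ∈ Algebra.adjoin k ({t, y} : Set K) := by
      apply hunion
      rw [hwdef]
      exact Polynomial.aeval_mem_adjoin_singleton _ _
    have hDK0 : (DF : K) ≠ 0 := fun h => hDF0 (Subtype.ext h)
    have hu0 : (DF : K) * w ≠ 0 := mul_ne_zero hDK0 hw0
    have hBad := finite_support_ord hK ((DF : K) * w)
    -- the places over `t = c`
    have hex : ∀ c : k, ∃ P : Place k K, P.1 (t - algebraMap k K c) < 1 := by
      intro c
      have hne : t - algebraMap k K c ∉ Set.range (algebraMap k K) := by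
        rintro ⟨c', hc'⟩
        apply htk
        refine ⟨c' + c, ?_⟩
        rw [map_add, hc']
        ring
      have h0 : t - algebraMap k K c ≠ 0 := by
        intro h
        exact hne ⟨0, by rw [map_zero, h]⟩
      obtain ⟨P, hP⟩ := exists_zero hK hne
      refine ⟨P, ?_⟩
      rw [val_eq_exp_neg_ord P h0, ← exp_zero, exp_lt_exp]
      omega
    choose Pc hPc using hex
    have hPcinj : Function.Injective Pc := by
      intro c c' hcc
      by_contra hne
      have h1 := hPc c
      have h2 := hPc c'
      rw [← hcc] at h2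
      have h3 : algebraMap k K (c' - c) = (t - algebraMap k K c) - (t - algebraMap k K c') := by
        rw [map_sub]; ring
      have h4 : (Pc c).1 (algebraMap k K (c' - c)) < 1 := by
        rw [h3]
        exact lt_of_le_of_lt ((Pc c).1.map_sub _ _) (max_lt h1 h2)
      rw [val_algebraMap (Pc c) (sub_ne_zero.2 (Ne.symm hne))] at h4
      exact lt_irrefl _ h4
    have hgood : ∀ c : k, Pc c ∉ (Function.support fun P : Place k K => P.ord ((DF : K) * w)) →
        Algebra.IsSeparable k (IsLocalRing.ResidueField (Pc c).O) := by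
      intro c hc
      set P := Pc c with hPdef
      have hP := hPc c
      have hR : Algebra.adjoin k ({t} : Set K) ≤ resPre P ⊥ :=
        Algebra.adjoin_le (by rintro x rfl; exact mem_resPre_of_val_sub_lt ⊥ hP)
      have hyP : P.1 y ≤ 1 :=
        val_le_one_of_isIntegral (R := Algebra.adjoin k ({t} : Set K)) P.1
          (fun r => (hR r.2).1) hry
      have hle : Algebra.adjoin k ({t, y} : Set K) ≤ resPre P ⊤ := by
        apply Algebra.adjoin_le
        rintro x (rfl | rfl)
        · exact mem_resPre_of_val_sub_lt ⊤ hP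
        · exact ⟨hyP, trivial⟩
      have hDle : P.1 (DF : K) ≤ 1 := by
        have := hD 1 isIntegral_one
        rw [mul_one] at this
        exact (hle this).1
      have hwle : P.1 w ≤ 1 := (hle hwmem).1
      have hord : P.ord ((DF : K) * w) = 0 := by
        by_contra h
        exact hc h
      have hval : P.1 (DF : K) * P.1 w = 1 := by
        rw [← map_mul, val_eq_exp_neg_ord P hu0, hord, neg_zero, exp_zero]
      have hD1 : P.1 (DF : K) = 1 := by
        apply le_antisymm hDle
        calc (1 : ℤᵐ⁰) = P.1 (DF : K) * P.1 w := hval.symm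
          _ ≤ P.1 (DF : K) * 1 := mul_le_mul' le_rfl hwle
          _ = P.1 (DF : K) := mul_one _
      have hw1 : P.1 w = 1 := by
        rw [hD1, one_mul] at hval
        exact hval
      have hA := adjoin_residue_eq_top_of_discr hK htk P hP hyP hD1 hD
      have hsepy := isSeparable_residue_of_derivative_unit P hP hyP g₀ hg₀y (by rw [← hwdef]; exact hw1)
      rw [Algebra.isSeparable_def]
      intro ζ
      have hle2 : Algebra.adjoin k {IsLocalRing.residue P.O ⟨y, hyP⟩} ≤
          (separableClosure k (IsLocalRing.ResidueField P.O)).toSubalgebra :=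
        Algebra.adjoin_le (by
          rintro x rfl
          exact mem_separableClosure_iff.2 hsepy)
      have hζ : ζ ∈ Algebra.adjoin k {IsLocalRing.residue P.O ⟨y, hyP⟩} := by
        rw [hA]; trivial
      exact mem_separableClosure_iff.1 (hle2 hζ)
    have hS : (Set.range Pc).Infinite := Set.infinite_range_of_injective hPcinj
    refine (hS.sdiff hBad).mono ?_
    rintro P ⟨⟨c, rfl⟩, hc⟩
    exact hgood c hc

end main

end Groth.Agent.Lib.Helper44.FFExt
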