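/-
Constant field extensions `K' = k' ⊗ K` of a function field: the polynomial ring `k'[x]` inside
`K'` (transcendence, integrally closed), and "the rational function field has no singular places":
an element of `k'·k(x)` integral over `k[x]` (resp. over `k(x) ∩ O_P`) has coordinates in `k[x]`
(resp. in `O_P`).
Author: helper44
-/
import Groth.Agent.Lib.Helper44.FunFldConstTower
import Mathlib.RingTheory.Polynomial.IsIntegral
import Mathlib.RingTheory.Polynomial.RationalRoot
import Mathlib.FieldTheory.IsAlgClosed.AlgebraicClosure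
import Mathlib.RingTheory.Trace.Basic

set_option autoImplicit false
set_option linter.unusedSectionVars false
set_option linter.style.haveILetI false

namespace Groth.Agent.Lib.Helper44.FFExt

open FunFld WithZero Polynomial
open Groth.Agent.Lib.Helper88.FF
open scoped TensorProduct IntermediateField IntermediateField.algebraAdjoinAdjoin

section A

variable {k k' K K' : Type*} [Field k] [Field k'] [Field K] [Field K'] [Algebra k k'] [Algebra k K]
  [Algebra K K'] [Algebra k' K'] [Algebra k K'] [IsScalarTower k k' K'] [IsScalarTower k K K']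

/-- Expansion of `aeval x' q` in coordinates. -/
lemma aeval_map_coords {m : ℕ} (w : Module.Basis (Fin m) k k') (x : K) (q : k'[X]) :
    aeval (algebraMap K K' x) q =
      ∑ i, algebraMap K K' (aeval x (∑ j ∈ Finset.range (q.natDegree + 1),
        monomial j (w.repr (q.coeff j) i))) * algebraMap k' K' (w i) := by
  rw [aeval_eq_sum_range]
  have h1 : ∀ j, q.coeff j • (algebraMap K K' x) ^ j =
      ∑ i, algebraMap K K' (algebraMap k K (w.repr (q.coeff j) i) * x ^ j) *
        algebraMap k' K' (w i) := by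
    intro j
    conv_lhs => rw [← w.sum_repr (q.coeff j)]
    rw [Finset.sum_smul]
    apply Finset.sum_congr rfl
    intro i _
    rw [Algebra.smul_def, Algebra.smul_def, map_mul (algebraMap k' K'),
      map_mul (algebraMap K K'), map_pow,
      ← IsScalarTower.algebraMap_apply k k' K', ← IsScalarTower.algebraMap_apply k K K']
    ring
  simp only [h1]
  rw [Finset.sum_comm]
  apply Finset.sum_congr rfl
  intro i _
  rw [← Finset.sum_mul, map_sum, map_sum]
  congr 1
  apply Finset.sum_congr rfl
  intro j _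
  rw [aeval_monomial]

/-- `x` stays transcendental over `k'`. -/
theorem transcendental_map
    (h : Function.Injective (Algebra.TensorProduct.productMap
      (IsScalarTower.toAlgHom k k' K') (IsScalarTower.toAlgHom k K K')))
    {m : ℕ} (w : Module.Basis (Fin m) k k') {x : K} (hx : Transcendental k x) :
    Transcendental k' (algebraMap K K' x) := by
  rw [transcendental_iff]
  intro q hq
  rw [aeval_map_coords w x q] at hq
  have h1 := coords_unique h w _ hq
  have h2 : ∀ i, (∑ j ∈ Finset.range (q.natDegree + 1),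
      monomial j (w.repr (q.coeff j) i) : k[X]) = 0 := fun i =>
    (transcendental_iff.1 hx) _ (h1 i)
  ext j
  rw [coeff_zero]
  by_cases hj : j < q.natDegree + 1
  · apply w.repr.injective
    ext i
    have h3 := congrArg (fun p : k[X] => p.coeff j) (h2 i)
    simp only [finsetSum_coeff, coeff_monomial, coeff_zero] at h3
    rw [Finset.sum_ite_eq' (Finset.range (q.natDegree + 1)) j, if_pos (Finset.mem_range.2 hj)] at h3
    rw [h3]
    simp
  · exact coeff_eq_zero_of_natDegree_lt (by omega)

end A

section B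

variable {k k' K K' : Type*} [Field k] [Field k'] [Field K] [Field K'] [Algebra k k'] [Algebra k K]
  [Algebra K K'] [Algebra k' K'] [Algebra k K'] [IsScalarTower k k' K'] [IsScalarTower k K K']

/-- `k[x]` maps into `k'[x]`. -/
lemma map_mem_adjoin {x a : K} (ha : a ∈ Algebra.adjoin k ({x} : Set K)) :
    algebraMap K K' a ∈ Algebra.adjoin k' ({algebraMap K K' x} : Set K') := by
  induction ha using Algebra.adjoin_induction with
  | mem y hy =>
    rw [Set.mem_singleton_iff] at hy
    rw [hy]
    exact Algebra.self_mem_adjoin_singleton k' _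
  | algebraMap r =>
    rw [← IsScalarTower.algebraMap_apply k K K', IsScalarTower.algebraMap_apply k k' K']
    exact Subalgebra.algebraMap_mem _ _
  | add y z _ _ hy hz => rw [map_add]; exact Subalgebra.add_mem _ hy hz
  | mul y z _ _ hy hz => rw [map_mul]; exact Subalgebra.mul_mem _ hy hz

/-- `k'[x]` is integrally closed. -/
theorem isIntegrallyClosed_adjoin_map
    (h : Function.Injective (Algebra.TensorProduct.productMap
      (IsScalarTower.toAlgHom k k' K') (IsScalarTower.toAlgHom k K K')))
    {m : ℕ} (w : Module.Basis (Fin m) k k') {x : K} (hx : Transcendental k x) :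
    IsIntegrallyClosed (Algebra.adjoin k' ({algebraMap K K' x} : Set K')) := by
  have hx' := transcendental_map h w hx
  have hinj : Function.Injective (aeval (algebraMap K K' x) : k'[X] →ₐ[k'] K') :=
    transcendental_iff_injective.1 hx'
  let e : k'[X] ≃ₐ[k'] Algebra.adjoin k' ({algebraMap K K' x} : Set K') :=
    (AlgEquiv.ofInjective (aeval (algebraMap K K' x)) hinj).trans
      (Subalgebra.equivOfEq _ _ (Algebra.adjoin_singleton_eq_range_aeval k' _).symm)
  haveI : IsIntegrallyClosed k'[X] := UniqueFactorizationMonoid.instIsIntegrallyClosed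
  exact IsIntegrallyClosed.of_equiv e.toRingEquiv

/-- In a field `L`, an element `γ` integral over the integrally closed `k'[x']` with
`v γ ∈ k'[x']` for some nonzero `v ∈ k'[x']` lies in `k'[x']`. -/
lemma mem_adjoin_of_isIntegral_of_mul_mem {F L : Type*} [Field F] [Field L] [Algebra F L] {x' : L}
    [IsIntegrallyClosed (Algebra.adjoin F ({x'} : Set L))] {v γ : L}
    (hv : v ∈ Algebra.adjoin F ({x'} : Set L)) (hv0 : v ≠ 0)
    (hvγ : v * γ ∈ Algebra.adjoin F ({x'} : Set L))
    (hint : IsIntegral (Algebra.adjoin F ({x'} : Set L)) γ) :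
    γ ∈ Algebra.adjoin F ({x'} : Set L) := by
  have hA'S : ∀ y ∈ Algebra.adjoin F ({x'} : Set L), y ∈ IntermediateField.adjoin F ({x'} : Set L) :=
    fun y hy => IntermediateField.algebra_adjoin_le_adjoin F _ hy
  have hγS : γ ∈ IntermediateField.adjoin F ({x'} : Set L) := by
    have e1 : γ = v⁻¹ * (v * γ) := by
      rw [← mul_assoc, inv_mul_cancel₀ hv0, one_mul]
    rw [e1]
    exact (IntermediateField.adjoin F ({x'} : Set L)).mul_mem
      ((IntermediateField.adjoin F ({x'} : Set L)).inv_mem (hA'S _ hv)) (hA'S _ hvγ)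
  have hint' : IsIntegral (Algebra.adjoin F ({x'} : Set L))
      (⟨γ, hγS⟩ : IntermediateField.adjoin F ({x'} : Set L)) := by
    rw [← isIntegral_algebraMap_iff (B := L)
      (algebraMap (IntermediateField.adjoin F ({x'} : Set L)) L).injective]
    exact hint
  obtain ⟨y, hy⟩ := (IsIntegrallyClosed.isIntegral_iff
    (R := Algebra.adjoin F ({x'} : Set L))
    (K := IntermediateField.adjoin F ({x'} : Set L))).1 hint'
  have : (y : L) = γ :=
    congrArg (fun z : IntermediateField.adjoin F ({x'} : Set L) => (z : L)) hy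
  rw [← this]
  exact y.2

/-- An element of `K'` whose coordinates lie in `k(x)` and which is integral over `k'[x]` has
coordinates in `k[x]`. -/
theorem coords_mem_adjoin_of_isIntegral
    (h : Function.Bijective (Algebra.TensorProduct.productMap
      (IsScalarTower.toAlgHom k k' K') (IsScalarTower.toAlgHom k K K')))
    {m : ℕ} (w : Module.Basis (Fin m) k k') {x : K} (hx : Transcendental k x)
    (a : Fin m → K) (ha : ∀ i, a i ∈ IntermediateField.adjoin k ({x} : Set K))
    (hint : IsIntegral (Algebra.adjoin k' ({algebraMap K K' x} : Set K'))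
      (∑ i, algebraMap K K' (a i) * algebraMap k' K' (w i))) :
    ∀ i, a i ∈ Algebra.adjoin k ({x} : Set K) := by
  classical
  haveI := isIntegrallyClosed_adjoin_map h.1 w hx
  set A := Algebra.adjoin k ({x} : Set K) with hA
  set A' := Algebra.adjoin k' ({algebraMap K K' x} : Set K') with hA'
  have hinjK : Function.Injective (algebraMap K K') := (algebraMap K K').injective
  -- denominators
  have hden : ∀ i, ∃ g ∈ A, g ≠ 0 ∧ g * a i ∈ A := by
    intro i
    obtain ⟨r, s, hrs⟩ := (IntermediateField.mem_adjoin_simple_iff k (a i)).1 (ha i)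
    by_cases hs : aeval x s = 0
    · refine ⟨1, Subalgebra.one_mem _, one_ne_zero, ?_⟩
      rw [hrs, hs, div_zero, mul_zero]
      exact Subalgebra.zero_mem _
    · refine ⟨aeval x s, aeval_mem_adjoin_singleton k x, hs, ?_⟩
      rw [hrs, mul_div_cancel₀ _ hs]
      exact aeval_mem_adjoin_singleton k x
  choose g hgA hg0 hga using hden
  set v : K := ∏ i, g i with hv
  have hvA : v ∈ A := Subalgebra.prod_mem _ (fun i _ => hgA i)
  have hv0 : v ≠ 0 := Finset.prod_ne_zero_iff.2 (fun i _ => hg0 i)
  have hva : ∀ i, v * a i ∈ A := by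
    intro i
    have e1 : v = (∏ j ∈ Finset.univ.erase i, g j) * g i := by
      rw [hv, ← Finset.prod_erase_mul _ _ (Finset.mem_univ i)]
    rw [e1, mul_assoc]
    exact Subalgebra.mul_mem _ (Subalgebra.prod_mem _ (fun j _ => hgA j)) (hga i)
  set γ : K' := ∑ i, algebraMap K K' (a i) * algebraMap k' K' (w i) with hγ
  have hv'A' : algebraMap K K' v ∈ A' := map_mem_adjoin hvA
  have hv'0 : algebraMap K K' v ≠ 0 := (map_ne_zero_iff _ hinjK).2 hv0
  have hα : algebraMap K K' v * γ ∈ A' := by
    rw [hγ, Finset.mul_sum]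
    apply Subalgebra.sum_mem
    intro i _
    rw [← mul_assoc, ← map_mul]
    exact Subalgebra.mul_mem _ (map_mem_adjoin (hva i)) (Subalgebra.algebraMap_mem _ _)
  have hγA' : γ ∈ A' := mem_adjoin_of_isIntegral_of_mul_mem hv'A' hv'0 hα hint
  -- coordinates of elements of `A'`
  have hAk : ∀ r : k, algebraMap k K r ∈ A.toSubring := fun r => Subalgebra.algebraMap_mem A r
  have hcl' : ∀ z ∈ A', z ∈ Subring.closure ((algebraMap K K') '' (A.toSubring : Set K) ∪
      Set.range (algebraMap k' K')) := by
    intro z hz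
    induction hz using Algebra.adjoin_induction with
    | mem y hy =>
      rw [Set.mem_singleton_iff] at hy
      rw [hy]
      exact Subring.subset_closure (Or.inl ⟨x, Algebra.self_mem_adjoin_singleton k x, rfl⟩)
    | algebraMap r => exact Subring.subset_closure (Or.inr ⟨r, rfl⟩)
    | add y z _ _ hy hz => exact Subring.add_mem _ hy hz
    | mul y z _ _ hy hz => exact Subring.mul_mem _ hy hz
  have hcl := hcl' γ hγA'
  obtain ⟨c, hc, hγc⟩ := (mem_closure_iff_coordSet w A.toSubring hAk γ).1 hcl
  have huniq : ∀ i, a i - c i = 0 :=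
    coords_unique h.1 w _ (by
      simp only [map_sub, sub_mul, Finset.sum_sub_distrib]
      rw [← hγc, sub_self])
  intro i
  rw [sub_eq_zero.1 (huniq i)]
  exact hc i

end B

section C

variable {K L : Type*} [Field K] [CommRing L] [Algebra K L]

/-- `y` is a root of a monic polynomial over `K` with coefficients in the set `A`. -/
def IntOver (A : Set K) (y : L) : Prop :=
  ∃ q : K[X], q.Monic ∧ (∀ i, q.coeff i ∈ A) ∧ eval₂ (algebraMap K L) y q = 0

lemma intOver_of_isIntegral {R : Type*} [CommRing R] [Algebra R K] [Algebra R L]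
    [IsScalarTower R K L] {y : L} (hy : IsIntegral R y) :
    IntOver (Set.range (algebraMap R K)) y := by
  obtain ⟨p, hp, hpy⟩ := hy
  refine ⟨p.map (algebraMap R K), hp.map _, fun i => ⟨p.coeff i, (coeff_map _ _).symm⟩, ?_⟩
  rw [eval₂_map, ← IsScalarTower.algebraMap_eq R K L]
  exact hpy

lemma isIntegral_of_intOver {R : Type*} [CommRing R] [Algebra R K] [Algebra R L]
    [IsScalarTower R K L] {A : Set K} {y : L} (hy : IntOver A y)
    (hA : ∀ a ∈ A, IsIntegral R a) : IsIntegral R y := by
  obtain ⟨q, hq, hqA, hqy⟩ := hy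
  exact isIntegral_of_monic_root q hq (fun i => hA _ (hqA i)) y hqy

lemma IntOver.mono {A B : Set K} (h : A ⊆ B) {y : L} (hy : IntOver A y) : IntOver B y := by
  obtain ⟨q, hq, hqA, hqy⟩ := hy
  exact ⟨q, hq, fun i => h (hqA i), hqy⟩

/-- Clearing denominators of an integral equation. -/
lemma IntOver.exists_mul {A1 : Set K} (A0 : Subring K) (M : Submonoid K)
    (hM : ∀ u ∈ M, u ∈ A0) (h : ∀ a ∈ A1, ∃ u ∈ M, u * a ∈ A0) {y : L} (hy : IntOver A1 y) :
    ∃ u ∈ M, IntOver (A0 : Set K) (algebraMap K L u * y) := by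
  classical
  obtain ⟨q, hq, hqA, hqy⟩ := hy
  choose! g hgM hga using h
  obtain ⟨n, hn⟩ : ∃ n, n = q.natDegree := ⟨_, rfl⟩
  obtain ⟨u, hu⟩ : ∃ u : K, u = ∏ i ∈ Finset.range n, g (q.coeff i) := ⟨_, rfl⟩
  have huM : u ∈ M := by
    rw [hu]
    exact Submonoid.prod_mem _ (fun i _ => hgM _ (hqA i))
  have hui : ∀ i < n, u * q.coeff i ∈ A0 := by
    intro i hi
    have e1 : u = (∏ j ∈ (Finset.range n).erase i, g (q.coeff j)) * g (q.coeff i) := by
      rw [hu, Finset.prod_erase_mul _ _ (Finset.mem_range.2 hi)]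
    rw [e1, mul_assoc]
    exact A0.mul_mem (hM _ (Submonoid.prod_mem _ (fun j _ => hgM _ (hqA j)))) (hga _ (hqA i))
  refine ⟨u, huM, scaleRoots q u, (monic_scaleRoots_iff u).2 hq, ?_, ?_⟩
  · intro i
    rw [coeff_scaleRoots, ← hn]
    rcases lt_trichotomy i n with hi | hi | hi
    · have e2 : n - i = (n - i - 1) + 1 := by omega
      have e3 : q.coeff i * u ^ (n - i) = (u * q.coeff i) * u ^ (n - i - 1) := by
        rw [e2, pow_succ]
        simp only [Nat.add_sub_cancel]
        ring
      rw [e3]
      exact A0.mul_mem (hui i hi) (A0.pow_mem (hM _ huM) _)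
    · rw [hi, Nat.sub_self, pow_zero, mul_one, hn, hq.coeff_natDegree]
      exact A0.one_mem
    · rw [coeff_eq_zero_of_natDegree_lt (by omega), zero_mul]
      exact A0.zero_mem
  · rw [scaleRoots_eval₂_mul, hqy, mul_zero]

end C

section D

variable {k K : Type*} [Field k] [Field K] [Algebra k K]

lemma val_aeval_le_one (P : Place k K) {x : K} (hx : P.1 x ≤ 1) (f : k[X]) :
    P.1 (aeval x f) ≤ 1 := by
  rw [aeval_eq_sum_range]
  apply Valuation.map_sum_le
  intro i _
  rw [Algebra.smul_def, map_mul, map_pow]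
  exact mul_le_one' (P.2.1 _) (pow_le_one₀ zero_le hx)

lemma val_le_one_of_mem_adjoin (P : Place k K) {x : K} (hx : P.1 x ≤ 1) {a : K}
    (ha : a ∈ Algebra.adjoin k ({x} : Set K)) : P.1 a ≤ 1 := by
  rw [Algebra.adjoin_singleton_eq_range_aeval] at ha
  obtain ⟨f, rfl⟩ := ha
  exact val_aeval_le_one P hx f

/-- A rational function of `x` regular at `P` (where `x` is regular) has a denominator in `k[x]`
which is a unit at `P`. -/
lemma exists_denominator (P : Place k K) {x : K} (hx : P.1 x ≤ 1) {a : K}
    (ha : a ∈ IntermediateField.adjoin k ({x} : Set K)) (haP : P.1 a ≤ 1) :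
    ∃ u ∈ Algebra.adjoin k ({x} : Set K), P.1 u = 1 ∧ u * a ∈ Algebra.adjoin k ({x} : Set K) := by
  classical
  obtain ⟨r, s, hrs⟩ := (IntermediateField.mem_adjoin_simple_iff k a).1 ha
  by_cases hs0 : aeval x s = 0
  · refine ⟨1, Subalgebra.one_mem _, map_one _, ?_⟩
    rw [hrs, hs0, div_zero, mul_zero]
    exact Subalgebra.zero_mem _
  have hs : s ≠ 0 := by
    rintro rfl
    exact hs0 (map_zero _)
  obtain ⟨d, hd⟩ : ∃ d, d = GCDMonoid.gcd r s := ⟨_, rfl⟩
  have hd0 : d ≠ 0 := by rw [hd]; exact gcd_ne_zero_of_right hs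
  have hr1 : d * (r / d) = r :=
    EuclideanDomain.mul_div_cancel' hd0 (by rw [hd]; exact gcd_dvd_left _ _)
  have hs1 : d * (s / d) = s :=
    EuclideanDomain.mul_div_cancel' hd0 (by rw [hd]; exact gcd_dvd_right _ _)
  have hcop : IsCoprime (r / d) (s / d) := by
    rw [hd]
    exact isCoprime_div_gcd_div_gcd hs
  obtain ⟨r₁, hr₁⟩ : ∃ r₁, r₁ = r / d := ⟨_, rfl⟩
  obtain ⟨s₁, hs₁⟩ : ∃ s₁, s₁ = s / d := ⟨_, rfl⟩
  rw [← hr₁, ← hs₁] at hcop
  rw [← hr₁] at hr1
  rw [← hs₁] at hs1
  have hd1 : aeval x d ≠ 0 := by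
    intro h
    apply hs0
    rw [← hs1, map_mul, h, zero_mul]
  have hs10 : aeval x s₁ ≠ 0 := by
    intro h
    apply hs0
    rw [← hs1, map_mul, h, mul_zero]
  have ha1 : a = aeval x r₁ / aeval x s₁ := by
    rw [hrs, ← hr1, ← hs1, map_mul, map_mul, mul_div_mul_left _ _ hd1]
  have hmul : aeval x s₁ * a = aeval x r₁ := by
    rw [ha1, mul_div_cancel₀ _ hs10]
  refine ⟨aeval x s₁, aeval_mem_adjoin_singleton k x, ?_, ?_⟩
  · by_contra hne
    have hlt : P.1 (aeval x s₁) < 1 := lt_of_le_of_ne (val_aeval_le_one P hx s₁) hne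
    have hlt' : P.1 (aeval x r₁) < 1 := by
      rw [← hmul, map_mul]
      calc P.1 (aeval x s₁) * P.1 a ≤ P.1 (aeval x s₁) * 1 := mul_le_mul' le_rfl haP
        _ = P.1 (aeval x s₁) := mul_one _
        _ < 1 := hlt
    obtain ⟨A, B, hAB⟩ := hcop
    have h1 : aeval x A * aeval x r₁ + aeval x B * aeval x s₁ = 1 := by
      rw [← map_mul, ← map_mul, ← map_add, hAB, map_one]
    have h2 : P.1 (aeval x A * aeval x r₁ + aeval x B * aeval x s₁) < 1 := by
      apply Valuation.map_add_lt
      · rw [map_mul]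
        calc P.1 (aeval x A) * P.1 (aeval x r₁) ≤ 1 * P.1 (aeval x r₁) :=
              mul_le_mul' (val_aeval_le_one P hx A) le_rfl
          _ = P.1 (aeval x r₁) := one_mul _
          _ < 1 := hlt'
      · rw [map_mul]
        calc P.1 (aeval x B) * P.1 (aeval x s₁) ≤ 1 * P.1 (aeval x s₁) :=
              mul_le_mul' (val_aeval_le_one P hx B) le_rfl
          _ = P.1 (aeval x s₁) := one_mul _
          _ < 1 := hlt
    rw [h1, map_one] at h2
    exact lt_irrefl _ h2
  · rw [hmul]
    exact aeval_mem_adjoin_singleton k x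

end D

section E

variable {k k' K K' : Type*} [Field k] [Field k'] [Field K] [Field K'] [Algebra k k'] [Algebra k K]
  [Algebra K K'] [Algebra k' K'] [Algebra k K'] [IsScalarTower k k' K'] [IsScalarTower k K K']

/-- Extending an embedding of `K` to `K' = k' ⊗ K`. -/
lemma exists_extension
    (h : Function.Bijective (Algebra.TensorProduct.productMap
      (IsScalarTower.toAlgHom k k' K') (IsScalarTower.toAlgHom k K K')))
    {Ω : Type*} [Field Ω] [Algebra K' Ω] [Algebra k Ω] [Algebra k' Ω] [IsScalarTower k k' Ω]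
    [IsScalarTower k' K' Ω] (σ : K →ₐ[k] Ω) :
    ∃ σ' : K' →+* Ω, (∀ a : K, σ' (algebraMap K K' a) = σ a) ∧
      (∀ b : k', σ' (algebraMap k' K' b) = algebraMap k' Ω b) := by
  let e : k' ⊗[k] K ≃ₐ[k] K' := AlgEquiv.ofBijective _ h
  let τ : k' ⊗[k] K →ₐ[k] Ω :=
    Algebra.TensorProduct.productMap (IsScalarTower.toAlgHom k k' Ω) σ
  refine ⟨(τ : k' ⊗[k] K →+* Ω).comp (e.symm : K' →+* k' ⊗[k] K), ?_, ?_⟩
  · intro a
    have h1 : e.symm (algebraMap K K' a) = 1 ⊗ₜ a := by
      rw [AlgEquiv.symm_apply_eq]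
      show _ = Algebra.TensorProduct.productMap _ _ (1 ⊗ₜ a)
      rw [Algebra.TensorProduct.productMap_apply_tmul, map_one, one_mul]
      rfl
    show τ (e.symm (algebraMap K K' a)) = σ a
    rw [h1, Algebra.TensorProduct.productMap_apply_tmul, map_one, one_mul]
  · intro b
    have h1 : e.symm (algebraMap k' K' b) = b ⊗ₜ 1 := by
      rw [AlgEquiv.symm_apply_eq]
      show _ = Algebra.TensorProduct.productMap _ _ (b ⊗ₜ 1)
      rw [Algebra.TensorProduct.productMap_apply_tmul, map_one, mul_one]
      rfl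
    show τ (e.symm (algebraMap k' K' b)) = algebraMap k' Ω b
    rw [h1, Algebra.TensorProduct.productMap_apply_tmul, map_one, mul_one]
    rfl

/-- The coordinatewise trace of an element of `K'` integral over `k[x]` is integral over `k[x]`. -/
theorem isIntegral_trace_coords
    (h : Function.Bijective (Algebra.TensorProduct.productMap
      (IsScalarTower.toAlgHom k k' K') (IsScalarTower.toAlgHom k K K')))
    {m : ℕ} (w : Fin m → k') (x : K)
    [FiniteDimensional k⟮x⟯ K] [Algebra.IsSeparable k⟮x⟯ K]
    (c : Fin m → K)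
    (hy : IsIntegral (Algebra.adjoin k ({x} : Set K))
      (∑ i, algebraMap K K' (c i) * algebraMap k' K' (w i))) :
    IsIntegral (Algebra.adjoin k ({x} : Set K))
      (∑ i, algebraMap K K' (algebraMap k⟮x⟯ K (Algebra.trace k⟮x⟯ K (c i))) *
        algebraMap k' K' (w i)) := by
  classical
  have key : ∀ σ : K →ₐ[k⟮x⟯] AlgebraicClosure K', ∃ σ' : K' →+* AlgebraicClosure K',
      (∀ a : K, σ' (algebraMap K K' a) = σ a) ∧
      (∀ b : k', σ' (algebraMap k' K' b) = algebraMap k' (AlgebraicClosure K') b) := by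
    intro σ
    exact exists_extension h (σ.restrictScalars k)
  choose σ' hσK hσk using key
  have hval : ∀ σ, σ' σ (∑ i, algebraMap K K' (c i) * algebraMap k' K' (w i)) =
      ∑ i, σ (c i) * algebraMap k' (AlgebraicClosure K') (w i) := by
    intro σ
    rw [map_sum]
    apply Finset.sum_congr rfl
    intro i _
    rw [map_mul, hσK, hσk]
  have hint : ∀ σ, IsIntegral (Algebra.adjoin k ({x} : Set K))
      (σ' σ (∑ i, algebraMap K K' (c i) * algebraMap k' K' (w i))) := by
    intro σ
    refine IsIntegral.map_of_comp_eq (RingHom.id _) (σ' σ) ?_ hy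
    ext r
    show algebraMap _ (AlgebraicClosure K') r = σ' σ (algebraMap K K' (r : K))
    rw [hσK]
    have hr : (r : K) ∈ k⟮x⟯ := IntermediateField.algebra_adjoin_le_adjoin k _ r.2
    have := σ.commutes ⟨(r : K), hr⟩
    rw [show σ (r : K) = σ (algebraMap k⟮x⟯ K ⟨(r : K), hr⟩) from rfl, this]
    rfl
  have hsum : algebraMap K' (AlgebraicClosure K')
      (∑ i, algebraMap K K' (algebraMap k⟮x⟯ K (Algebra.trace k⟮x⟯ K (c i))) *
        algebraMap k' K' (w i)) =
      ∑ σ : K →ₐ[k⟮x⟯] AlgebraicClosure K',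
        σ' σ (∑ i, algebraMap K K' (c i) * algebraMap k' K' (w i)) := by
    simp only [hval]
    rw [Finset.sum_comm, map_sum]
    apply Finset.sum_congr rfl
    intro i _
    rw [← Finset.sum_mul, ← trace_eq_sum_embeddings (AlgebraicClosure K'), map_mul,
      ← IsScalarTower.algebraMap_apply k' K' (AlgebraicClosure K')]
    rfl
  rw [← isIntegral_algebraMap_iff (algebraMap K' (AlgebraicClosure K')).injective, hsum]
  exact IsIntegral.sum _ (fun σ _ => hint σ)


/-- The traces of the coordinates of an element of `K'` integral over `k[x]` lie in `k[x]`. -/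
theorem trace_coords_mem_adjoin
    (h : Function.Bijective (Algebra.TensorProduct.productMap
      (IsScalarTower.toAlgHom k k' K') (IsScalarTower.toAlgHom k K K')))
    {m : ℕ} (w : Module.Basis (Fin m) k k') {x : K} (hx : Transcendental k x)
    [FiniteDimensional k⟮x⟯ K] [Algebra.IsSeparable k⟮x⟯ K]
    (c : Fin m → K)
    (hy : IsIntegral (Algebra.adjoin k ({x} : Set K))
      (∑ i, algebraMap K K' (c i) * algebraMap k' K' (w i))) (i : Fin m) :
    algebraMap k⟮x⟯ K (Algebra.trace k⟮x⟯ K (c i)) ∈ Algebra.adjoin k ({x} : Set K) := by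
  have h1 := isIntegral_trace_coords h w x c hy
  let ρ : Algebra.adjoin k ({x} : Set K) →+* Algebra.adjoin k' ({algebraMap K K' x} : Set K') :=
    ((algebraMap K K').comp (Algebra.adjoin k ({x} : Set K)).val.toRingHom).codRestrict _
      (fun r => map_mem_adjoin r.2)
  have h2 : IsIntegral (Algebra.adjoin k' ({algebraMap K K' x} : Set K'))
      (∑ i, algebraMap K K' (algebraMap k⟮x⟯ K (Algebra.trace k⟮x⟯ K (c i))) *
        algebraMap k' K' (w i)) := by
    have := IsIntegral.map_of_comp_eq ρ (RingHom.id K') (by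
      ext r
      rfl) h1
    exact this
  exact coords_mem_adjoin_of_isIntegral h w hx _ (fun i => (Algebra.trace k⟮x⟯ K (c i)).2) h2 i

/-- Multiplying by an element of `K` integral over `k[x]`. -/
theorem trace_mul_coords_mem_adjoin
    (h : Function.Bijective (Algebra.TensorProduct.productMap
      (IsScalarTower.toAlgHom k k' K') (IsScalarTower.toAlgHom k K K')))
    {m : ℕ} (w : Module.Basis (Fin m) k k') {x : K} (hx : Transcendental k x)
    [FiniteDimensional k⟮x⟯ K] [Algebra.IsSeparable k⟮x⟯ K]
    (c : Fin m → K)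
    (hy : IsIntegral (Algebra.adjoin k ({x} : Set K))
      (∑ i, algebraMap K K' (c i) * algebraMap k' K' (w i)))
    {β : K} (hβ : IsIntegral (Algebra.adjoin k ({x} : Set K)) β) (i : Fin m) :
    algebraMap k⟮x⟯ K (Algebra.trace k⟮x⟯ K (c i * β)) ∈ Algebra.adjoin k ({x} : Set K) := by
  have hβ' : IsIntegral (Algebra.adjoin k ({x} : Set K)) (algebraMap K K' β) :=
    hβ.map (IsScalarTower.toAlgHom (Algebra.adjoin k ({x} : Set K)) K K')
  have h1 : IsIntegral (Algebra.adjoin k ({x} : Set K))
      (∑ i, algebraMap K K' (c i * β) * algebraMap k' K' (w i)) := by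
    have e1 : ∑ i, algebraMap K K' (c i * β) * algebraMap k' K' (w i) =
        (∑ i, algebraMap K K' (c i) * algebraMap k' K' (w i)) * algebraMap K K' β := by
      rw [Finset.sum_mul]
      apply Finset.sum_congr rfl
      intro i _
      rw [map_mul]
      ring
    rw [e1]
    exact hy.mul hβ'
  exact trace_coords_mem_adjoin h w hx (fun i => c i * β) h1 i

end E

end Groth.Agent.Lib.Helper44.FFExt
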