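/-
A geometric function field has only finitely many singular places (S12527): with `x` separating,
`b` a `k(x)`-basis of `K` integral over `k[x]` and `b*` its trace-dual basis, every place `P` with
`x, b*_j ∈ O_P` is nonsingular with respect to every finite constant field extension.
Author: helper44
-/
import Groth.Agent.Lib.Helper44.FunFldSingA
import Groth.Agent.Lib.Helper34.FunFldLocParam
import Groth.Agent.Lib.Helper88.FunFldSep
import Groth.Agent.Lib.Helper88.FunFldZeros
import Mathlib.RingTheory.DedekindDomain.IntegralClosure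

set_option autoImplicit false
set_option linter.unusedSectionVars false
set_option linter.style.haveILetI false

namespace Groth.Agent.Lib.Helper44.FFExt

open FunFld WithZero Polynomial
open Groth.Agent.Lib.Helper88.FF Groth.Agent.Lib.Helper34.FunFldIntFin
  Groth.Agent.Lib.Helper34.FunFldLocParam
open scoped TensorProduct IntermediateField IntermediateField.algebraAdjoinAdjoin

section local1

variable {k F K : Type*} [Field k] [Field F] [Field K] [Algebra k F] [Algebra F K] [Algebra k K]
  [IsScalarTower k F K] [FiniteDimensional F K]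

/-- Weak approximation: an element of `O_P` has a denominator which is a unit at `P` and
integral at all places over `p`. -/
lemma exists_semilocal_denominator (hF : IsFunctionField k F) (p : Place k F) (P : Place k K)
    (hPp : IsOver P p) {a : K} :
    ∃ s : K, P.1 s = 1 ∧ (∀ Q : Place k K, IsOver Q p → Q.1 s ≤ 1) ∧
      ((P.1 a ≤ 1) → ∀ Q : Place k K, IsOver Q p → Q.1 (s * a) ≤ 1) := by
  classical
  obtain ⟨N, hN0, hN⟩ := exists_bound' (Qs (K' := K) hF p) {a}
  obtain ⟨s, hs⟩ := weak_approx (Qs (K' := K) hF p) (fun Q' => if Q' = P then 1 else 0)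
    (max N 1)
  have hPmem : P ∈ Qs (K' := K) hF p := (mem_Qs hF p P).2 hPp
  have hsP1 : P.1 (s - 1) ≤ exp (-(max N 1)) := by
    have := hs P hPmem
    rwa [if_pos rfl] at this
  have hsQ' : ∀ Q' : Place k K, IsOver Q' p → Q' ≠ P → Q'.1 s ≤ exp (-(max N 1)) := by
    intro Q' h1 h2
    have := hs Q' ((mem_Qs hF p Q').2 h1)
    rwa [if_neg h2, sub_zero] at this
  have hPs : P.1 s = 1 := by
    have e1 : s = 1 + (s - 1) := by ring
    have hlt : P.1 (s - 1) < P.1 (1 : K) := by
      rw [map_one]
      refine lt_of_le_of_lt hsP1 ?_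
      rw [← exp_zero, exp_lt_exp]
      have : (1 : ℤ) ≤ max N 1 := le_max_right _ _
      linarith
    rw [e1, Valuation.map_add_eq_of_lt_left _ hlt, map_one]
  have hle1 : exp (-(max N 1)) ≤ (1 : ℤᵐ⁰) := by
    rw [← exp_zero, exp_le_exp]
    have : (1 : ℤ) ≤ max N 1 := le_max_right _ _
    linarith
  refine ⟨s, hPs, ?_, ?_⟩
  · intro Q hQ
    by_cases hQP : Q = P
    · rw [hQP, hPs]
    · exact (hsQ' Q hQ hQP).trans hle1
  · intro haP Q hQ
    by_cases hQP : Q = P
    · rw [hQP, map_mul, hPs, one_mul]
      exact haP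
    · rw [map_mul]
      have h1 : Q.1 a ≤ exp N := hN Q ((mem_Qs hF p Q).2 hQ) a (Finset.mem_singleton_self a)
      calc Q.1 s * Q.1 a ≤ exp (-(max N 1)) * exp N := mul_le_mul' (hsQ' Q hQ hQP) h1
        _ ≤ 1 := by
          rw [← exp_add, ← exp_zero, exp_le_exp]
          have : N ≤ max N 1 := le_max_left _ _
          linarith

end local1

section local2

variable {k k' K K' : Type*} [Field k] [Field k'] [Field K] [Field K'] [Algebra k k'] [Algebra k K]
  [Algebra K K'] [Algebra k' K'] [Algebra k K'] [IsScalarTower k k' K'] [IsScalarTower k K K']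

/-- **Key local statement**: at a place `P` where `x` and the trace-dual basis `d` are regular, an
element of `K' = k' ⊗ K` integral over `O_P` has all its coordinates in `O_P`. -/
theorem coords_val_le_one
    (h : Function.Bijective (Algebra.TensorProduct.productMap
      (IsScalarTower.toAlgHom k k' K') (IsScalarTower.toAlgHom k K K')))
    (hK : IsFunctionField k K)
    {m : ℕ} (w : Module.Basis (Fin m) k k') {x : K} (hx : Transcendental k x)
    [FiniteDimensional k⟮x⟯ K] [Algebra.IsSeparable k⟮x⟯ K]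
    {ι : Type*} [Fintype ι] (b d : ι → K)
    (hb : ∀ j, IsIntegral (Algebra.adjoin k ({x} : Set K)) (b j))
    (hbd : ∀ c : K, c = ∑ j, algebraMap k⟮x⟯ K (Algebra.trace k⟮x⟯ K (c * b j)) * d j)
    (P : Place k K) (hPx : P.1 x ≤ 1) (hPd : ∀ j, P.1 (d j) ≤ 1)
    [Algebra P.O K'] [IsScalarTower P.O K K']
    (c : Fin m → K)
    (hz : IsIntegral P.O (∑ i, algebraMap K K' (c i) * algebraMap k' K' (w i))) :
    ∀ i, P.1 (c i) ≤ 1 := by
  classical
  have hF : IsFunctionField k k⟮x⟯ := isFunctionField_adjoin_simple hK hx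
  haveI : Algebra.IsAlgebraic k⟮x⟯ K := Algebra.IsAlgebraic.of_finite _ _
  obtain ⟨p, hPp⟩ := exists_isOver_below (K := k⟮x⟯) P
  letI aP : Algebra p.O K := ((algebraMap k⟮x⟯ K).comp p.O.subtype).toAlgebra
  haveI tP : IsScalarTower p.O k⟮x⟯ K := IsScalarTower.of_algebraMap_eq (fun _ => rfl)
  letI aP' : Algebra p.O K' := ((algebraMap K K').comp (algebraMap p.O K)).toAlgebra
  haveI tP' : IsScalarTower p.O K K' := IsScalarTower.of_algebraMap_eq (fun _ => rfl)
  obtain ⟨-, -, hint, -, -⟩ := integral_structure (K' := K) hF p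
  have hF1 : ∀ z : K, IsIntegral p.O z ↔ ∀ Q : Place k K, IsOver Q p → Q.1 z ≤ 1 :=
    fun z => (hint z).trans (mem_Bp hF p)
  set z : K' := ∑ i, algebraMap K K' (c i) * algebraMap k' K' (w i) with hzdef
  -- step 1: from `O_P` to the semilocal ring
  have h1 : IntOver ((P.O : Set K)) z := by
    refine (intOver_of_isIntegral (K := K) hz).mono ?_
    rintro _ ⟨r, rfl⟩
    exact r.2
  let A0 : Subring K := (integralClosure p.O K).toSubring
  let M : Submonoid K :=
    { carrier := {s | s ∈ A0 ∧ P.1 s = 1}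
      one_mem' := ⟨A0.one_mem, map_one _⟩
      mul_mem' := fun {s t} hs ht => ⟨A0.mul_mem hs.1 ht.1, by
        show P.1 (s * t) = 1
        rw [map_mul, hs.2, ht.2, one_mul]⟩ }
  obtain ⟨s, hsM, h2⟩ := h1.exists_mul A0 M (fun u hu => hu.1) (by
    intro a ha
    obtain ⟨s, hs1, hs2, hs3⟩ := exists_semilocal_denominator hF p P hPp (a := a)
    exact ⟨s, ⟨(hF1 s).2 hs2, hs1⟩, (hF1 _).2 (hs3 ha)⟩)
  have h3 : IsIntegral p.O (algebraMap K K' s * z) :=
    isIntegral_of_intOver (K := K) h2 (fun a ha => ha)
  -- step 2: from `O_p` to `k[x]`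
  have h4 := intOver_of_isIntegral (K := K) h3
  let A0' : Subring K := (Algebra.adjoin k ({x} : Set K)).toSubring
  let M' : Submonoid K :=
    { carrier := {s | s ∈ A0' ∧ P.1 s = 1}
      one_mem' := ⟨A0'.one_mem, map_one _⟩
      mul_mem' := fun {s t} hs ht => ⟨A0'.mul_mem hs.1 ht.1, by
        show P.1 (s * t) = 1
        rw [map_mul, hs.2, ht.2, one_mul]⟩ }
  obtain ⟨u, huM, h5⟩ := h4.exists_mul A0' M' (fun u hu => hu.1) (by
    rintro _ ⟨r, rfl⟩
    have hr1 : P.1 (algebraMap p.O K r) ≤ 1 := val_algebraMap_le_one hPp r.2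
    have hr2 : algebraMap p.O K r ∈ k⟮x⟯ := (r : k⟮x⟯).2
    obtain ⟨u, hu1, hu2, hu3⟩ := exists_denominator P hPx hr2 hr1
    exact ⟨u, ⟨hu1, hu2⟩, hu3⟩)
  have h6 : IsIntegral (Algebra.adjoin k ({x} : Set K)) (algebraMap K K' u * (algebraMap K K' s * z)) :=
    isIntegral_of_intOver (K := K) h5 (fun a ha =>
      (isIntegral_algebraMap (R := Algebra.adjoin k ({x} : Set K)) (A := K) (x := ⟨a, ha⟩)))
  -- coordinates of `u s z`
  have h7 : algebraMap K K' u * (algebraMap K K' s * z) =
      ∑ i, algebraMap K K' (u * s * c i) * algebraMap k' K' (w i) := by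
    rw [hzdef, Finset.mul_sum, Finset.mul_sum]
    apply Finset.sum_congr rfl
    intro i _
    rw [map_mul, map_mul]
    ring
  rw [h7] at h6
  have hus : P.1 (u * s) = 1 := by rw [map_mul, huM.2, hsM.2, one_mul]
  intro i
  have h8 : P.1 (u * s * c i) ≤ 1 := by
    rw [hbd (u * s * c i)]
    apply Valuation.map_sum_le
    intro j _
    rw [map_mul]
    exact mul_le_one' (val_le_one_of_mem_adjoin P hPx
      (trace_mul_coords_mem_adjoin h w hx _ h6 (hb j) i)) (hPd j)
  rwa [map_mul, hus, one_mul] at h8

end local2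

section global

universe u v w

variable {k : Type u} {K : Type v} [Field k] [Field K] [Algebra k K]

lemma finite_one_lt_val (hK : IsFunctionField k K) (a : K) : {P : Place k K | 1 < P.1 a}.Finite := by
  refine (finite_support_ord hK a).subset ?_
  intro P hP
  have ha : a ≠ 0 := by
    rintro rfl
    simp at hP
  have := (one_lt_val_iff P ha).1 hP
  show P.ord a ≠ 0
  omega

/-- **S12527**, abstract form: outside a finite set of places, every place is nonsingular with
respect to every finite constant field extension. -/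
theorem exists_finite_singular (hK : IsFunctionField k K) (hg : IsGeometric k K) :
    ∃ T : Set (Place k K), T.Finite ∧ ∀ P : Place k K, P ∉ T →
      ∀ (k' : Type u) (K' : Type w) [Field k'] [Field K'] [Algebra k k'] [FiniteDimensional k k']
        [Algebra K K'] [Algebra k' K'] [Algebra k K'] [IsScalarTower k k' K']
        [IsScalarTower k K K'],
        Function.Bijective (Algebra.TensorProduct.productMap
          (IsScalarTower.toAlgHom k k' K') (IsScalarTower.toAlgHom k K K')) →
        integralClosure (P.O.toSubring.map (algebraMap K K')) K' =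
          Algebra.adjoin (P.O.toSubring.map (algebraMap K K')) (Set.range (algebraMap k' K')) := by
  classical
  obtain ⟨x, hx, hsep⟩ := exists_separating hK hg
  haveI := hsep
  haveI hfd := finiteDimensional_adjoin_of_transcendental hK hx
  obtain ⟨sidx, b, hb⟩ :=
    FiniteDimensional.exists_is_basis_integral (Algebra.adjoin k ({x} : Set K)) k⟮x⟯ K
  let d := (Algebra.traceForm k⟮x⟯ K).dualBasis (traceForm_nondegenerate _ _) b
  have hbd : ∀ c : K, c = ∑ j, algebraMap k⟮x⟯ K (Algebra.trace k⟮x⟯ K (c * b j)) * d j := by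
    intro c
    conv_lhs => rw [← d.sum_repr c]
    apply Finset.sum_congr rfl
    intro j _
    rw [LinearMap.BilinForm.dualBasis_repr_apply, Algebra.traceForm_apply, Algebra.smul_def]
  refine ⟨{P | 1 < P.1 x} ∪ ⋃ j, {P | 1 < P.1 (d j)},
    (finite_one_lt_val hK x).union (Set.finite_iUnion (fun j => finite_one_lt_val hK (d j))), ?_⟩
  intro P hP k' K' _ _ _ _ _ _ _ _ _ h
  have hPx : P.1 x ≤ 1 := by
    by_contra hcon
    exact hP (Or.inl (not_le.1 hcon))
  have hPd : ∀ j, P.1 (d j) ≤ 1 := by
    intro j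
    by_contra hcon
    exact hP (Or.inr (Set.mem_iUnion.2 ⟨j, not_le.1 hcon⟩))
  letI aPK' : Algebra P.O K' := ((algebraMap K K').comp P.O.subtype).toAlgebra
  haveI tPK' : IsScalarTower P.O K K' := IsScalarTower.of_algebraMap_eq (fun _ => rfl)
  haveI tkPK' : IsScalarTower k P.O K' := IsScalarTower.of_algebraMap_eq (fun c => by
    rw [algebraMap_O_apply', IsScalarTower.algebraMap_apply k K K']
    rfl)
  have hconst' : ∀ y ∈ Set.range (algebraMap k' K'), IsIntegral P.O y := by
    rintro _ ⟨c, rfl⟩
    have h1 : IsIntegral k c := Algebra.IsIntegral.isIntegral c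
    have h2 : IsIntegral k (algebraMap k' K' c) := h1.map (IsScalarTower.toAlgHom k k' K')
    exact h2.tower_top
  rw [nonsing_iff P _ hconst']
  intro z hz
  let w : Module.Basis (Fin (Module.finrank k k')) k k' := Module.finBasis k k'
  obtain ⟨c, hzc⟩ := exists_coords h.2 w z
  rw [hzc] at hz
  have hc := coords_val_le_one h hK w hx (fun j => b j) (fun j => d j) hb hbd P hPx hPd c hz
  rw [hzc]
  refine Subalgebra.sum_mem _ (fun i _ => ?_)
  refine Subalgebra.mul_mem _ ?_ (Algebra.subset_adjoin ⟨w i, rfl⟩)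
  have := Subalgebra.algebraMap_mem (Algebra.adjoin P.O (Set.range (algebraMap k' K')))
    (⟨c i, hc i⟩ : P.O)
  rwa [algebraMap_O_apply'] at this

end global

end Groth.Agent.Lib.Helper44.FFExt
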