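/-
Weierstrass points of the canonical map (Stöhr–Voloch / Goldschmidt): classical orders, weights via
gap sequences, the bound `w(P) ≤ g(g-1)/2` and the count `N ≥ 2g + 2`.
Author: helper44 (on top of helper16/helper88 SV libs and rows S12603 S12609 S12615 S11044 S11045)
-/
import Groth.Agent.Lib.Helper88.SVClassical
import Groth.Agent.Lib.Helper88.FunFldHyper
import Groth.Agent.Lib.Helper91.FunFldAut
import Groth.Agent.Lib.Helper44.FunFldMapDiv
import Groth.Agent.S12603
import Groth.Agent.S12609
import Groth.Agent.S12615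
import Groth.Agent.S11044
import Groth.Agent.S11045

set_option autoImplicit false
set_option linter.unusedSectionVars false
set_option linter.style.haveILetI false

namespace Groth.Agent.Lib.Helper44.Weier

open FunFld WithZero LocRes PowerSeries
open Groth.Agent.Lib.Helper88.FF Groth.Agent.Lib.Helper88.TG Groth.Agent.Lib.Helper88.SV
open Groth.Agent.Lib.Helper44.FFExt

variable {k K : Type*} [Field k] [IsAlgClosed k] [Field K] [Algebra k K]
variable (hK : IsFunctionField k K)

section Canonical

variable {C : Divisor k K} (hC : IsCanonical k K C) {n : ℕ} (φ : Fin (n + 1) → K)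
  (hφ : LinearIndependent k φ) (hspan : Submodule.span k (Set.range φ) = L C)

include hK hC hφ hspan in
/-- The divisor of the canonical map is the canonical divisor (for positive genus). -/
theorem mapDiv_canonical (hg : 0 < genus k K) : mapDiv k φ = C := by
  classical
  ext P
  rw [mapDiv_apply hK]
  have hφne : ∀ i, φ i ≠ 0 := fun i => hφ.ne_zero i
  apply le_antisymm
  · rw [neg_le]
    apply Finset.le_inf'
    intro i _
    have hi : φ i ∈ L C := by
      rw [← hspan]
      exact Submodule.subset_span ⟨i, rfl⟩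
    have := hi P
    rw [val_eq_exp_neg_ord P (hφne i), exp_le_exp] at this
    linarith
  · have hlt := Groth.Agent.S11044.result k K hK hg C (Or.inr hC) P
    have hle : L (C - Finsupp.single P 1) ≤ L C := by
      apply L_mono
      intro Q
      rw [Finsupp.sub_apply, Finsupp.single_apply]
      split_ifs <;> omega
    obtain ⟨f, hfC, hfn⟩ : ∃ f ∈ L C, f ∉ L (C - Finsupp.single P 1) := by
      by_contra hcon
      push Not at hcon
      have h2 : L C ≤ L (C - Finsupp.single P 1) := hcon
      have h3 := le_antisymm hle h2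
      unfold ell at hlt
      rw [h3] at hlt
      exact lt_irrefl _ hlt
    have hf0 : f ≠ 0 := by
      rintro rfl
      exact hfn (Submodule.zero_mem _)
    have hP : ¬ P.1 f ≤ exp ((C - Finsupp.single P 1 : Divisor k K) P) := by
      intro hPle
      apply hfn
      intro Q
      by_cases hQ : Q = P
      · rw [hQ]
        exact hPle
      · have := hfC Q
        rwa [Finsupp.sub_apply, Finsupp.single_apply, if_neg (Ne.symm hQ), sub_zero]
    rw [Finsupp.sub_apply, Finsupp.single_eq_same, val_eq_exp_neg_ord P hf0, exp_le_exp] at hP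
    rw [← hspan] at hfC
    obtain ⟨c, hc⟩ := (Submodule.mem_span_range_iff_exists_fun k).1 hfC
    have h4 := inf_ord_le_ord_lincomb P φ hφne c (by rw [hc]; exact hf0)
    rw [hc] at h4
    omega

include hK hC hφ hspan in
/-- The canonical map has degree `2g - 2`. -/
theorem deg_mapDiv_canonical (hg : 0 < genus k K) :
    (mapDiv k φ).deg = 2 * (genus k K : ℤ) - 2 := by
  rw [mapDiv_canonical hK hC φ hφ hspan hg]
  exact ((isCanonical_iff hK C).1 hC).2

include hK hC hφ hspan in
/-- The canonical map has `g` entries. -/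
theorem card_canonical : n + 1 = genus k K := by
  have h1 := ((isCanonical_iff hK C).1 hC).1
  unfold ell at h1
  rw [← hspan, finrank_span_eq_card hφ, Fintype.card_fin] at h1
  exact h1

end Canonical

section Classical

include hK in
/-- In characteristic `0` or greater than the degree, the orders of `φ` are `(1, …, n)`. -/
theorem isOrders_classical {n : ℕ} (φ : Fin (n + 1) → K) (hφ : LinearIndependent k φ)
    (hchar : ringChar k = 0 ∨ (mapDiv k φ).deg < ringChar k)
    {s : K} {H : K →ₐ[k] K⟦X⟧} (hH : IsHasseFamily s H) :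
    IsOrders K (hcol (AlgHom.id k K) H φ) (fun l : Fin n => (l : ℕ) + 1) := by
  classical
  choose Φ hΦ using fun P : Place k K => exists_expansion hK P
  obtain ⟨P⟩ := exists_place hK
  have hP : IsFixedPt (AlgHom.id k K) P := fun z hz => hz
  refine isOrders_of_criterion hK Φ hΦ φ hφ hchar (AlgHom.id k K) hH P
    hP (fun l : Fin n => (l : ℕ) + 1) ?_ (Or.inl fun l => Nat.succ_pos _) ?_ ?_
  · intro a b hab
    simp only
    have : (a : ℕ) < b := hab
    omega
  · intro J hJ l
    apply strictMono_ge_succ hJ.1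
    intro l'
    by_contra hl
    have hl0 : J l' = 0 := by omega
    have hj : IsJump K (hcol (AlgHom.id k K) H φ) (0 + 1) := (hJ.2 0).mp ⟨l', hl0⟩
    apply hj
    have h10 : hcol (AlgHom.id k K) H φ (0 + 1) = hcol (AlgHom.id k K) H φ 0 := by
      funext i
      show hasseD H 0 (φ i) = φ i
      rw [hasseD_apply, PowerSeries.coeff_zero_eq_constantCoeff_apply, hH.2]
    rw [h10]
    exact Submodule.subset_span ⟨0, by simp, rfl⟩
  · intro J' hJ'mono hJ'pos hJ'char
    apply det_binomMat_succ_ne_zero J' hJ'pos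
    · intro r
      apply natCast_ne_zero_of_lt (hJ'pos r)
      rcases hJ'char with h | h
      · exact Or.inl h
      · exact Or.inr (h r)
    · exact natCast_injective_of_lt J' hJ'mono hJ'char

/-- Order sequences are unique. -/
theorem isOrders_unique {R M : Type*} [Semiring R] [AddCommMonoid M] [Module R M] {c : ℕ → M}
    {n : ℕ} {J J' : Fin n → ℕ} (hJ : IsOrders R c J) (hJ' : IsOrders R c J') : J = J' := by
  apply (StrictMono.range_inj hJ.1 hJ'.1).1
  ext j
  rw [hJ.2 j, hJ'.2 j]

end Classical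

section Local

variable {C : Divisor k K} (hC : IsCanonical k K C) {n : ℕ} (φ : Fin (n + 1) → K)
  (hφ : LinearIndependent k φ) (hspan : Submodule.span k (Set.range φ) = L C)

include hK hC hφ hspan in
/-- The `l`-th order of the canonical map at a place is at most `2(l+1)` (from the gap bound). -/
theorem order_at_le (P : Place k K) {y : K} (hy : y ≠ 0)
    (heff : (1 : K) ∈ Submodule.span k (Set.range (y • φ))) (hnorm : ∀ i, P.1 (y * φ i) ≤ 1)
    {t : K} (ht : P.1 t = exp (-1 : ℤ)) {Ht : K →ₐ[k] K⟦X⟧} (hHt : IsHasseFamily t Ht)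
    {J' : Fin n → ℕ}
    (hJ' : IsOrders (IsLocalRing.ResidueField P.O) (hcolAt P Ht (y • φ)) J')
    (hpos : ∀ l, 1 ≤ J' l) (l : Fin n) : J' l ≤ 2 * ((l : ℕ) + 1) := by
  classical
  have h609 := fun (j : ℕ) (hj : 1 ≤ j) =>
    Groth.Agent.S12609.result k K hK C hC φ hφ hspan P y hy heff hnorm t ht Ht hHt j hj
  have hgap : L (Finsupp.single P (((J' l + 1 : ℕ) : ℤ)) : Divisor k K) =
      L (Finsupp.single P ((((J' l + 1 : ℕ) : ℤ)) - 1)) := by
    have h1 : IsJump (IsLocalRing.ResidueField P.O) (hcolAt P Ht (y • φ)) (J' l + 1) :=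
      (hJ'.2 (J' l)).1 ⟨l, rfl⟩
    have h2 := (h609 (J' l) (hpos l)).1 h1
    have e1 : ((J' l + 1 : ℕ) : ℤ) = (J' l : ℤ) + 1 := by push_cast; ring
    rw [e1, add_sub_cancel_right]
    exact h2
  have h45 := Groth.Agent.S11045.result k K hK P (J' l + 1) (by omega) hgap
  let T : Finset ℕ := insert 1 ((Finset.Iio l).image (fun l' => J' l' + 1))
  have hsub : {m' : ℕ | 1 ≤ m' ∧ m' < J' l + 1 ∧
      L (Finsupp.single P (m' : ℤ) : Divisor k K) = L (Finsupp.single P ((m' : ℤ) - 1))} ⊆
      (T : Set ℕ) := by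
    rintro m' ⟨h1, h2, h3⟩
    by_cases hm1 : m' = 1
    · simp [T, hm1]
    · obtain ⟨j, rfl⟩ : ∃ j, m' = j + 1 := ⟨m' - 1, by omega⟩
      have hj : 1 ≤ j := by omega
      have e2 : ((j + 1 : ℕ) : ℤ) = (j : ℤ) + 1 := by push_cast; ring
      rw [e2, add_sub_cancel_right] at h3
      have hjump := (h609 j hj).2 h3
      obtain ⟨l', hl'⟩ := (hJ'.2 j).2 hjump
      have hlt : l' < l := by
        rw [← hJ'.1.lt_iff_lt, hl']
        omega
      rw [Finset.coe_insert]
      right
      rw [Finset.coe_image]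
      exact ⟨l', Finset.mem_Iio.2 hlt, by simp only [hl']⟩
  have hcard : Set.ncard {m' : ℕ | 1 ≤ m' ∧ m' < J' l + 1 ∧
      L (Finsupp.single P (m' : ℤ) : Divisor k K) = L (Finsupp.single P ((m' : ℤ) - 1))} ≤
      T.card := by
    calc _ ≤ Set.ncard (T : Set ℕ) := Set.ncard_le_ncard hsub T.finite_toSet
      _ = T.card := Set.ncard_coe_finset T
  have hT : T.card ≤ (l : ℕ) + 1 := by
    calc T.card ≤ ((Finset.Iio l).image (fun l' => J' l' + 1)).card + 1 :=
          Finset.card_insert_le _ _
      _ ≤ (Finset.Iio l).card + 1 := Nat.add_le_add_right Finset.card_image_le 1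
      _ = (l : ℕ) + 1 := by rw [Fin.card_Iio]
  omega

variable (Φ : Place k K → (K →ₐ[k] LaurentSeries k))
  (hΦ : ∀ P : Place k K, LocRes.IsExpansionAt P.1 (Φ P))

include hK hC hφ hspan hΦ in
/-- The weight of a place for the canonical map is at most `∑ (l+1) = g(g-1)/2`; if it is equal
then `2` is not a gap number at the place. -/
theorem weight_le (hg : 2 ≤ genus k K)
    (hchar : ringChar k = 0 ∨ 2 * genus k K - 2 < ringChar k)
    {s : K} {H : K →ₐ[k] K⟦X⟧} (hH : IsHasseFamily s H) (P : Place k K) :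
    wDiv (AlgHom.id k K) H Φ s φ (fun l : Fin n => (l : ℕ) + 1) P ≤ ∑ l : Fin n, ((l : ℤ) + 1) ∧
    (wDiv (AlgHom.id k K) H Φ s φ (fun l : Fin n => (l : ℕ) + 1) P = ∑ l : Fin n, ((l : ℤ) + 1) →
      L (Finsupp.single P (2 : ℤ) : Divisor k K) ≠ L (Finsupp.single P (1 : ℤ))) := by
  classical
  have hg0 : 0 < genus k K := by omega
  have hdeg := deg_mapDiv_canonical hK hC φ hφ hspan hg0
  have hcard := card_canonical hK hC φ hφ hspan
  have hchar' : ringChar k = 0 ∨ (mapDiv k φ).deg < ringChar k := by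
    rcases hchar with h | h
    · exact Or.inl h
    · right
      rw [hdeg]
      omega
  have hJ := isOrders_classical hK φ hφ hchar' hH
  obtain ⟨t, Ht, y, hy0, ht, hHt, hli, heff, hnorm, hJloc, hW⟩ :=
    exists_local_model hK Φ hΦ φ hφ (AlgHom.id k K) hH hJ P
  obtain ⟨J', hJ'⟩ := exists_orders_at hK P ht hHt (y • φ) hli heff hnorm
  have hpos := orders_at_pos hK P ht hHt (y • φ) hnorm hJ'
  have hbound : ∀ l, J' l ≤ 2 * ((l : ℕ) + 1) := fun l =>
    order_at_le hK hC φ hφ hspan P hy0 heff hnorm ht hHt hJ' hpos l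
  have hP : IsFixedPt (AlgHom.id k K) P := fun z hz => hz
  have h615 := (Groth.Agent.S12615.result k K hK (AlgHom.id k K) P hP (y • φ) hli heff hnorm t ht
    Ht hHt _ hJloc J' hJ' Φ hΦ).2 (Or.inl rfl)
  have hJ'char : ringChar k = 0 ∨ ∀ l, J' l < ringChar k := by
    rcases hchar with h | h
    · exact Or.inl h
    · right
      intro l
      have h1 := hbound l
      have h2 : (l : ℕ) < n := l.2
      omega
  have hdet : (binomMat k J' (fun l : Fin n => (l : ℕ) + 1)).det ≠ 0 := by
    apply det_binomMat_succ_ne_zero J' hpos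
    · intro r
      apply natCast_ne_zero_of_lt (hpos r)
      rcases hJ'char with h | h
      · exact Or.inl h
      · exact Or.inr (h r)
    · exact natCast_injective_of_lt J' hJ'.1 hJ'char
  have hWP := h615.2 hdet
  rw [← hW, hWP]
  constructor
  · apply Finset.sum_le_sum
    intro l _
    have := hbound l
    push_cast
    omega
  · intro heq
    have hall : ∀ l, J' l = 2 * ((l : ℕ) + 1) := by
      by_contra hcon
      push Not at hcon
      obtain ⟨l0, hl0⟩ := hcon
      have hlt : ∑ l : Fin n, ((J' l : ℤ) - (((l : ℕ) + 1 : ℕ) : ℤ)) < ∑ l : Fin n, ((l : ℤ) + 1) := by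
        apply Finset.sum_lt_sum
        · intro l _
          have := hbound l
          push_cast
          omega
        · refine ⟨l0, Finset.mem_univ _, ?_⟩
          have := hbound l0
          push_cast
          omega
      exact absurd heq hlt.ne
    intro hL
    have h609 := Groth.Agent.S12609.result k K hK C hC φ hφ hspan P y hy0 heff hnorm t ht Ht hHt 1
      le_rfl
    have hjump := h609.2 (by
      have e : ((1 : ℕ) : ℤ) + 1 = 2 := by norm_num
      rw [e]
      exact_mod_cast hL)
    obtain ⟨l', hl'⟩ := (hJ'.2 1).2 hjump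
    have := hall l'
    omega

end Local

section Global

lemma two_mul_sum_succ (n : ℕ) : 2 * ∑ l : Fin n, ((l : ℤ) + 1) = (n : ℤ) * ((n : ℤ) + 1) := by
  induction n with
  | zero => simp
  | succ n ih =>
    rw [Fin.sum_univ_castSucc, mul_add]
    simp only [Fin.val_castSucc, Fin.val_last]
    rw [ih]
    push_cast
    ring

omit [IsAlgClosed k] in
lemma finrank_fieldRange_id : Module.finrank (AlgHom.id k K).fieldRange K = 1 := by
  have h : (AlgHom.id k K).fieldRange = ⊤ := AlgHom.fieldRange_eq_top.2 Function.surjective_id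
  rw [h]
  exact IntermediateField.finrank_top

variable {C : Divisor k K} (hC : IsCanonical k K C) {n : ℕ} (φ : Fin (n + 1) → K)
  (hφ : LinearIndependent k φ) (hspan : Submodule.span k (Set.range φ) = L C)
variable (Φ : Place k K → (K →ₐ[k] LaurentSeries k))
  (hΦ : ∀ P : Place k K, LocRes.IsExpansionAt P.1 (Φ P))

include hK hC hφ hspan hΦ in
/-- The Weierstrass divisor of the canonical map has degree `(g-1)g(g+1)`. -/
theorem deg_wDiv_canonical (hg : 2 ≤ genus k K)
    (hchar : ringChar k = 0 ∨ 2 * genus k K - 2 < ringChar k)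
    {s : K} {H : K →ₐ[k] K⟦X⟧} (hH : IsHasseFamily s H) :
    0 ≤ wDiv (AlgHom.id k K) H Φ s φ (fun l : Fin n => (l : ℕ) + 1) ∧
    (wDiv (AlgHom.id k K) H Φ s φ (fun l : Fin n => (l : ℕ) + 1)).deg =
      ((genus k K : ℤ) - 1) * (genus k K : ℤ) * ((genus k K : ℤ) + 1) := by
  have hg0 : 0 < genus k K := by omega
  have hdeg := deg_mapDiv_canonical hK hC φ hφ hspan hg0
  have hcard := card_canonical hK hC φ hφ hspan
  have hchar' : ringChar k = 0 ∨ (mapDiv k φ).deg < ringChar k := by
    rcases hchar with h | h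
    · exact Or.inl h
    · right
      rw [hdeg]
      omega
  have hJ := isOrders_classical hK φ hφ hchar' hH
  obtain ⟨h1, h2⟩ := Groth.Agent.S12603.result k K hK φ hφ (AlgHom.id k K) s H hH _ hJ Φ hΦ
  refine ⟨h1, ?_⟩
  rw [h2, finrank_fieldRange_id, hdeg]
  have h3 := two_mul_sum_succ n
  have h4 : ∑ l : Fin n, ((((l : ℕ) + 1 : ℕ)) : ℤ) = ∑ l : Fin n, ((l : ℤ) + 1) := by
    apply Finset.sum_congr rfl
    intro l _
    push_cast
    ring
  rw [h4]
  have h5 : (n : ℤ) = (genus k K : ℤ) - 1 := by
    have : ((n + 1 : ℕ) : ℤ) = (genus k K : ℤ) := by rw [hcard]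
    push_cast at this
    linarith
  rw [h5] at h3 ⊢
  push_cast
  have : (2 * (genus k K : ℤ) - 2) * ∑ l : Fin n, ((l : ℤ) + 1) =
      ((genus k K : ℤ) - 1) * (2 * ∑ l : Fin n, ((l : ℤ) + 1)) := by ring
  rw [this, h3]
  ring

include hK hC hφ hspan hΦ in
/-- There are at least `2g + 2` Weierstrass points; if there are exactly `2g + 2`, then `2` is a
non-gap at each of them. -/
theorem card_weier (hg : 2 ≤ genus k K)
    (hchar : ringChar k = 0 ∨ 2 * genus k K - 2 < ringChar k)
    {s : K} {H : K →ₐ[k] K⟦X⟧} (hH : IsHasseFamily s H) :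
    2 * genus k K + 2 ≤
      Set.ncard {P : Place k K | wDiv (AlgHom.id k K) H Φ s φ (fun l : Fin n => (l : ℕ) + 1) P ≠ 0} ∧
    (Set.ncard {P : Place k K | wDiv (AlgHom.id k K) H Φ s φ (fun l : Fin n => (l : ℕ) + 1) P ≠ 0} =
        2 * genus k K + 2 →
      ∀ P : Place k K, wDiv (AlgHom.id k K) H Φ s φ (fun l : Fin n => (l : ℕ) + 1) P ≠ 0 →
        L (Finsupp.single P (2 : ℤ) : Divisor k K) ≠ L (Finsupp.single P (1 : ℤ))) := by
  classical
  obtain ⟨hW0, hWdeg⟩ := deg_wDiv_canonical hK hC φ hφ hspan Φ hΦ hg hchar hH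
  have hwt := fun P => weight_le hK hC φ hφ hspan Φ hΦ hg hchar hH P
  have hcard := card_canonical hK hC φ hφ hspan
  set W := wDiv (AlgHom.id k K) H Φ s φ (fun l : Fin n => (l : ℕ) + 1) with hWdef
  have hset : {P : Place k K | W P ≠ 0} = (W.support : Set (Place k K)) := by
    ext P
    simp [Finsupp.mem_support_iff]
  have hN : Set.ncard {P : Place k K | W P ≠ 0} = W.support.card := by
    rw [hset, Set.ncard_coe_finset]
  have hsum : W.deg = ∑ P ∈ W.support, W P := by
    unfold Divisor.deg Finsupp.sum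
    apply Finset.sum_congr rfl
    intro P _
    show W P * (P.deg : ℤ) = W P
    rw [deg_eq_one_of_isAlgClosed hK P]
    simp
  set M : ℤ := ∑ l : Fin n, ((l : ℤ) + 1) with hM
  have h2M := two_mul_sum_succ n
  have hn : (n : ℤ) = (genus k K : ℤ) - 1 := by
    have : ((n + 1 : ℕ) : ℤ) = (genus k K : ℤ) := by rw [hcard]
    push_cast at this
    linarith
  have hG : (2 : ℤ) ≤ (genus k K : ℤ) := by exact_mod_cast hg
  have hle : W.deg ≤ W.support.card * M := by
    rw [hsum]
    calc ∑ P ∈ W.support, W P ≤ ∑ _P ∈ W.support, M :=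
          Finset.sum_le_sum (fun P _ => (hwt P).1)
      _ = W.support.card * M := by rw [Finset.sum_const, nsmul_eq_mul]
  have hpos : 0 < ((genus k K : ℤ) - 1) * (genus k K : ℤ) := by nlinarith
  have h2Mg : 2 * M = ((genus k K : ℤ) - 1) * (genus k K : ℤ) := by
    rw [← hM] at h2M
    rw [h2M, hn]
    ring
  constructor
  · rw [hN]
    have h1 : 2 * W.deg ≤ W.support.card * (2 * M) := by nlinarith
    rw [hWdeg, h2Mg] at h1
    have h2 : (2 * (genus k K : ℤ) + 2) * (((genus k K : ℤ) - 1) * (genus k K : ℤ)) ≤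
        (W.support.card : ℤ) * (((genus k K : ℤ) - 1) * (genus k K : ℤ)) := by nlinarith
    have h3 := le_of_mul_le_mul_right h2 hpos
    exact_mod_cast h3
  · intro hNeq P hP
    apply (hwt P).2
    by_contra hne
    have hlt : W P < M := lt_of_le_of_ne (hwt P).1 hne
    have hPmem : P ∈ W.support := Finsupp.mem_support_iff.2 hP
    have hslt : ∑ Q ∈ W.support, W Q < ∑ _Q ∈ W.support, M :=
      Finset.sum_lt_sum (fun Q _ => (hwt Q).1) ⟨P, hPmem, hlt⟩
    rw [Finset.sum_const, nsmul_eq_mul, ← hsum, hWdeg] at hslt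
    rw [hN] at hNeq
    rw [hNeq] at hslt
    push_cast at hslt
    nlinarith

end Global

end Groth.Agent.Lib.Helper44.Weier
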