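/-
Weierstrass points and automorphisms: double poles, hyperelliptic involution fixes the Weierstrass
points, automorphisms fixing `2g + 2` Weierstrass points fix the hyperelliptic function.
Author: helper44
-/
import Groth.Agent.Lib.Helper44.FunFldWeier
import Groth.Agent.S11047

set_option autoImplicit false
set_option linter.unusedSectionVars false
set_option linter.style.haveILetI false

namespace Groth.Agent.Lib.Helper44.Weier

open FunFld WithZero LocRes PowerSeries
open Groth.Agent.Lib.Helper88.FF Groth.Agent.Lib.Helper88.TG Groth.Agent.Lib.Helper88.SV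
open Groth.Agent.Lib.Helper44.FFExt Groth.Agent.Lib.Helper91.FunFldAut

variable {k K : Type*} [Field k] [IsAlgClosed k] [Field K] [Algebra k K]
variable (hK : IsFunctionField k K)

include hK in
/-- If `2` is a non-gap at `P`, there is a function with pole divisor `2P`; it has degree `2`. -/
theorem exists_double_pole (P : Place k K)
    (h : L (Finsupp.single P (2 : ℤ) : Divisor k K) ≠ L (Finsupp.single P (1 : ℤ))) :
    ∃ x : K, x ∈ L (Finsupp.single P (2 : ℤ) : Divisor k K) ∧ P.1 x = exp (2 : ℤ) ∧
      Module.finrank (IntermediateField.adjoin k ({x} : Set K)) K = 2 := by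
  classical
  have hle : L (Finsupp.single P (1 : ℤ) : Divisor k K) ≤ L (Finsupp.single P (2 : ℤ)) := by
    apply L_mono
    intro Q
    rw [Finsupp.single_apply, Finsupp.single_apply]
    split_ifs <;> omega
  obtain ⟨x, hx2, hx1⟩ : ∃ x ∈ L (Finsupp.single P (2 : ℤ) : Divisor k K),
      x ∉ L (Finsupp.single P (1 : ℤ) : Divisor k K) := by
    by_contra hcon
    push Not at hcon
    exact h (le_antisymm hcon hle)
  have hx0 : x ≠ 0 := by
    rintro rfl
    exact hx1 (Submodule.zero_mem _)
  have hQle : ∀ Q : Place k K, Q ≠ P → Q.1 x ≤ 1 := by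
    intro Q hQ
    have := hx2 Q
    rwa [Finsupp.single_apply, if_neg (Ne.symm hQ), exp_zero] at this
  have hP : ¬ P.1 x ≤ exp (1 : ℤ) := by
    intro hPle
    apply hx1
    intro Q
    by_cases hQ : Q = P
    · rw [hQ, Finsupp.single_eq_same]
      exact hPle
    · rw [Finsupp.single_apply, if_neg (Ne.symm hQ), exp_zero]
      exact hQle Q hQ
  have hP2 := hx2 P
  rw [Finsupp.single_eq_same] at hP2
  have hord : P.ord x = -2 := by
    rw [val_eq_exp_neg_ord P hx0, exp_le_exp] at hP hP2
    omega
  have hval : P.1 x = exp (2 : ℤ) := by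
    rw [val_eq_exp_neg_ord P hx0, hord]
    rfl
  have hxk : x ∉ Set.range (algebraMap k K) := by
    rintro ⟨c, rfl⟩
    have h1 := P.2.1 c
    rw [hval, ← exp_zero, exp_le_exp] at h1
    omega
  have hxt : Transcendental k x := transcendental_of_not_mem_range hK hxk
  have hpole : ((-FunFld.div k x) ⊔ 0 : Divisor k K) = Finsupp.single P (2 : ℤ) := by
    ext Q
    rw [Finsupp.sup_apply, Finsupp.neg_apply, div_apply hK]
    by_cases hQ : Q = P
    · rw [hQ, hord, Finsupp.single_eq_same]
      simp
    · rw [Finsupp.single_apply, if_neg (Ne.symm hQ)]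
      have h1 := hQle Q hQ
      rw [val_eq_exp_neg_ord Q hx0, ← exp_zero, exp_le_exp] at h1
      simp only [Finsupp.coe_zero, Pi.zero_apply]
      rw [sup_eq_right]
      omega
  have hdeg := deg_poleDiv_eq hK hxt
  rw [hpole, deg_single, deg_eq_one_of_isAlgClosed hK P] at hdeg
  refine ⟨x, hx2, hval, ?_⟩
  have : (Module.finrank (IntermediateField.adjoin k ({x} : Set K)) K : ℤ) = 2 := by
    rw [← hdeg]
    norm_num
  exact_mod_cast this

omit [IsAlgClosed k] in
/-- An automorphism fixing `x` fixes `k(x)` pointwise. -/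
lemma algEquiv_fix_adjoin (σ : K ≃ₐ[k] K) {x : K} (hx : σ x = x) {z : K}
    (hz : z ∈ IntermediateField.adjoin k ({x} : Set K)) : σ z = z := by
  obtain ⟨r, s, rfl⟩ := (IntermediateField.mem_adjoin_simple_iff k z).1 hz
  rw [map_div₀]
  have h1 : σ (Polynomial.aeval x r) = Polynomial.aeval x r := by
    have := Polynomial.aeval_algHom_apply (σ : K →ₐ[k] K) x r
    rw [AlgEquiv.coe_toAlgHom, hx] at this
    exact this.symm
  have h2 : σ (Polynomial.aeval x s) = Polynomial.aeval x s := by
    have := Polynomial.aeval_algHom_apply (σ : K →ₐ[k] K) x s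
    rw [AlgEquiv.coe_toAlgHom, hx] at this
    exact this.symm
  rw [h1, h2]

include hK in
/-- If `σ` fixes the hyperelliptic function `x`, then it fixes every place with a double-pole
function (for genus at least `2`). -/
theorem fixed_of_fix_hyper (hg : 2 ≤ genus k K) (σ : K ≃ₐ[k] K) {x : K}
    (hx : Module.finrank (IntermediateField.adjoin k ({x} : Set K)) K = 2) (hσ : σ x = x)
    (P : Place k K)
    (h : L (Finsupp.single P (2 : ℤ) : Divisor k K) ≠ L (Finsupp.single P (1 : ℤ))) :
    ∀ z : K, P.1 z < 1 → P.1 (σ z) < 1 := by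
  classical
  obtain ⟨x', hx'2, hx'val, hx'deg⟩ := exists_double_pole hK P h
  have hadj := adjoin_eq_of_finrank_two hK hg hx hx'deg
  have hx'mem : x' ∈ IntermediateField.adjoin k ({x} : Set K) := by
    rw [hadj]
    exact IntermediateField.mem_adjoin_simple_self k x'
  have hσx' : σ x' = x' := algEquiv_fix_adjoin σ hσ hx'mem
  rw [fixed_iff]
  by_contra hne
  have h1 := hx'2 (comapPlace σ P)
  rw [Finsupp.single_apply, if_neg (Ne.symm hne), exp_zero, comapPlace_apply, hσx', hx'val,
    ← exp_zero, exp_le_exp] at h1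
  omega

include hK in
/-- If `σ` fixes `P₀` and at least `2` further places, ... more precisely: if `x` has pole divisor
`2P₀` and `σ` fixes `P₀` and all places of a finite set `S` of more than `2` other places, then
`σ x = x`. -/
theorem fix_hyper_of_fixed (σ : K ≃ₐ[k] K) {x : K} (P₀ : Place k K)
    (hx2 : x ∈ L (Finsupp.single P₀ (2 : ℤ) : Divisor k K))
    (hP₀ : ∀ z : K, P₀.1 z < 1 → P₀.1 (σ z) < 1)
    (S : Finset (Place k K)) (hS0 : P₀ ∉ S) (hScard : 2 < S.card)
    (hS : ∀ Q ∈ S, ∀ z : K, Q.1 z < 1 → Q.1 (σ z) < 1) : σ x = x := by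
  classical
  have hfix0 : comapPlace σ P₀ = P₀ := (fixed_iff σ P₀).1 hP₀
  have hfix0' : comapPlace σ.symm P₀ = P₀ := by
    have := congrArg (comapPlace σ.symm) hfix0
    rw [comapPlace_symm_comapPlace] at this
    exact this.symm
  have hQle : ∀ Q : Place k K, Q ≠ P₀ → Q.1 x ≤ 1 := by
    intro Q hQ
    have := hx2 Q
    rwa [Finsupp.single_apply, if_neg (Ne.symm hQ), exp_zero] at this
  have hσx2 : σ x ∈ L (Finsupp.single P₀ (2 : ℤ) : Divisor k K) := by
    intro Q
    have h1 := hx2 (comapPlace σ Q)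
    rw [comapPlace_apply] at h1
    by_cases hQ : Q = P₀
    · rw [hQ, hfix0] at h1
      rw [hQ]
      exact h1
    · have hne : comapPlace σ Q ≠ P₀ := by
        intro heq
        apply hQ
        have := congrArg (comapPlace σ.symm) heq
        rw [comapPlace_symm_comapPlace, hfix0'] at this
        exact this
      rw [Finsupp.single_apply, if_neg (Ne.symm hne)] at h1
      rw [Finsupp.single_apply, if_neg (Ne.symm hQ)]
      exact h1
  have hzero : ∀ Q ∈ S, Q.1 (σ x - x) < 1 := by
    intro Q hQ
    have hQne : Q ≠ P₀ := fun h => hS0 (h ▸ hQ)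
    obtain ⟨c, hc⟩ := Groth.Agent.Lib.Helper68.FunFldRes.exists_const hK Q (hQle Q hQne)
    have h1 := hS Q hQ _ hc
    rw [map_sub, σ.commutes] at h1
    have e : σ x - x = (σ x - algebraMap k K c) - (x - algebraMap k K c) := by ring
    rw [e]
    exact (Q.1.map_sub _ _).trans_lt (max_lt h1 hc)
  set E : Divisor k K := Finsupp.single P₀ (2 : ℤ) - ∑ Q ∈ S, Finsupp.single Q (1 : ℤ) with hE
  have hsumapply : ∀ Q' : Place k K,
      (∑ Q ∈ S, (Finsupp.single Q (1 : ℤ) : Divisor k K)) Q' = if Q' ∈ S then 1 else 0 := by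
    intro Q'
    rw [Finsupp.finsetSum_apply]
    simp only [Finsupp.single_apply]
    rw [Finset.sum_ite_eq' S Q']
  have hmem : σ x - x ∈ L E := by
    intro Q
    rw [hE, Finsupp.sub_apply, hsumapply]
    by_cases hQS : Q ∈ S
    · have hQne : Q ≠ P₀ := fun h => hS0 (h ▸ hQS)
      rw [if_pos hQS, Finsupp.single_apply, if_neg (Ne.symm hQne)]
      have := lt_one_iff_le_exp_neg_one.1 (hzero Q hQS)
      simpa using this
    · rw [if_neg hQS, sub_zero]
      exact (Q.1.map_sub _ _).trans (max_le (hσx2 Q) (hx2 Q))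
  have hdegE : E.deg < 0 := by
    rw [hE, deg_sub, deg_single, deg_eq_one_of_isAlgClosed hK, deg_sum]
    have : ∀ Q ∈ S, Divisor.deg (Finsupp.single Q (1 : ℤ) : Divisor k K) = 1 := by
      intro Q _
      rw [deg_single, deg_eq_one_of_isAlgClosed hK]
      simp
    rw [Finset.sum_congr rfl this, Finset.sum_const]
    simp only [nsmul_eq_mul, mul_one]
    have : (2 : ℤ) < S.card := by exact_mod_cast hScard
    push_cast
    linarith
  have hL := L_eq_bot_of_deg_neg hK hdegE
  rw [hL, Submodule.mem_bot, sub_eq_zero] at hmem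
  exact hmem

end Groth.Agent.Lib.Helper44.Weier
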