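/-
Weierstrass points are intrinsic (gap sequences), hence permuted by automorphisms; finiteness of
the automorphism group for genus `> 1` in characteristic `0` or `> 2g - 2`.
Author: helper44
-/
import Groth.Agent.Lib.Helper44.FunFldWeier2
import Groth.Agent.Lib.Helper44.FunFldHasseExist
import Groth.Agent.Lib.Helper88.FunFldSep
import Groth.Agent.S12618

set_option autoImplicit false
set_option linter.unusedSectionVars false
set_option linter.style.haveILetI false

namespace Groth.Agent.Lib.Helper44.Weier

open FunFld WithZero LocRes PowerSeries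
open Groth.Agent.Lib.Helper88.FF Groth.Agent.Lib.Helper88.TG Groth.Agent.Lib.Helper88.SV
open Groth.Agent.Lib.Helper44.FFExt Groth.Agent.Lib.Helper91.FunFldAut

variable {k K : Type*} [Field k] [IsAlgClosed k] [Field K] [Algebra k K]
variable (hK : IsFunctionField k K)

section Intrinsic

variable {C : Divisor k K} (hC : IsCanonical k K C) {n : ℕ} (φ : Fin (n + 1) → K)
  (hφ : LinearIndependent k φ) (hspan : Submodule.span k (Set.range φ) = L C)
variable (Φ : Place k K → (K →ₐ[k] LaurentSeries k))
  (hΦ : ∀ P : Place k K, LocRes.IsExpansionAt P.1 (Φ P))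

include hK hC hφ hspan hΦ in
/-- The local order sequence of the canonical map at `P`, packaged with the gap description and
the weight formula. -/
theorem exists_local_orders (hg : 2 ≤ genus k K)
    (hchar : ringChar k = 0 ∨ 2 * genus k K - 2 < ringChar k)
    {s : K} {H : K →ₐ[k] K⟦X⟧} (hH : IsHasseFamily s H) (P : Place k K) :
    ∃ J' : Fin n → ℕ, StrictMono J' ∧ (∀ l, 1 ≤ J' l) ∧
      (∀ j : ℕ, 1 ≤ j → (j ∈ Set.range J' ↔
        L (Finsupp.single P ((j : ℤ) + 1) : Divisor k K) = L (Finsupp.single P (j : ℤ)))) ∧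
      wDiv (AlgHom.id k K) H Φ s φ (fun l : Fin n => (l : ℕ) + 1) P =
        ∑ l : Fin n, ((J' l : ℤ) - ((l : ℤ) + 1)) := by
  classical
  have hg0 : 0 < genus k K := by omega
  have hdeg := deg_mapDiv_canonical hK hC φ hφ hspan hg0
  have hcard := card_canonical hK hC φ hφ hspan
  have hchar' : ringChar k = 0 ∨ (mapDiv k φ).deg < ringChar k := by
    rcases hchar with h | h
    · exact Or.inl h
    · right
      rw [hdeg]
      omega
  have hJ := isOrders_classical hK φ hφ hchar' hH
  obtain ⟨t, Ht, y, hy0, ht, hHt, hli, heff, hnorm, hJloc, hW⟩ :=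
    exists_local_model hK Φ hΦ φ hφ (AlgHom.id k K) hH hJ P
  obtain ⟨J', hJ'⟩ := exists_orders_at hK P ht hHt (y • φ) hli heff hnorm
  have hpos := orders_at_pos hK P ht hHt (y • φ) hnorm hJ'
  have hbound : ∀ l, J' l ≤ 2 * ((l : ℕ) + 1) := fun l =>
    order_at_le hK hC φ hφ hspan P hy0 heff hnorm ht hHt hJ' hpos l
  have hP : IsFixedPt (AlgHom.id k K) P := fun z hz => hz
  have h615 := (Groth.Agent.S12615.result k K hK (AlgHom.id k K) P hP (y • φ) hli heff hnorm t ht
    Ht hHt _ hJloc J' hJ' Φ hΦ).2 (Or.inl rfl)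
  have hJ'char : ringChar k = 0 ∨ ∀ l, J' l < ringChar k := by
    rcases hchar with h | h
    · exact Or.inl h
    · right
      intro l
      have h1 := hbound l
      have h2 : (l : ℕ) < n := l.2
      omega
  have hdet : (binomMat k J' (fun l : Fin n => (l : ℕ) + 1)).det ≠ 0 := by
    apply det_binomMat_succ_ne_zero J' hpos
    · intro r
      apply natCast_ne_zero_of_lt (hpos r)
      rcases hJ'char with h | h
      · exact Or.inl h
      · exact Or.inr (h r)
    · exact natCast_injective_of_lt J' hJ'.1 hJ'char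
  have hWP := h615.2 hdet
  refine ⟨J', hJ'.1, hpos, ?_, ?_⟩
  · intro j hj
    rw [hJ'.2 j]
    exact Groth.Agent.S12609.result k K hK C hC φ hφ hspan P y hy0 heff hnorm t ht Ht hHt j hj
  · rw [← hW, hWP]
    apply Finset.sum_congr rfl
    intro l _
    push_cast
    ring

include hK hC hφ hspan hΦ in
/-- `P` is not a Weierstrass point iff `2, …, g` are gap numbers at `P`. -/
theorem wDiv_eq_zero_iff (hg : 2 ≤ genus k K)
    (hchar : ringChar k = 0 ∨ 2 * genus k K - 2 < ringChar k)
    {s : K} {H : K →ₐ[k] K⟦X⟧} (hH : IsHasseFamily s H) (P : Place k K) :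
    wDiv (AlgHom.id k K) H Φ s φ (fun l : Fin n => (l : ℕ) + 1) P = 0 ↔
      ∀ j : ℕ, 1 ≤ j → j ≤ n →
        L (Finsupp.single P ((j : ℤ) + 1) : Divisor k K) = L (Finsupp.single P (j : ℤ)) := by
  classical
  obtain ⟨J', hmono, hpos, hgap, hW⟩ := exists_local_orders hK hC φ hφ hspan Φ hΦ hg hchar hH P
  have hge : ∀ l : Fin n, (l : ℕ) + 1 ≤ J' l := fun l => strictMono_ge_succ hmono hpos l
  rw [hW]
  constructor
  · intro h0 j hj1 hjn
    have hall : ∀ l ∈ (Finset.univ : Finset (Fin n)), ((J' l : ℤ) - ((l : ℤ) + 1)) = 0 := by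
      apply (Finset.sum_eq_zero_iff_of_nonneg ?_).1 h0
      intro l _
      have := hge l
      push_cast
      omega
    rw [← hgap j hj1]
    refine ⟨⟨j - 1, by omega⟩, ?_⟩
    have := hall ⟨j - 1, by omega⟩ (Finset.mem_univ _)
    simp only at this
    omega
  · intro hall
    have hrange : ∀ j : ℕ, 1 ≤ j → j ≤ n → j ∈ Set.range J' := fun j h1 h2 =>
      (hgap j h1).2 (hall j h1 h2)
    have hJ' : ∀ m : ℕ, ∀ hm : m < n, J' ⟨m, hm⟩ = m + 1 := by
      intro m
      induction m using Nat.strong_induction_on with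
      | _ m ih =>
        intro hm
        obtain ⟨l'', hl''⟩ := hrange (m + 1) (by omega) (by omega)
        have h1 := hge ⟨m, hm⟩
        simp only at h1
        rcases lt_trichotomy (l'' : ℕ) m with hlt | heq | hgt
        · have := ih l'' hlt l''.2
          have e : (⟨(l'' : ℕ), l''.2⟩ : Fin n) = l'' := rfl
          rw [e, hl''] at this
          omega
        · have e : l'' = ⟨m, hm⟩ := Fin.ext heq
          rw [← e, hl'']
        · have h2 : J' ⟨m, hm⟩ < J' l'' := hmono (by
            show (⟨m, hm⟩ : Fin n) < l''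
            exact Fin.lt_def.2 hgt)
          omega
    apply Finset.sum_eq_zero
    intro l _
    have := hJ' l l.2
    have e : (⟨(l : ℕ), l.2⟩ : Fin n) = l := rfl
    rw [e] at this
    rw [this]
    push_cast
    ring

end Intrinsic

section Transport

omit [IsAlgClosed k] in
lemma comapPlace_injective (σ : K ≃ₐ[k] K) {P Q : Place k K}
    (h : comapPlace σ P = comapPlace σ Q) : P = Q := by
  have := congrArg (comapPlace σ.symm) h
  rwa [comapPlace_symm_comapPlace, comapPlace_symm_comapPlace] at this

omit [IsAlgClosed k] in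
lemma mem_L_single_comapPlace (σ : K ≃ₐ[k] K) (P : Place k K) (m : ℤ) (x : K) :
    x ∈ L (Finsupp.single (comapPlace σ P) m : Divisor k K) ↔
      σ x ∈ L (Finsupp.single P m : Divisor k K) := by
  classical
  constructor
  · intro h Q
    have h1 := h (comapPlace σ Q)
    rw [comapPlace_apply] at h1
    refine h1.trans (le_of_eq ?_)
    congr 1
    rw [Finsupp.single_apply, Finsupp.single_apply]
    by_cases hPQ : P = Q
    · rw [if_pos hPQ, if_pos (by rw [hPQ])]
    · rw [if_neg hPQ, if_neg (fun h' => hPQ (comapPlace_injective σ h'))]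
  · intro h Q
    have h1 := h (comapPlace σ.symm Q)
    rw [comapPlace_apply, σ.symm_apply_apply] at h1
    refine h1.trans (le_of_eq ?_)
    congr 1
    rw [Finsupp.single_apply, Finsupp.single_apply]
    by_cases hPQ : comapPlace σ P = Q
    · rw [if_pos hPQ, if_pos (by rw [← hPQ, comapPlace_symm_comapPlace])]
    · rw [if_neg hPQ, if_neg (fun h' => hPQ (by rw [h', comapPlace_comapPlace_symm]))]

omit [IsAlgClosed k] in
lemma gap_comapPlace (σ : K ≃ₐ[k] K) (P : Place k K) (a b : ℤ) :
    L (Finsupp.single (comapPlace σ P) a : Divisor k K) = L (Finsupp.single (comapPlace σ P) b) ↔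
      L (Finsupp.single P a : Divisor k K) = L (Finsupp.single P b) := by
  have key : ∀ (τ : K ≃ₐ[k] K) (Q : Place k K),
      L (Finsupp.single Q a : Divisor k K) = L (Finsupp.single Q b) →
      L (Finsupp.single (comapPlace τ Q) a : Divisor k K) =
        L (Finsupp.single (comapPlace τ Q) b) := by
    intro τ Q h
    ext x
    rw [mem_L_single_comapPlace, mem_L_single_comapPlace, h]
  constructor
  · intro h
    have := key σ.symm (comapPlace σ P) h
    rwa [comapPlace_symm_comapPlace] at this
  · exact key σ P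

end Transport

section Finite

omit [IsAlgClosed k] in
/-- Automorphisms fixing `x` with `[K : k(x)] = 2` form a finite set. -/
theorem finite_fix {x : K}
    (hx : Module.finrank (IntermediateField.adjoin k ({x} : Set K)) K = 2) :
    {θ : K ≃ₐ[k] K | θ x = x}.Finite := by
  haveI : FiniteDimensional (IntermediateField.adjoin k ({x} : Set K)) K :=
    Module.finite_of_finrank_pos (by rw [hx]; norm_num)
  let ψ : {θ : K ≃ₐ[k] K | θ x = x} → (K ≃ₐ[IntermediateField.adjoin k ({x} : Set K)] K) :=
    fun θ => AlgEquiv.ofRingEquiv (f := (θ.1 : K ≃+* K))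
      (fun a => algEquiv_fix_adjoin θ.1 θ.2 a.2)
  have hψ : Function.Injective ψ := by
    intro θ θ' h
    apply Subtype.ext
    ext z
    exact congrArg (fun e => e z) h
  exact Set.finite_coe_iff.1 (Finite.of_injective ψ hψ)

include hK in
/-- **Finiteness of the automorphism group** for genus `> 1` in characteristic `0` or
`> 2g - 2`, over an algebraically closed constant field. -/
theorem finite_aut (hg : 1 < genus k K)
    (hchar : ringChar k = 0 ∨ 2 * genus k K - 2 < ringChar k) : Finite (K ≃ₐ[k] K) := by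
  classical
  have hg2 : 2 ≤ genus k K := hg
  have hg0 : 0 < genus k K := by omega
  obtain ⟨C, hC⟩ := exists_isCanonical hK
  obtain ⟨n, hn⟩ : ∃ n, genus k K = n + 1 := ⟨genus k K - 1, by omega⟩
  haveI := finiteDimensional_L hK C
  have hfr : Module.finrank k (L C) = n + 1 := by
    rw [← hn]
    exact ((isCanonical_iff hK C).1 hC).1
  let b := Module.finBasisOfFinrankEq k (L C) hfr
  let φ : Fin (n + 1) → K := fun i => (b i : K)
  have hφ : LinearIndependent k φ :=
    b.linearIndependent.map' (L C).subtype (Submodule.ker_subtype _)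
  have hspan : Submodule.span k (Set.range φ) = L C := by
    have h1 : Set.range φ = (L C).subtype '' Set.range b := by
      ext z
      constructor
      · rintro ⟨i, rfl⟩
        exact ⟨b i, ⟨i, rfl⟩, rfl⟩
      · rintro ⟨_, ⟨i, rfl⟩, rfl⟩
        exact ⟨i, rfl⟩
    rw [h1, ← Submodule.map_span, b.span_eq, Submodule.map_subtype_top]
  obtain ⟨s, hs, hsep⟩ := exists_separating_of_perfectField hK
  haveI := hsep
  obtain ⟨H, hH⟩ := Groth.Agent.Lib.Helper44.HasseExist.exists_isHasseFamily s hs
  choose Φ hΦ using fun P : Place k K => exists_expansion hK P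
  have hdeg := deg_mapDiv_canonical hK hC φ hφ hspan hg0
  have hchar' : ringChar k = 0 ∨ (mapDiv k φ).deg < ringChar k := by
    rcases hchar with h | h
    · exact Or.inl h
    · right
      rw [hdeg]
      omega
  have hJ := isOrders_classical hK φ hφ hchar' hH
  have h618 := Groth.Agent.S12618.result k K hK hg hchar C hC φ hφ hspan s H hH _ hJ Φ hΦ
  set W := wDiv (AlgHom.id k K) H Φ s φ (fun l : Fin n => (l : ℕ) + 1) with hWdef
  have hset : {P : Place k K | W P ≠ 0} = (W.support : Set (Place k K)) := by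
    ext P
    simp [Finsupp.mem_support_iff]
  have hfin : {P : Place k K | W P ≠ 0}.Finite := by
    rw [hset]
    exact W.support.finite_toSet
  have hstab : ∀ (σ : K ≃ₐ[k] K) (P : Place k K), W P ≠ 0 → W (comapPlace σ P) ≠ 0 := by
    intro σ P hP h0
    apply hP
    rw [hWdef, wDiv_eq_zero_iff hK hC φ hφ hspan Φ hΦ hg2 hchar hH] at h0 ⊢
    intro j h1 h2
    exact (gap_comapPlace σ P _ _).1 (h0 j h1 h2)
  have hZ : {θ : K ≃ₐ[k] K | ∀ P : Place k K, W P ≠ 0 →
      IsFixedPt (θ : K →ₐ[k] K) P}.Finite := by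
    rcases h618 with ⟨-, h⟩ | ⟨-, x, hx, h⟩
    · apply (Set.finite_singleton (AlgEquiv.refl : K ≃ₐ[k] K)).subset
      intro θ hθ
      exact h θ hθ
    · apply (finite_fix hx).subset
      intro θ hθ
      exact (h θ).1 hθ
  haveI : Finite {P : Place k K | W P ≠ 0} := hfin.to_subtype
  let ρ : (K ≃ₐ[k] K) → ({P : Place k K | W P ≠ 0} → {P : Place k K | W P ≠ 0}) :=
    fun σ P => ⟨comapPlace σ P.1, hstab σ P.1 P.2⟩
  have huniv : (Set.univ : Set (K ≃ₐ[k] K)).Finite := by
    apply Set.Finite.of_finite_fibers ρ (Set.toFinite _)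
    rintro y ⟨τ, -, rfl⟩
    apply Set.Finite.of_finite_image (f := fun σ : K ≃ₐ[k] K => τ.symm.trans σ)
    · apply hZ.subset
      rintro _ ⟨σ, ⟨-, hσ⟩, rfl⟩
      intro P hP z hz
      show P.1 (σ (τ.symm z)) < 1
      have h1 : comapPlace σ P = comapPlace τ P := by
        have := congrFun hσ ⟨P, hP⟩
        exact congrArg Subtype.val this
      have h2 : P.1 (σ (τ.symm z)) = P.1 (τ (τ.symm z)) := by
        have := congrArg (fun Q : Place k K => Q.1 (τ.symm z)) h1
        simpa using this
      rw [h2, τ.apply_symm_apply]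
      exact hz
    · intro σ _ σ' _ h
      ext z
      have := congrArg (fun e : K ≃ₐ[k] K => e (τ z)) h
      simpa using this
  exact Set.finite_univ_iff.1 huniv

end Finite

end Groth.Agent.Lib.Helper44.Weier
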