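import Groth.Prelude.Def_W4c1limliniiiiRamP1
import Mathlib

/-! Pencils of polynomials with three prescribed ramification points: uniqueness. (helper44)

If `V` is a two-dimensional space of polynomials of degree `≤ d` with non-zero members `F`, `G`, `H`
vanishing to orders `e 0`, `e 1`, `e 2` at three distinct points, `e 0 + e 1 + e 2 = 2d + 1`, then
after scaling `F + G = H`; for two such spaces the polynomial `F G' - F' G` is divisible by a
polynomial of degree `2d + 1`, hence vanishes. -/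

set_option autoImplicit false
set_option linter.style.haveILetI false
set_option linter.unusedSectionVars false

universe u

namespace Groth.Agent.Lib.Helper44.Pencil

open Polynomial W4c1limliniiii

variable {k : Type u} [Field k]

/-! ### Powers of linear factors -/

theorem isCoprime_pow_X_sub_C {a b : k} (hab : a ≠ b) (m n : ℕ) :
    IsCoprime ((X - C a) ^ m) ((X - C b) ^ n) :=
  (isCoprime_X_sub_C_of_isUnit_sub (sub_ne_zero.mpr hab).isUnit).pow

theorem natDegree_X_sub_C_pow (a : k) (m : ℕ) : ((X - C a) ^ m).natDegree = m := by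
  rw [(monic_X_sub_C a).natDegree_pow, natDegree_X_sub_C, mul_one]

theorem X_sub_C_pow_ne_zero (a : k) (m : ℕ) : (X - C a) ^ m ≠ 0 :=
  pow_ne_zero _ (X_sub_C_ne_zero a)

theorem add_le_of_dvd_dvd {a b : k} (hab : a ≠ b) {m n d : ℕ} {s : k[X]} (hs : s ≠ 0)
    (hd : s.natDegree ≤ d) (h1 : (X - C a) ^ m ∣ s) (h2 : (X - C b) ^ n ∣ s) : m + n ≤ d := by
  have h := (isCoprime_pow_X_sub_C hab m n).mul_dvd h1 h2
  have h3 := natDegree_le_of_dvd h hs
  rw [natDegree_mul (X_sub_C_pow_ne_zero a m) (X_sub_C_pow_ne_zero b n),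
    natDegree_X_sub_C_pow, natDegree_X_sub_C_pow] at h3
  omega

theorem ne_of_injective {P : Fin 3 → k} (hP : Function.Injective P) {i j : Fin 3} (hij : i ≠ j) :
    P i ≠ P j := fun h => hij (hP h)

theorem prod3_dvd {P : Fin 3 → k} (hP : Function.Injective P) (n : Fin 3 → ℕ) {Q : k[X]}
    (h : ∀ i, (X - C (P i)) ^ (n i) ∣ Q) :
    (X - C (P 0)) ^ n 0 * ((X - C (P 1)) ^ n 1 * (X - C (P 2)) ^ n 2) ∣ Q := by
  have h01 : P 0 ≠ P 1 := ne_of_injective hP (by decide)
  have h02 : P 0 ≠ P 2 := ne_of_injective hP (by decide)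
  have h12 : P 1 ≠ P 2 := ne_of_injective hP (by decide)
  have c12 := isCoprime_pow_X_sub_C h12 (n 1) (n 2)
  have c0 : IsCoprime ((X - C (P 0)) ^ n 0) ((X - C (P 1)) ^ n 1 * (X - C (P 2)) ^ n 2) :=
    IsCoprime.mul_right (isCoprime_pow_X_sub_C h01 _ _) (isCoprime_pow_X_sub_C h02 _ _)
  exact c0.mul_dvd (h 0) (c12.mul_dvd (h 1) (h 2))

theorem sum3_le_natDegree {P : Fin 3 → k} (hP : Function.Injective P) (n : Fin 3 → ℕ) {Q : k[X]}
    (hQ : Q ≠ 0) (h : ∀ i, (X - C (P i)) ^ (n i) ∣ Q) : n 0 + n 1 + n 2 ≤ Q.natDegree := by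
  have h3 := natDegree_le_of_dvd (prod3_dvd hP n h) hQ
  rw [natDegree_mul (X_sub_C_pow_ne_zero _ _)
      (mul_ne_zero (X_sub_C_pow_ne_zero _ _) (X_sub_C_pow_ne_zero _ _)),
    natDegree_mul (X_sub_C_pow_ne_zero _ _) (X_sub_C_pow_ne_zero _ _),
    natDegree_X_sub_C_pow, natDegree_X_sub_C_pow, natDegree_X_sub_C_pow] at h3
  omega

theorem dvd_smul_of_dvd {p q : k[X]} (c : k) (h : p ∣ q) : p ∣ c • q := by
  rw [smul_eq_C_mul]
  exact h.mul_left _

/-! ### Wronskian identities -/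

theorem wronskian_mul_mul (u F G : k[X]) :
    wronskian (u * F) (u * G) = u ^ 2 * wronskian F G := by
  unfold wronskian
  rw [derivative_mul, derivative_mul]
  ring

theorem wronskian_lin (a1 b1 a2 b2 : k) (F G : k[X]) :
    wronskian (a1 • F + b1 • G) (a2 • F + b2 • G) = (a1 * b2 - a2 * b1) • wronskian F G := by
  simp only [smul_eq_C_mul]
  unfold wronskian
  simp only [derivative_add, derivative_mul, derivative_C, zero_mul, zero_add, C_sub, C_mul]
  ring

/-! ### Spaces with prescribed vanishing -/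

/-- `V` has non-zero members vanishing to order at least `e i` at `P i` -/
def HasVan (V : Submodule k k[X]) (P : Fin 3 → k) (e : Fin 3 → ℕ) : Prop :=
  ∀ i, ∃ s ∈ V, s ≠ 0 ∧ (X - C (P i)) ^ (e i) ∣ s

theorem hasVan_iff {V : Submodule k k[X]} {P : Fin 3 → k} {e : Fin 3 → ℕ} :
    HasVan V P e ↔ ∀ i, ∃ s ∈ V, s ≠ 0 ∧ e i ≤ rootMultiplicity (P i) s := by
  unfold HasVan
  refine forall_congr' fun i => ?_
  constructor
  · rintro ⟨s, hs, hs0, hd⟩
    exact ⟨s, hs, hs0, (le_rootMultiplicity_iff hs0).mpr hd⟩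
  · rintro ⟨s, hs, hs0, hd⟩
    exact ⟨s, hs, hs0, (le_rootMultiplicity_iff hs0).mp hd⟩

theorem natDegree_le_of_mem {d : ℕ} {V : Submodule k k[X]} (hV : V ≤ degreeLE k d) {s : k[X]}
    (hs : s ∈ V) : s.natDegree ≤ d :=
  natDegree_le_of_degree_le (mem_degreeLE.mp (hV hs))

/-- the normalised triple `F`, `G`, `F + G` -/
theorem exists_triple {d : ℕ} {V : Submodule k k[X]} (hV : V ≤ degreeLE k d)
    (h2 : Module.finrank k V = 2) {P : Fin 3 → k} (hP : Function.Injective P) {e : Fin 3 → ℕ}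
    (hsum : ∀ i j, i ≠ j → d + 1 ≤ e i + e j) (hvan : HasVan V P e) :
    ∃ F G : k[X], F ∈ V ∧ G ∈ V ∧ F ≠ 0 ∧ G ≠ 0 ∧ F + G ≠ 0 ∧
      (X - C (P 0)) ^ e 0 ∣ F ∧ (X - C (P 1)) ^ e 1 ∣ G ∧ (X - C (P 2)) ^ e 2 ∣ F + G ∧
      (∀ a b : k, a • F + b • G = 0 → a = 0 ∧ b = 0) ∧
      (∀ s ∈ V, ∃ a b : k, s = a • F + b • G) := by
  obtain ⟨F0, hF0V, hF0, hF0d⟩ := hvan 0
  obtain ⟨G0, hG0V, hG0, hG0d⟩ := hvan 1
  obtain ⟨H0, hH0V, hH0, hH0d⟩ := hvan 2
  -- no non-zero member vanishes at two of the points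
  have hno : ∀ i j : Fin 3, i ≠ j → ∀ s ∈ V, s ≠ 0 → (X - C (P i)) ^ e i ∣ s →
      (X - C (P j)) ^ e j ∣ s → False := by
    intro i j hij s hs hs0 h1 h2
    have h3 := add_le_of_dvd_dvd (ne_of_injective hP hij) hs0 (natDegree_le_of_mem hV hs) h1 h2
    have h4 := hsum i j hij
    omega
  -- independence
  have hind : ∀ a b : k, a • F0 + b • G0 = 0 → a = 0 ∧ b = 0 := by
    intro a b hab
    by_cases ha : a = 0
    · subst ha
      rw [zero_smul, zero_add] at hab
      exact ⟨rfl, (smul_eq_zero.mp hab).resolve_right hG0⟩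
    · exfalso
      have hF : F0 = (-(a⁻¹ * b)) • G0 := by
        have h5 : a • F0 = -(b • G0) := eq_neg_of_add_eq_zero_left hab
        calc F0 = a⁻¹ • (a • F0) := by rw [smul_smul, inv_mul_cancel₀ ha, one_smul]
          _ = a⁻¹ • (-(b • G0)) := by rw [h5]
          _ = (-(a⁻¹ * b)) • G0 := by rw [smul_neg, smul_smul, neg_smul]
      apply hno 0 1 (by decide) F0 hF0V hF0 hF0d
      rw [hF]
      exact dvd_smul_of_dvd _ hG0d
  -- spanning
  have hspan : ∀ s ∈ V, ∃ a b : k, s = a • F0 + b • G0 := by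
    have hli : LinearIndependent k ![F0, G0] := by
      rw [LinearIndependent.pair_iff]
      exact hind
    have hU : Submodule.span k (Set.range ![F0, G0]) = V := by
      haveI : Module.Finite k V := Module.finite_of_finrank_pos (by rw [h2]; norm_num)
      apply Submodule.eq_of_le_of_finrank_eq
      · rw [Submodule.span_le]
        rintro _ ⟨i, rfl⟩
        fin_cases i
        · exact hF0V
        · exact hG0V
      · rw [finrank_span_eq_card hli, h2]
        rfl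
    intro s hs
    rw [← hU] at hs
    obtain ⟨c, hc⟩ := (Submodule.mem_span_range_iff_exists_fun k).mp hs
    refine ⟨c 0, c 1, ?_⟩
    rw [← hc, Fin.sum_univ_two]
    rfl
  obtain ⟨a, b, hab⟩ := hspan H0 hH0V
  have ha : a ≠ 0 := by
    intro ha
    subst ha
    rw [zero_smul, zero_add] at hab
    apply hno 1 2 (by decide) H0 hH0V hH0 _ hH0d
    rw [hab]
    exact dvd_smul_of_dvd _ hG0d
  have hb : b ≠ 0 := by
    intro hb
    subst hb
    rw [zero_smul, add_zero] at hab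
    apply hno 0 2 (by decide) H0 hH0V hH0 _ hH0d
    rw [hab]
    exact dvd_smul_of_dvd _ hF0d
  refine ⟨a • F0, b • G0, V.smul_mem a hF0V, V.smul_mem b hG0V, smul_ne_zero ha hF0,
    smul_ne_zero hb hG0, by rw [← hab]; exact hH0, dvd_smul_of_dvd _ hF0d, dvd_smul_of_dvd _ hG0d,
    by rw [← hab]; exact hH0d, ?_, ?_⟩
  · intro x y hxy
    rw [smul_smul, smul_smul] at hxy
    obtain ⟨h5, h6⟩ := hind _ _ hxy
    exact ⟨(mul_eq_zero.mp h5).resolve_right ha, (mul_eq_zero.mp h6).resolve_right hb⟩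
  · intro s hs
    obtain ⟨x, y, hxy⟩ := hspan s hs
    refine ⟨x * a⁻¹, y * b⁻¹, ?_⟩
    rw [smul_smul, smul_smul, mul_assoc, mul_assoc, inv_mul_cancel₀ ha, inv_mul_cancel₀ hb,
      mul_one, mul_one]
    exact hxy

/-- the cross relation between two normalised triples -/
theorem cross_eq {d : ℕ} {P : Fin 3 → k} (hP : Function.Injective P) {e : Fin 3 → ℕ}
    (he : e 0 + e 1 + e 2 = 2 * d + 1) {F G F' G' : k[X]}
    (hF : F.natDegree ≤ d) (hG : G.natDegree ≤ d) (hF' : F'.natDegree ≤ d)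
    (hG' : G'.natDegree ≤ d)
    (h0 : (X - C (P 0)) ^ e 0 ∣ F) (h1 : (X - C (P 1)) ^ e 1 ∣ G)
    (h2 : (X - C (P 2)) ^ e 2 ∣ F + G)
    (h0' : (X - C (P 0)) ^ e 0 ∣ F') (h1' : (X - C (P 1)) ^ e 1 ∣ G')
    (h2' : (X - C (P 2)) ^ e 2 ∣ F' + G') : F * G' = F' * G := by
  by_contra hne
  have hQ : F * G' - F' * G ≠ 0 := sub_ne_zero.mpr hne
  have hdiv : ∀ i, (X - C (P i)) ^ (e i) ∣ F * G' - F' * G := by
    intro i
    fin_cases i
    · exact dvd_sub (h0.mul_right _) (h0'.mul_right _)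
    · exact dvd_sub (h1'.mul_left _) (h1.mul_left _)
    · have h3 : F * G' - F' * G = F * (F' + G') - F' * (F + G) := by ring
      rw [h3]
      exact dvd_sub (h2'.mul_left _) (h2.mul_left _)
  have h4 := sum3_le_natDegree hP e hQ hdiv
  have h5 : (F * G' - F' * G).natDegree ≤ 2 * d := by
    refine le_trans (natDegree_sub_le _ _) (max_le ?_ ?_)
    · exact le_trans natDegree_mul_le (by omega)
    · exact le_trans natDegree_mul_le (by omega)
  omega

theorem exists_mul_of_cross {F G F' G' : k[X]} (hcop : IsCoprime F G) (hF0 : F ≠ 0)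
    (h : F * G' = F' * G) : ∃ u : k[X], F' = u * F ∧ G' = u * G := by
  have h1 : F ∣ F' * G := ⟨G', h.symm⟩
  obtain ⟨u, hu⟩ := hcop.dvd_of_dvd_mul_right h1
  refine ⟨u, by rw [hu, mul_comm], ?_⟩
  have h2 : F * G' = F * (u * G) := by rw [h, hu]; ring
  exact mul_left_cancel₀ hF0 h2

theorem isCoprime_of_bpf [IsAlgClosed k] {V : Submodule k k[X]} {F G : k[X]}
    (hspan : ∀ s ∈ V, ∃ a b : k, s = a • F + b • G) (hbpf : ∀ a : k, ∃ s ∈ V, s.eval a ≠ 0) :
    IsCoprime F G := by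
  rw [Polynomial.isCoprime_iff_aeval_ne_zero_of_isAlgClosed k k]
  intro a
  by_contra hcon
  push Not at hcon
  obtain ⟨s, hs, hsa⟩ := hbpf a
  obtain ⟨x, y, rfl⟩ := hspan s hs
  apply hsa
  have h1 : F.eval a = 0 := by rw [← coe_aeval_eq_eval]; exact hcon.1
  have h2 : G.eval a = 0 := by rw [← coe_aeval_eq_eval]; exact hcon.2
  rw [eval_add, eval_smul, eval_smul, h1, h2, smul_zero, smul_zero, add_zero]

theorem hsum_of {d : ℕ} {e : Fin 3 → ℕ} (he : e 0 + e 1 + e 2 = 2 * d + 1) (hed : ∀ i, e i ≤ d) :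
    ∀ i j : Fin 3, i ≠ j → d + 1 ≤ e i + e j := by
  have h0 := hed 0
  have h1 := hed 1
  have h2 := hed 2
  intro i j hij
  have h3 : ∀ i : Fin 3, i = 0 ∨ i = 1 ∨ i = 2 := by decide
  rcases h3 i with rfl | rfl | rfl <;> rcases h3 j with rfl | rfl | rfl <;>
    first | exact absurd rfl hij | omega

theorem hasVan_of_ramMaps {d : ℕ} {P : Fin 3 → k} {e : Fin 3 → ℕ} {V : Submodule k k[X]}
    (hV : V ∈ ramMaps d P e) : HasVan V P e := by
  rw [hasVan_iff]
  intro i
  exact (hV.2.2 i).1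

/-- one inclusion between two pencils with the same ramification -/
theorem le_of_ramMaps [IsAlgClosed k] {d : ℕ} {P : Fin 3 → k} (hP : Function.Injective P)
    {e : Fin 3 → ℕ} (he : e 0 + e 1 + e 2 = 2 * d + 1) (hed : ∀ i, e i ≤ d)
    {V V' : Submodule k k[X]} (hV : V ∈ ramMaps d P e) (hV' : V' ∈ ramMaps d P e) : V' ≤ V := by
  obtain ⟨F, G, hFV, hGV, hF0, hG0, hH0, h0, h1, h2, hind, hspan⟩ :=
    exists_triple hV.1.1 hV.1.2.1 hP (hsum_of he hed) (hasVan_of_ramMaps hV)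
  obtain ⟨F', G', hFV', hGV', hF0', hG0', hH0', h0', h1', h2', hind', hspan'⟩ :=
    exists_triple hV'.1.1 hV'.1.2.1 hP (hsum_of he hed) (hasVan_of_ramMaps hV')
  have hc := cross_eq hP he (natDegree_le_of_mem hV.1.1 hFV) (natDegree_le_of_mem hV.1.1 hGV)
    (natDegree_le_of_mem hV'.1.1 hFV') (natDegree_le_of_mem hV'.1.1 hGV') h0 h1 h2 h0' h1' h2'
  have hcop := isCoprime_of_bpf hspan hV.1.2.2.2
  have hcop' := isCoprime_of_bpf hspan' hV'.1.2.2.2
  obtain ⟨u, hu1, hu2⟩ := exists_mul_of_cross hcop hF0 hc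
  have huu : IsUnit u := hcop'.isUnit_of_dvd' ⟨F, by rw [hu1]⟩ ⟨G, by rw [hu2]⟩
  obtain ⟨c, _, rfl⟩ := Polynomial.isUnit_iff.mp huu
  intro s hs
  obtain ⟨x, y, rfl⟩ := hspan' s hs
  rw [hu1, hu2, ← smul_eq_C_mul, ← smul_eq_C_mul]
  exact V.add_mem (V.smul_mem _ (V.smul_mem _ hFV)) (V.smul_mem _ (V.smul_mem _ hGV))

/-- **uniqueness** -/
theorem ramMaps_subsingleton [IsAlgClosed k] {d : ℕ} {P : Fin 3 → k} (hP : Function.Injective P)
    {e : Fin 3 → ℕ} (he : e 0 + e 1 + e 2 = 2 * d + 1) (hed : ∀ i, e i ≤ d) :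
    (ramMaps d P e).Subsingleton := by
  intro V hV V' hV'
  exact le_antisymm (le_of_ramMaps hP he hed hV' hV) (le_of_ramMaps hP he hed hV hV')

/-- a separable pencil with the given ramification excludes an inseparable space with at least
this ramification -/
theorem false_of_insep [IsAlgClosed k] {d : ℕ} {P : Fin 3 → k} (hP : Function.Injective P)
    {e : Fin 3 → ℕ} (he : e 0 + e 1 + e 2 = 2 * d + 1) (hed : ∀ i, e i ≤ d)
    {V : Submodule k k[X]} (hV : V ∈ ramMaps d P e) {V' : Submodule k k[X]}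
    (hV' : V' ≤ degreeLE k d) (h2' : Module.finrank k V' = 2) (hins : ¬ IsSeparable V')
    (hvan : HasVan V' P e) : False := by
  obtain ⟨F, G, hFV, hGV, hF0, hG0, hH0, h0, h1, h2, hind, hspan⟩ :=
    exists_triple hV.1.1 hV.1.2.1 hP (hsum_of he hed) (hasVan_of_ramMaps hV)
  obtain ⟨F', G', hFV', hGV', hF0', hG0', hH0', h0', h1', h2', hind', hspan'⟩ :=
    exists_triple hV' h2' hP (hsum_of he hed) hvan
  have hc := cross_eq hP he (natDegree_le_of_mem hV.1.1 hFV) (natDegree_le_of_mem hV.1.1 hGV)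
    (natDegree_le_of_mem hV' hFV') (natDegree_le_of_mem hV' hGV') h0 h1 h2 h0' h1' h2'
  have hcop := isCoprime_of_bpf hspan hV.1.2.2.2
  obtain ⟨u, hu1, hu2⟩ := exists_mul_of_cross hcop hF0 hc
  have hu0 : u ≠ 0 := by
    intro h
    rw [h, zero_mul] at hu1
    exact hF0' hu1
  -- the Wronskian of the basis of `V` does not vanish
  have hW : wronskian F G ≠ 0 := by
    obtain ⟨A, hA, B, hB, hAB⟩ := hV.2.1
    obtain ⟨a1, b1, rfl⟩ := hspan A hA
    obtain ⟨a2, b2, rfl⟩ := hspan B hB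
    intro h
    apply hAB
    rw [wronskian_lin, h, smul_zero]
  -- the Wronskian of the basis of `V'` vanishes
  have hW' : wronskian F' G' = 0 := by
    by_contra h
    exact hins ⟨F', hFV', G', hGV', h⟩
  rw [hu1, hu2, wronskian_mul_mul] at hW'
  exact mul_ne_zero (pow_ne_zero 2 hu0) hW hW'

end Groth.Agent.Lib.Helper44.Pencil
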