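import Groth.Agent.Lib.Helper44.Pencil

/-! Pencils of polynomials with three prescribed ramification points: existence, through the
degree of the Wronskian. (helper44) -/

set_option autoImplicit false
set_option linter.style.haveILetI false
set_option linter.unusedSectionVars false

universe u

namespace Groth.Agent.Lib.Helper44.Pencil

open Polynomial W4c1limliniiii

variable {k : Type u} [Field k]

/-! ### Divisibility of the Wronskian -/

theorem dvd_of_dvd_smul {c : k} (hc : c ≠ 0) {p q : k[X]} (h : p ∣ c • q) : p ∣ q := by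
  have h1 : q = c⁻¹ • (c • q) := by rw [smul_smul, inv_mul_cancel₀ hc, one_smul]
  rw [h1]
  exact dvd_smul_of_dvd _ h

theorem dvd_derivative_of_pow_succ_dvd (a : k) {n : ℕ} {s : k[X]} (h : (X - C a) ^ (n + 1) ∣ s) :
    (X - C a) ^ n ∣ derivative s := by
  obtain ⟨q, rfl⟩ := h
  rw [derivative_mul, derivative_X_sub_C_pow, Nat.add_sub_cancel]
  refine dvd_add ?_ ?_
  · exact Dvd.dvd.mul_right (Dvd.dvd.mul_left (dvd_refl _) _) _
  · exact Dvd.dvd.mul_right (pow_dvd_pow _ (Nat.le_succ n)) _

theorem dvd_wronskian_of_dvd (a : k) {m : ℕ} {s : k[X]} (t : k[X]) (h : (X - C a) ^ m ∣ s) :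
    (X - C a) ^ (m - 1) ∣ wronskian s t := by
  rcases m with _ | n
  · simp
  · rw [Nat.add_sub_cancel]
    unfold wronskian
    refine dvd_sub ?_ ?_
    · exact Dvd.dvd.mul_right ((pow_dvd_pow _ (Nat.le_succ n)).trans h) _
    · exact Dvd.dvd.mul_right (dvd_derivative_of_pow_succ_dvd a h) _

theorem dvd_wronskian_of_dvd_of_dvd (a : k) {m : ℕ} {s t : k[X]} (h : (X - C a) ^ m ∣ s)
    (ht : (X - C a) ∣ t) : (X - C a) ^ m ∣ wronskian s t := by
  rcases m with _ | n
  · simp
  · unfold wronskian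
    refine dvd_sub ?_ ?_
    · exact Dvd.dvd.mul_right h _
    · rw [pow_succ]
      exact mul_dvd_mul (dvd_derivative_of_pow_succ_dvd a h) ht

theorem sq_dvd_wronskian (a : k) {F G : k[X]} (hF : (X - C a) ∣ F) (hG : (X - C a) ∣ G) :
    (X - C a) ^ 2 ∣ wronskian F G := by
  obtain ⟨F2, rfl⟩ := hF
  obtain ⟨G2, rfl⟩ := hG
  rw [wronskian_mul_mul]
  exact Dvd.intro _ rfl

/-- a non-zero member of the span of `F`, `G` vanishing to order `m` forces the Wronskian of the
basis to vanish to order `m - 1` -/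
theorem dvd_wronskian_basis (a : k) {m : ℕ} {F G : k[X]} {x y : k}
    (hs0 : x • F + y • G ≠ 0) (h : (X - C a) ^ m ∣ x • F + y • G) :
    (X - C a) ^ (m - 1) ∣ wronskian F G := by
  by_cases hy : y = 0
  · have hx : x ≠ 0 := by
      intro hx
      apply hs0
      rw [hx, hy, zero_smul, zero_smul, add_zero]
    have h1 := dvd_wronskian_of_dvd a G h
    have h2 : wronskian (x • F + y • G) G = x • wronskian F G := by
      have := wronskian_lin x y 0 1 F G
      rw [zero_smul, one_smul, zero_add] at this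
      rw [this]
      congr 1
      ring
    rw [h2] at h1
    exact dvd_of_dvd_smul hx h1
  · have h1 := dvd_wronskian_of_dvd a F h
    have h2 : wronskian (x • F + y • G) F = (-y) • wronskian F G := by
      have := wronskian_lin x y 1 0 F G
      rw [zero_smul, one_smul, add_zero] at this
      rw [this]
      congr 1
      ring
    rw [h2] at h1
    exact dvd_of_dvd_smul (neg_ne_zero.mpr hy) h1

/-- the same with a base point: one order more -/
theorem dvd_wronskian_basis' (a : k) {m : ℕ} {F G : k[X]} {x y : k}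
    (hF : (X - C a) ∣ F) (hG : (X - C a) ∣ G)
    (hs0 : x • F + y • G ≠ 0) (h : (X - C a) ^ m ∣ x • F + y • G) :
    (X - C a) ^ m ∣ wronskian F G := by
  by_cases hy : y = 0
  · have hx : x ≠ 0 := by
      intro hx
      apply hs0
      rw [hx, hy, zero_smul, zero_smul, add_zero]
    have h1 := dvd_wronskian_of_dvd_of_dvd a h hG
    have h2 : wronskian (x • F + y • G) G = x • wronskian F G := by
      have := wronskian_lin x y 0 1 F G
      rw [zero_smul, one_smul, zero_add] at this
      rw [this]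
      congr 1
      ring
    rw [h2] at h1
    exact dvd_of_dvd_smul hx h1
  · have h1 := dvd_wronskian_of_dvd_of_dvd a h hF
    have h2 : wronskian (x • F + y • G) F = (-y) • wronskian F G := by
      have := wronskian_lin x y 1 0 F G
      rw [zero_smul, one_smul, add_zero] at this
      rw [this]
      congr 1
      ring
    rw [h2] at h1
    exact dvd_of_dvd_smul (neg_ne_zero.mpr hy) h1

/-! ### The degree of the Wronskian -/

theorem natDegree_wronskian_add_two_le {D : ℕ} {F G : k[X]} (hF : F.natDegree ≤ D)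
    (hG : G.natDegree ≤ D) (hW : wronskian F G ≠ 0) : (wronskian F G).natDegree + 2 ≤ 2 * D := by
  have hF0 : F ≠ 0 := by
    intro h; rw [h, wronskian_zero_left] at hW; exact hW rfl
  have hG0 : G ≠ 0 := by
    intro h; rw [h, wronskian_zero_right] at hW; exact hW rfl
  by_cases hne : F.natDegree = G.natDegree
  · -- cancel the leading term
    set c : k := G.leadingCoeff / F.leadingCoeff with hc
    have hlF : F.leadingCoeff ≠ 0 := leadingCoeff_ne_zero.mpr hF0
    have hlG : G.leadingCoeff ≠ 0 := leadingCoeff_ne_zero.mpr hG0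
    have hc0 : c ≠ 0 := div_ne_zero hlG hlF
    set G2 : k[X] := G - c • F with hG2
    have hW2 : wronskian F G2 = wronskian F G := by
      have := wronskian_lin 1 0 (-c) 1 F G
      rw [one_smul, zero_smul, add_zero, one_smul, neg_smul, neg_add_eq_sub] at this
      rw [hG2, this]
      have h1 : (1 * 1 - -c * 0 : k) = 1 := by ring
      rw [h1, one_smul]
    have hdeg : (c • F).degree = G.degree := by
      rw [smul_eq_C_mul, degree_C_mul hc0, degree_eq_natDegree hF0, degree_eq_natDegree hG0, hne]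
    have hlc : G.leadingCoeff = (c • F).leadingCoeff := by
      rw [smul_eq_C_mul, leadingCoeff_mul, leadingCoeff_C, hc, div_mul_cancel₀ _ hlF]
    have hlt : G2.degree < G.degree := degree_sub_lt_left hdeg.symm hG0 hlc
    have hG20 : G2 ≠ 0 := by
      intro h
      rw [h, wronskian_zero_right] at hW2
      exact hW hW2.symm
    have hlt' : G2.natDegree < G.natDegree := natDegree_lt_natDegree hG20 hlt
    have h3 := natDegree_wronskian_lt_add (hW2 ▸ hW : wronskian F G2 ≠ 0)
    rw [hW2] at h3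
    omega
  · have h3 := natDegree_wronskian_lt_add hW
    omega

theorem count3 {D : ℕ} {F G : k[X]} (hF : F.natDegree ≤ D) (hG : G.natDegree ≤ D)
    (hW : wronskian F G ≠ 0) {P : Fin 3 → k} (hP : Function.Injective P) (n : Fin 3 → ℕ)
    (h : ∀ i, (X - C (P i)) ^ (n i) ∣ wronskian F G) : n 0 + n 1 + n 2 + 2 ≤ 2 * D := by
  have h1 := sum3_le_natDegree hP n hW h
  have h2 := natDegree_wronskian_add_two_le hF hG hW
  omega

theorem count4 {D : ℕ} {F G : k[X]} (hF : F.natDegree ≤ D) (hG : G.natDegree ≤ D)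
    (hW : wronskian F G ≠ 0) {P : Fin 3 → k} (hP : Function.Injective P) (n : Fin 3 → ℕ)
    (h : ∀ i, (X - C (P i)) ^ (n i) ∣ wronskian F G) {a : k} (ha : ∀ i, a ≠ P i)
    (h' : (X - C a) ^ 2 ∣ wronskian F G) : n 0 + n 1 + n 2 + 2 + 2 ≤ 2 * D := by
  have hp := prod3_dvd hP n h
  have hc : IsCoprime ((X - C a) ^ 2)
      ((X - C (P 0)) ^ n 0 * ((X - C (P 1)) ^ n 1 * (X - C (P 2)) ^ n 2)) :=
    IsCoprime.mul_right (isCoprime_pow_X_sub_C (ha 0) _ _)
      (IsCoprime.mul_right (isCoprime_pow_X_sub_C (ha 1) _ _) (isCoprime_pow_X_sub_C (ha 2) _ _))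
  have h3 := natDegree_le_of_dvd (hc.mul_dvd h' hp) hW
  rw [natDegree_mul (X_sub_C_pow_ne_zero _ _) (mul_ne_zero (X_sub_C_pow_ne_zero _ _)
      (mul_ne_zero (X_sub_C_pow_ne_zero _ _) (X_sub_C_pow_ne_zero _ _))),
    natDegree_mul (X_sub_C_pow_ne_zero _ _)
      (mul_ne_zero (X_sub_C_pow_ne_zero _ _) (X_sub_C_pow_ne_zero _ _)),
    natDegree_mul (X_sub_C_pow_ne_zero _ _) (X_sub_C_pow_ne_zero _ _),
    natDegree_X_sub_C_pow, natDegree_X_sub_C_pow, natDegree_X_sub_C_pow,
    natDegree_X_sub_C_pow] at h3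
  have h2 := natDegree_wronskian_add_two_le hF hG hW
  omega

theorem fin3_cases (i : Fin 3) : i = 0 ∨ i = 1 ∨ i = 2 := by
  revert i; decide

/-! ### A separable space with the required vanishing is a pencil with exact ramification -/

theorem mem_ramMaps_of_sep {d : ℕ} {P : Fin 3 → k} (hP : Function.Injective P)
    {e : Fin 3 → ℕ} (he : e 0 + e 1 + e 2 = 2 * d + 1) (hed : ∀ i, e i ≤ d)
    (he1 : ∀ i, 1 ≤ e i) {V : Submodule k k[X]}
    (hV : V ≤ degreeLE k d) (h2 : Module.finrank k V = 2) (hsep : IsSeparable V)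
    (hvan : HasVan V P e) : V ∈ ramMaps d P e := by
  obtain ⟨F, G, hFV, hGV, hF0, hG0, hH0, h0, h1, h2', hind, hspan⟩ :=
    exists_triple hV h2 hP (hsum_of he hed) hvan
  have hW : wronskian F G ≠ 0 := by
    obtain ⟨A, hA, B, hB, hAB⟩ := hsep
    obtain ⟨a1, b1, rfl⟩ := hspan A hA
    obtain ⟨a2, b2, rfl⟩ := hspan B hB
    intro h
    apply hAB
    rw [wronskian_lin, h, smul_zero]
  have hFd := natDegree_le_of_mem hV hFV
  have hGd := natDegree_le_of_mem hV hGV
  have h0e := he1 0
  have h1e := he1 1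
  have h2e := he1 2
  -- basic divisibility of the Wronskian
  have hbase : ∀ i, (X - C (P i)) ^ (e i - 1) ∣ wronskian F G := by
    intro i
    obtain ⟨s, hs, hs0, hsd⟩ := hvan i
    obtain ⟨x, y, rfl⟩ := hspan s hs
    exact dvd_wronskian_basis (P i) hs0 hsd
  -- one order more at one of the points is impossible
  have hmore : ∀ i, ¬ (X - C (P i)) ^ (e i) ∣ wronskian F G := by
    intro i hi
    have h3 := count3 hFd hGd hW hP (Function.update (fun j => e j - 1) i (e i)) (by
      intro j
      by_cases hj : j = i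
      · subst hj
        rw [Function.update_self]
        exact hi
      · rw [Function.update_of_ne hj]
        exact hbase j)
    rcases fin3_cases i with rfl | rfl | rfl
    · rw [Function.update_self, Function.update_of_ne (by decide),
        Function.update_of_ne (by decide)] at h3
      omega
    · rw [Function.update_self, Function.update_of_ne (by decide),
        Function.update_of_ne (by decide)] at h3
      omega
    · rw [Function.update_self, Function.update_of_ne (by decide),
        Function.update_of_ne (by decide)] at h3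
      omega
  refine ⟨⟨hV, h2, ?_, ?_⟩, hsep, ?_⟩
  · -- a member of degree exactly `d`
    by_contra hcon
    push Not at hcon
    have hd1 : 1 ≤ d := le_trans (he1 0) (hed 0)
    have hF' : F.natDegree ≤ d - 1 := by
      have := hcon F hFV
      omega
    have hG' : G.natDegree ≤ d - 1 := by
      have := hcon G hGV
      omega
    have h3 := count3 hF' hG' hW hP (fun j => e j - 1) hbase
    omega
  · -- no base point
    intro a
    by_contra hcon
    push Not at hcon
    have hFa : (X - C a) ∣ F := dvd_iff_isRoot.mpr (hcon F hFV)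
    have hGa : (X - C a) ∣ G := dvd_iff_isRoot.mpr (hcon G hGV)
    by_cases hmem : ∃ i, a = P i
    · obtain ⟨i, rfl⟩ := hmem
      apply hmore i
      obtain ⟨s, hs, hs0, hsd⟩ := hvan i
      obtain ⟨x, y, rfl⟩ := hspan s hs
      exact dvd_wronskian_basis' (P i) hFa hGa hs0 hsd
    · push Not at hmem
      have h3 := count4 hFd hGd hW hP (fun j => e j - 1) hbase hmem (sq_dvd_wronskian a hFa hGa)
      omega
  · -- exact ramification
    intro i
    refine ⟨(hasVan_iff.mp hvan) i, ?_⟩
    intro s hs hs0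
    by_contra hcon
    push Not at hcon
    apply hmore i
    have hsd : (X - C (P i)) ^ (e i + 1) ∣ s := (le_rootMultiplicity_iff hs0).mp hcon
    obtain ⟨x, y, rfl⟩ := hspan s hs
    have := dvd_wronskian_basis (P i) hs0 hsd
    rwa [Nat.add_sub_cancel] at this

/-! ### Existence of a space with the required vanishing -/

/-- the polynomial with given coefficient vector -/
noncomputable def toPoly (m : ℕ) : (Fin m → k) →ₗ[k] k[X] :=
  (degreeLT k m).subtype ∘ₗ (degreeLTEquiv k m).symm.toLinearMap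

theorem toPoly_mem (m : ℕ) (c : Fin m → k) : toPoly m c ∈ degreeLT k m :=
  ((degreeLTEquiv k m).symm c).2

theorem toPoly_injective (m : ℕ) : Function.Injective (toPoly (k := k) m) := by
  intro c c' h
  apply (degreeLTEquiv k m).symm.injective
  exact Subtype.ext h

theorem natDegree_toPoly_lt {m : ℕ} {c : Fin m → k} (h : toPoly m c ≠ 0) :
    (toPoly m c).natDegree < m :=
  (natDegree_lt_iff_degree_lt h).mpr (mem_degreeLT.mp (toPoly_mem m c))

theorem exists_ne_zero_ker {M : Type*} [AddCommGroup M] [Module k M] [FiniteDimensional k M]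
    (f : M →ₗ[k] k[X]) (n : ℕ) (hr : ∀ x, f x ∈ degreeLT k n) (hdim : n < Module.finrank k M) :
    ∃ x, x ≠ 0 ∧ f x = 0 := by
  haveI : Module.Finite k ↥(degreeLT k n) := Module.Finite.equiv (degreeLTEquiv k n).symm
  let g : M →ₗ[k] ↥(degreeLT k n) := f.codRestrict _ hr
  have hfr : Module.finrank k ↥(degreeLT k n) = n := by
    rw [(degreeLTEquiv k n).finrank_eq, Module.finrank_fin_fun]
  have hker : LinearMap.ker g ≠ ⊥ := LinearMap.ker_ne_bot_of_finrank_lt (by rw [hfr]; exact hdim)
  obtain ⟨x, hx, hx0⟩ := (Submodule.ne_bot_iff _).mp hker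
  refine ⟨x, hx0, ?_⟩
  have := congrArg Subtype.val (LinearMap.mem_ker.mp hx)
  exact this

theorem eq_zero_of_pow_mul_eq {a b : k} (hab : a ≠ b) {m n : ℕ} {u v : k[X]}
    (h : (X - C a) ^ m * u = (X - C b) ^ n * v) (hu : u = 0 ∨ u.natDegree < n) :
    u = 0 ∧ v = 0 := by
  have hu0 : u = 0 := by
    rcases hu with hu | hu
    · exact hu
    · have h1 : (X - C b) ^ n ∣ (X - C a) ^ m * u := ⟨v, h⟩
      have h2 : (X - C b) ^ n ∣ u :=
        (isCoprime_pow_X_sub_C (Ne.symm hab) n m).dvd_of_dvd_mul_left h1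
      apply eq_zero_of_dvd_of_natDegree_lt h2
      rw [natDegree_X_sub_C_pow]
      exact hu
  refine ⟨hu0, ?_⟩
  rw [hu0, mul_zero] at h
  exact (mul_eq_zero.mp h.symm).resolve_left (X_sub_C_pow_ne_zero b n)

theorem indep_of_van {d : ℕ} {a b : k} (hab : a ≠ b) {m n : ℕ} (hmn : d + 1 ≤ m + n)
    {F G : k[X]} (hF0 : F ≠ 0) (hG0 : G ≠ 0) (hFd : F.natDegree ≤ d)
    (hF : (X - C a) ^ m ∣ F) (hG : (X - C b) ^ n ∣ G) :
    ∀ x y : k, x • F + y • G = 0 → x = 0 ∧ y = 0 := by
  intro x y hxy
  by_cases hx : x = 0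
  · subst hx
    rw [zero_smul, zero_add] at hxy
    exact ⟨rfl, (smul_eq_zero.mp hxy).resolve_right hG0⟩
  · exfalso
    have hFe : F = (-(x⁻¹ * y)) • G := by
      have h5 : x • F = -(y • G) := eq_neg_of_add_eq_zero_left hxy
      calc F = x⁻¹ • (x • F) := by rw [smul_smul, inv_mul_cancel₀ hx, one_smul]
        _ = x⁻¹ • (-(y • G)) := by rw [h5]
        _ = (-(x⁻¹ * y)) • G := by rw [smul_neg, smul_smul, neg_smul]
    have h3 := add_le_of_dvd_dvd hab hF0 hFd hF (by rw [hFe]; exact dvd_smul_of_dvd _ hG)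
    omega

/-- a two-dimensional space with the required vanishing always exists -/
theorem exists_van {d : ℕ} {P : Fin 3 → k} (hP : Function.Injective P)
    {e : Fin 3 → ℕ} (he : e 0 + e 1 + e 2 = 2 * d + 1) (hed : ∀ i, e i ≤ d) :
    ∃ V : Submodule k k[X], V ≤ degreeLE k d ∧ Module.finrank k V = 2 ∧ HasVan V P e := by
  have h01 : P 0 ≠ P 1 := ne_of_injective hP (by decide)
  have h02 : P 0 ≠ P 2 := ne_of_injective hP (by decide)
  have h12 : P 1 ≠ P 2 := ne_of_injective hP (by decide)
  have hd0 := hed 0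
  have hd1 := hed 1
  have hd2 := hed 2
  set p0 : k[X] := (X - C (P 0)) ^ e 0 with hp0
  set p1 : k[X] := (X - C (P 1)) ^ e 1 with hp1
  set p2 : k[X] := (X - C (P 2)) ^ e 2 with hp2
  set m0 := d + 1 - e 0 with hm0
  set m1 := d + 1 - e 1 with hm1
  set m2 := d + 1 - e 2 with hm2
  let f : ((Fin m0 → k) × (Fin m1 → k) × (Fin m2 → k)) →ₗ[k] k[X] :=
    ((LinearMap.mulLeft k p0).comp (toPoly m0)).comp (LinearMap.fst k _ _) +
      (((LinearMap.mulLeft k p1).comp (toPoly m1)).comp (LinearMap.fst k _ _)).comp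
        (LinearMap.snd k _ _) -
      (((LinearMap.mulLeft k p2).comp (toPoly m2)).comp (LinearMap.snd k _ _)).comp
        (LinearMap.snd k _ _)
  have hf : ∀ x, f x = p0 * toPoly m0 x.1 + p1 * toPoly m1 x.2.1 - p2 * toPoly m2 x.2.2 :=
    fun x => rfl
  have hdeg : ∀ (a : k) (e' m : ℕ) (c : Fin m → k), e' + m ≤ d + 1 →
      (X - C a) ^ e' * toPoly m c ∈ degreeLT k (d + 1) := by
    intro a e' m c hem
    rw [mem_degreeLT]
    by_cases hc : toPoly m c = 0
    · rw [hc, mul_zero, degree_zero]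
      exact WithBot.bot_lt_coe _
    · have h1 := natDegree_toPoly_lt hc
      have h2 : ((X - C a) ^ e' * toPoly m c).natDegree < d + 1 := by
        rw [natDegree_mul (X_sub_C_pow_ne_zero a e') hc, natDegree_X_sub_C_pow]
        omega
      exact (natDegree_lt_iff_degree_lt (mul_ne_zero (X_sub_C_pow_ne_zero a e') hc)).mp h2
  have hr : ∀ x, f x ∈ degreeLT k (d + 1) := by
    intro x
    rw [hf]
    exact (degreeLT k (d + 1)).sub_mem
      ((degreeLT k (d + 1)).add_mem (hdeg _ _ _ _ (by omega)) (hdeg _ _ _ _ (by omega)))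
      (hdeg _ _ _ _ (by omega))
  have hdim : d + 1 < Module.finrank k ((Fin m0 → k) × (Fin m1 → k) × (Fin m2 → k)) := by
    rw [Module.finrank_prod, Module.finrank_prod, Module.finrank_fin_fun, Module.finrank_fin_fun,
      Module.finrank_fin_fun]
    omega
  obtain ⟨x, hx0, hx⟩ := exists_ne_zero_ker f (d + 1) hr hdim
  rw [hf] at hx
  set A := toPoly m0 x.1 with hA
  set B := toPoly m1 x.2.1 with hB
  set Cc := toPoly m2 x.2.2 with hCc
  have hAd : A = 0 ∨ A.natDegree < m0 := by
    by_cases h : A = 0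
    · exact Or.inl h
    · exact Or.inr (natDegree_toPoly_lt h)
  have hBd : B = 0 ∨ B.natDegree < m1 := by
    by_cases h : B = 0
    · exact Or.inl h
    · exact Or.inr (natDegree_toPoly_lt h)
  have hCd : Cc = 0 ∨ Cc.natDegree < m2 := by
    by_cases h : Cc = 0
    · exact Or.inl h
    · exact Or.inr (natDegree_toPoly_lt h)
  -- if all three vanish then `x = 0`
  have hall : ¬ (A = 0 ∧ B = 0 ∧ Cc = 0) := by
    rintro ⟨hA0, hB0, hC0⟩
    apply hx0
    have e1 : x.1 = 0 := toPoly_injective m0 (by rw [← hA, hA0, map_zero])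
    have e2 : x.2.1 = 0 := toPoly_injective m1 (by rw [← hB, hB0, map_zero])
    have e3 : x.2.2 = 0 := toPoly_injective m2 (by rw [← hCc, hC0, map_zero])
    exact Prod.ext e1 (Prod.ext e2 e3)
  have hA0 : A ≠ 0 := by
    intro h
    rw [h, mul_zero, zero_add, sub_eq_zero] at hx
    obtain ⟨hb, hc⟩ := eq_zero_of_pow_mul_eq h12 hx (by
      rcases hBd with hb | hb
      · exact Or.inl hb
      · exact Or.inr (by omega))
    exact hall ⟨h, hb, hc⟩
  have hB0 : B ≠ 0 := by
    intro h
    rw [h, mul_zero, add_zero, sub_eq_zero] at hx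
    obtain ⟨ha, hc⟩ := eq_zero_of_pow_mul_eq h02 hx (by
      rcases hAd with ha | ha
      · exact Or.inl ha
      · exact Or.inr (by omega))
    exact hall ⟨ha, h, hc⟩
  have hC0 : Cc ≠ 0 := by
    intro h
    rw [h, mul_zero, sub_zero] at hx
    have hx' : p0 * A = p1 * (-B) := by
      rw [mul_neg]
      exact eq_neg_of_add_eq_zero_left hx
    obtain ⟨ha, hb⟩ := eq_zero_of_pow_mul_eq h01 hx' (by
      rcases hAd with ha | ha
      · exact Or.inl ha
      · exact Or.inr (by omega))
    exact hall ⟨ha, neg_eq_zero.mp hb, h⟩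
  -- the three members
  have hFG : p0 * A + p1 * B = p2 * Cc := sub_eq_zero.mp hx
  have hF0 : p0 * A ≠ 0 := mul_ne_zero (X_sub_C_pow_ne_zero _ _) hA0
  have hG0 : p1 * B ≠ 0 := mul_ne_zero (X_sub_C_pow_ne_zero _ _) hB0
  have hH0 : p2 * Cc ≠ 0 := mul_ne_zero (X_sub_C_pow_ne_zero _ _) hC0
  have hFd : (p0 * A).natDegree ≤ d := by
    rw [natDegree_mul (X_sub_C_pow_ne_zero _ _) hA0, natDegree_X_sub_C_pow]
    rcases hAd with ha | ha
    · exact absurd ha hA0
    · omega
  have hGd : (p1 * B).natDegree ≤ d := by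
    rw [natDegree_mul (X_sub_C_pow_ne_zero _ _) hB0, natDegree_X_sub_C_pow]
    rcases hBd with hb | hb
    · exact absurd hb hB0
    · omega
  have hind := indep_of_van h01 (by omega : d + 1 ≤ e 0 + e 1) hF0 hG0 hFd
    (Dvd.intro _ rfl) (Dvd.intro _ rfl)
  have hli : LinearIndependent k ![p0 * A, p1 * B] := by
    rw [LinearIndependent.pair_iff]
    exact hind
  have hFm : p0 * A ∈ Submodule.span k (Set.range ![p0 * A, p1 * B]) :=
    Submodule.subset_span ⟨0, rfl⟩
  have hGm : p1 * B ∈ Submodule.span k (Set.range ![p0 * A, p1 * B]) :=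
    Submodule.subset_span ⟨1, rfl⟩
  refine ⟨Submodule.span k (Set.range ![p0 * A, p1 * B]), ?_, ?_, ?_⟩
  · rw [Submodule.span_le]
    rintro _ ⟨i, rfl⟩
    fin_cases i
    · exact mem_degreeLE.mpr (natDegree_le_iff_degree_le.mp hFd)
    · exact mem_degreeLE.mpr (natDegree_le_iff_degree_le.mp hGd)
  · rw [finrank_span_eq_card hli]
    rfl
  · intro i
    rcases fin3_cases i with rfl | rfl | rfl
    · exact ⟨p0 * A, hFm, hF0, Dvd.intro _ rfl⟩
    · exact ⟨p1 * B, hGm, hG0, Dvd.intro _ rfl⟩
    · exact ⟨p2 * Cc, by rw [← hFG]; exact Submodule.add_mem _ hFm hGm, hH0, Dvd.intro _ rfl⟩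

/-- **the criterion for emptiness** -/
theorem ramMaps_eq_empty_iff [IsAlgClosed k] {d : ℕ} {P : Fin 3 → k} (hP : Function.Injective P)
    {e : Fin 3 → ℕ} (he : e 0 + e 1 + e 2 = 2 * d + 1) (hed : ∀ i, e i ≤ d)
    (he1 : ∀ i, 1 ≤ e i) :
    ramMaps d P e = ∅ ↔
      ∃ V : Submodule k k[X], V ≤ degreeLE k d ∧ Module.finrank k V = 2 ∧ ¬ IsSeparable V ∧
        HasVan V P e := by
  constructor
  · intro hempty
    obtain ⟨V, hV, h2, hvan⟩ := exists_van hP he hed
    refine ⟨V, hV, h2, ?_, hvan⟩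
    intro hsep
    have := mem_ramMaps_of_sep hP he hed he1 hV h2 hsep hvan
    rw [hempty] at this
    exact this
  · rintro ⟨V', hV', h2', hins, hvan⟩
    rw [Set.eq_empty_iff_forall_notMem]
    intro V hV
    exact false_of_insep hP he hed hV hV' h2' hins hvan

end Groth.Agent.Lib.Helper44.Pencil
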