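import Groth.Agent.Lib.Helper44.Pencil2

/-! Pencils of polynomials with three prescribed ramification points: the count in terms of the
characteristic. (helper44) -/

set_option autoImplicit false
set_option linter.style.haveILetI false
set_option linter.unusedSectionVars false

universe u

namespace Groth.Agent.Lib.Helper44.Pencil

open Polynomial W4c1limliniiii

variable {k : Type u} [Field k]

/-- **S13918** -/
theorem three_points [IsAlgClosed k] {p d : ℕ} {P : Fin 3 → k} (hP : Function.Injective P)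
    {e : Fin 3 → ℕ} (he : Admissible p d e) :
    (ramMaps d P e).Subsingleton ∧
      (ramMaps d P e = ∅ ↔
        ∃ V : Submodule k k[X], V ≤ degreeLE k d ∧ Module.finrank k V = 2 ∧
          ¬ IsSeparable V ∧
          ∀ i, ∃ s ∈ V, s ≠ 0 ∧ e i ≤ rootMultiplicity (P i) s) := by
  have hsum : e 0 + e 1 + e 2 = 2 * d + 1 := by
    have := he.2
    rw [Fin.sum_univ_three] at this
    omega
  have hed : ∀ i, e i ≤ d := fun i => (he.1 i).2.1
  have he1 : ∀ i, 1 ≤ e i := fun i => le_trans (by norm_num) (he.1 i).1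
  refine ⟨ramMaps_subsingleton hP hsum hed, ?_⟩
  rw [ramMaps_eq_empty_iff hP hsum hed he1]
  constructor
  · rintro ⟨V, h1, h2, h3, h4⟩
    exact ⟨V, h1, h2, h3, hasVan_iff.mp h4⟩
  · rintro ⟨V, h1, h2, h3, h4⟩
    exact ⟨V, h1, h2, h3, hasVan_iff.mpr h4⟩

/-! ### Small degree: every two-dimensional space is separable -/

theorem cast_inj_of_char {p d m n : ℕ} [CharP k p] (hp : p = 0 ∨ d < p) (hm : m ≤ d)
    (hn : n ≤ d) (h : (m : k) = (n : k)) : m = n := by
  rcases hp with hp | hp
  · subst hp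
    haveI := CharP.charP_to_charZero k
    exact Nat.cast_injective h
  · exact CharP.natCast_injOn_Iio k p (lt_of_le_of_lt hm hp) (lt_of_le_of_lt hn hp) h

theorem natDegree_eq_zero_of_derivative {p d : ℕ} [CharP k p] (hp : p = 0 ∨ d < p) {F : k[X]}
    (hF : F.natDegree ≤ d) (h : derivative F = 0) : F.natDegree = 0 := by
  by_contra hne
  obtain ⟨m, hm⟩ := Nat.exists_eq_succ_of_ne_zero hne
  have h1 : coeff (derivative F) m = 0 := by rw [h, coeff_zero]
  rw [coeff_derivative, ← Nat.succ_eq_add_one, ← hm, coeff_natDegree] at h1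
  have hF0 : F ≠ 0 := by
    intro h0
    rw [h0, natDegree_zero] at hne
    exact hne rfl
  have h2 : ((m : k) + 1) = 0 := (mul_eq_zero.mp h1).resolve_left (leadingCoeff_ne_zero.mpr hF0)
  have h3 : ((m + 1 : ℕ) : k) = ((0 : ℕ) : k) := by
    push_cast
    exact h2
  have := cast_inj_of_char (k := k) hp (by omega) (Nat.zero_le d) h3
  omega

/-- vanishing Wronskian in small degree forces equal degrees -/
theorem natDegree_eq_of_wronskian_eq_zero {p d : ℕ} [CharP k p] (hp : p = 0 ∨ d < p)
    {F G : k[X]} (hF0 : F ≠ 0) (hG0 : G ≠ 0) (hF : F.natDegree ≤ d) (hG : G.natDegree ≤ d)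
    (hW : wronskian F G = 0) : F.natDegree = G.natDegree := by
  have hlF : F.leadingCoeff ≠ 0 := leadingCoeff_ne_zero.mpr hF0
  have hlG : G.leadingCoeff ≠ 0 := leadingCoeff_ne_zero.mpr hG0
  unfold wronskian at hW
  rcases Nat.eq_zero_or_pos G.natDegree with hn | hn
  · -- `G` is a constant
    have hGc : G = C (G.coeff 0) := eq_C_of_natDegree_eq_zero hn
    have hc0 : G.coeff 0 ≠ 0 := by
      intro h
      rw [h, C_0] at hGc
      exact hG0 hGc
    rw [hGc, derivative_C, mul_zero, zero_sub, neg_eq_zero] at hW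
    have hdF : derivative F = 0 := by
      rcases mul_eq_zero.mp hW with h | h
      · exact h
      · exact absurd (C_eq_zero.mp h) hc0
    rw [natDegree_eq_zero_of_derivative hp hF hdF, hn]
  rcases Nat.eq_zero_or_pos F.natDegree with hm | hm
  · have hFc : F = C (F.coeff 0) := eq_C_of_natDegree_eq_zero hm
    have hc0 : F.coeff 0 ≠ 0 := by
      intro h
      rw [h, C_0] at hFc
      exact hF0 hFc
    rw [hFc, derivative_C, zero_mul, sub_zero] at hW
    have hdG : derivative G = 0 := by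
      rcases mul_eq_zero.mp hW with h | h
      · exact absurd (C_eq_zero.mp h) hc0
      · exact h
    rw [natDegree_eq_zero_of_derivative hp hG hdG, hm]
  -- both degrees positive: compare the coefficient of degree `m + n - 1`
  set m := F.natDegree with hmdef
  set n := G.natDegree with hndef
  have hdF : (derivative F).natDegree ≤ m - 1 := natDegree_derivative_le F
  have hdG : (derivative G).natDegree ≤ n - 1 := natDegree_derivative_le G
  have c1 : (F * derivative G).coeff (m + (n - 1)) = F.coeff m * (derivative G).coeff (n - 1) :=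
    coeff_mul_add_eq_of_natDegree_le le_rfl hdG
  have c2 : (derivative F * G).coeff ((m - 1) + n) = (derivative F).coeff (m - 1) * G.coeff n :=
    coeff_mul_add_eq_of_natDegree_le hdF le_rfl
  have hidx : (m - 1) + n = m + (n - 1) := by omega
  have h0 : (F * derivative G - derivative F * G).coeff (m + (n - 1)) = 0 := by
    rw [hW, coeff_zero]
  rw [coeff_sub, c1, ← hidx, c2, coeff_derivative, coeff_derivative] at h0
  have e1 : n - 1 + 1 = n := by omega
  have e2 : m - 1 + 1 = m := by omega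
  rw [e1, e2] at h0
  have hcm : F.coeff m = F.leadingCoeff := rfl
  have hcn : G.coeff n = G.leadingCoeff := rfl
  rw [hcm, hcn] at h0
  have hk1 : ((n - 1 : ℕ) : k) + 1 = (n : k) := by
    have : ((n - 1 + 1 : ℕ) : k) = (n : k) := by rw [e1]
    push_cast at this
    exact this
  have hk2 : ((m - 1 : ℕ) : k) + 1 = (m : k) := by
    have : ((m - 1 + 1 : ℕ) : k) = (m : k) := by rw [e2]
    push_cast at this
    exact this
  rw [hk1, hk2] at h0
  have h3 : F.leadingCoeff * G.leadingCoeff * ((n : k) - (m : k)) = 0 := by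
    rw [← h0]; ring
  have h4 : (n : k) - (m : k) = 0 := (mul_eq_zero.mp h3).resolve_left (mul_ne_zero hlF hlG)
  exact cast_inj_of_char (k := k) hp hF hG (sub_eq_zero.mp h4).symm

/-- vanishing Wronskian in small degree forces proportionality -/
theorem exists_smul_of_wronskian_eq_zero {p d : ℕ} [CharP k p] (hp : p = 0 ∨ d < p)
    {F G : k[X]} (hF0 : F ≠ 0) (hF : F.natDegree ≤ d) (hG : G.natDegree ≤ d)
    (hW : wronskian F G = 0) : ∃ c : k, c • F = G := by
  by_cases hG0 : G = 0
  · exact ⟨0, by rw [zero_smul, hG0]⟩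
  have hdeg := natDegree_eq_of_wronskian_eq_zero hp hF0 hG0 hF hG hW
  have hlF : F.leadingCoeff ≠ 0 := leadingCoeff_ne_zero.mpr hF0
  have hlG : G.leadingCoeff ≠ 0 := leadingCoeff_ne_zero.mpr hG0
  set c : k := G.leadingCoeff / F.leadingCoeff with hc
  have hc0 : c ≠ 0 := div_ne_zero hlG hlF
  refine ⟨c, ?_⟩
  by_contra hne
  have hG20 : G - c • F ≠ 0 := sub_ne_zero.mpr (fun h => hne h.symm)
  have hW2 : wronskian F (G - c • F) = 0 := by
    have := wronskian_lin 1 0 (-c) 1 F G
    rw [one_smul, zero_smul, add_zero, one_smul, neg_smul, neg_add_eq_sub] at this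
    rw [this, hW, smul_zero]
  have hdegcF : (c • F).degree = G.degree := by
    rw [smul_eq_C_mul, degree_C_mul hc0, degree_eq_natDegree hF0, degree_eq_natDegree hG0, hdeg]
  have hlc : G.leadingCoeff = (c • F).leadingCoeff := by
    rw [smul_eq_C_mul, leadingCoeff_mul, leadingCoeff_C, hc, div_mul_cancel₀ _ hlF]
  have hlt : (G - c • F).degree < G.degree := degree_sub_lt_left hdegcF.symm hG0 hlc
  have hlt' : (G - c • F).natDegree < G.natDegree := natDegree_lt_natDegree hG20 hlt
  have hdeg2 := natDegree_eq_of_wronskian_eq_zero hp hF0 hG20 hF (by omega) hW2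
  omega

theorem isSeparable_of_char {p d : ℕ} [CharP k p] (hp : p = 0 ∨ d < p)
    {V : Submodule k k[X]} (hV : V ≤ degreeLE k d) (h2 : Module.finrank k V = 2) :
    IsSeparable V := by
  by_contra hins
  have hW : ∀ F ∈ V, ∀ G ∈ V, wronskian F G = 0 := by
    intro F hF G hG
    by_contra h
    exact hins ⟨F, hF, G, hG, h⟩
  haveI : Module.Finite k V := Module.finite_of_finrank_pos (by rw [h2]; norm_num)
  obtain ⟨F, hF0⟩ := (Module.finrank_pos_iff_exists_ne_zero (R := k) (M := V)).mp
    (by rw [h2]; norm_num)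
  have hF0' : (F : k[X]) ≠ 0 := fun h => hF0 (Subtype.ext h)
  have hle : Module.finrank k V ≤ 1 := by
    refine finrank_le_one F ?_
    intro G
    obtain ⟨c, hc⟩ := exists_smul_of_wronskian_eq_zero hp hF0' (natDegree_le_of_mem hV F.2)
      (natDegree_le_of_mem hV G.2) (hW F F.2 G G.2)
    exact ⟨c, Subtype.ext hc⟩
  omega

/-! ### Characteristic `p ≤ d`: the inseparable witness -/

theorem X_sub_C_pow_char {p : ℕ} [hp : Fact p.Prime] [CharP k p] (a : k) :
    (X - C a : k[X]) ^ p = X ^ p - C (a ^ p) := by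
  rw [sub_pow_char, ← C_pow]

theorem derivative_X_sub_C_pow_char {p : ℕ} [CharP k p] (a : k) :
    derivative ((X - C a : k[X]) ^ p) = 0 := by
  rw [derivative_X_sub_C_pow, CharP.cast_eq_zero k p, C_0, zero_mul]

theorem exists_insep {p d : ℕ} [hp : Fact p.Prime] [CharP k p] (hpd : p ≤ d) {P : Fin 3 → k}
    (hP : Function.Injective P) {e : Fin 3 → ℕ} (hed : ∀ i, e i ≤ d) (h0 : e 0 < p)
    (h1 : e 1 < p) :
    ∃ V : Submodule k k[X], V ≤ degreeLE k d ∧ Module.finrank k V = 2 ∧ ¬ IsSeparable V ∧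
      HasVan V P e := by
  have h01 : P 0 ≠ P 1 := ne_of_injective hP (by decide)
  set A : k[X] := (X - C (P 2)) ^ (e 2 - p) with hA
  have hA0 : A ≠ 0 := X_sub_C_pow_ne_zero _ _
  set F : k[X] := (X - C (P 0)) ^ p * A with hF
  set G : k[X] := (X - C (P 1)) ^ p * A with hG
  have hF0 : F ≠ 0 := mul_ne_zero (X_sub_C_pow_ne_zero _ _) hA0
  have hG0 : G ≠ 0 := mul_ne_zero (X_sub_C_pow_ne_zero _ _) hA0
  have hd2 := hed 2
  have hFd : F.natDegree ≤ d := by
    rw [hF, natDegree_mul (X_sub_C_pow_ne_zero _ _) hA0, natDegree_X_sub_C_pow, hA,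
      natDegree_X_sub_C_pow]
    omega
  have hGd : G.natDegree ≤ d := by
    rw [hG, natDegree_mul (X_sub_C_pow_ne_zero _ _) hA0, natDegree_X_sub_C_pow, hA,
      natDegree_X_sub_C_pow]
    omega
  -- the Frobenius combination
  have hden : P 0 ^ p - P 1 ^ p ≠ 0 := by
    rw [← sub_pow_char]
    exact pow_ne_zero _ (sub_ne_zero.mpr h01)
  set α : k := (P 2 ^ p - P 1 ^ p) / (P 0 ^ p - P 1 ^ p) with hα
  have hcomb : α • F + (1 - α) • G = (X - C (P 2)) ^ p * A := by
    rw [hF, hG, smul_eq_C_mul, smul_eq_C_mul, ← mul_assoc, ← mul_assoc, ← add_mul]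
    congr 1
    rw [X_sub_C_pow_char, X_sub_C_pow_char, X_sub_C_pow_char]
    have h3 : α * (P 0 ^ p - P 1 ^ p) = P 2 ^ p - P 1 ^ p := div_mul_cancel₀ _ hden
    have h4 : α * P 0 ^ p + (1 - α) * P 1 ^ p = P 2 ^ p := by
      have : α * P 0 ^ p + (1 - α) * P 1 ^ p = α * (P 0 ^ p - P 1 ^ p) + P 1 ^ p := by ring
      rw [this, h3]; ring
    rw [← h4, C_add, C_mul, C_mul, C_sub, C_1]
    ring
  have hind : ∀ x y : k, x • F + y • G = 0 → x = 0 ∧ y = 0 := by
    intro x y hxy
    rw [hF, hG, smul_eq_C_mul, smul_eq_C_mul, ← mul_assoc, ← mul_assoc, ← add_mul] at hxy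
    have h3 := (mul_eq_zero.mp hxy).resolve_right hA0
    have e0 := congrArg (eval (P 0)) h3
    have e1 := congrArg (eval (P 1)) h3
    simp only [eval_add, eval_mul, eval_C, eval_pow, eval_sub, eval_X, sub_self, eval_zero] at e0 e1
    have hp0 : p ≠ 0 := hp.out.ne_zero
    rw [zero_pow hp0, mul_zero, zero_add] at e0
    rw [zero_pow hp0, mul_zero, add_zero] at e1
    have hne01 : (P 0 - P 1) ^ p ≠ 0 := pow_ne_zero _ (sub_ne_zero.mpr h01)
    have hne10 : (P 1 - P 0) ^ p ≠ 0 := pow_ne_zero _ (sub_ne_zero.mpr h01.symm)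
    exact ⟨(mul_eq_zero.mp e1).resolve_right hne10, (mul_eq_zero.mp e0).resolve_right hne01⟩
  have hli : LinearIndependent k ![F, G] := by
    rw [LinearIndependent.pair_iff]
    exact hind
  have hFm : F ∈ Submodule.span k (Set.range ![F, G]) := Submodule.subset_span ⟨0, rfl⟩
  have hGm : G ∈ Submodule.span k (Set.range ![F, G]) := Submodule.subset_span ⟨1, rfl⟩
  have hWFG : wronskian F G = 0 := by
    rw [hF, hG, mul_comm _ A, mul_comm _ A, wronskian_mul_mul]
    unfold wronskian
    rw [derivative_X_sub_C_pow_char, derivative_X_sub_C_pow_char, mul_zero, zero_mul, sub_zero,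
      mul_zero]
  refine ⟨Submodule.span k (Set.range ![F, G]), ?_, ?_, ?_, ?_⟩
  · rw [Submodule.span_le]
    rintro _ ⟨i, rfl⟩
    fin_cases i
    · exact mem_degreeLE.mpr (natDegree_le_iff_degree_le.mp hFd)
    · exact mem_degreeLE.mpr (natDegree_le_iff_degree_le.mp hGd)
  · rw [finrank_span_eq_card hli]
    rfl
  · rintro ⟨s, hs, t, ht, hst⟩
    obtain ⟨c, hc⟩ := (Submodule.mem_span_range_iff_exists_fun k).mp hs
    obtain ⟨c', hc'⟩ := (Submodule.mem_span_range_iff_exists_fun k).mp ht
    rw [Fin.sum_univ_two] at hc hc'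
    apply hst
    have hs' : s = c 0 • F + c 1 • G := hc.symm
    have ht' : t = c' 0 • F + c' 1 • G := hc'.symm
    rw [hs', ht', wronskian_lin, hWFG, smul_zero]
  · intro i
    rcases fin3_cases i with rfl | rfl | rfl
    · exact ⟨F, hFm, hF0, Dvd.dvd.mul_right (pow_dvd_pow _ h0.le) _⟩
    · exact ⟨G, hGm, hG0, Dvd.dvd.mul_right (pow_dvd_pow _ h1.le) _⟩
    · refine ⟨(X - C (P 2)) ^ p * A, ?_, mul_ne_zero (X_sub_C_pow_ne_zero _ _) hA0, ?_⟩
      · rw [← hcomb]
        exact Submodule.add_mem _ (Submodule.smul_mem _ _ hFm) (Submodule.smul_mem _ _ hGm)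
      · rw [hA, ← pow_add]
        exact pow_dvd_pow _ (by omega)

/-- **S13919** -/
theorem three_points_count [IsAlgClosed k] {p : ℕ} [CharP k p] {d : ℕ} {P : Fin 3 → k}
    (hP : Function.Injective P) {e : Fin 3 → ℕ} (he : Admissible p d e) :
    (p ≠ 0 → e 0 < p → e 1 < p → p ≤ d → ramMaps d P e = ∅) ∧
      (p = 0 ∨ d < p → ∃ V : Submodule k k[X], ramMaps d P e = {V}) := by
  have hsum : e 0 + e 1 + e 2 = 2 * d + 1 := by
    have := he.2
    rw [Fin.sum_univ_three] at this
    omega
  have hed : ∀ i, e i ≤ d := fun i => (he.1 i).2.1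
  have he1 : ∀ i, 1 ≤ e i := fun i => le_trans (by norm_num) (he.1 i).1
  constructor
  · intro hp0 h0 h1 hpd
    haveI : Fact p.Prime := ⟨(CharP.char_is_prime_or_zero k p).resolve_right hp0⟩
    rw [ramMaps_eq_empty_iff hP hsum hed he1]
    exact exists_insep hpd hP hed h0 h1
  · intro hp
    have hne : ramMaps d P e ≠ ∅ := by
      intro hempty
      rw [ramMaps_eq_empty_iff hP hsum hed he1] at hempty
      obtain ⟨V, hV, h2, hins, _⟩ := hempty
      exact hins (isSeparable_of_char hp hV h2)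
    obtain ⟨V, hV⟩ := Set.nonempty_iff_ne_empty.mpr hne
    exact ⟨V, (ramMaps_subsingleton hP hsum hed).eq_singleton_of_mem hV⟩

end Groth.Agent.Lib.Helper44.Pencil
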