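import Groth.Agent.Lib.Helper44.Pencil3

/-! Pencils in characteristic `p` with a ramification index `> p` at infinity: the Frobenius twist
`F ↦ F + c X^p G` produces infinitely many pencils with the same ramification. (helper44) -/

set_option autoImplicit false
set_option linter.style.haveILetI false
set_option linter.unusedSectionVars false

universe u

namespace Groth.Agent.Lib.Helper44.Pencil

open Polynomial W4c1limliniiii

variable {k : Type u} [Field k]

/-! ### Spans of pairs -/

theorem mem_span_pair' {F G s : k[X]} :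
    s ∈ Submodule.span k (Set.range ![F, G]) ↔ ∃ x y : k, s = x • F + y • G := by
  rw [Submodule.mem_span_range_iff_exists_fun]
  constructor
  · rintro ⟨c, hc⟩
    refine ⟨c 0, c 1, ?_⟩
    rw [← hc, Fin.sum_univ_two]
    rfl
  · rintro ⟨x, y, rfl⟩
    refine ⟨![x, y], ?_⟩
    rw [Fin.sum_univ_two]
    rfl

theorem finrank_span_pair {F G : k[X]} (hind : ∀ x y : k, x • F + y • G = 0 → x = 0 ∧ y = 0) :
    Module.finrank k (Submodule.span k (Set.range ![F, G])) = 2 := by
  have hli : LinearIndependent k ![F, G] := by
    rw [LinearIndependent.pair_iff]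
    exact hind
  rw [finrank_span_eq_card hli]
  rfl

theorem exists_repr {V : Submodule k k[X]} (h2 : Module.finrank k V = 2) {F G : k[X]}
    (hF : F ∈ V) (hG : G ∈ V) (hind : ∀ x y : k, x • F + y • G = 0 → x = 0 ∧ y = 0) :
    ∀ s ∈ V, ∃ x y : k, s = x • F + y • G := by
  have hU : Submodule.span k (Set.range ![F, G]) = V := by
    haveI : Module.Finite k V := Module.finite_of_finrank_pos (by rw [h2]; norm_num)
    apply Submodule.eq_of_le_of_finrank_eq
    · rw [Submodule.span_le]
      rintro _ ⟨i, rfl⟩
      fin_cases i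
      · exact hF
      · exact hG
    · rw [finrank_span_pair hind, h2]
  intro s hs
  rw [← hU] at hs
  exact mem_span_pair'.mp hs

/-! ### The twisted pencil -/

section twist

variable {p : ℕ} [hp : Fact p.Prime] [CharP k p]

theorem derivative_X_pow_char : derivative (X ^ p : k[X]) = 0 := by
  rw [derivative_X_pow, CharP.cast_eq_zero k p, C_0, zero_mul]

theorem wronskian_X_pow_mul (G : k[X]) : wronskian (X ^ p * G) G = 0 := by
  unfold wronskian
  rw [derivative_mul, derivative_X_pow_char]
  ring

theorem X_pow_char_eq (a : k) : (X ^ p : k[X]) = (X - C a) ^ p + C (a ^ p) := by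
  rw [X_sub_C_pow_char]
  ring

/-- the main construction -/
theorem twist_mem [IsAlgClosed k] {d n : ℕ} {P : Fin n → k} {e : Fin n → ℕ} {E : ℕ}
    (hlt : ∀ i, e i < p) (hE : p < E)
    {V : Submodule k k[X]} (hV : V ∈ ramMaps d P e) (hinf : HasRamIdxInf d V E) :
    ∃ f : k → Submodule k k[X], Function.Injective f ∧
      ∀ c, f c ∈ ramMaps d P e ∧ HasRamIdxInf d (f c) E := by
  obtain ⟨⟨hVd, h2, ⟨F, hFV, hFd⟩, hbpf⟩, hsep, hram⟩ := hV
  obtain ⟨⟨G, hGV, hG0, hGd⟩, hinf2⟩ := hinf
  have hp0 : p ≠ 0 := hp.out.ne_zero
  have hp1 : 1 ≤ p := hp.out.one_le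
  have hGd' : G.natDegree + E = d := by
    have := hinf2 G hGV hG0
    omega
  have hF0 : F ≠ 0 := by
    intro h
    rw [h, natDegree_zero] at hFd
    omega
  have hlF : F.leadingCoeff ≠ 0 := leadingCoeff_ne_zero.mpr hF0
  have hFc : F.coeff d = F.leadingCoeff := by rw [← hFd]; rfl
  have hGc : G.coeff d = 0 := coeff_eq_zero_of_natDegree_lt (by omega)
  set H : k[X] := X ^ p * G with hH
  have hH0 : H ≠ 0 := mul_ne_zero (pow_ne_zero _ X_ne_zero) hG0
  have hHd : H.natDegree = p + G.natDegree := by
    rw [hH, natDegree_mul (pow_ne_zero _ X_ne_zero) hG0, natDegree_X_pow]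
  have hHc : H.coeff d = 0 := coeff_eq_zero_of_natDegree_lt (by omega)
  -- the basis of `V`
  have hind : ∀ x y : k, x • F + y • G = 0 → x = 0 ∧ y = 0 := by
    intro x y hxy
    have h1 := congrArg (fun q : k[X] => q.coeff d) hxy
    simp only [coeff_add, coeff_smul, smul_eq_mul, coeff_zero, hFc, hGc, mul_zero, add_zero] at h1
    have hx : x = 0 := (mul_eq_zero.mp h1).resolve_right hlF
    subst hx
    rw [zero_smul, zero_add] at hxy
    exact ⟨rfl, (smul_eq_zero.mp hxy).resolve_right hG0⟩
  have hspan := exists_repr h2 hFV hGV hind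
  have hW : wronskian F G ≠ 0 := by
    obtain ⟨A, hA, B, hB, hAB⟩ := hsep
    obtain ⟨a1, b1, rfl⟩ := hspan A hA
    obtain ⟨a2, b2, rfl⟩ := hspan B hB
    intro h
    apply hAB
    rw [wronskian_lin, h, smul_zero]
  -- the family
  have hFcH : ∀ c : k, (F + c • H).coeff d = F.leadingCoeff := by
    intro c
    rw [coeff_add, coeff_smul, hHc, smul_zero, add_zero, hFc]
  have hindc : ∀ c x y : k, x • (F + c • H) + y • G = 0 → x = 0 ∧ y = 0 := by
    intro c x y hxy
    have h1 := congrArg (fun q : k[X] => q.coeff d) hxy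
    simp only [coeff_add, coeff_smul, smul_eq_mul, coeff_zero, hFc, hGc, hHc, mul_zero,
      add_zero] at h1
    have hx : x = 0 := (mul_eq_zero.mp h1).resolve_right hlF
    subst hx
    rw [zero_smul, zero_add] at hxy
    exact ⟨rfl, (smul_eq_zero.mp hxy).resolve_right hG0⟩
  have hdegc : ∀ c : k, (F + c • H).natDegree = d := by
    intro c
    by_cases hc : c = 0
    · rw [hc, zero_smul, add_zero, hFd]
    · rw [natDegree_add_eq_left_of_natDegree_lt, hFd]
      rw [smul_eq_C_mul, natDegree_C_mul hc, hHd, hFd]
      omega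
  -- the members of the twisted pencil, expanded at a point
  have hexp : ∀ (c a x y : k), x • (F + c • H) + y • G =
      (x • F + (y + x * c * a ^ p) • G) + (X - C a) ^ p * ((x * c) • G) := by
    intro c a x y
    rw [hH, X_pow_char_eq a]
    simp only [smul_eq_C_mul, C_add, C_mul, C_pow]
    ring
  refine ⟨fun c => Submodule.span k (Set.range ![F + c • H, G]), ?_, ?_⟩
  · -- injectivity
    intro c c' hcc
    have hcc' : Submodule.span k (Set.range ![F + c • H, G]) =
        Submodule.span k (Set.range ![F + c' • H, G]) := hcc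
    have hmem : F + c • H ∈ Submodule.span k (Set.range ![F + c' • H, G]) := by
      rw [← hcc']
      exact Submodule.subset_span ⟨0, rfl⟩
    obtain ⟨x, y, hxy⟩ := mem_span_pair'.mp hmem
    have h1 := congrArg (fun q : k[X] => q.coeff d) hxy
    simp only [coeff_add, coeff_smul, smul_eq_mul, hFc, hGc, hHc, mul_zero, add_zero] at h1
    have hx : x = 1 := by
      have : (1 - x) * F.leadingCoeff = 0 := by rw [sub_mul, one_mul, ← h1, sub_self]
      have := (mul_eq_zero.mp this).resolve_right hlF
      exact (sub_eq_zero.mp this).symm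
    subst hx
    rw [one_smul] at hxy
    -- `(c - c') X^p G = y G`
    have h3 : (C (c - c') * X ^ p - C y) * G = 0 := by
      have : c • H - c' • H = y • G := by
        have h4 : F + c • H - (F + c' • H) = y • G := by rw [hxy]; ring
        rw [← h4]; ring
      rw [hH, smul_eq_C_mul, smul_eq_C_mul, smul_eq_C_mul] at this
      rw [sub_mul, C_sub, sub_mul, sub_mul]
      rw [← this]
      ring
    have h5 := (mul_eq_zero.mp h3).resolve_right hG0
    have h6 := congrArg (fun q : k[X] => q.coeff p) h5
    simp only [coeff_sub, coeff_C_mul, coeff_X_pow, if_pos, mul_one, coeff_C, if_neg hp0,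
      sub_zero, coeff_zero] at h6
    exact sub_eq_zero.mp h6
  · intro c
    have hFm : F + c • H ∈ Submodule.span k (Set.range ![F + c • H, G]) :=
      Submodule.subset_span ⟨0, rfl⟩
    have hGm : G ∈ Submodule.span k (Set.range ![F + c • H, G]) :=
      Submodule.subset_span ⟨1, rfl⟩
    have hne : ∀ x y : k, x • (F + c • H) + y • G ≠ 0 → (x ≠ 0 ∨ y ≠ 0) := by
      intro x y h
      by_contra hcon
      push Not at hcon
      apply h
      rw [hcon.1, hcon.2, zero_smul, zero_smul, add_zero]
    refine ⟨⟨⟨?_, finrank_span_pair (hindc c), ⟨F + c • H, hFm, hdegc c⟩, ?_⟩, ?_, ?_⟩, ?_⟩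
    · -- degree bound
      rw [Submodule.span_le]
      rintro _ ⟨i, rfl⟩
      fin_cases i
      · exact mem_degreeLE.mpr (natDegree_le_iff_degree_le.mp (hdegc c).le)
      · exact hVd hGV
    · -- no base point
      intro a
      by_cases hGa : G.eval a = 0
      · refine ⟨F + c • H, hFm, ?_⟩
        obtain ⟨s, hs, hsa⟩ := hbpf a
        obtain ⟨x, y, rfl⟩ := hspan s hs
        rw [eval_add, eval_smul, eval_smul, hGa, smul_zero, add_zero] at hsa
        have hFa : F.eval a ≠ 0 := by
          intro h
          apply hsa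
          rw [h, smul_zero]
        rw [eval_add, eval_smul, hH, eval_mul, hGa, mul_zero, smul_zero, add_zero]
        exact hFa
      · exact ⟨G, hGm, hGa⟩
    · -- separable
      refine ⟨F + c • H, hFm, G, hGm, ?_⟩
      rw [wronskian_add_left]
      have : wronskian (c • H) G = 0 := by
        have h1 := wronskian_lin c 0 0 1 H G
        rw [zero_smul, zero_smul, add_zero, one_smul, zero_add] at h1
        rw [h1, hH, wronskian_X_pow_mul, smul_zero]
      rw [this, add_zero]
      exact hW
    · -- ramification at the finite points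
      intro i
      obtain ⟨⟨s, hsV, hs0, hsm⟩, hmax⟩ := hram i
      constructor
      · -- a member with the required vanishing
        obtain ⟨x, y, rfl⟩ := hspan s hsV
        have hsd : (X - C (P i)) ^ (e i) ∣ x • F + y • G := (le_rootMultiplicity_iff hs0).mp hsm
        refine ⟨x • (F + c • H) + (y - x * c * (P i) ^ p) • G,
          mem_span_pair'.mpr ⟨_, _, rfl⟩, ?_, ?_⟩
        · intro h
          obtain ⟨hx, hy⟩ := hindc c _ _ h
          apply hs0
          rw [hx, zero_mul, zero_mul, sub_zero] at hy
          rw [hx, hy, zero_smul, zero_smul, add_zero]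
        · have hnz : x • (F + c • H) + (y - x * c * (P i) ^ p) • G ≠ 0 := by
            intro h
            obtain ⟨hx, hy⟩ := hindc c _ _ h
            apply hs0
            rw [hx, zero_mul, zero_mul, sub_zero] at hy
            rw [hx, hy, zero_smul, zero_smul, add_zero]
          rw [le_rootMultiplicity_iff hnz, hexp c (P i)]
          refine dvd_add ?_ (Dvd.dvd.mul_right (pow_dvd_pow _ (hlt i).le) _)
          have : y - x * c * P i ^ p + x * c * P i ^ p = y := by ring
          rw [this]
          exact hsd
      · -- no member vanishes to a higher order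
        intro t ht ht0
        obtain ⟨x, y, rfl⟩ := mem_span_pair'.mp ht
        by_contra hcon
        push Not at hcon
        have htd : (X - C (P i)) ^ (e i + 1) ∣ x • (F + c • H) + y • G :=
          (le_rootMultiplicity_iff ht0).mp hcon
        rw [hexp c (P i)] at htd
        have h1 : (X - C (P i)) ^ (e i + 1) ∣ (X - C (P i)) ^ p * ((x * c) • G) :=
          Dvd.dvd.mul_right (pow_dvd_pow _ (hlt i)) _
        have h2 : (X - C (P i)) ^ (e i + 1) ∣ x • F + (y + x * c * P i ^ p) • G :=
          (dvd_add_left h1).mp htd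
        have hs0' : x • F + (y + x * c * P i ^ p) • G ≠ 0 := by
          intro h
          obtain ⟨hx, hy⟩ := hind _ _ h
          apply ht0
          rw [hx, zero_mul, zero_mul, add_zero] at hy
          rw [hx, hy, zero_smul, zero_smul, add_zero]
        have h3 := hmax _ (V.add_mem (V.smul_mem _ hFV) (V.smul_mem _ hGV)) hs0'
        have h4 := (le_rootMultiplicity_iff hs0').mpr h2
        omega
    · -- ramification at infinity
      refine ⟨⟨G, hGm, hG0, hGd⟩, ?_⟩
      intro t ht ht0
      obtain ⟨x, y, rfl⟩ := mem_span_pair'.mp ht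
      by_cases hx : x = 0
      · subst hx
        rw [zero_smul, zero_add] at ht0 ⊢
        have hy : y ≠ 0 := by
          intro hy
          apply ht0
          rw [hy, zero_smul]
        rw [smul_eq_C_mul, natDegree_C_mul hy]
        omega
      · have hcoeff : (x • (F + c • H) + y • G).coeff d ≠ 0 := by
          rw [coeff_add, coeff_smul, coeff_smul, hFcH c, hGc, smul_zero, add_zero, smul_eq_mul]
          exact mul_ne_zero hx hlF
        have := le_natDegree_of_ne_zero hcoeff
        omega

end twist

/-- **S13920** -/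
theorem empty_or_infinite [IsAlgClosed k] {p : ℕ} [Fact p.Prime] [CharP k p]
    {d n : ℕ} {P : Fin n → k} {e : Fin n → ℕ} {E : ℕ}
    (_he : Admissible p d (Fin.cons E e : Fin (n + 1) → ℕ))
    (hlt : ∀ i, e i < p) (hE : p < E) :
    {V : Submodule k k[X] | V ∈ ramMaps d P e ∧ HasRamIdxInf d V E} = ∅ ∨
      {V : Submodule k k[X] | V ∈ ramMaps d P e ∧ HasRamIdxInf d V E}.Infinite := by
  by_cases hempty : {V : Submodule k k[X] | V ∈ ramMaps d P e ∧ HasRamIdxInf d V E} = ∅
  · exact Or.inl hempty
  · right
    obtain ⟨V, hV, hinf⟩ := Set.nonempty_iff_ne_empty.mpr hempty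
    obtain ⟨f, hf, hmem⟩ := twist_mem hlt hE hV hinf
    exact Set.infinite_of_injective_forall_mem hf hmem

end Groth.Agent.Lib.Helper44.Pencil
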