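import Groth.Agent.Lib.Helper44.Pencil4

/-! The Schubert intersection at three points is a projective space. (helper44)

The spaces `V` of dimension two of polynomials of degree `≤ d` having non-zero members vanishing
to order `e i` at `P i` (`e 0 + e 1 + e 2 = 2d + 1`) are parametrised by the non-zero vectors, up to
scaling, of the linear space of pairs `(F, G)` with `F`, `G`, `F + G` divisible by the three powers
`(X - P i) ^ e i`. -/

set_option autoImplicit false
set_option linter.style.haveILetI false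
set_option linter.unusedSectionVars false

universe u

namespace Groth.Agent.Lib.Helper44.Pencil

open Polynomial W4c1limliniiii

variable {k : Type u} [Field k]

/-- the linear space of normalised pairs -/
def pairSpace (d : ℕ) (P : Fin 3 → k) (e : Fin 3 → ℕ) : Submodule k (k[X] × k[X]) where
  carrier := {v | v.1 ∈ degreeLE k d ∧ v.2 ∈ degreeLE k d ∧ (X - C (P 0)) ^ e 0 ∣ v.1 ∧
    (X - C (P 1)) ^ e 1 ∣ v.2 ∧ (X - C (P 2)) ^ e 2 ∣ v.1 + v.2}
  add_mem' := by
    rintro v w ⟨h1, h2, h3, h4, h5⟩ ⟨h1', h2', h3', h4', h5'⟩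
    refine ⟨(degreeLE k d).add_mem h1 h1', (degreeLE k d).add_mem h2 h2', dvd_add h3 h3',
      dvd_add h4 h4', ?_⟩
    have h6 : (v + w).1 + (v + w).2 = (v.1 + v.2) + (w.1 + w.2) := by
      simp only [Prod.fst_add, Prod.snd_add]
      ring
    rw [h6]
    exact dvd_add h5 h5'
  zero_mem' := ⟨(degreeLE k d).zero_mem, (degreeLE k d).zero_mem, dvd_zero _, dvd_zero _,
    by simp⟩
  smul_mem' := by
    rintro c v ⟨h1, h2, h3, h4, h5⟩
    refine ⟨(degreeLE k d).smul_mem c h1, (degreeLE k d).smul_mem c h2, dvd_smul_of_dvd c h3,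
      dvd_smul_of_dvd c h4, ?_⟩
    have h6 : (c • v).1 + (c • v).2 = c • (v.1 + v.2) := by
      simp only [Prod.smul_fst, Prod.smul_snd, smul_add]
    rw [h6]
    exact dvd_smul_of_dvd c h5

theorem mem_pairSpace {d : ℕ} {P : Fin 3 → k} {e : Fin 3 → ℕ} {v : k[X] × k[X]} :
    v ∈ pairSpace d P e ↔ v.1 ∈ degreeLE k d ∧ v.2 ∈ degreeLE k d ∧ (X - C (P 0)) ^ e 0 ∣ v.1 ∧
      (X - C (P 1)) ^ e 1 ∣ v.2 ∧ (X - C (P 2)) ^ e 2 ∣ v.1 + v.2 := Iff.rfl

theorem span_pair_eq (F G : k[X]) :
    Submodule.span k ({F, G} : Set k[X]) = Submodule.span k (Set.range ![F, G]) := by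
  rw [Matrix.range_cons_cons_empty]

/-- the three members of a non-zero normalised pair are non-zero -/
theorem ne_zero_of_mem_pairSpace {d : ℕ} {P : Fin 3 → k} (hP : Function.Injective P)
    {e : Fin 3 → ℕ} (hsum : ∀ i j : Fin 3, i ≠ j → d + 1 ≤ e i + e j) {v : k[X] × k[X]}
    (hv : v ∈ pairSpace d P e) (hv0 : v ≠ 0) : v.1 ≠ 0 ∧ v.2 ≠ 0 ∧ v.1 + v.2 ≠ 0 := by
  obtain ⟨h1, h2, h3, h4, h5⟩ := hv
  have hd1 : v.1.natDegree ≤ d := natDegree_le_of_degree_le (mem_degreeLE.mp h1)
  have hd2 : v.2.natDegree ≤ d := natDegree_le_of_degree_le (mem_degreeLE.mp h2)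
  have h01 : P 0 ≠ P 1 := ne_of_injective hP (by decide)
  have h02 : P 0 ≠ P 2 := ne_of_injective hP (by decide)
  have h12 : P 1 ≠ P 2 := ne_of_injective hP (by decide)
  have s01 := hsum 0 1 (by decide)
  have s02 := hsum 0 2 (by decide)
  have s12 := hsum 1 2 (by decide)
  have hF : v.1 ≠ 0 := by
    intro hF
    rw [hF, zero_add] at h5
    have hG : v.2 = 0 := by
      by_contra hG
      have := add_le_of_dvd_dvd h12 hG hd2 h4 h5
      omega
    exact hv0 (Prod.ext hF hG)
  have hG : v.2 ≠ 0 := by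
    intro hG
    rw [hG, add_zero] at h5
    have := add_le_of_dvd_dvd h02 hF hd1 h3 h5
    omega
  refine ⟨hF, hG, ?_⟩
  intro hFG
  have hFe : v.2 = -v.1 := (neg_eq_of_add_eq_zero_right hFG).symm
  have h4' : (X - C (P 1)) ^ e 1 ∣ v.1 := by
    rw [hFe] at h4
    exact (dvd_neg).mp h4
  have := add_le_of_dvd_dvd h01 hF hd1 h3 h4'
  omega

/-- **the Schubert intersection at three points is a projective space** -/
theorem schubert_three_points {d : ℕ} {P : Fin 3 → k} (hP : Function.Injective P)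
    {e : Fin 3 → ℕ} (he : e 0 + e 1 + e 2 = 2 * d + 1) (hed : ∀ i, e i ≤ d) :
    ∃ L : Submodule k (k[X] × k[X]), L ≠ ⊥ ∧
      (∀ v ∈ L, v ≠ 0 →
        Submodule.span k {v.1, v.2} ≤ Polynomial.degreeLE k d ∧
          Module.finrank k (Submodule.span k {v.1, v.2}) = 2 ∧
          ∀ i, ∃ s ∈ Submodule.span k {v.1, v.2}, s ≠ 0 ∧
            e i ≤ Polynomial.rootMultiplicity (P i) s) ∧
      (∀ V : Submodule k k[X], V ≤ Polynomial.degreeLE k d → Module.finrank k V = 2 →
        (∀ i, ∃ s ∈ V, s ≠ 0 ∧ e i ≤ Polynomial.rootMultiplicity (P i) s) →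
          ∃ v ∈ L, v ≠ 0 ∧ Submodule.span k {v.1, v.2} = V) ∧
      (∀ v ∈ L, ∀ w ∈ L, v ≠ 0 → w ≠ 0 →
        Submodule.span k {v.1, v.2} = Submodule.span k {w.1, w.2} → ∃ c : k, w = c • v) := by
  have hsum := hsum_of he hed
  have h01 : P 0 ≠ P 1 := ne_of_injective hP (by decide)
  have h02 : P 0 ≠ P 2 := ne_of_injective hP (by decide)
  have h12 : P 1 ≠ P 2 := ne_of_injective hP (by decide)
  have s01 := hsum 0 1 (by decide)
  have s02 := hsum 0 2 (by decide)
  have s12 := hsum 1 2 (by decide)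
  -- every suitable space comes from a pair
  have hsurj : ∀ V : Submodule k k[X], V ≤ Polynomial.degreeLE k d → Module.finrank k V = 2 →
      HasVan V P e → ∃ v ∈ pairSpace d P e, v ≠ 0 ∧ Submodule.span k {v.1, v.2} = V := by
    intro V hV h2 hvan
    obtain ⟨F, G, hFV, hGV, hF0, hG0, hFG0, hFd, hGd, hFGd, hind, hspan⟩ :=
      exists_triple hV h2 hP hsum hvan
    refine ⟨(F, G), ⟨hV hFV, hV hGV, hFd, hGd, hFGd⟩, ?_, ?_⟩
    · intro h
      exact hF0 (congrArg Prod.fst h)
    · apply le_antisymm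
      · rw [Submodule.span_le]
        rintro s (rfl | rfl)
        · exact hFV
        · exact hGV
      · intro s hs
        obtain ⟨a, b, rfl⟩ := hspan s hs
        exact Submodule.add_mem _ (Submodule.smul_mem _ _ (Submodule.subset_span (by simp)))
          (Submodule.smul_mem _ _ (Submodule.subset_span (by simp)))
  refine ⟨pairSpace d P e, ?_, ?_, ?_, ?_⟩
  · -- non-trivial
    obtain ⟨V, hV, h2, hvan⟩ := exists_van hP he hed
    obtain ⟨v, hv, hv0, -⟩ := hsurj V hV h2 hvan
    intro hbot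
    rw [hbot, Submodule.mem_bot] at hv
    exact hv0 hv
  · -- the span of a non-zero pair is a suitable space
    intro v hv hv0
    obtain ⟨hF0, hG0, hFG0⟩ := ne_zero_of_mem_pairSpace hP hsum hv hv0
    obtain ⟨h1, h2, h3, h4, h5⟩ := hv
    have hd1 : v.1.natDegree ≤ d := natDegree_le_of_degree_le (mem_degreeLE.mp h1)
    have hind := indep_of_van h01 s01 hF0 hG0 hd1 h3 h4
    have hFm : v.1 ∈ Submodule.span k ({v.1, v.2} : Set k[X]) := Submodule.subset_span (by simp)
    have hGm : v.2 ∈ Submodule.span k ({v.1, v.2} : Set k[X]) := Submodule.subset_span (by simp)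
    refine ⟨?_, ?_, ?_⟩
    · rw [Submodule.span_le]
      rintro s (rfl | rfl)
      · exact h1
      · exact h2
    · rw [span_pair_eq]
      exact finrank_span_pair hind
    · intro i
      rcases fin3_cases i with rfl | rfl | rfl
      · exact ⟨v.1, hFm, hF0, (le_rootMultiplicity_iff hF0).mpr h3⟩
      · exact ⟨v.2, hGm, hG0, (le_rootMultiplicity_iff hG0).mpr h4⟩
      · exact ⟨v.1 + v.2, Submodule.add_mem _ hFm hGm, hFG0, (le_rootMultiplicity_iff hFG0).mpr h5⟩
  · -- surjectivity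
    intro V hV h2 hvan
    exact hsurj V hV h2 (hasVan_iff.mpr hvan)
  · -- injectivity up to scaling
    intro v hv w hw hv0 hw0 hspan
    obtain ⟨hF0, hG0, hFG0⟩ := ne_zero_of_mem_pairSpace hP hsum hv hv0
    obtain ⟨h1, h2, h3, h4, h5⟩ := hv
    obtain ⟨h1', h2', h3', h4', h5'⟩ := hw
    have hd1 : v.1.natDegree ≤ d := natDegree_le_of_degree_le (mem_degreeLE.mp h1)
    have hd2 : v.2.natDegree ≤ d := natDegree_le_of_degree_le (mem_degreeLE.mp h2)
    have hFm : w.1 ∈ Submodule.span k ({v.1, v.2} : Set k[X]) := by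
      rw [hspan]
      exact Submodule.subset_span (by simp)
    have hGm : w.2 ∈ Submodule.span k ({v.1, v.2} : Set k[X]) := by
      rw [hspan]
      exact Submodule.subset_span (by simp)
    obtain ⟨a, b, hab⟩ := Submodule.mem_span_pair.mp hFm
    obtain ⟨a', b', hab'⟩ := Submodule.mem_span_pair.mp hGm
    -- `b = 0`
    have hb : b = 0 := by
      by_contra hb
      have h6 : (X - C (P 0)) ^ e 0 ∣ b • v.2 := by
        have h7 : b • v.2 = w.1 - a • v.1 := by rw [← hab]; ring
        rw [h7]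
        exact dvd_sub h3' (dvd_smul_of_dvd a h3)
      have := add_le_of_dvd_dvd h01 hG0 hd2 (dvd_of_dvd_smul hb h6) h4
      omega
    -- `a' = 0`
    have ha' : a' = 0 := by
      by_contra ha'
      have h6 : (X - C (P 1)) ^ e 1 ∣ a' • v.1 := by
        have h7 : a' • v.1 = w.2 - b' • v.2 := by rw [← hab']; ring
        rw [h7]
        exact dvd_sub h4' (dvd_smul_of_dvd b' h4)
      have := add_le_of_dvd_dvd h01 hF0 hd1 h3 (dvd_of_dvd_smul ha' h6)
      omega
    subst hb
    subst ha'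
    rw [zero_smul, add_zero] at hab
    rw [zero_smul, zero_add] at hab'
    -- `b' = a`
    have hba : b' = a := by
      by_contra hba
      have hne : b' - a ≠ 0 := sub_ne_zero.mpr hba
      have h6 : (X - C (P 2)) ^ e 2 ∣ (b' - a) • v.2 := by
        have h7 : (b' - a) • v.2 = (w.1 + w.2) - a • (v.1 + v.2) := by
          rw [← hab, ← hab', sub_smul, smul_add]
          ring
        rw [h7]
        exact dvd_sub h5' (dvd_smul_of_dvd a h5)
      have := add_le_of_dvd_dvd h12 hG0 hd2 h4 (dvd_of_dvd_smul hne h6)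
      omega
    subst hba
    exact ⟨b', Prod.ext hab.symm hab'.symm⟩

end Groth.Agent.Lib.Helper44.Pencil
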