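import Groth.Agent.Lib.Helper44.PicLocalBC
import Groth.Agent.Lib.Helper64.ParaFLib
import Groth.Agent.S0543
import Groth.Prelude.Def_Formal2

/-!
# `Pic(U) → Pic(Û)` has trivial kernel for the punctured spectrum of a Noetherian local ring of
depth at least two
-/

set_option autoImplicit false
set_option linter.style.haveILetI false
universe u

open CategoryTheory AlgebraicGeometry TopologicalSpace Opposite TensorProduct IsLocalRing

namespace Groth.Agent.Lib.Helper44.PicComplInj

open Groth.Agent.Lib.Helper64.HartogsRel Groth.Agent.Lib.Helper64.ParaFLib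
  Groth.Agent.Lib.Helper64

variable (A : Type u) [CommRing A] [IsNoetherianRing A] [IsLocalRing A]

local notation "Â" => AdicCompletion (maximalIdeal A) A

theorem faithfullyFlat_compl : Module.FaithfullyFlat A Â :=
  Module.FaithfullyFlat.of_flat_of_isLocalHom

theorem flat_and_surjective_compl :
    Flat (Spec.map (CommRingCat.ofHom (algebraMap A Â))) ∧
      Surjective (Spec.map (CommRingCat.ofHom (algebraMap A Â))) := by
  rw [flat_and_surjective_SpecMap_iff]
  change (algebraMap A Â).FaithfullyFlat
  rw [RingHom.faithfullyFlat_algebraMap_iff]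
  exact faithfullyFlat_compl A

theorem hasWRegPair_compl (h : HasWRegPair A) : HasWRegPair Â := by
  obtain ⟨a, ha, b, hb, hab⟩ := h
  have h1 := RingTheory.Sequence.IsWeaklyRegular.of_flat (S := Â) hab
  refine ⟨algebraMap A Â a, ?_, algebraMap A Â b, ?_, by simpa using h1⟩
  · rw [AdicCompletion.maximalIdeal_eq_map (R := A)]
    exact Ideal.mem_map_of_mem _ ha
  · rw [AdicCompletion.maximalIdeal_eq_map (R := A)]
    exact Ideal.mem_map_of_mem _ hb

theorem eq_closedPoint_of_map (x : Spec (CommRingCat.of Â))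
    (hx : (Spec.map (CommRingCat.ofHom (algebraMap A Â))) x = closedPoint A) :
    x = closedPoint Â := by
  have h1 : x.asIdeal.comap (algebraMap A Â) = maximalIdeal A := by
    have := congrArg PrimeSpectrum.asIdeal hx
    exact this
  have h2 : maximalIdeal Â ≤ x.asIdeal := by
    rw [AdicCompletion.maximalIdeal_eq_map (R := A), Ideal.map_le_iff_le_comap, h1]
  have h3 : x.asIdeal = maximalIdeal Â :=
    ((IsLocalRing.maximalIdeal.isMaximal Â).eq_of_le x.isPrime.ne_top h2).symm
  exact PrimeSpectrum.ext h3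

theorem main (hdepth : (2 : ℕ∞) ≤ LocCoh.depth A A) :
    Formal2.PicPullbackInjective
      (Spec.map (CommRingCat.ofHom (algebraMap A Â)) ∣_ FEt.puncturedSpec A) := by
  intro L hL hε
  obtain ⟨ε⟩ := hε
  obtain ⟨hflat, hsurj⟩ := flat_and_surjective_compl A
  have hpb := isPullback_morphismRestrict (Spec.map (CommRingCat.ofHom (algebraMap A Â)))
    (FEt.puncturedSpec A)
  haveI : Surjective (Spec.map (CommRingCat.ofHom (algebraMap A Â)) ∣_ FEt.puncturedSpec A) :=
    MorphismProperty.of_isPullback (P := @Surjective) hpb.flip hsurj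
  haveI : IsNoetherianRing Â := Groth.Agent.S0543.result A _
  have hW : HasWRegPair Â := hasWRegPair_compl A (hasWRegPair_of_two_le_depth hdepth)
  have hbij : Function.Bijective
      ((Spec.map (CommRingCat.ofHom (algebraMap A Â))) ⁻¹ᵁ FEt.puncturedSpec A).ι.appTop := by
    refine HartogsRing.bijective_ι_appTop _ (fun x hx => ?_)
    have hx' : (Spec.map (CommRingCat.ofHom (algebraMap A Â))) x = closedPoint A :=
      not_not.1 hx
    rw [eq_closedPoint_of_map A x hx']
    exact (hasWRegPair_stalk_closedPoint Â hW).hasRegPair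
  haveI : IsLocalRing Γ(Spec (CommRingCat.of Â), ⊤) :=
    (Scheme.ΓSpecIso (CommRingCat.of Â)).commRingCatIsoToRingEquiv.symm.isLocalRing
  haveI : IsLocalRing Γ(((Spec.map (CommRingCat.ofHom (algebraMap A Â))) ⁻¹ᵁ
      FEt.puncturedSpec A : Scheme.{u}),
      ((Spec.map (CommRingCat.ofHom (algebraMap A Â))) ⁻¹ᵁ FEt.puncturedSpec A).ι ⁻¹ᵁ ⊤) :=
    (RingEquiv.ofBijective _ hbij).isLocalRing
  haveI : QuasiCompact (FEt.puncturedSpec A).ι := inferInstance
  exact ⟨(Groth.Agent.Lib.Helper44.PicLocalBC.general hpb L hL (isAffineOpen_top _)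
    (isAffineOpen_top _) ε).some⟩

end Groth.Agent.Lib.Helper44.PicComplInj
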