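import Groth.Agent.Lib.Helper44.TrivDescField
import Groth.Agent.Lib.Helper35.PbGen

/-!
# Triviality of invertible modules descends along a flat base change with local global functions

Cartesian square `g' ≫ f = f' ≫ g` with `f` qcqs, `g` flat, `S`, `S'` affine, `g'` surjective and
`Γ(X', O)` a local ring: an invertible module on `X` whose pullback to `X'` is trivial is trivial.
-/

set_option autoImplicit false
set_option linter.style.haveILetI false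
universe u

open CategoryTheory AlgebraicGeometry TopologicalSpace Opposite TensorProduct

namespace Groth.Agent.Lib.Helper44.PicLocalBC

open Scheme.Modules Groth.Agent.Lib.Lead.FlatBC Groth.Agent.Lib.Helper48.OmegaAff
  Groth.Agent.Lib.Helper35.PbInv Groth.Agent.Lib.Helper35.GlobGen
  Groth.Agent.Lib.Helper40.AffBC
  Groth.Agent.Lib.Helper35.Gen Groth.Agent.Lib.Helper35.AbSheaf
  Groth.Agent.Lib.Helper35.GenLocus Groth.Agent.Lib.Helper44.TrivDescField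

section Gen

variable {X : Scheme.{u}}

/-- generators are transported by isomorphisms -/
theorem isGen_of_iso {M N : X.Modules} (φ : M ≅ N) {U : X.Opens} {e : Γ(M, U)}
    (he : IsGen M U e) : IsGen N U ((φ.hom.app U).hom e) := by
  intro W hW
  have h1 : (fun r : Γ(X, W) => r • rs N hW ((φ.hom.app U).hom e)) =
      (φ.hom.app W).hom ∘ (fun r : Γ(X, W) => r • rs M hW e) := by
    funext r
    change r • rs N hW ((φ.hom.app U).hom e) = (φ.hom.app W).hom (r • rs M hW e)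
    rw [Scheme.Modules.Hom.app_smul]
    congr 1
    exact (nat_res φ.hom.mapPresheaf hW e).symm
  rw [h1]
  have h2 : Function.Bijective (φ.hom.app W).hom := by
    haveI : IsIso (φ.hom.app W) := by
      refine ⟨φ.inv.app W, ?_, ?_⟩
      · have := congrArg (fun ψ => Scheme.Modules.Hom.app ψ W) φ.hom_inv_id
        exact this
      · have := congrArg (fun ψ => Scheme.Modules.Hom.app ψ W) φ.inv_hom_id
        exact this
    exact (ConcreteCategory.isIso_iff_bijective (φ.hom.app W)).mp inferInstance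
  exact h2.comp (he W hW)

end Gen

section PullResNat

variable {X Y : Scheme.{u}} (f : X ⟶ Y)

theorem pullRes_nat {M N : Y.Modules} (φ : M ⟶ N) {V : Y.Opens} {U : X.Opens}
    (e : U ≤ f ⁻¹ᵁ V) (m : Γ(M, V)) :
    (((Scheme.Modules.pullback f).map φ).app U).hom (pullRes f M e m) =
      pullRes f N e ((φ.app V).hom m) := by
  have h1 : pullRes f M e m = rs ((Scheme.Modules.pullback f).obj M) e (pbSec f M V m) := rfl
  have h2 : pullRes f N e ((φ.app V).hom m) =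
      rs ((Scheme.Modules.pullback f).obj N) e (pbSec f N V ((φ.app V).hom m)) := rfl
  rw [h1, h2, ← pbSec_nat]
  exact nat_res ((Scheme.Modules.pullback f).map φ).mapPresheaf e (pbSec f M V m)

end PullResNat

section General

variable {X S X' S' : Scheme.{u}} {f : X ⟶ S} {g : S' ⟶ S} {g' : X' ⟶ X} {f' : X' ⟶ S'}

theorem general (h : IsPullback g' f' f g) [QuasiCompact f] [QuasiSeparated f] [Flat g]
    [Surjective g'] (L : X.Modules) (hL : PicF.IsInvertible L)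
    (hS : IsAffineOpen (⊤ : S.Opens)) (hS' : IsAffineOpen (⊤ : S'.Opens))
    [IsLocalRing Γ(X', f' ⁻¹ᵁ ⊤)]
    (ε : (Scheme.Modules.pullback g').obj L ≅ Coh.structureModule X') :
    Nonempty (L ≅ Coh.structureModule X) := by
  haveI : L.IsQuasicoherent := Groth.Agent.Lib.Lead.Inv.isQuasicoherent_of_isInvertible hL
  have e0 : (⊤ : S'.Opens) ≤ g ⁻¹ᵁ ⊤ := le_rfl
  have hbij := Psi_preimage_bijective h L e0 hS hS'
  have eU : f' ⁻¹ᵁ ⊤ ≤ g' ⁻¹ᵁ (f ⁻¹ᵁ ⊤) := preimage_le_of_le h.w e0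
  -- the value of `ε` on sections over `W' = f'⁻¹ ⊤`
  let E : Γ((Scheme.Modules.pullback g').obj L, f' ⁻¹ᵁ ⊤) → Γ(X', f' ⁻¹ᵁ ⊤) :=
    fun y => (ε.hom.app (f' ⁻¹ᵁ ⊤)).hom y
  have hE_add : ∀ y z, E (y + z) = E y + E z := fun y z => map_add _ y z
  have hE_smul : ∀ (r : Γ(X', f' ⁻¹ᵁ ⊤)) y, E (r • y) = r * E y := fun r y =>
    Scheme.Modules.Hom.app_smul ε.hom r y
  have hE_zero : E 0 = 0 := map_zero (ε.hom.app (f' ⁻¹ᵁ ⊤)).hom
  obtain ⟨m, hm⟩ : ∃ m : Γ(L, f ⁻¹ᵁ ⊤), IsUnit (E (pullRes g' L eU m)) := by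
    by_contra hcon
    push Not at hcon
    have hP_zero : E 0 ∈ IsLocalRing.maximalIdeal Γ(X', f' ⁻¹ᵁ ⊤) := by
      rw [hE_zero]; exact Ideal.zero_mem _
    have hP_add : ∀ y z, E y ∈ IsLocalRing.maximalIdeal Γ(X', f' ⁻¹ᵁ ⊤) →
        E z ∈ IsLocalRing.maximalIdeal Γ(X', f' ⁻¹ᵁ ⊤) →
        E (y + z) ∈ IsLocalRing.maximalIdeal Γ(X', f' ⁻¹ᵁ ⊤) := by
      intro y z hy hz
      rw [hE_add]; exact Ideal.add_mem _ hy hz
    have hP_smul : ∀ (r : Γ(X', f' ⁻¹ᵁ ⊤)) y,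
        E y ∈ IsLocalRing.maximalIdeal Γ(X', f' ⁻¹ᵁ ⊤) →
        E (r • y) ∈ IsLocalRing.maximalIdeal Γ(X', f' ⁻¹ᵁ ⊤) := by
      intro r y hy
      rw [hE_smul]; exact Ideal.mul_mem_left _ _ hy
    have hmem : ∀ x : Ap g e0 ⊗[Γ(S, ⊤)] SecA f L (le_refl (f ⁻¹ᵁ ⊤)),
        E (Psi f g g' f' h.w L e0 (le_refl (f ⁻¹ᵁ ⊤)) (le_refl (f' ⁻¹ᵁ ⊤)) eU x) ∈
          IsLocalRing.maximalIdeal Γ(X', f' ⁻¹ᵁ ⊤) := by
      intro x
      induction x using TensorProduct.induction_on with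
      | zero =>
        rw [map_zero]
        exact hP_zero
      | tmul a m =>
        rw [Psi_tmul]
        exact hP_smul (f'.appLE ⊤ (f' ⁻¹ᵁ ⊤) le_rfl (show Γ(S', ⊤) from a))
          (pullRes g' L eU (show Γ(L, f ⁻¹ᵁ ⊤) from m))
          ((IsLocalRing.mem_maximalIdeal _).mpr (hcon _))
      | add x y hx hy =>
        rw [map_add]
        exact hP_add _ _ hx hy
    obtain ⟨x, hx⟩ := hbij.2 ((ε.inv.app (f' ⁻¹ᵁ ⊤)).hom
      (show Γ(Coh.structureModule X', f' ⁻¹ᵁ ⊤) from (1 : Γ(X', f' ⁻¹ᵁ ⊤))))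
    have h2 := hmem x
    rw [hx] at h2
    have h3 : E ((ε.inv.app (f' ⁻¹ᵁ ⊤)).hom
        (show Γ(Coh.structureModule X', f' ⁻¹ᵁ ⊤) from (1 : Γ(X', f' ⁻¹ᵁ ⊤)))) =
        (1 : Γ(X', f' ⁻¹ᵁ ⊤)) := by
      have := congrArg (fun φ => (Scheme.Modules.Hom.app φ (f' ⁻¹ᵁ ⊤)).hom
        (show Γ(Coh.structureModule X', f' ⁻¹ᵁ ⊤) from (1 : Γ(X', f' ⁻¹ᵁ ⊤)))) ε.inv_hom_id
      exact this
    rw [h3] at h2
    exact (IsLocalRing.mem_maximalIdeal _).mp h2 isUnit_one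
  -- the section `s`
  have hle : (⊤ : X.Opens) ≤ f ⁻¹ᵁ ⊤ := le_rfl
  set s : Coh.structureModule X ⟶ L :=
    secHom L ((L.presheaf.map (homOfLE hle).op).hom m) with hs
  have hs1 : (s.app (f ⁻¹ᵁ ⊤)).hom (1 : Γ(X, f ⁻¹ᵁ ⊤)) = m := by
    rw [hs, secHom_app_one]
    exact res_res_self L le_top hle m
  let e := (Groth.Agent.Lib.Helper40.NisGen.pullbackUnitIso g').symm
  -- `y = pullRes m` generates
  have hy : IsGen ((Scheme.Modules.pullback g').obj L) (f' ⁻¹ᵁ ⊤) (pullRes g' L eU m) := by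
    have h1 : IsGen (Coh.structureModule X') (f' ⁻¹ᵁ ⊤) (E (pullRes g' L eU m)) := by
      have h2 := (isGen_smul_iff (isGen_one (f' ⁻¹ᵁ ⊤)) (E (pullRes g' L eU m))).mpr
        (X'.basicOpen_of_isUnit hm).ge
      have h3 : (E (pullRes g' L eU m) •
          ((1 : Γ(X', f' ⁻¹ᵁ ⊤)) : Γ(Coh.structureModule X', f' ⁻¹ᵁ ⊤)) :
            Γ(Coh.structureModule X', f' ⁻¹ᵁ ⊤)) = E (pullRes g' L eU m) :=
        mul_one (E (pullRes g' L eU m))
      exact Eq.mp (congrArg (IsGen (Coh.structureModule X') (f' ⁻¹ᵁ ⊤)) h3) h2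
    have h4 := isGen_of_iso ε.symm h1
    have h5 : (ε.symm.hom.app (f' ⁻¹ᵁ ⊤)).hom (E (pullRes g' L eU m)) = pullRes g' L eU m := by
      have := congrArg (fun φ => (Scheme.Modules.Hom.app φ (f' ⁻¹ᵁ ⊤)).hom
        (pullRes g' L eU m)) ε.hom_inv_id
      exact this
    rw [h5] at h4
    exact h4
  -- `p = pullRes 1` generates `g'^* O`
  have hp : IsGen ((Scheme.Modules.pullback g').obj (Coh.structureModule X)) (f' ⁻¹ᵁ ⊤)
      (pullRes g' (Coh.structureModule X) eU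
        ((1 : Γ(X, f ⁻¹ᵁ ⊤)) : Γ(Coh.structureModule X, f ⁻¹ᵁ ⊤))) :=
    (isGen_pbSec g' _ (f ⁻¹ᵁ ⊤) _ (isGen_one (f ⁻¹ᵁ ⊤))).mono eU
  have hω : IsGen ((Scheme.Modules.pullback g').obj (Coh.structureModule X)) (f' ⁻¹ᵁ ⊤)
      (SecTwist.val e.hom (f' ⁻¹ᵁ ⊤)) := by
    rw [isGen_val_iff, genLocus_eq_top_of_isIso]
    exact le_top
  obtain ⟨a₀, ha₀⟩ := hp.exists_eq_smul (SecTwist.val e.hom (f' ⁻¹ᵁ ⊤))
  have ha₀top : f' ⁻¹ᵁ ⊤ ≤ X'.basicOpen a₀ := by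
    rw [ha₀] at hω
    exact (isGen_smul_iff hp a₀).mp hω
  have hval : SecTwist.val (e.hom ≫ (Scheme.Modules.pullback g').map s) (f' ⁻¹ᵁ ⊤) =
      a₀ • pullRes g' L eU m := by
    have h1 : SecTwist.val (e.hom ≫ (Scheme.Modules.pullback g').map s) (f' ⁻¹ᵁ ⊤) =
        (((Scheme.Modules.pullback g').map s).app (f' ⁻¹ᵁ ⊤)).hom
          (SecTwist.val e.hom (f' ⁻¹ᵁ ⊤)) := rfl
    rw [h1, ha₀, Scheme.Modules.Hom.app_smul, pullRes_nat, hs1]
  have hgen : f' ⁻¹ᵁ ⊤ ≤ CohB1.genLocus ((Scheme.Modules.pullback g').obj L)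
      (e.hom ≫ (Scheme.Modules.pullback g').map s) := by
    rw [← isGen_val_iff, hval]
    exact (isGen_smul_iff hy a₀).mpr ha₀top
  rw [genLocus_pullback_section g' L hL s e] at hgen
  refine Groth.Agent.Lib.Helper35.IntegralSec.nonempty_iso_of_genLocus_eq_top s ?_
  rw [eq_top_iff]
  intro x _
  obtain ⟨x', rfl⟩ := g'.surjective x
  exact hgen (show x' ∈ f' ⁻¹ᵁ ⊤ from trivial)

end General

end Groth.Agent.Lib.Helper44.PicLocalBC
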