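import Groth.Agent.Lib.Helper44.StairLA

/-! Rank–nullity for a family of path complexes. (helper44)

Vertices and edges are indexed by pairs `(e, a)` (level `e`, position `a`); the edge `(e, a)` joins
the vertices `(e, a)` and `(e, a + 1)`. -/

set_option autoImplicit false
set_option linter.style.haveILetI false
set_option linter.unusedSectionVars false

universe u

namespace Groth.Agent.Lib.Helper44.SliceLA

open Groth.Agent.Lib.Helper44.StairLA

variable {k : Type u} [Field k]

/-- rank–nullity for a matrix and its transpose -/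
theorem finrank_ker_add_card {m n : Type} [Fintype m] [Fintype n] [DecidableEq m] [DecidableEq n]
    (A : Matrix m n k) :
    Module.finrank k ↥(LinearMap.ker A.mulVecLin) + Fintype.card m =
      Fintype.card n + Module.finrank k ↥(LinearMap.ker A.transpose.mulVecLin) := by
  have h1 := LinearMap.finrank_range_add_finrank_ker A.mulVecLin
  have h2 := LinearMap.finrank_range_add_finrank_ker A.transpose.mulVecLin
  rw [Module.finrank_fintype_fun_eq_card] at h1 h2
  have h3 : Module.finrank k ↥(LinearMap.range A.transpose.mulVecLin) =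
      Module.finrank k ↥(LinearMap.range A.mulVecLin) := by
    have := Matrix.rank_transpose A
    unfold Matrix.rank at this
    exact this
  omega

section path

open Classical

variable (k) (V E : Finset (ℕ × ℕ))

/-- the coboundary matrix of the path complexes -/
noncomputable def Dmat : Matrix ↥E ↥V k := fun ε v =>
  (if v.1 = ε.1 then 1 else 0) - (if v.1 = (ε.1.1, ε.1.2 + 1) then 1 else 0)

variable {k V E}

theorem Dmat_mulVec (c : ↥V → k) (ε : ↥E) :
    (Dmat k V E).mulVec c ε = extend0 V c ε.1 - extend0 V c (ε.1.1, ε.1.2 + 1) := by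
  unfold Matrix.mulVec dotProduct
  simp only [Dmat, sub_mul]
  rw [Finset.sum_sub_distrib, sum_indicator, sum_indicator]

theorem sum_shift_succ (w : ↥E → k) (e a : ℕ) :
    ∑ ε : ↥E, (if ((e, a + 1) : ℕ × ℕ) = (ε.1.1, ε.1.2 + 1) then (1 : k) else 0) * w ε =
      extend0 E w (e, a) := by
  rw [← sum_indicator' E w (e, a)]
  refine Finset.sum_congr rfl fun ε _ => ?_
  have : ((e, a + 1) : ℕ × ℕ) = (ε.1.1, ε.1.2 + 1) ↔ ((e, a) : ℕ × ℕ) = ε.1 := by
    constructor
    · intro h
      have h1 := congrArg Prod.fst h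
      have h2 := congrArg Prod.snd h
      simp only at h1 h2
      exact Prod.ext h1 (by simp only; omega)
    · intro h
      rw [← h]
  by_cases hc : ((e, a) : ℕ × ℕ) = ε.1
  · rw [if_pos hc, if_pos (this.mpr hc)]
  · rw [if_neg hc, if_neg (fun h => hc (this.mp h))]

theorem sum_shift_zero (w : ↥E → k) (e : ℕ) :
    ∑ ε : ↥E, (if ((e, 0) : ℕ × ℕ) = (ε.1.1, ε.1.2 + 1) then (1 : k) else 0) * w ε = 0 := by
  refine Finset.sum_eq_zero fun ε _ => ?_
  rw [if_neg, zero_mul]
  intro h
  have h2 := congrArg Prod.snd h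
  simp only at h2
  omega

theorem Dmat_tr_mulVec (w : ↥E → k) (v : ↥V) :
    (Dmat k V E).transpose.mulVec w v = extend0 E w v.1 -
      ∑ ε : ↥E, (if v.1 = (ε.1.1, ε.1.2 + 1) then (1 : k) else 0) * w ε := by
  unfold Matrix.mulVec dotProduct
  simp only [Matrix.transpose_apply, Dmat, sub_mul]
  rw [Finset.sum_sub_distrib, sum_indicator']

/-- the bound for the kernel of the transpose -/
theorem finrank_kerTr_le (s u : ℤ) (n : ℕ) (yok : ℕ × ℕ → Prop)
    (A1 : ∀ e a, (e, a) ∈ E → 0 ≤ (a : ℤ) + s → (e, a) ∈ V)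
    (A2 : ∀ e a, (e, a) ∈ E → -1 ≤ (a : ℤ) + s)
    (A3 : ∀ e a, (e, a) ∈ E → yok (e, a + 1) → (e, a + 1) ∈ V)
    (A4 : ∀ x, ¬ yok x → u < 0)
    (A5 : ∀ e a, (e, a) ∈ E → a + 1 < n) :
    Module.finrank k ↥(LinearMap.ker (Dmat k V E).transpose.mulVecLin) ≤
      (E.filter fun ε => (ε.2 : ℤ) + s = -1 ∧ u < 0).card := by
  set G := E.filter fun ε => (ε.2 : ℤ) + s = -1 ∧ u < 0 with hG
  let R : ↥(LinearMap.ker (Dmat k V E).transpose.mulVecLin) →ₗ[k] (↥G → k) :=
    { toFun := fun w g => extend0 E w.1 g.1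
      map_add' := fun w w' => by
        funext g
        have hg : g.1 ∈ E := (Finset.mem_filter.mp g.2).1
        simp only [Pi.add_apply, extend0_mem _ _ hg]
        rfl
      map_smul' := fun r w => by
        funext g
        have hg : g.1 ∈ E := (Finset.mem_filter.mp g.2).1
        simp only [Pi.smul_apply, extend0_mem _ _ hg, RingHom.id_apply]
        rfl }
  have hinj : Function.Injective R := by
    rw [← LinearMap.ker_eq_bot, LinearMap.ker_eq_bot']
    intro w hw
    have hker : ∀ v : ↥V, (Dmat k V E).transpose.mulVec w.1 v = 0 := by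
      intro v
      have := w.2
      rw [LinearMap.mem_ker, Matrix.mulVecLin_apply] at this
      exact congrFun this v
    -- vertex equations
    have hv0 : ∀ e, (e, 0) ∈ V → extend0 E w.1 (e, 0) = 0 := by
      intro e he
      have := hker ⟨(e, 0), he⟩
      rw [Dmat_tr_mulVec, sum_shift_zero, sub_zero] at this
      exact this
    have hvs : ∀ e a, (e, a + 1) ∈ V → extend0 E w.1 (e, a + 1) = extend0 E w.1 (e, a) := by
      intro e a he
      have := hker ⟨(e, a + 1), he⟩
      rw [Dmat_tr_mulVec, sum_shift_succ, sub_eq_zero] at this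
      exact this
    have hmemE : ∀ x, extend0 E w.1 x ≠ 0 → x ∈ E := by
      intro x hx
      by_contra hc
      exact hx (extend0_not_mem _ _ hc)
    -- left chain
    have hleft : ∀ m : ℕ, ∀ e a : ℕ, (a : ℤ) + s + 1 = m → extend0 E w.1 (e, a) ≠ 0 →
        ∃ a0 : ℕ, (a0 : ℤ) + s = -1 ∧ (e, a0) ∈ E ∧
          extend0 E w.1 (e, a0) = extend0 E w.1 (e, a) := by
      intro m
      induction m with
      | zero =>
        intro e a ha hne
        exact ⟨a, by push_cast at ha; omega, hmemE _ hne, rfl⟩
      | succ m ih =>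
        intro e a ha hne
        have hE := hmemE _ hne
        have hV := A1 e a hE (by push_cast at ha; omega)
        rcases a with _ | a'
        · exact absurd (hv0 e hV) hne
        · have h1 := hvs e a' hV
          rw [h1] at hne
          obtain ⟨a0, h2, h3, h4⟩ := ih e a' (by push_cast at ha ⊢; omega) hne
          exact ⟨a0, h2, h3, h4.trans h1.symm⟩
    -- right chain
    have hright : ∀ m : ℕ, ∀ e a : ℕ, n - a = m → extend0 E w.1 (e, a) ≠ 0 → u < 0 := by
      intro m
      induction m with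
      | zero =>
        intro e a ha hne
        have := A5 e a (hmemE _ hne)
        omega
      | succ m ih =>
        intro e a ha hne
        have hE := hmemE _ hne
        by_cases hy : yok (e, a + 1)
        · have hV := A3 e a hE hy
          have h1 := hvs e a hV
          rw [← h1] at hne
          exact ih e (a + 1) (by omega) hne
        · exact A4 _ hy
    -- conclusion
    apply Subtype.ext
    funext ε
    by_contra hne
    have hne' : extend0 E w.1 ε.1 ≠ 0 := by
      rw [extend0_mem _ _ ε.2]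
      exact hne
    have h2 := A2 ε.1.1 ε.1.2 ε.2
    obtain ⟨a0, h3, h4, h5⟩ := hleft ((ε.1.2 : ℤ) + s + 1).toNat ε.1.1 ε.1.2 (by omega) hne'
    have hu := hright (n - ε.1.2) ε.1.1 ε.1.2 rfl hne'
    have hg : (ε.1.1, a0) ∈ G := by
      rw [hG, Finset.mem_filter]
      exact ⟨h4, h3, hu⟩
    have h6 : R w ⟨(ε.1.1, a0), hg⟩ = 0 := by
      rw [hw]
      rfl
    have h7 : R w ⟨(ε.1.1, a0), hg⟩ = extend0 E w.1 (ε.1.1, a0) := rfl
    rw [h7, h5] at h6
    exact hne' h6
  have := LinearMap.finrank_le_finrank_of_injective hinj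
  rwa [Module.finrank_fintype_fun_eq_card, Fintype.card_coe] at this

/-- the dimension count for the path complexes -/
theorem finrank_ker_le (s u : ℤ) (n : ℕ) (yok : ℕ × ℕ → Prop)
    (A1 : ∀ e a, (e, a) ∈ E → 0 ≤ (a : ℤ) + s → (e, a) ∈ V)
    (A2 : ∀ e a, (e, a) ∈ E → -1 ≤ (a : ℤ) + s)
    (A3 : ∀ e a, (e, a) ∈ E → yok (e, a + 1) → (e, a + 1) ∈ V)
    (A4 : ∀ x, ¬ yok x → u < 0)
    (A5 : ∀ e a, (e, a) ∈ E → a + 1 < n) :
    Module.finrank k ↥(LinearMap.ker (Dmat k V E).mulVecLin) + E.card ≤
      V.card + (E.filter fun ε => (ε.2 : ℤ) + s = -1 ∧ u < 0).card := by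
  have h1 := finrank_ker_add_card (Dmat k V E)
  have h2 := finrank_kerTr_le (k := k) (V := V) (E := E) s u n yok A1 A2 A3 A4 A5
  rw [Fintype.card_coe, Fintype.card_coe] at h1
  omega

end path

end Groth.Agent.Lib.Helper44.SliceLA
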