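import Mathlib

/-! Planar duality for staircase regions, by linear algebra. (helper44)

`h : ℕ → ℕ → ℕ` is a staircase (antitone, finitely supported), `g` its shift by `(i, j)`, `c` a level.
`Wc` is the space of functions on the vertices of the sublevel complex `K` (relative to `L`) constant
along the edges of `K`; `Wc'` the space of functions on the faces outside `K`, constant across the
edges outside `K` and vanishing at the boundary.  Main result: `finrank_Wc_add`. -/

set_option autoImplicit false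
set_option linter.style.haveILetI false
set_option linter.unusedSectionVars false

universe u

namespace Groth.Agent.Lib.Helper44.StairLA

/-- staircase functions -/
structure Stair (h : ℕ → ℕ → ℕ) : Prop where
  anti1 : ∀ a b, h (a + 1) b ≤ h a b
  anti2 : ∀ a b, h a (b + 1) ≤ h a b
  bdd : ∃ M, ∀ a b, (M ≤ a ∨ M ≤ b) → h a b = 0

theorem Stair.anti {h : ℕ → ℕ → ℕ} (hs : Stair h) {a b a' b' : ℕ} (h1 : a ≤ a') (h2 : b ≤ b') :
    h a' b' ≤ h a b := by
  obtain ⟨s, rfl⟩ := Nat.exists_eq_add_of_le h1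
  obtain ⟨t, rfl⟩ := Nat.exists_eq_add_of_le h2
  have hA : ∀ s, h (a + s) b ≤ h a b := by
    intro s
    induction s with
    | zero => exact le_rfl
    | succ s ih => exact le_trans (hs.anti1 _ _) ih
  have hB : ∀ t, h (a + s) (b + t) ≤ h (a + s) b := by
    intro t
    induction t with
    | zero => exact le_rfl
    | succ t ih => exact le_trans (hs.anti2 _ _) ih
  exact le_trans (hB t) (hA s)

section

variable (h : ℕ → ℕ → ℕ) (i j c : ℕ)

/-- the shifted staircase -/
def g (a b : ℕ) : ℕ := h (a + i) (b + j)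

/-- vertex in `K` -/
def VK (a b : ℕ) : Prop := h a b ≤ g h i j a b + c
/-- horizontal edge in `K` -/
def EK1 (a b : ℕ) : Prop := h a b ≤ g h i j (a + 1) b + c
/-- vertical edge in `K` -/
def EK2 (a b : ℕ) : Prop := h a b ≤ g h i j a (b + 1) + c
/-- face in `K` -/
def FK (a b : ℕ) : Prop := h a b ≤ g h i j (a + 1) (b + 1) + c

variable {h i j c}

theorem g_le (hs : Stair h) (a b : ℕ) : g h i j a b ≤ h a b :=
  hs.anti (Nat.le_add_right _ _) (Nat.le_add_right _ _)

theorem g_anti (hs : Stair h) {a b a' b' : ℕ} (h1 : a ≤ a') (h2 : b ≤ b') :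
    g h i j a' b' ≤ g h i j a b :=
  hs.anti (by omega) (by omega)

theorem EK1.vk (hs : Stair h) {a b : ℕ} (he : EK1 h i j c a b) : VK h i j c a b := by
  unfold EK1 at he; unfold VK
  have := g_anti (i := i) (j := j) hs (Nat.le_add_right a 1) (le_refl b)
  omega

theorem EK1.vk' (hs : Stair h) {a b : ℕ} (he : EK1 h i j c a b) : VK h i j c (a + 1) b := by
  unfold EK1 at he; unfold VK
  have := hs.anti1 a b
  omega

theorem EK2.vk (hs : Stair h) {a b : ℕ} (he : EK2 h i j c a b) : VK h i j c a b := by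
  unfold EK2 at he; unfold VK
  have := g_anti (i := i) (j := j) hs (le_refl a) (Nat.le_add_right b 1)
  omega

theorem EK2.vk' (hs : Stair h) {a b : ℕ} (he : EK2 h i j c a b) : VK h i j c a (b + 1) := by
  unfold EK2 at he; unfold VK
  have := hs.anti2 a b
  omega

theorem FK.ek1 (hs : Stair h) {a b : ℕ} (hf : FK h i j c a b) : EK1 h i j c a b := by
  unfold FK at hf; unfold EK1
  have := g_anti (i := i) (j := j) hs (le_refl (a + 1)) (Nat.le_add_right b 1)
  omega

theorem FK.ek2 (hs : Stair h) {a b : ℕ} (hf : FK h i j c a b) : EK2 h i j c a b := by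
  unfold FK at hf; unfold EK2
  have := g_anti (i := i) (j := j) hs (Nat.le_add_right a 1) (le_refl (b + 1))
  omega

theorem FK.ek1_top (hs : Stair h) {a b : ℕ} (hf : FK h i j c a b) : EK1 h i j c a (b + 1) := by
  unfold FK at hf; unfold EK1
  have := hs.anti2 a b
  omega

theorem FK.ek2_right (hs : Stair h) {a b : ℕ} (hf : FK h i j c a b) : EK2 h i j c (a + 1) b := by
  unfold FK at hf; unfold EK2
  have := hs.anti1 a b
  omega

theorem ek1_of_le {a b : ℕ} (hle : h a b ≤ c) : EK1 h i j c a b := by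
  unfold EK1; omega

theorem ek2_of_le {a b : ℕ} (hle : h a b ≤ c) : EK2 h i j c a b := by
  unfold EK2; omega

end


/-! ### The function spaces -/

section spaces

variable (k : Type u) [Field k] (h : ℕ → ℕ → ℕ) (i j c : ℕ)

/-- functions on the vertices of `K ∖ L`, constant along edges of `K` -/
def Wc : Submodule k (ℕ × ℕ → k) where
  carrier := {u | (∀ a b, ¬ (c < h a b ∧ VK h i j c a b) → u (a, b) = 0) ∧
    (∀ a b, EK1 h i j c a b → u (a, b) = u (a + 1, b)) ∧
    (∀ a b, EK2 h i j c a b → u (a, b) = u (a, b + 1))}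
  zero_mem' := ⟨fun _ _ _ => rfl, fun _ _ _ => rfl, fun _ _ _ => rfl⟩
  add_mem' := by
    rintro u v ⟨hu1, hu2, hu3⟩ ⟨hv1, hv2, hv3⟩
    refine ⟨fun a b hP => ?_, fun a b h1 => ?_, fun a b h1 => ?_⟩
    · rw [Pi.add_apply, hu1 a b hP, hv1 a b hP, add_zero]
    · rw [Pi.add_apply, Pi.add_apply, hu2 a b h1, hv2 a b h1]
    · rw [Pi.add_apply, Pi.add_apply, hu3 a b h1, hv3 a b h1]
  smul_mem' := by
    rintro r u ⟨hu1, hu2, hu3⟩
    refine ⟨fun a b hP => ?_, fun a b h1 => ?_, fun a b h1 => ?_⟩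
    · rw [Pi.smul_apply, hu1 a b hP, smul_zero]
    · rw [Pi.smul_apply, Pi.smul_apply, hu2 a b h1]
    · rw [Pi.smul_apply, Pi.smul_apply, hu3 a b h1]

/-- functions on the vertices outside `L`, constant along edges of `K` -/
def Ut : Submodule k (ℕ × ℕ → k) where
  carrier := {u | (∀ a b, ¬ (c < h a b) → u (a, b) = 0) ∧
    (∀ a b, EK1 h i j c a b → u (a, b) = u (a + 1, b)) ∧
    (∀ a b, EK2 h i j c a b → u (a, b) = u (a, b + 1))}
  zero_mem' := ⟨fun _ _ _ => rfl, fun _ _ _ => rfl, fun _ _ _ => rfl⟩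
  add_mem' := by
    rintro u v ⟨hu1, hu2, hu3⟩ ⟨hv1, hv2, hv3⟩
    refine ⟨fun a b hP => ?_, fun a b h1 => ?_, fun a b h1 => ?_⟩
    · rw [Pi.add_apply, hu1 a b hP, hv1 a b hP, add_zero]
    · rw [Pi.add_apply, Pi.add_apply, hu2 a b h1, hv2 a b h1]
    · rw [Pi.add_apply, Pi.add_apply, hu3 a b h1, hv3 a b h1]
  smul_mem' := by
    rintro r u ⟨hu1, hu2, hu3⟩
    refine ⟨fun a b hP => ?_, fun a b h1 => ?_, fun a b h1 => ?_⟩
    · rw [Pi.smul_apply, hu1 a b hP, smul_zero]
    · rw [Pi.smul_apply, Pi.smul_apply, hu2 a b h1]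
    · rw [Pi.smul_apply, Pi.smul_apply, hu3 a b h1]

/-- functions on the faces outside `K`, constant across the edges outside `K`, zero at the
boundary -/
def Wc' : Submodule k (ℕ × ℕ → k) where
  carrier := {v | (∀ a b, FK h i j c a b → v (a, b) = 0) ∧
    (∀ a b, ¬ EK2 h i j c (a + 1) b → v (a, b) = v (a + 1, b)) ∧
    (∀ a b, ¬ EK1 h i j c a (b + 1) → v (a, b) = v (a, b + 1)) ∧
    (∀ b, ¬ EK2 h i j c 0 b → v (0, b) = 0) ∧
    (∀ a, ¬ EK1 h i j c a 0 → v (a, 0) = 0)}
  zero_mem' := ⟨fun _ _ _ => rfl, fun _ _ _ => rfl, fun _ _ _ => rfl, fun _ _ => rfl,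
    fun _ _ => rfl⟩
  add_mem' := by
    rintro u v ⟨hu1, hu2, hu3, hu4, hu5⟩ ⟨hv1, hv2, hv3, hv4, hv5⟩
    refine ⟨fun a b hP => ?_, fun a b h1 => ?_, fun a b h1 => ?_, fun b h1 => ?_, fun a h1 => ?_⟩
    · rw [Pi.add_apply, hu1 a b hP, hv1 a b hP, add_zero]
    · rw [Pi.add_apply, Pi.add_apply, hu2 a b h1, hv2 a b h1]
    · rw [Pi.add_apply, Pi.add_apply, hu3 a b h1, hv3 a b h1]
    · rw [Pi.add_apply, hu4 b h1, hv4 b h1, add_zero]
    · rw [Pi.add_apply, hu5 a h1, hv5 a h1, add_zero]
  smul_mem' := by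
    rintro r u ⟨hu1, hu2, hu3, hu4, hu5⟩
    refine ⟨fun a b hP => ?_, fun a b h1 => ?_, fun a b h1 => ?_, fun b h1 => ?_, fun a h1 => ?_⟩
    · rw [Pi.smul_apply, hu1 a b hP, smul_zero]
    · rw [Pi.smul_apply, Pi.smul_apply, hu2 a b h1]
    · rw [Pi.smul_apply, Pi.smul_apply, hu3 a b h1]
    · rw [Pi.smul_apply, hu4 b h1, smul_zero]
    · rw [Pi.smul_apply, hu5 a h1, smul_zero]

end spaces

/-! ### Extension by zero and indicator sums -/

section ext

variable {k : Type u} [Field k] {α : Type*} [DecidableEq α]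

/-- extension by zero of a function on a finset -/
def extend0 (s : Finset α) (w : ↥s → k) (p : α) : k :=
  if hp : p ∈ s then w ⟨p, hp⟩ else 0

theorem extend0_mem (s : Finset α) (w : ↥s → k) {p : α} (hp : p ∈ s) :
    extend0 s w p = w ⟨p, hp⟩ := by
  unfold extend0; rw [dif_pos hp]

theorem extend0_not_mem (s : Finset α) (w : ↥s → k) {p : α} (hp : p ∉ s) :
    extend0 s w p = 0 := by
  unfold extend0; rw [dif_neg hp]

theorem sum_indicator (s : Finset α) (w : ↥s → k) (p : α) :
    ∑ e : ↥s, (if e.1 = p then (1 : k) else 0) * w e = extend0 s w p := by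
  by_cases hp : p ∈ s
  · rw [extend0_mem s w hp, Finset.sum_eq_single ⟨p, hp⟩]
    · simp
    · intro e _ he
      rw [if_neg, zero_mul]
      intro h
      exact he (Subtype.ext h)
    · intro h; exact absurd (Finset.mem_univ _) h
  · rw [extend0_not_mem s w hp]
    refine Finset.sum_eq_zero fun e _ => ?_
    rw [if_neg, zero_mul]
    intro h
    exact hp (h ▸ e.2)

theorem sum_indicator' (s : Finset α) (w : ↥s → k) (p : α) :
    ∑ e : ↥s, (if p = e.1 then (1 : k) else 0) * w e = extend0 s w p := by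
  rw [← sum_indicator s w p]
  refine Finset.sum_congr rfl fun e _ => ?_
  by_cases h : e.1 = p
  · rw [if_pos h, if_pos h.symm]
  · rw [if_neg h, if_neg (fun h' => h h'.symm)]

end ext


/-! ### The finite sets of cells outside `K` -/

section cells

open Classical

variable (h : ℕ → ℕ → ℕ) (i j c M : ℕ)

/-- the box containing the support -/
def Box : Finset (ℕ × ℕ) := Finset.range M ×ˢ Finset.range M

/-- vertices outside `K` -/
noncomputable def VX : Finset (ℕ × ℕ) := (Box M).filter fun p => ¬ VK h i j c p.1 p.2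
/-- horizontal edges outside `K` -/
noncomputable def EX1 : Finset (ℕ × ℕ) := (Box M).filter fun p => ¬ EK1 h i j c p.1 p.2
/-- vertical edges outside `K` -/
noncomputable def EX2 : Finset (ℕ × ℕ) := (Box M).filter fun p => ¬ EK2 h i j c p.1 p.2
/-- faces outside `K` -/
noncomputable def FX : Finset (ℕ × ℕ) := (Box M).filter fun p => ¬ FK h i j c p.1 p.2

variable {h i j c M}

theorem mem_Box_of_pos (hM : ∀ a b, (M ≤ a ∨ M ≤ b) → h a b = 0) {p : ℕ × ℕ}
    (hp : 0 < h p.1 p.2) : p ∈ Box M := by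
  unfold Box
  rw [Finset.mem_product, Finset.mem_range, Finset.mem_range]
  by_contra hcon
  have : M ≤ p.1 ∨ M ≤ p.2 := by omega
  have := hM p.1 p.2 this
  omega

theorem mem_VX (hM : ∀ a b, (M ≤ a ∨ M ≤ b) → h a b = 0) {p : ℕ × ℕ} :
    p ∈ VX h i j c M ↔ ¬ VK h i j c p.1 p.2 := by
  unfold VX
  rw [Finset.mem_filter]
  refine ⟨fun hp => hp.2, fun hp => ⟨mem_Box_of_pos hM ?_, hp⟩⟩
  unfold VK at hp; omega

theorem mem_EX1 (hM : ∀ a b, (M ≤ a ∨ M ≤ b) → h a b = 0) {p : ℕ × ℕ} :
    p ∈ EX1 h i j c M ↔ ¬ EK1 h i j c p.1 p.2 := by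
  unfold EX1
  rw [Finset.mem_filter]
  refine ⟨fun hp => hp.2, fun hp => ⟨mem_Box_of_pos hM ?_, hp⟩⟩
  unfold EK1 at hp; omega

theorem mem_EX2 (hM : ∀ a b, (M ≤ a ∨ M ≤ b) → h a b = 0) {p : ℕ × ℕ} :
    p ∈ EX2 h i j c M ↔ ¬ EK2 h i j c p.1 p.2 := by
  unfold EX2
  rw [Finset.mem_filter]
  refine ⟨fun hp => hp.2, fun hp => ⟨mem_Box_of_pos hM ?_, hp⟩⟩
  unfold EK2 at hp; omega

theorem mem_FX (hM : ∀ a b, (M ≤ a ∨ M ≤ b) → h a b = 0) {p : ℕ × ℕ} :
    p ∈ FX h i j c M ↔ ¬ FK h i j c p.1 p.2 := by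
  unfold FX
  rw [Finset.mem_filter]
  refine ⟨fun hp => hp.2, fun hp => ⟨mem_Box_of_pos hM ?_, hp⟩⟩
  unfold FK at hp; omega

end cells

/-! ### The incidence matrix -/

section matrix

open Classical

variable (k : Type u) [Field k] (h : ℕ → ℕ → ℕ) (i j c M : ℕ)

/-- the coboundary matrix from edges outside `K` to faces outside `K` -/
noncomputable def Amat : Matrix ↥(FX h i j c M) (↥(EX1 h i j c M) ⊕ ↥(EX2 h i j c M)) k :=
  fun f e => match e with
    | Sum.inl e => (if e.1 = f.1 then 1 else 0) - (if e.1 = (f.1.1, f.1.2 + 1) then 1 else 0)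
    | Sum.inr e => (if e.1 = (f.1.1 + 1, f.1.2) then 1 else 0) - (if e.1 = f.1 then 1 else 0)

variable {k h i j c M}

theorem Amat_mulVec (x : ↥(EX1 h i j c M) ⊕ ↥(EX2 h i j c M) → k) (f : ↥(FX h i j c M)) :
    (Amat k h i j c M).mulVec x f =
      extend0 (EX1 h i j c M) (fun e => x (Sum.inl e)) f.1 -
        extend0 (EX1 h i j c M) (fun e => x (Sum.inl e)) (f.1.1, f.1.2 + 1) +
      (extend0 (EX2 h i j c M) (fun e => x (Sum.inr e)) (f.1.1 + 1, f.1.2) -
        extend0 (EX2 h i j c M) (fun e => x (Sum.inr e)) f.1) := by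
  unfold Matrix.mulVec dotProduct
  rw [Fintype.sum_sum_type]
  congr 1
  · simp only [Amat, sub_mul]
    rw [Finset.sum_sub_distrib, sum_indicator, sum_indicator]
  · simp only [Amat, sub_mul]
    rw [Finset.sum_sub_distrib, sum_indicator, sum_indicator]

theorem Amat_tr_inl_zero (v : ↥(FX h i j c M) → k) (e : ↥(EX1 h i j c M)) {a : ℕ}
    (he : e.1 = (a, 0)) :
    (Amat k h i j c M).transpose.mulVec v (Sum.inl e) = extend0 (FX h i j c M) v (a, 0) := by
  unfold Matrix.mulVec dotProduct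
  simp only [Matrix.transpose_apply, Amat, sub_mul]
  rw [Finset.sum_sub_distrib, he, sum_indicator']
  rw [Finset.sum_eq_zero, sub_zero]
  intro f _
  rw [if_neg, zero_mul]
  intro hcon
  have := congrArg Prod.snd hcon
  simp at this

theorem Amat_tr_inl_succ (v : ↥(FX h i j c M) → k) (e : ↥(EX1 h i j c M)) {a b : ℕ}
    (he : e.1 = (a, b + 1)) :
    (Amat k h i j c M).transpose.mulVec v (Sum.inl e) =
      extend0 (FX h i j c M) v (a, b + 1) - extend0 (FX h i j c M) v (a, b) := by
  unfold Matrix.mulVec dotProduct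
  simp only [Matrix.transpose_apply, Amat, sub_mul]
  rw [Finset.sum_sub_distrib, he, sum_indicator']
  congr 1
  rw [← sum_indicator' (FX h i j c M) v (a, b)]
  refine Finset.sum_congr rfl fun f _ => ?_
  congr 1
  by_cases hf : (a, b) = f.1
  · rw [if_pos hf, if_pos]
    rw [← hf]
  · rw [if_neg hf, if_neg]
    intro hcon
    apply hf
    have h1 := congrArg Prod.fst hcon
    have h2 := congrArg Prod.snd hcon
    simp only at h1 h2
    exact Prod.ext h1 (by simpa using h2)

theorem Amat_tr_inr_zero (v : ↥(FX h i j c M) → k) (e : ↥(EX2 h i j c M)) {b : ℕ}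
    (he : e.1 = (0, b)) :
    (Amat k h i j c M).transpose.mulVec v (Sum.inr e) = - extend0 (FX h i j c M) v (0, b) := by
  unfold Matrix.mulVec dotProduct
  simp only [Matrix.transpose_apply, Amat, sub_mul]
  rw [Finset.sum_sub_distrib, he, sum_indicator']
  rw [Finset.sum_eq_zero, zero_sub]
  intro f _
  rw [if_neg, zero_mul]
  intro hcon
  have := congrArg Prod.fst hcon
  simp at this

theorem Amat_tr_inr_succ (v : ↥(FX h i j c M) → k) (e : ↥(EX2 h i j c M)) {a b : ℕ}
    (he : e.1 = (a + 1, b)) :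
    (Amat k h i j c M).transpose.mulVec v (Sum.inr e) =
      extend0 (FX h i j c M) v (a, b) - extend0 (FX h i j c M) v (a + 1, b) := by
  unfold Matrix.mulVec dotProduct
  simp only [Matrix.transpose_apply, Amat, sub_mul]
  rw [Finset.sum_sub_distrib, he, sum_indicator']
  congr 1
  rw [← sum_indicator' (FX h i j c M) v (a, b)]
  refine Finset.sum_congr rfl fun f _ => ?_
  congr 1
  by_cases hf : (a, b) = f.1
  · rw [if_pos hf, if_pos]
    rw [← hf]
  · rw [if_neg hf, if_neg]
    intro hcon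
    apply hf
    have h1 := congrArg Prod.fst hcon
    have h2 := congrArg Prod.snd hcon
    simp only at h1 h2
    exact Prod.ext (by simpa using h1) h2

/-- rank–nullity for the incidence matrix and its transpose -/
theorem finrank_ker_transpose :
    Module.finrank k ↥(LinearMap.ker (Amat k h i j c M).transpose.mulVecLin) +
        ((EX1 h i j c M).card + (EX2 h i j c M).card) =
      (FX h i j c M).card + Module.finrank k ↥(LinearMap.ker (Amat k h i j c M).mulVecLin) := by
  have h1 := LinearMap.finrank_range_add_finrank_ker (Amat k h i j c M).mulVecLin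
  have h2 := LinearMap.finrank_range_add_finrank_ker (Amat k h i j c M).transpose.mulVecLin
  rw [Module.finrank_fintype_fun_eq_card] at h1 h2
  have h3 : Module.finrank k ↥(LinearMap.range (Amat k h i j c M).transpose.mulVecLin) =
      Module.finrank k ↥(LinearMap.range (Amat k h i j c M).mulVecLin) := by
    have := Matrix.rank_transpose (Amat k h i j c M)
    unfold Matrix.rank at this
    exact this
  rw [Fintype.card_sum, Fintype.card_coe, Fintype.card_coe] at h1
  rw [Fintype.card_coe] at h2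
  omega

end matrix


/-! ### The kernel of the transpose -/

section kerTr

open Classical

variable {k : Type u} [Field k] {h : ℕ → ℕ → ℕ} {i j c M : ℕ}

theorem extend0_add {α : Type*} [DecidableEq α] (s : Finset α) (w w' : ↥s → k) (p : α) :
    extend0 s (w + w') p = extend0 s w p + extend0 s w' p := by
  unfold extend0
  split_ifs
  · rfl
  · rw [add_zero]

theorem extend0_smul {α : Type*} [DecidableEq α] (s : Finset α) (r : k) (w : ↥s → k) (p : α) :
    extend0 s (r • w) p = r • extend0 s w p := by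
  unfold extend0
  split_ifs
  · rfl
  · rw [smul_zero]

theorem extend0_mem_Wc' (hM : ∀ a b, (M ≤ a ∨ M ≤ b) → h a b = 0)
    (v : ↥(FX h i j c M) → k) (hv : (Amat k h i j c M).transpose.mulVec v = 0) :
    extend0 (FX h i j c M) v ∈ Wc' k h i j c := by
  refine ⟨fun a b hf => ?_, fun a b he => ?_, fun a b he => ?_, fun b he => ?_, fun a he => ?_⟩
  · apply extend0_not_mem
    rw [mem_FX hM]
    exact fun hcon => hcon hf
  · have hmem : (a + 1, b) ∈ EX2 h i j c M := (mem_EX2 hM).mpr he
    have := congrFun hv (Sum.inr ⟨(a + 1, b), hmem⟩)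
    rw [Amat_tr_inr_succ v ⟨(a + 1, b), hmem⟩ rfl, Pi.zero_apply, sub_eq_zero] at this
    exact this
  · have hmem : (a, b + 1) ∈ EX1 h i j c M := (mem_EX1 hM).mpr he
    have := congrFun hv (Sum.inl ⟨(a, b + 1), hmem⟩)
    rw [Amat_tr_inl_succ v ⟨(a, b + 1), hmem⟩ rfl, Pi.zero_apply, sub_eq_zero] at this
    exact this.symm
  · have hmem : (0, b) ∈ EX2 h i j c M := (mem_EX2 hM).mpr he
    have := congrFun hv (Sum.inr ⟨(0, b), hmem⟩)
    rw [Amat_tr_inr_zero v ⟨(0, b), hmem⟩ rfl, Pi.zero_apply, neg_eq_zero] at this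
    exact this
  · have hmem : (a, 0) ∈ EX1 h i j c M := (mem_EX1 hM).mpr he
    have := congrFun hv (Sum.inl ⟨(a, 0), hmem⟩)
    rw [Amat_tr_inl_zero v ⟨(a, 0), hmem⟩ rfl, Pi.zero_apply] at this
    exact this

/-- the map from the kernel of the transpose to `Wc'` -/
noncomputable def kerTrMap (hM : ∀ a b, (M ≤ a ∨ M ≤ b) → h a b = 0) :
    ↥(LinearMap.ker (Amat k h i j c M).transpose.mulVecLin) →ₗ[k] ↥(Wc' k h i j c) where
  toFun v := ⟨extend0 (FX h i j c M) v.1, extend0_mem_Wc' hM v.1 (by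
    have := v.2
    rwa [LinearMap.mem_ker, Matrix.mulVecLin_apply] at this)⟩
  map_add' v w := by
    apply Subtype.ext
    funext p
    exact extend0_add _ _ _ p
  map_smul' r v := by
    apply Subtype.ext
    funext p
    exact extend0_smul _ r _ p

theorem kerTrMap_bijective (hM : ∀ a b, (M ≤ a ∨ M ≤ b) → h a b = 0) :
    Function.Bijective (kerTrMap (k := k) (i := i) (j := j) (c := c) hM) := by
  constructor
  · intro v w hvw
    have h1 : extend0 (FX h i j c M) v.1 = extend0 (FX h i j c M) w.1 := congrArg Subtype.val hvw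
    apply Subtype.ext
    funext f
    have := congrFun h1 f.1
    rwa [extend0_mem _ _ f.2, extend0_mem _ _ f.2] at this
  · intro w
    obtain ⟨w1, w2, w3, w4, w5⟩ := w.2
    have hext : extend0 (FX h i j c M) (fun f => w.1 f.1) = w.1 := by
      funext p
      by_cases hp : p ∈ FX h i j c M
      · rw [extend0_mem _ _ hp]
      · rw [extend0_not_mem _ _ hp]
        rw [mem_FX hM, not_not] at hp
        exact (w1 p.1 p.2 hp).symm
    have hker : (Amat k h i j c M).transpose.mulVec (fun f => w.1 f.1) = 0 := by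
      funext e
      rw [Pi.zero_apply]
      rcases e with e | e
      · obtain ⟨⟨a, b⟩, he⟩ := e
        have he' := (mem_EX1 hM).mp he
        cases b with
        | zero =>
          rw [Amat_tr_inl_zero _ _ rfl, hext]
          exact w5 a he'
        | succ b =>
          rw [Amat_tr_inl_succ _ _ rfl, hext, sub_eq_zero]
          exact (w3 a b he').symm
      · obtain ⟨⟨a, b⟩, he⟩ := e
        have he' := (mem_EX2 hM).mp he
        cases a with
        | zero =>
          rw [Amat_tr_inr_zero _ _ rfl, hext, neg_eq_zero]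
          exact w4 b he'
        | succ a =>
          rw [Amat_tr_inr_succ _ _ rfl, hext, sub_eq_zero]
          exact w2 a b he'
    refine ⟨⟨fun f => w.1 f.1, ?_⟩, ?_⟩
    · rw [LinearMap.mem_ker, Matrix.mulVecLin_apply]; exact hker
    · apply Subtype.ext
      exact hext

theorem finrank_kerTr (hM : ∀ a b, (M ≤ a ∨ M ≤ b) → h a b = 0) :
    Module.finrank k ↥(LinearMap.ker (Amat k h i j c M).transpose.mulVecLin) =
      Module.finrank k ↥(Wc' k h i j c) :=
  (LinearEquiv.ofBijective (kerTrMap hM) (kerTrMap_bijective hM)).finrank_eq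

end kerTr


/-! ### The kernel of the incidence matrix -/

section ker

open Classical

variable {k : Type u} [Field k] {h : ℕ → ℕ → ℕ} {i j c M : ℕ}

/-- the edge function of `u` -/
def dEdge (u : ℕ × ℕ → k) :
    ↥(EX1 h i j c M) ⊕ ↥(EX2 h i j c M) → k := fun e => match e with
  | Sum.inl e => u (e.1.1 + 1, e.1.2) - u e.1
  | Sum.inr e => u (e.1.1, e.1.2 + 1) - u e.1

theorem ext1_dEdge (hM : ∀ a b, (M ≤ a ∨ M ≤ b) → h a b = 0) {u : ℕ × ℕ → k}
    (hu : u ∈ Ut k h i j c) (p : ℕ × ℕ) :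
    extend0 (EX1 h i j c M) (fun e => dEdge (h := h) (i := i) (j := j) (c := c) (M := M) u
      (Sum.inl e)) p = u (p.1 + 1, p.2) - u p := by
  by_cases hp : p ∈ EX1 h i j c M
  · rw [extend0_mem _ _ hp]; rfl
  · rw [extend0_not_mem _ _ hp]
    rw [mem_EX1 hM, not_not] at hp
    have := hu.2.1 p.1 p.2 hp
    rw [← this, sub_self]

theorem ext2_dEdge (hM : ∀ a b, (M ≤ a ∨ M ≤ b) → h a b = 0) {u : ℕ × ℕ → k}
    (hu : u ∈ Ut k h i j c) (p : ℕ × ℕ) :
    extend0 (EX2 h i j c M) (fun e => dEdge (h := h) (i := i) (j := j) (c := c) (M := M) u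
      (Sum.inr e)) p = u (p.1, p.2 + 1) - u p := by
  by_cases hp : p ∈ EX2 h i j c M
  · rw [extend0_mem _ _ hp]; rfl
  · rw [extend0_not_mem _ _ hp]
    rw [mem_EX2 hM, not_not] at hp
    have := hu.2.2 p.1 p.2 hp
    rw [← this, sub_self]

theorem dEdge_mem_ker (hM : ∀ a b, (M ≤ a ∨ M ≤ b) → h a b = 0) {u : ℕ × ℕ → k}
    (hu : u ∈ Ut k h i j c) :
    dEdge (h := h) (i := i) (j := j) (c := c) (M := M) u ∈
      LinearMap.ker (Amat k h i j c M).mulVecLin := by
  rw [LinearMap.mem_ker, Matrix.mulVecLin_apply]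
  funext f
  rw [Amat_mulVec, ext1_dEdge hM hu, ext1_dEdge hM hu, ext2_dEdge hM hu, ext2_dEdge hM hu,
    Pi.zero_apply]
  ring

/-- the map `Ut → ker A` -/
noncomputable def kerMap (hM : ∀ a b, (M ≤ a ∨ M ≤ b) → h a b = 0) :
    ↥(Ut k h i j c) →ₗ[k] ↥(LinearMap.ker (Amat k h i j c M).mulVecLin) where
  toFun u := ⟨dEdge u.1, dEdge_mem_ker hM u.2⟩
  map_add' u v := by
    apply Subtype.ext
    funext e
    rcases e with e | e
    · show (u.1 + v.1) _ - (u.1 + v.1) _ = (u.1 _ - u.1 _) + (v.1 _ - v.1 _)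
      simp only [Pi.add_apply]; ring
    · show (u.1 + v.1) _ - (u.1 + v.1) _ = (u.1 _ - u.1 _) + (v.1 _ - v.1 _)
      simp only [Pi.add_apply]; ring
  map_smul' r u := by
    apply Subtype.ext
    funext e
    rcases e with e | e
    · show (r • u.1) _ - (r • u.1) _ = r • (u.1 _ - u.1 _)
      simp only [Pi.smul_apply, smul_eq_mul]; ring
    · show (r • u.1) _ - (r • u.1) _ = r • (u.1 _ - u.1 _)
      simp only [Pi.smul_apply, smul_eq_mul]; ring

theorem Ut_zero_far (hM : ∀ a b, (M ≤ a ∨ M ≤ b) → h a b = 0) {u : ℕ × ℕ → k}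
    (hu : u ∈ Ut k h i j c) (a b : ℕ) (ha : M ≤ a) : u (a, b) = 0 := by
  apply hu.1
  rw [hM a b (Or.inl ha)]
  omega

theorem kerMap_injective (hM : ∀ a b, (M ≤ a ∨ M ≤ b) → h a b = 0) :
    Function.Injective (kerMap (k := k) (i := i) (j := j) (c := c) hM) := by
  intro u v huv
  have h1 : dEdge (h := h) (i := i) (j := j) (c := c) (M := M) u.1 = dEdge v.1 :=
    congrArg Subtype.val huv
  have hstep : ∀ p : ℕ × ℕ, u.1 (p.1 + 1, p.2) - u.1 p = v.1 (p.1 + 1, p.2) - v.1 p := by
    intro p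
    rw [← ext1_dEdge hM u.2 p, ← ext1_dEdge hM v.2 p, h1]
  have hfar : ∀ (t : ℕ) (a b : ℕ), u.1 (a, b) - v.1 (a, b) = u.1 (a + t, b) - v.1 (a + t, b) := by
    intro t
    induction t with
    | zero => intro a b; rfl
    | succ t ih =>
      intro a b
      rw [ih a b]
      have := hstep (a + t, b)
      simp only at this
      rw [show a + (t + 1) = a + t + 1 by ring]
      linear_combination -this
  apply Subtype.ext
  funext p
  have := hfar M p.1 p.2
  rw [Ut_zero_far hM u.2 (p.1 + M) p.2 (by omega), Ut_zero_far hM v.2 (p.1 + M) p.2 (by omega),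
    sub_self, sub_eq_zero] at this
  exact this

theorem kerMap_surjective (hs : Stair h) (hM : ∀ a b, (M ≤ a ∨ M ≤ b) → h a b = 0) :
    Function.Surjective (kerMap (k := k) (i := i) (j := j) (c := c) hM) := by
  intro x
  have hx := x.2
  rw [LinearMap.mem_ker, Matrix.mulVecLin_apply] at hx
  set X1 := extend0 (EX1 h i j c M) (fun e => x.1 (Sum.inl e)) with hX1
  set X2 := extend0 (EX2 h i j c M) (fun e => x.1 (Sum.inr e)) with hX2
  -- cocycle condition at every face
  have hcoc : ∀ a b : ℕ, X1 (a, b) - X1 (a, b + 1) + (X2 (a + 1, b) - X2 (a, b)) = 0 := by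
    intro a b
    by_cases hf : (a, b) ∈ FX h i j c M
    · have := congrFun hx ⟨(a, b), hf⟩
      rw [Amat_mulVec] at this
      exact this
    · rw [mem_FX hM, not_not] at hf
      have e1 : X1 (a, b) = 0 := extend0_not_mem _ _ (by
        rw [mem_EX1 hM, not_not]; exact hf.ek1 hs)
      have e2 : X1 (a, b + 1) = 0 := extend0_not_mem _ _ (by
        rw [mem_EX1 hM, not_not]; exact hf.ek1_top hs)
      have e3 : X2 (a + 1, b) = 0 := extend0_not_mem _ _ (by
        rw [mem_EX2 hM, not_not]; exact hf.ek2_right hs)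
      have e4 : X2 (a, b) = 0 := extend0_not_mem _ _ (by
        rw [mem_EX2 hM, not_not]; exact hf.ek2 hs)
      rw [e1, e2, e3, e4]; ring
  have hX1far : ∀ a b, M ≤ a → X1 (a, b) = 0 := by
    intro a b ha
    apply extend0_not_mem
    rw [mem_EX1 hM, not_not]
    exact ek1_of_le (by rw [hM a b (Or.inl ha)]; omega)
  have hX2far : ∀ a b, M ≤ a → X2 (a, b) = 0 := by
    intro a b ha
    apply extend0_not_mem
    rw [mem_EX2 hM, not_not]
    exact ek2_of_le (by rw [hM a b (Or.inl ha)]; omega)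
  -- integrate
  set u : ℕ × ℕ → k := fun p => - ∑ t ∈ Finset.range M, X1 (p.1 + t, p.2) with hu
  have hd1 : ∀ a b, u (a + 1, b) - u (a, b) = X1 (a, b) := by
    intro a b
    simp only [hu]
    have htel : ∑ t ∈ Finset.range M, (X1 (a + t, b) - X1 (a + (t + 1), b)) =
        X1 (a + 0, b) - X1 (a + M, b) :=
      Finset.sum_range_sub' (fun t => X1 (a + t, b)) M
    rw [Finset.sum_sub_distrib, hX1far (a + M) b (by omega)] at htel
    have e : ∀ t, a + 1 + t = a + (t + 1) := fun t => by ring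
    simp only [e]
    simp only [add_zero, sub_zero] at htel
    linear_combination htel
  have hd2 : ∀ a b, u (a, b + 1) - u (a, b) = X2 (a, b) := by
    intro a b
    simp only [hu]
    have htel : ∑ t ∈ Finset.range M, (X2 (a + t, b) - X2 (a + (t + 1), b)) =
        X2 (a + 0, b) - X2 (a + M, b) :=
      Finset.sum_range_sub' (fun t => X2 (a + t, b)) M
    rw [hX2far (a + M) b (by omega)] at htel
    have hsum : ∑ t ∈ Finset.range M, (X1 (a + t, b) - X1 (a + t, b + 1)) =
        ∑ t ∈ Finset.range M, (X2 (a + t, b) - X2 (a + (t + 1), b)) := by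
      refine Finset.sum_congr rfl fun t _ => ?_
      have := hcoc (a + t) b
      rw [show a + t + 1 = a + (t + 1) by ring] at this
      linear_combination this
    rw [Finset.sum_sub_distrib] at hsum
    simp only [add_zero, sub_zero] at htel
    linear_combination hsum + htel
  have huU : u ∈ Ut k h i j c := by
    refine ⟨fun a b hab => ?_, fun a b he => ?_, fun a b he => ?_⟩
    · simp only [hu]
      rw [neg_eq_zero]
      refine Finset.sum_eq_zero fun t _ => ?_
      apply extend0_not_mem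
      rw [mem_EX1 hM, not_not]
      apply ek1_of_le
      show h (a + t) b ≤ c
      have := hs.anti (Nat.le_add_right a t) (le_refl b)
      omega
    · have := hd1 a b
      have e1 : X1 (a, b) = 0 := extend0_not_mem _ _ (by rw [mem_EX1 hM, not_not]; exact he)
      rw [e1, sub_eq_zero] at this
      exact this.symm
    · have := hd2 a b
      have e1 : X2 (a, b) = 0 := extend0_not_mem _ _ (by rw [mem_EX2 hM, not_not]; exact he)
      rw [e1, sub_eq_zero] at this
      exact this.symm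
  refine ⟨⟨u, huU⟩, ?_⟩
  apply Subtype.ext
  funext e
  rcases e with e | e
  · show u (e.1.1 + 1, e.1.2) - u e.1 = x.1 (Sum.inl e)
    rw [hd1 e.1.1 e.1.2, hX1, extend0_mem _ _ e.2]
  · show u (e.1.1, e.1.2 + 1) - u e.1 = x.1 (Sum.inr e)
    rw [hd2 e.1.1 e.1.2, hX2, extend0_mem _ _ e.2]

theorem finrank_ker (hs : Stair h) (hM : ∀ a b, (M ≤ a ∨ M ≤ b) → h a b = 0) :
    Module.finrank k ↥(Ut k h i j c) =
      Module.finrank k ↥(LinearMap.ker (Amat k h i j c M).mulVecLin) :=
  (LinearEquiv.ofBijective (kerMap hM) ⟨kerMap_injective hM, kerMap_surjective hs hM⟩).finrank_eq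

end ker


/-! ### Splitting off the vertices outside `K` -/

section split

open Classical

variable {k : Type u} [Field k] {h : ℕ → ℕ → ℕ} {i j c M : ℕ}

theorem Wc_le_Ut : Wc k h i j c ≤ Ut k h i j c := by
  intro u hu
  exact ⟨fun a b hab => hu.1 a b fun hcon => hab hcon.1, hu.2.1, hu.2.2⟩

theorem not_vk_lt {a b : ℕ} (hv : ¬ VK h i j c a b) : c < h a b := by
  unfold VK at hv; omega

/-- the splitting map -/
noncomputable def splitMap (hs : Stair h) (hM : ∀ a b, (M ≤ a ∨ M ≤ b) → h a b = 0) :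
    ↥(Ut k h i j c) →ₗ[k] ↥(Wc k h i j c) × (↥(VX h i j c M) → k) where
  toFun u := (⟨fun p => if VK h i j c p.1 p.2 then u.1 p else 0, by
      refine ⟨fun a b hab => ?_, fun a b he => ?_, fun a b he => ?_⟩
      · by_cases hv : VK h i j c a b
        · simp only [if_pos hv]
          exact u.2.1 a b fun hcon => hab ⟨hcon, hv⟩
        · simp only [if_neg hv]
      · simp only [if_pos (he.vk hs), if_pos (he.vk' hs)]
        exact u.2.2.1 a b he
      · simp only [if_pos (he.vk hs), if_pos (he.vk' hs)]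
        exact u.2.2.2 a b he⟩, fun p => u.1 p.1)
  map_add' u v := by
    refine Prod.ext (Subtype.ext ?_) ?_
    · funext p
      show (if VK h i j c p.1 p.2 then (u.1 + v.1) p else 0) =
        (if VK h i j c p.1 p.2 then u.1 p else 0) + (if VK h i j c p.1 p.2 then v.1 p else 0)
      split_ifs
      · rfl
      · rw [add_zero]
    · rfl
  map_smul' r u := by
    refine Prod.ext (Subtype.ext ?_) ?_
    · funext p
      show (if VK h i j c p.1 p.2 then (r • u.1) p else 0) =
        r • (if VK h i j c p.1 p.2 then u.1 p else 0)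
      split_ifs
      · rfl
      · rw [smul_zero]
    · rfl

theorem splitMap_bijective (hs : Stair h) (hM : ∀ a b, (M ≤ a ∨ M ≤ b) → h a b = 0) :
    Function.Bijective (splitMap (k := k) (i := i) (j := j) (c := c) hs hM) := by
  constructor
  · intro u v huv
    have h1 := congrArg (fun z => z.1.1) huv
    have h2 := congrArg (fun z => z.2) huv
    apply Subtype.ext
    funext p
    by_cases hv : VK h i j c p.1 p.2
    · have := congrFun h1 p
      simp only [splitMap, LinearMap.coe_mk, AddHom.coe_mk, if_pos hv] at this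
      exact this
    · have hp : p ∈ VX h i j c M := (mem_VX hM).mpr hv
      exact congrFun h2 ⟨p, hp⟩
  · rintro ⟨w, y⟩
    have hu : (fun p => w.1 p + extend0 (VX h i j c M) y p) ∈ Ut k h i j c := by
      refine ⟨fun a b hab => ?_, fun a b he => ?_, fun a b he => ?_⟩
      · show w.1 (a, b) + extend0 (VX h i j c M) y (a, b) = 0
        rw [w.2.1 a b fun hcon => hab hcon.1, zero_add]
        apply extend0_not_mem
        rw [mem_VX hM, not_not]
        show h a b ≤ g h i j a b + c
        omega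
      · show w.1 (a, b) + extend0 (VX h i j c M) y (a, b) =
          w.1 (a + 1, b) + extend0 (VX h i j c M) y (a + 1, b)
        rw [extend0_not_mem _ _ (by rw [mem_VX hM, not_not]; exact he.vk hs),
          extend0_not_mem _ _ (by rw [mem_VX hM, not_not]; exact he.vk' hs), w.2.2.1 a b he]
      · show w.1 (a, b) + extend0 (VX h i j c M) y (a, b) =
          w.1 (a, b + 1) + extend0 (VX h i j c M) y (a, b + 1)
        rw [extend0_not_mem _ _ (by rw [mem_VX hM, not_not]; exact he.vk hs),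
          extend0_not_mem _ _ (by rw [mem_VX hM, not_not]; exact he.vk' hs), w.2.2.2 a b he]
    refine ⟨⟨_, hu⟩, ?_⟩
    refine Prod.ext (Subtype.ext ?_) ?_
    · funext p
      show (if VK h i j c p.1 p.2 then w.1 p + extend0 (VX h i j c M) y p else 0) = w.1 p
      by_cases hv : VK h i j c p.1 p.2
      · rw [if_pos hv, extend0_not_mem _ _ (by rw [mem_VX hM, not_not]; exact hv), add_zero]
      · rw [if_neg hv]
        exact (w.2.1 p.1 p.2 fun hcon => hv hcon.2).symm
    · funext p
      show w.1 p.1 + extend0 (VX h i j c M) y p.1 = y p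
      have hv := (mem_VX hM).mp p.2
      rw [extend0_mem _ _ p.2, w.2.1 p.1.1 p.1.2 fun hcon => hv hcon.2, zero_add]

/-- **Planar duality**: the dimension count. -/
theorem finrank_Wc_add (hs : Stair h) (hM : ∀ a b, (M ≤ a ∨ M ≤ b) → h a b = 0) :
    Module.finrank k ↥(Wc k h i j c) + (VX h i j c M).card + (FX h i j c M).card =
      Module.finrank k ↥(Wc' k h i j c) + ((EX1 h i j c M).card + (EX2 h i j c M).card) := by
  have e1 := LinearEquiv.ofBijective (kerMap (k := k) (i := i) (j := j) (c := c) hM)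
    ⟨kerMap_injective hM, kerMap_surjective hs hM⟩
  haveI : Module.Finite k ↥(Ut k h i j c) := Module.Finite.equiv e1.symm
  haveI : Module.Finite k ↥(Wc k h i j c) :=
    Submodule.finiteDimensional_of_le (Wc_le_Ut (k := k) (h := h) (i := i) (j := j) (c := c))
  have e2 := LinearEquiv.ofBijective (splitMap (k := k) (i := i) (j := j) (c := c) hs hM)
    (splitMap_bijective hs hM)
  have h1 : Module.finrank k ↥(Ut k h i j c) =
      Module.finrank k ↥(Wc k h i j c) + (VX h i j c M).card := by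
    rw [e2.finrank_eq, Module.finrank_prod, Module.finrank_fintype_fun_eq_card, Fintype.card_coe]
  have h2 := finrank_ker (k := k) (i := i) (j := j) (c := c) hs hM
  have h3 := finrank_kerTr (k := k) (i := i) (j := j) (c := c) hM
  have h4 := finrank_ker_transpose (k := k) (h := h) (i := i) (j := j) (c := c) (M := M)
  omega

end split


/-! ### Summation over the levels -/

section sums

open Classical

variable {h : ℕ → ℕ → ℕ} {i j M : ℕ}

theorem sum_ind_level (H X : ℕ) [∀ c : ℕ, Decidable (¬ (H ≤ X + c))] : ∀ C : ℕ,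
    ∑ c ∈ Finset.range C, (if ¬ (H ≤ X + c) then 1 else 0) = min C (H - X) := by
  intro C
  induction C with
  | zero => simp
  | succ C ih =>
    rw [Finset.sum_range_succ, ih]
    split_ifs <;> omega

theorem sum_card_filter (P : ℕ → ℕ × ℕ → Prop) [∀ c, DecidablePred (P c)] (C : ℕ) :
    ∑ c ∈ Finset.range C, ((Box M).filter fun p => P c p).card =
      ∑ p ∈ Box M, ∑ c ∈ Finset.range C, (if P c p then 1 else 0) := by
  rw [Finset.sum_comm]
  refine Finset.sum_congr rfl fun c _ => ?_
  rw [Finset.card_filter]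

theorem sum_VX (hs : Stair h) {C : ℕ} (hC : ∀ a b, h a b ≤ C) :
    ∑ c ∈ Finset.range C, (VX h i j c M).card = ∑ p ∈ Box M, (h p.1 p.2 - g h i j p.1 p.2) := by
  unfold VX
  rw [sum_card_filter (fun c p => ¬ VK h i j c p.1 p.2)]
  refine Finset.sum_congr rfl fun p _ => ?_
  unfold VK
  have := hC p.1 p.2
  have e : h p.1 p.2 - (g h i j p.1 p.2) = min C (h p.1 p.2 - (g h i j p.1 p.2)) := by omega
  rw [e]
  convert sum_ind_level (h p.1 p.2) (g h i j p.1 p.2) C

theorem sum_EX1 (hs : Stair h) {C : ℕ} (hC : ∀ a b, h a b ≤ C) :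
    ∑ c ∈ Finset.range C, (EX1 h i j c M).card =
      ∑ p ∈ Box M, (h p.1 p.2 - g h i j (p.1 + 1) p.2) := by
  unfold EX1
  rw [sum_card_filter (fun c p => ¬ EK1 h i j c p.1 p.2)]
  refine Finset.sum_congr rfl fun p _ => ?_
  unfold EK1
  have := hC p.1 p.2
  have e : h p.1 p.2 - (g h i j (p.1 + 1) p.2) = min C (h p.1 p.2 - (g h i j (p.1 + 1) p.2)) := by omega
  rw [e]
  convert sum_ind_level (h p.1 p.2) (g h i j (p.1 + 1) p.2) C

theorem sum_EX2 (hs : Stair h) {C : ℕ} (hC : ∀ a b, h a b ≤ C) :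
    ∑ c ∈ Finset.range C, (EX2 h i j c M).card =
      ∑ p ∈ Box M, (h p.1 p.2 - g h i j p.1 (p.2 + 1)) := by
  unfold EX2
  rw [sum_card_filter (fun c p => ¬ EK2 h i j c p.1 p.2)]
  refine Finset.sum_congr rfl fun p _ => ?_
  unfold EK2
  have := hC p.1 p.2
  have e : h p.1 p.2 - (g h i j p.1 (p.2 + 1)) = min C (h p.1 p.2 - (g h i j p.1 (p.2 + 1))) := by omega
  rw [e]
  convert sum_ind_level (h p.1 p.2) (g h i j p.1 (p.2 + 1)) C

theorem sum_FX (hs : Stair h) {C : ℕ} (hC : ∀ a b, h a b ≤ C) :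
    ∑ c ∈ Finset.range C, (FX h i j c M).card =
      ∑ p ∈ Box M, (h p.1 p.2 - g h i j (p.1 + 1) (p.2 + 1)) := by
  unfold FX
  rw [sum_card_filter (fun c p => ¬ FK h i j c p.1 p.2)]
  refine Finset.sum_congr rfl fun p _ => ?_
  unfold FK
  have := hC p.1 p.2
  have e : h p.1 p.2 - (g h i j (p.1 + 1) (p.2 + 1)) = min C (h p.1 p.2 - (g h i j (p.1 + 1) (p.2 + 1))) := by omega
  rw [e]
  convert sum_ind_level (h p.1 p.2) (g h i j (p.1 + 1) (p.2 + 1)) C

theorem telescope2 (G : ℕ → ℕ → ℤ) (hG1 : ∀ a, G a M = 0) (hG2 : ∀ b, G M b = 0) :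
    ∑ p ∈ Box M, (G p.1 p.2 - G (p.1 + 1) p.2 - G p.1 (p.2 + 1) + G (p.1 + 1) (p.2 + 1)) =
      G 0 0 := by
  unfold Box
  rw [Finset.sum_product]
  have hinner : ∀ a, ∑ b ∈ Finset.range M,
      (G a b - G (a + 1) b - G a (b + 1) + G (a + 1) (b + 1)) = G a 0 - G (a + 1) 0 := by
    intro a
    have h1 := Finset.sum_range_sub' (fun b => G a b) M
    have h2 := Finset.sum_range_sub' (fun b => G (a + 1) b) M
    rw [hG1] at h1 h2
    have : ∀ b, G a b - G (a + 1) b - G a (b + 1) + G (a + 1) (b + 1) =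
        (G a b - G a (b + 1)) - (G (a + 1) b - G (a + 1) (b + 1)) := fun b => by ring
    simp only [this]
    rw [Finset.sum_sub_distrib, h1, h2]
    ring
  simp only [hinner]
  have h3 := Finset.sum_range_sub' (fun a => G a 0) M
  rw [hG2] at h3
  rw [h3]; ring

theorem sum_cells (hs : Stair h) (hM : ∀ a b, (M ≤ a ∨ M ≤ b) → h a b = 0) {C : ℕ}
    (hC : ∀ a b, h a b ≤ C) :
    ∑ c ∈ Finset.range C, ((EX1 h i j c M).card + (EX2 h i j c M).card) =
      ∑ c ∈ Finset.range C, ((VX h i j c M).card + (FX h i j c M).card) + g h i j 0 0 := by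
  rw [Finset.sum_add_distrib, Finset.sum_add_distrib, sum_VX hs hC, sum_EX1 hs hC, sum_EX2 hs hC,
    sum_FX hs hC]
  have hgM1 : ∀ a, g h i j a M = 0 := fun a => hM _ _ (Or.inr (by omega))
  have hgM2 : ∀ b, g h i j M b = 0 := fun b => hM _ _ (Or.inl (by omega))
  have htel := telescope2 (M := M) (fun a b => (g h i j a b : ℤ))
    (fun a => by simp [hgM1]) (fun b => by simp [hgM2])
  have hcast : ((∑ p ∈ Box M, (h p.1 p.2 - g h i j (p.1 + 1) p.2) +
      ∑ p ∈ Box M, (h p.1 p.2 - g h i j p.1 (p.2 + 1)) : ℕ) : ℤ) =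
      ((∑ p ∈ Box M, (h p.1 p.2 - g h i j p.1 p.2) +
        ∑ p ∈ Box M, (h p.1 p.2 - g h i j (p.1 + 1) (p.2 + 1)) + g h i j 0 0 : ℕ) : ℤ) := by
    push_cast
    rw [← htel, ← Finset.sum_add_distrib, ← Finset.sum_add_distrib, ← Finset.sum_add_distrib]
    refine Finset.sum_congr rfl fun p _ => ?_
    have h1 := g_le (i := i) (j := j) hs p.1 p.2
    have h2 := g_anti (i := i) (j := j) hs (Nat.le_add_right p.1 1) (le_refl p.2)
    have h3 := g_anti (i := i) (j := j) hs (le_refl p.1) (Nat.le_add_right p.2 1)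
    have h4 := g_anti (i := i) (j := j) hs (Nat.le_add_right p.1 1) (Nat.le_add_right p.2 1)
    rw [Nat.cast_sub (by omega), Nat.cast_sub (by omega), Nat.cast_sub (by omega),
      Nat.cast_sub (by omega)]
    ring
  exact_mod_cast hcast

/-- **Summed planar duality.** -/
theorem sum_finrank_Wc {k : Type u} [Field k] (hs : Stair h)
    (hM : ∀ a b, (M ≤ a ∨ M ≤ b) → h a b = 0) {C : ℕ} (hC : ∀ a b, h a b ≤ C) :
    ∑ c ∈ Finset.range C, Module.finrank k ↥(Wc k h i j c) =
      ∑ c ∈ Finset.range C, Module.finrank k ↥(Wc' k h i j c) + g h i j 0 0 := by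
  have h1 : ∑ c ∈ Finset.range C, (Module.finrank k ↥(Wc k h i j c) +
      ((VX h i j c M).card + (FX h i j c M).card)) =
      ∑ c ∈ Finset.range C, (Module.finrank k ↥(Wc' k h i j c) +
        ((EX1 h i j c M).card + (EX2 h i j c M).card)) := by
    refine Finset.sum_congr rfl fun c _ => ?_
    have := finrank_Wc_add (k := k) (i := i) (j := j) (c := c) hs hM
    omega
  have h2 := sum_cells (i := i) (j := j) hs hM hC
  have h3 : ∑ c ∈ Finset.range C, (Module.finrank k ↥(Wc k h i j c) +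
      ((VX h i j c M).card + (FX h i j c M).card)) =
      ∑ c ∈ Finset.range C, Module.finrank k ↥(Wc k h i j c) +
        ∑ c ∈ Finset.range C, ((VX h i j c M).card + (FX h i j c M).card) :=
    Finset.sum_add_distrib
  have h4 : ∑ c ∈ Finset.range C, (Module.finrank k ↥(Wc' k h i j c) +
      ((EX1 h i j c M).card + (EX2 h i j c M).card)) =
      ∑ c ∈ Finset.range C, Module.finrank k ↥(Wc' k h i j c) +
        ∑ c ∈ Finset.range C, ((EX1 h i j c M).card + (EX2 h i j c M).card) :=
    Finset.sum_add_distrib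
  omega

end sums


/-! ### Bound by local maxima -/

section locmax

open Classical

variable {k : Type u} [Field k] {h : ℕ → ℕ → ℕ} {i j c M : ℕ}

variable (h i j c M) in
/-- vertices of `K ∖ L` with no outgoing edge in `K` -/
noncomputable def LM : Finset (ℕ × ℕ) := (Box M).filter fun p =>
  c < h p.1 p.2 ∧ VK h i j c p.1 p.2 ∧ ¬ EK1 h i j c p.1 p.2 ∧ ¬ EK2 h i j c p.1 p.2

theorem finrank_Wc_le (hM : ∀ a b, (M ≤ a ∨ M ≤ b) → h a b = 0) :
    Module.finrank k ↥(Wc k h i j c) ≤ (LM h i j c M).card := by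
  let R : ↥(Wc k h i j c) →ₗ[k] (↥(LM h i j c M) → k) :=
    { toFun := fun u p => u.1 p.1
      map_add' := fun _ _ => rfl
      map_smul' := fun _ _ => rfl }
  have hinj : Function.Injective R := by
    rw [← LinearMap.ker_eq_bot, LinearMap.ker_eq_bot']
    intro u hu
    have hzero : ∀ t : ℕ, ∀ q : ℕ × ℕ, 2 * M ≤ q.1 + q.2 + t → u.1 q = 0 := by
      intro t
      induction t with
      | zero =>
        intro q hq
        apply u.2.1 q.1 q.2
        rw [hM q.1 q.2 (by omega)]
        omega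
      | succ t ih =>
        intro q hq
        by_cases h1 : c < h q.1 q.2 ∧ VK h i j c q.1 q.2
        swap
        · exact u.2.1 q.1 q.2 h1
        by_cases h2 : EK1 h i j c q.1 q.2
        · have := u.2.2.1 q.1 q.2 h2
          rw [show u.1 q = u.1 (q.1, q.2) from rfl, this]
          exact ih (q.1 + 1, q.2) (by simp only; omega)
        by_cases h3 : EK2 h i j c q.1 q.2
        · have := u.2.2.2 q.1 q.2 h3
          rw [show u.1 q = u.1 (q.1, q.2) from rfl, this]
          exact ih (q.1, q.2 + 1) (by simp only; omega)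
        have hq' : q ∈ LM h i j c M := by
          unfold LM
          rw [Finset.mem_filter]
          refine ⟨mem_Box_of_pos hM (by omega), h1.1, h1.2, h2, h3⟩
        exact congrFun hu ⟨q, hq'⟩
    apply Subtype.ext
    funext q
    exact hzero (2 * M) q (by omega)
  have := LinearMap.finrank_le_finrank_of_injective hinj
  rwa [Module.finrank_fintype_fun_eq_card, Fintype.card_coe] at this

theorem sum_LM (hs : Stair h) {C : ℕ} (hC : ∀ a b, h a b ≤ C) :
    ∑ c ∈ Finset.range C, (LM h i j c M).card =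
      ∑ p ∈ Box M, (g h i j p.1 p.2 - max (g h i j (p.1 + 1) p.2) (g h i j p.1 (p.2 + 1))) := by
  unfold LM
  rw [sum_card_filter (fun c p => c < h p.1 p.2 ∧ VK h i j c p.1 p.2 ∧ ¬ EK1 h i j c p.1 p.2 ∧
    ¬ EK2 h i j c p.1 p.2)]
  refine Finset.sum_congr rfl fun p _ => ?_
  have h0 := hC p.1 p.2
  have h1 := g_le (i := i) (j := j) hs p.1 p.2
  have h2 := g_anti (i := i) (j := j) hs (Nat.le_add_right p.1 1) (le_refl p.2)
  have h3 := g_anti (i := i) (j := j) hs (le_refl p.1) (Nat.le_add_right p.2 1)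
  rw [← Finset.card_filter]
  have hset : (Finset.range C).filter (fun c => c < h p.1 p.2 ∧ VK h i j c p.1 p.2 ∧
      ¬ EK1 h i j c p.1 p.2 ∧ ¬ EK2 h i j c p.1 p.2) =
      Finset.Ico (h p.1 p.2 - g h i j p.1 p.2)
        (h p.1 p.2 - max (g h i j (p.1 + 1) p.2) (g h i j p.1 (p.2 + 1))) := by
    ext c
    rw [Finset.mem_filter, Finset.mem_range, Finset.mem_Ico]
    unfold VK EK1 EK2
    constructor
    · rintro ⟨_, _, h5, h6, h7⟩
      omega
    · rintro ⟨h5, h6⟩
      refine ⟨by omega, by omega, by omega, by omega, by omega⟩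
  rw [hset, Nat.card_Ico]
  omega

theorem sum_finrank_Wc_le (hs : Stair h) (hM : ∀ a b, (M ≤ a ∨ M ≤ b) → h a b = 0) {C : ℕ}
    (hC : ∀ a b, h a b ≤ C) :
    ∑ c ∈ Finset.range C, Module.finrank k ↥(Wc k h i j c) ≤
      ∑ p ∈ Box M, (g h i j p.1 p.2 - max (g h i j (p.1 + 1) p.2) (g h i j p.1 (p.2 + 1))) := by
  rw [← sum_LM hs hC]
  exact Finset.sum_le_sum fun c _ => finrank_Wc_le hM

end locmax

end Groth.Agent.Lib.Helper44.StairLA
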