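import Mathlib

/-! Sequences of slice colengths of strongly stable ideals: tail-sum bounds. (helper44)

`d i` plays the role of the colength of the `i`-th slice, `e i` of the least power of the last
variable in the slice. -/

set_option autoImplicit false

namespace Groth.Agent.Lib.Helper44.StairSeq

/-- triangular numbers -/
def T (m : ℕ) : ℕ := Nat.choose (m + 1) 2

theorem T_zero : T 0 = 0 := rfl

theorem T_succ (m : ℕ) : T (m + 1) = T m + (m + 1) := by
  unfold T
  have hp : Nat.choose (m + 1 + 1) 2 = Nat.choose (m + 1) 1 + Nat.choose (m + 1) 2 :=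
    Nat.choose_succ_succ' (m + 1) 1
  rw [hp, Nat.choose_one_right]
  omega

theorem T_pred (m : ℕ) : T m = T (m - 1) + m := by
  rcases m with _ | m
  · rfl
  · rw [T_succ, Nat.add_sub_cancel]

theorem T_mono {m m' : ℕ} (h : m ≤ m') : T m ≤ T m' := by
  induction h with
  | refl => exact le_rfl
  | step _ ih => rw [T_succ]; omega

theorem T_lt {m m' : ℕ} (h : m < m') : T m < T m' := by
  have h1 : T (m + 1) ≤ T m' := T_mono h
  rw [T_succ] at h1
  omega

/-- the hypotheses on the pair of sequences -/
structure SS (d e : ℕ → ℕ) : Prop where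
  step : ∀ i, d (i + 1) + e i ≤ d i
  tri : ∀ i, d i ≤ T (e i)

variable {d e : ℕ → ℕ}

theorem SS.anti (h : SS d e) {i i' : ℕ} (hi : i ≤ i') : d i' ≤ d i := by
  obtain ⟨t, rfl⟩ := Nat.exists_eq_add_of_le hi
  induction t with
  | zero => exact le_rfl
  | succ t ih =>
    have := h.step (i + t)
    have := ih (Nat.le_add_right _ _)
    rw [← add_assoc]
    omega

theorem SS.lemA (h : SS d e) {i m : ℕ} (hd : d i ≤ T m) : d (i + 1) ≤ T (m - 1) := by
  have h1 := h.step i
  have h2 := h.tri i
  by_cases he : m ≤ e i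
  · have := T_pred m
    omega
  · have h3 := T_pred (e i)
    have h4 : T (e i - 1) ≤ T (m - 1) := T_mono (by omega)
    omega

theorem SS.lemA_iter (h : SS d e) {i m : ℕ} (hd : d i ≤ T m) : ∀ t, d (i + t) ≤ T (m - t) := by
  intro t
  induction t with
  | zero => exact hd
  | succ t ih =>
    have := h.lemA ih
    rw [← add_assoc, Nat.sub_add_eq]
    exact this

theorem SS.lemB_iter (h : SS d e) {i m t : ℕ} (hd : T m < d (i + t)) : T (m + t) < d i := by
  by_contra hcon
  push Not at hcon
  have := h.lemA_iter hcon t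
  rw [Nat.add_sub_cancel] at this
  omega

section main

variable {r : ℕ} (h : SS d e)
  (hc : ∀ N, ∑ i ∈ Finset.range N, d i ≤ ∑ i ∈ Finset.range r, T (r - i))

include h hc

/-- **tail bound** -/
theorem SS.tail_le {j : ℕ} (hj : j ≤ r) :
    ∑ i ∈ Finset.Ico j r, d i ≤ ∑ i ∈ Finset.Ico j r, T (r - i) := by
  by_contra hlt
  push Not at hlt
  have hjr : j < r := by
    rcases Nat.lt_or_ge j r with h' | h'
    · exact h'
    · rw [Finset.Ico_eq_empty_of_le h'] at hlt
      simp at hlt
  -- step 1
  have h1 : T (r - j) < d j := by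
    by_contra hcon
    push Not at hcon
    have h2 := h.lemA_iter hcon
    have : ∑ i ∈ Finset.Ico j r, d i ≤ ∑ i ∈ Finset.Ico j r, T (r - i) := by
      refine Finset.sum_le_sum fun i hi => ?_
      rw [Finset.mem_Ico] at hi
      have h3 := h2 (i - j)
      rw [show j + (i - j) = i from by omega, show r - j - (i - j) = r - i from by omega] at h3
      exact h3
    omega
  -- step 2
  have h2 : ∀ i, i ≤ j → T (r - i) < d i := by
    intro i hi
    have h3 : T (r - j) < d (i + (j - i)) := by
      rw [show i + (j - i) = j from by omega]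
      exact h1
    have h4 := h.lemB_iter h3
    rw [show r - j + (j - i) = r - i from by omega] at h4
    exact h4
  have h3 : ∑ i ∈ Finset.range j, T (r - i) ≤ ∑ i ∈ Finset.range j, d i := by
    refine Finset.sum_le_sum fun i hi => ?_
    rw [Finset.mem_range] at hi
    exact le_of_lt (h2 i (le_of_lt hi))
  have h4 := Finset.sum_range_add_sum_Ico d hj
  have h5 := Finset.sum_range_add_sum_Ico (fun i => T (r - i)) hj
  have h6 := hc r
  omega

theorem SS.d_r_eq_zero : d r = 0 := by
  by_contra hne
  have hpos : T 0 < d r := by rw [T_zero]; omega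
  have h2 : ∀ i, i ≤ r → T (r - i) < d i := by
    intro i hi
    have h3 : T 0 < d (i + (r - i)) := by
      rw [show i + (r - i) = r from by omega]
      exact hpos
    have h4 := h.lemB_iter h3
    rw [zero_add] at h4
    exact h4
  have h3 : ∑ i ∈ Finset.range r, T (r - i) ≤ ∑ i ∈ Finset.range r, d i := by
    refine Finset.sum_le_sum fun i hi => ?_
    rw [Finset.mem_range] at hi
    exact le_of_lt (h2 i (le_of_lt hi))
  have h4 := hc (r + 1)
  rw [Finset.sum_range_succ] at h4
  omega

theorem SS.d_eq_zero {i : ℕ} (hi : r ≤ i) : d i = 0 := by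
  have := h.anti hi
  have h0 := h.d_r_eq_zero hc
  omega

/-- **equality case** -/
theorem SS.eq_case
    (heq : ∀ j, j < r → ∑ i ∈ Finset.Ico j r, d i = ∑ i ∈ Finset.Ico j r, T (r - i)) :
    ∀ i, d i = T (r - i) ∧ e i = r - i := by
  have hd : ∀ i, d i = T (r - i) := by
    intro i
    rcases Nat.lt_or_ge i r with hi | hi
    · have h1 := heq i hi
      rw [Finset.sum_eq_sum_Ico_succ_bot hi, Finset.sum_eq_sum_Ico_succ_bot hi] at h1
      rcases Nat.lt_or_ge (i + 1) r with hi' | hi'
      · have h2 := heq (i + 1) hi'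
        omega
      · rw [Finset.Ico_eq_empty_of_le hi'] at h1
        simpa using h1
    · rw [h.d_eq_zero hc hi, show r - i = 0 from by omega, T_zero]
  intro i
  refine ⟨hd i, ?_⟩
  have h1 := h.step i
  have h2 := h.tri i
  rw [hd i, hd (i + 1)] at h1
  rw [hd i] at h2
  have h3 : r - i ≤ e i := by
    by_contra hcon
    push Not at hcon
    have := T_lt hcon
    omega
  have h4 := T_pred (r - i)
  rw [show r - (i + 1) = r - i - 1 from by omega] at h1
  omega

end main

/-! ### The extremal sums -/

theorem sum_T_Ico (r j : ℕ) (hj : j ≤ r) :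
    ∑ i ∈ Finset.Ico j r, T (r - i) = Nat.choose (r - j + 2) 3 := by
  rw [Finset.sum_Ico_eq_sum_range]
  have h : ∀ n : ℕ, ∀ r j : ℕ, r - j = n → j ≤ r →
      ∑ b ∈ Finset.range n, T (r - (j + b)) = Nat.choose (n + 2) 3 := by
    intro n
    induction n with
    | zero => intro r j _ _; rfl
    | succ n ih =>
      intro r j hn hj
      rw [Finset.sum_range_succ']
      have h1 : ∑ b ∈ Finset.range n, T (r - (j + (b + 1))) =
          ∑ b ∈ Finset.range n, T (r - ((j + 1) + b)) := by
        refine Finset.sum_congr rfl fun b _ => ?_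
        rw [show j + (b + 1) = j + 1 + b from by ring]
      rw [h1, ih r (j + 1) (by omega) (by omega), add_zero, hn]
      unfold T
      have hp : Nat.choose (n + 1 + 2) 3 = Nat.choose (n + 2) 2 + Nat.choose (n + 2) 3 :=
        Nat.choose_succ_succ' (n + 2) 2
      rw [hp, show n + 1 + 1 = n + 2 from rfl]
      omega
  exact h (r - j) r j rfl hj

theorem sum_T_range (r : ℕ) : ∑ i ∈ Finset.range r, T (r - i) = Nat.choose (r + 2) 3 := by
  have := sum_T_Ico r 0 (Nat.zero_le r)
  rwa [← Finset.range_eq_Ico, Nat.sub_zero] at this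

theorem sum_choose_Ico (r : ℕ) :
    ∑ j ∈ Finset.range r, Nat.choose (r - j + 2) 3 = Nat.choose (r + 3) 4 := by
  induction r with
  | zero => rfl
  | succ n ih =>
    rw [Finset.sum_range_succ']
    simp only [Nat.add_sub_add_right, Nat.sub_zero]
    have hp : Nat.choose (n + 1 + 3) 4 = Nat.choose (n + 3) 3 + Nat.choose (n + 3) 4 :=
      Nat.choose_succ_succ' (n + 3) 3
    have hq : Nat.choose (n + 1 + 2) 3 = Nat.choose (n + 3) 3 := rfl
    rw [ih, hp, hq]
    omega

/-- the sum of all extremal tails -/
theorem sum_tails_T (r : ℕ) :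
    ∑ j ∈ Finset.range r, ∑ i ∈ Finset.Ico j r, T (r - i) = Nat.choose (r + 3) 4 := by
  rw [← sum_choose_Ico r]
  refine Finset.sum_congr rfl fun j hj => ?_
  rw [Finset.mem_range] at hj
  exact sum_T_Ico r j (le_of_lt hj)

end Groth.Agent.Lib.Helper44.StairSeq
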