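import Groth.Agent.Lib.Helper44.TgtIndep

/-! Three variables: graded pieces of `T(I)` in terms of columns over the `xy`-plane. (helper44) -/

set_option autoImplicit false
set_option linter.style.haveILetI false
set_option linter.unusedSectionVars false

universe u

namespace Groth.Agent.Lib.Helper44.TgtComp

open W4c1hilbpn MvPolynomial

variable {k : Type u} [Field k]

local notation "S3" => MvPolynomial (Fin 3) k

/-! ### Staircase numbers -/

theorem e3_apply0 (a b c : ℕ) : e3 a b c 0 = a := rfl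
theorem e3_apply1 (a b c : ℕ) : e3 a b c 1 = b := rfl
theorem e3_apply2 (a b c : ℕ) : e3 a b c 2 = c := rfl

theorem e3_le_e3 {a b c a' b' c' : ℕ} (h1 : a ≤ a') (h2 : b ≤ b') (h3 : c ≤ c') :
    e3 a b c ≤ e3 a' b' c' := by
  intro i
  fin_cases i
  · exact h1
  · exact h2
  · exact h3

theorem eq_Iio_of_finite_lower {T : Set ℕ} (hfin : T.Finite)
    (hlow : ∀ c ∈ T, ∀ c' ≤ c, c' ∈ T) : T = Set.Iio (Nat.card T) := by
  classical
  have hne : ∃ m, m ∉ T := by
    by_contra hcon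
    push Not at hcon
    exact Set.infinite_univ (hfin.subset fun x _ => hcon x)
  set m := Nat.find hne with hm
  have hT : T = Set.Iio m := by
    ext c
    simp only [Set.mem_Iio]
    constructor
    · intro hc
      by_contra hle
      push Not at hle
      exact Nat.find_spec hne (hlow c hc m hle)
    · intro hc
      by_contra hcT
      exact Nat.find_min hne hc hcT
  have hcard : Nat.card T = m := by
    rw [hT]
    simp
  rw [hcard]
  exact hT

theorem stairZ_spec {I : Ideal S3} (hI : IsMonomial I) [Module.Finite k (S3 ⧸ I)] (a b e : ℕ) :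
    e3 a b e ∈ exps I ↔ stairZ I a b ≤ e := by
  have hfin : {c : ℕ | e3 a b c ∉ exps I}.Finite := by
    refine Set.Finite.of_finite_image (f := fun c => e3 a b c)
      ((finite_compl_exps hI).subset ?_) ?_
    · rintro _ ⟨c, hc, rfl⟩
      exact hc
    · intro c _ c' _ h
      have := congrArg (fun f : Fin 3 →₀ ℕ => f 2) h
      simpa [e3] using this
  have hlow : ∀ c ∈ {c : ℕ | e3 a b c ∉ exps I}, ∀ c' ≤ c, c' ∈ {c : ℕ | e3 a b c ∉ exps I} := by
    intro c hc c' hle hc'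
    apply hc
    by_contra hcon
    exact hcon (exps_of_le (not_not.mp (fun h => h (not_not.mp (fun h' => h' hc')))) (e3_le_e3 le_rfl le_rfl hle))
  have h1 := eq_Iio_of_finite_lower hfin hlow
  have h2 : Nat.card ↥{c : ℕ | e3 a b c ∉ exps I} = stairZ I a b := rfl
  rw [h2] at h1
  have h3 : e ∈ {c : ℕ | e3 a b c ∉ exps I} ↔ e < stairZ I a b := by
    rw [h1]; rfl
  constructor
  · intro h
    by_contra hlt
    push Not at hlt
    exact (h3.mpr hlt) h
  · intro h
    by_contra hcon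
    have := h3.mp hcon
    omega

theorem stairZ_anti {I : Ideal S3} (hI : IsMonomial I) [Module.Finite k (S3 ⧸ I)]
    {a b a' b' : ℕ} (h1 : a ≤ a') (h2 : b ≤ b') : stairZ I a' b' ≤ stairZ I a b := by
  rw [← stairZ_spec hI a' b']
  exact exps_of_le ((stairZ_spec hI a b _).mpr le_rfl) (e3_le_e3 h1 h2 le_rfl)

theorem stairZ_bdd {I : Ideal S3} (hI : IsMonomial I) [Module.Finite k (S3 ⧸ I)] :
    ∃ M : ℕ, ∀ a b : ℕ, (M ≤ a ∨ M ≤ b) → stairZ I a b = 0 := by
  have hnn : Nonneg (0 : Fin 3 → ℤ) := fun i => le_rfl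
  obtain ⟨t1, ht1⟩ := exists_mem_exps_up hI hnn (0 : Fin 3)
  obtain ⟨t2, ht2⟩ := exists_mem_exps_up hI hnn (1 : Fin 3)
  refine ⟨max t1 t2, fun a b h => ?_⟩
  have hz : stairZ I a b ≤ 0 := by
    rw [← stairZ_spec hI]
    rcases h with h | h
    · refine exps_of_le ht1 ?_
      intro l
      fin_cases l
      · simp [ev_apply, e3_apply0]; omega
      · simp [ev_apply]
      · simp [ev_apply]
    · refine exps_of_le ht2 ?_
      intro l
      fin_cases l
      · simp [ev_apply]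
      · simp [ev_apply, e3_apply1]; omega
      · simp [ev_apply]
  omega


/-! ### Vectors in three variables -/

/-- the integer vector `(a, b, e)` -/
def vec3 (a b e : ℤ) : Fin 3 → ℤ := ![a, b, e]

@[simp] theorem vec3_0 (a b e : ℤ) : vec3 a b e 0 = a := rfl
@[simp] theorem vec3_1 (a b e : ℤ) : vec3 a b e 1 = b := rfl
@[simp] theorem vec3_2 (a b e : ℤ) : vec3 a b e 2 = e := rfl

theorem vec3_eta (γ : Fin 3 → ℤ) : vec3 (γ 0) (γ 1) (γ 2) = γ := by
  funext i; fin_cases i <;> rfl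

theorem vec3_add_ev0 (a b e : ℤ) : vec3 a b e + ev 0 = vec3 (a + 1) b e := by
  funext i; fin_cases i <;> simp [ev_apply, vec3]

theorem vec3_add_ev1 (a b e : ℤ) : vec3 a b e + ev 1 = vec3 a (b + 1) e := by
  funext i; fin_cases i <;> simp [ev_apply, vec3]

theorem vec3_add_ev2 (a b e : ℤ) : vec3 a b e + ev 2 = vec3 a b (e + 1) := by
  funext i; fin_cases i <;> simp [ev_apply, vec3]

theorem nonneg_vec3 {a b e : ℤ} : Nonneg (vec3 a b e) ↔ 0 ≤ a ∧ 0 ≤ b ∧ 0 ≤ e := by
  constructor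
  · intro h
    exact ⟨h 0, h 1, h 2⟩
  · rintro ⟨h0, h1, h2⟩ i
    fin_cases i
    · exact h0
    · exact h1
    · exact h2

theorem toN_vec3 (a b e : ℤ) : toN (vec3 a b e) = e3 a.toNat b.toNat e.toNat := by
  ext i; fin_cases i <;> rfl

theorem ofN_e3 (a b e : ℕ) : ofN (e3 a b e) = vec3 a b e := by
  funext i; fin_cases i <;> rfl

/-! ### The region in terms of columns -/

/-- lower end of the column over `(a, b)` -/
noncomputable def Lo (I : Ideal S3) (α : Fin 3 → ℤ) (a b : ℤ) : ℤ :=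
  (stairZ I (a - α 0).toNat (b - α 1).toNat : ℤ) + α 2

/-- upper end (exclusive) of the column over `(a, b)` (for `a, b ≥ 0`) -/
noncomputable def Hi (I : Ideal S3) (a b : ℤ) : ℤ := (stairZ I a.toNat b.toNat : ℤ)

theorem mem_region3 {I : Ideal S3} (hI : IsMonomial I) [Module.Finite k (S3 ⧸ I)]
    {α : Fin 3 → ℤ} {a b e : ℤ} :
    vec3 a b e ∈ region I α ↔
      (α 0 ≤ a ∧ α 1 ≤ b ∧ Lo I α a b ≤ e) ∧ (a < 0 ∨ b < 0 ∨ e < Hi I a b) := by
  rw [mem_region]
  have hU : (∃ β ∈ exps I, vec3 a b e = ofN β + α) ↔ (α 0 ≤ a ∧ α 1 ≤ b ∧ Lo I α a b ≤ e) := by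
    constructor
    · rintro ⟨β, hβ, h⟩
      have h0 := congrFun h 0
      have h1 := congrFun h 1
      have h2 := congrFun h 2
      simp only [vec3_0, vec3_1, vec3_2, Pi.add_apply, ofN_apply] at h0 h1 h2
      refine ⟨by omega, by omega, ?_⟩
      unfold Lo
      have hβ' : β = e3 (a - α 0).toNat (b - α 1).toNat (e - α 2).toNat := by
        ext i
        fin_cases i
        · show β 0 = (a - α 0).toNat; omega
        · show β 1 = (b - α 1).toNat; omega
        · show β 2 = (e - α 2).toNat; omega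
      rw [hβ', stairZ_spec hI] at hβ
      omega
    · rintro ⟨h0, h1, h2⟩
      unfold Lo at h2
      refine ⟨e3 (a - α 0).toNat (b - α 1).toNat (e - α 2).toNat, ?_, ?_⟩
      · rw [stairZ_spec hI]; omega
      · funext i
        fin_cases i
        · show a = ((a - α 0).toNat : ℤ) + α 0; omega
        · show b = ((b - α 1).toNat : ℤ) + α 1; omega
        · show e = ((e - α 2).toNat : ℤ) + α 2; omega
  rw [hU]
  refine and_congr_right fun _ => ?_
  rw [nonneg_vec3, toN_vec3, stairZ_spec hI]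
  unfold Hi
  constructor
  · intro h
    by_contra hcon
    push Not at hcon
    obtain ⟨h0, h1, h2⟩ := hcon
    apply h
    have : (0 : ℤ) ≤ e := le_trans (by positivity) h2
    exact ⟨⟨h0, h1, this⟩, by omega⟩
  · rintro h ⟨⟨h0, h1, h2⟩, h3⟩
    rcases h with h | h | h <;> omega

/-- the column over `(a,b)` consists of nonnegative region vertices only, and is nonempty -/
def Good (I : Ideal S3) (α : Fin 3 → ℤ) (P : ℤ × ℤ) : Prop :=
  α 0 ≤ P.1 ∧ α 1 ≤ P.2 ∧ 0 ≤ P.1 ∧ 0 ≤ P.2 ∧ 0 ≤ Lo I α P.1 P.2 ∧ Lo I α P.1 P.2 < Hi I P.1 P.2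

theorem lo_mem_region_of_good {I : Ideal S3} (hI : IsMonomial I) [Module.Finite k (S3 ⧸ I)]
    {α : Fin 3 → ℤ} {P : ℤ × ℤ} (h : Good I α P) :
    vec3 P.1 P.2 (Lo I α P.1 P.2) ∈ region I α ∧ Nonneg (vec3 P.1 P.2 (Lo I α P.1 P.2)) := by
  obtain ⟨h0, h1, h2, h3, h4, h5⟩ := h
  exact ⟨(mem_region3 hI).mpr ⟨⟨h0, h1, le_rfl⟩, Or.inr (Or.inr h5)⟩,
    nonneg_vec3.mpr ⟨h2, h3, h4⟩⟩

theorem nonneg_of_good {I : Ideal S3} (hI : IsMonomial I) [Module.Finite k (S3 ⧸ I)]
    {α : Fin 3 → ℤ} {a b e : ℤ} (h : Good I α (a, b)) (hr : vec3 a b e ∈ region I α) :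
    Nonneg (vec3 a b e) := by
  obtain ⟨h0, h1, h2, h3, h4, h5⟩ := h
  have := ((mem_region3 hI).mp hr).1.2.2
  exact nonneg_vec3.mpr ⟨h2, h3, by simp only at h4; omega⟩

/-! ### Vertical constancy -/

theorem cf_vert_aux {I : Ideal S3} (hI : IsMonomial I) [Module.Finite k (S3 ⧸ I)]
    {α : Fin 3 → ℤ} {φ : Tgt I} (hφ : φ ∈ tPiece I α) (a b e : ℤ) :
    ∀ t : ℕ, vec3 a b e ∈ region I α → vec3 a b (e + t) ∈ region I α →
      cf I α φ (vec3 a b e) = cf I α φ (vec3 a b (e + t)) := by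
  intro t
  induction t with
  | zero => intro _ _; simp
  | succ t ih =>
    intro h1 h2
    have h3 : vec3 a b (e + t) ∈ region I α := by
      rw [mem_region3 hI] at h1 h2 ⊢
      refine ⟨⟨h1.1.1, h1.1.2.1, by have := h1.1.2.2; omega⟩, ?_⟩
      rcases h2.2 with h | h | h
      · exact Or.inl h
      · exact Or.inr (Or.inl h)
      · exact Or.inr (Or.inr (by push_cast at h; omega))
    rw [ih h1 h3]
    have e1 : vec3 a b (e + ((t + 1 : ℕ) : ℤ)) = vec3 a b (e + t) + ev 2 := by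
      rw [vec3_add_ev2]; push_cast; rw [add_assoc]
    rw [e1] at h2 ⊢
    exact (cf_add_ev hI hφ h3 2 h2).symm

theorem cf_vert {I : Ideal S3} (hI : IsMonomial I) [Module.Finite k (S3 ⧸ I)]
    {α : Fin 3 → ℤ} {φ : Tgt I} (hφ : φ ∈ tPiece I α) {a b e1 e2 : ℤ}
    (h1 : vec3 a b e1 ∈ region I α) (h2 : vec3 a b e2 ∈ region I α) :
    cf I α φ (vec3 a b e1) = cf I α φ (vec3 a b e2) := by
  rcases le_total e1 e2 with h | h
  · have := cf_vert_aux hI hφ a b e1 (e2 - e1).toNat h1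
      (by rw [Int.toNat_of_nonneg (by omega)]; rw [add_sub_cancel]; exact h2)
    rw [Int.toNat_of_nonneg (by omega), add_sub_cancel] at this
    exact this
  · have := cf_vert_aux hI hφ a b e2 (e1 - e2).toNat h2
      (by rw [Int.toNat_of_nonneg (by omega)]; rw [add_sub_cancel]; exact h1)
    rw [Int.toNat_of_nonneg (by omega), add_sub_cancel] at this
    exact this.symm

/-! ### The column function of a tangent vector -/

open Classical in
/-- the column function of `φ` -/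
noncomputable def colFn (I : Ideal S3) (α : Fin 3 → ℤ) (φ : Tgt I) (P : ℤ × ℤ) : k :=
  if Good I α P then cf I α φ (vec3 P.1 P.2 (Lo I α P.1 P.2)) else 0

theorem colFn_eq_cf {I : Ideal S3} (hI : IsMonomial I) [Module.Finite k (S3 ⧸ I)]
    {α : Fin 3 → ℤ} {φ : Tgt I} (hφ : φ ∈ tPiece I α) {a b e : ℤ}
    (hr : vec3 a b e ∈ region I α) : colFn I α φ (a, b) = cf I α φ (vec3 a b e) := by
  unfold colFn
  by_cases hg : Good I α (a, b)
  · rw [if_pos hg]
    exact cf_vert hI hφ (lo_mem_region_of_good hI hg).1 hr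
  · rw [if_neg hg]
    have hr' := (mem_region3 hI).mp hr
    by_cases hneg : a < 0 ∨ b < 0
    · symm
      apply cf_of_not_nonneg
      rw [nonneg_vec3]
      rcases hneg with h | h <;> omega
    · push Not at hneg
      have hlt : e < Hi I a b := by
        rcases hr'.2 with h | h | h
        · omega
        · omega
        · exact h
      have hlo : Lo I α a b < 0 := by
        by_contra hcon
        push Not at hcon
        exact hg ⟨hr'.1.1, hr'.1.2.1, hneg.1, hneg.2, hcon, by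
          have := hr'.1.2.2
          show Lo I α a b < Hi I a b
          omega⟩
      have hmem : vec3 a b (Lo I α a b) ∈ region I α :=
        (mem_region3 hI).mpr ⟨⟨hr'.1.1, hr'.1.2.1, le_rfl⟩, Or.inr (Or.inr (by
          have : (0 : ℤ) ≤ Hi I a b := by unfold Hi; positivity
          omega))⟩
      rw [← cf_vert hI hφ hmem hr]
      symm
      apply cf_of_not_nonneg
      rw [nonneg_vec3]
      omega

/-- The space of column functions. -/
noncomputable def ColSp (I : Ideal S3) (α : Fin 3 → ℤ) : Submodule k (ℤ × ℤ → k) where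
  carrier := {u | (∀ P, ¬ Good I α P → u P = 0) ∧
    (∀ a b e, vec3 a b e ∈ region I α → vec3 (a + 1) b e ∈ region I α → u (a, b) = u (a + 1, b)) ∧
    (∀ a b e, vec3 a b e ∈ region I α → vec3 a (b + 1) e ∈ region I α → u (a, b) = u (a, b + 1))}
  zero_mem' := ⟨fun _ _ => rfl, fun _ _ _ _ _ => rfl, fun _ _ _ _ _ => rfl⟩
  add_mem' := by
    rintro u v ⟨hu1, hu2, hu3⟩ ⟨hv1, hv2, hv3⟩
    refine ⟨fun P hP => ?_, fun a b e h1 h2 => ?_, fun a b e h1 h2 => ?_⟩
    · rw [Pi.add_apply, hu1 P hP, hv1 P hP, add_zero]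
    · rw [Pi.add_apply, Pi.add_apply, hu2 a b e h1 h2, hv2 a b e h1 h2]
    · rw [Pi.add_apply, Pi.add_apply, hu3 a b e h1 h2, hv3 a b e h1 h2]
  smul_mem' := by
    rintro c u ⟨hu1, hu2, hu3⟩
    refine ⟨fun P hP => ?_, fun a b e h1 h2 => ?_, fun a b e h1 h2 => ?_⟩
    · rw [Pi.smul_apply, hu1 P hP, smul_zero]
    · rw [Pi.smul_apply, Pi.smul_apply, hu2 a b e h1 h2]
    · rw [Pi.smul_apply, Pi.smul_apply, hu3 a b e h1 h2]

theorem colFn_mem {I : Ideal S3} (hI : IsMonomial I) [Module.Finite k (S3 ⧸ I)]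
    {α : Fin 3 → ℤ} {φ : Tgt I} (hφ : φ ∈ tPiece I α) : colFn I α φ ∈ ColSp I α := by
  refine ⟨fun P hP => ?_, fun a b e h1 h2 => ?_, fun a b e h1 h2 => ?_⟩
  · unfold colFn; rw [if_neg hP]
  · rw [colFn_eq_cf hI hφ h1, colFn_eq_cf hI hφ h2]
    have e1 : vec3 (a + 1) b e = vec3 a b e + ev 0 := (vec3_add_ev0 a b e).symm
    rw [e1] at h2 ⊢
    exact (cf_add_ev hI hφ h1 0 h2).symm
  · rw [colFn_eq_cf hI hφ h1, colFn_eq_cf hI hφ h2]
    have e1 : vec3 a (b + 1) e = vec3 a b e + ev 1 := (vec3_add_ev1 a b e).symm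
    rw [e1] at h2 ⊢
    exact (cf_add_ev hI hφ h1 1 h2).symm


/-! ### From column functions to tangent vectors -/

theorem tPiece_ext_cf {n : ℕ} {I : Ideal (MvPolynomial (Fin n) k)} (hI : IsMonomial I)
    {α : Fin n → ℤ} {φ ψ : Tgt I} (hφ : φ ∈ tPiece I α) (hψ : ψ ∈ tPiece I α)
    (h : ∀ γ ∈ region I α, Nonneg γ → cf I α φ γ = cf I α ψ γ) : φ = ψ := by
  apply tgt_ext hI
  intro β hβ
  by_cases hnn : Nonneg (ofN β + α)
  · rw [cf_spec hI hφ hβ hnn, cf_spec hI hψ hβ hnn]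
    by_cases hin : toN (ofN β + α) ∈ exps I
    · rw [mk_monomial_eq_zero hin, smul_zero, smul_zero]
    · have hreg : ofN β + α ∈ region I α := mem_region_of hβ fun h => hin h.2
      rw [h _ hreg hnn]
  · rw [apply_eq_zero_of_neg hφ hβ hnn, apply_eq_zero_of_neg hψ hβ hnn]

open Classical in
/-- the coefficient function attached to a column function -/
noncomputable def gCol (I : Ideal S3) (α : Fin 3 → ℤ) (u : ℤ × ℤ → k) (γ : Fin 3 → ℤ) : k :=
  if γ ∈ region I α then u (γ 0, γ 1) else 0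

theorem compat_gCol {I : Ideal S3} (hI : IsMonomial I) [Module.Finite k (S3 ⧸ I)]
    {α : Fin 3 → ℤ} {u : ℤ × ℤ → k} (hu : u ∈ ColSp I α) : Compat I α (gCol I α u) where
  step γ hγ i hγ' := by
    unfold gCol
    rw [if_pos hγ, if_pos hγ']
    obtain ⟨_, hu2, hu3⟩ := hu
    rw [← vec3_eta γ] at hγ hγ' ⊢
    fin_cases i
    · simp only [Fin.zero_eta] at hγ' ⊢
      rw [vec3_add_ev0] at hγ' ⊢
      exact (hu2 _ _ _ hγ hγ').symm
    · simp only [Fin.mk_one] at hγ' ⊢
      rw [vec3_add_ev1] at hγ' ⊢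
      exact (hu3 _ _ _ hγ hγ').symm
    · have e2 : (⟨2, by omega⟩ : Fin 3) = 2 := rfl
      simp only [e2] at hγ' ⊢
      rw [vec3_add_ev2]
      rfl
  neg γ hγ hneg := by
    unfold gCol
    rw [if_pos hγ]
    apply hu.1
    intro hg
    apply hneg
    rw [← vec3_eta γ] at hγ ⊢
    exact nonneg_of_good hI hg hγ

theorem gCol_add (I : Ideal S3) (α : Fin 3 → ℤ) (u v : ℤ × ℤ → k) (γ : Fin 3 → ℤ) :
    gCol I α (u + v) γ = gCol I α u γ + gCol I α v γ := by
  unfold gCol
  split_ifs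
  · rfl
  · rw [add_zero]

/-- The linear map from the graded piece to column functions. -/
noncomputable def colMap {I : Ideal S3} (hI : IsMonomial I) [Module.Finite k (S3 ⧸ I)]
    (α : Fin 3 → ℤ) : ↥(tPiece I α) →ₗ[k] ↥(ColSp I α) where
  toFun φ := ⟨colFn I α φ.1, colFn_mem hI φ.2⟩
  map_add' φ ψ := by
    apply Subtype.ext
    funext P
    show colFn I α (φ.1 + ψ.1) P = colFn I α φ.1 P + colFn I α ψ.1 P
    unfold colFn
    split_ifs
    · rw [cf_add hI]
    · rw [add_zero]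
  map_smul' c φ := by
    apply Subtype.ext
    funext P
    show colFn I α (c • φ.1) P = c • colFn I α φ.1 P
    unfold colFn
    split_ifs
    · rw [cf_smul hI, smul_eq_mul]
    · rw [smul_zero]

theorem colMap_injective {I : Ideal S3} (hI : IsMonomial I) [Module.Finite k (S3 ⧸ I)]
    (α : Fin 3 → ℤ) : Function.Injective (colMap hI α) := by
  intro φ ψ h
  have h1 : colFn I α φ.1 = colFn I α ψ.1 := congrArg Subtype.val h
  apply Subtype.ext
  apply tPiece_ext_cf hI φ.2 ψ.2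
  intro γ hγ _
  rw [← vec3_eta γ] at hγ ⊢
  rw [← colFn_eq_cf hI φ.2 hγ, ← colFn_eq_cf hI ψ.2 hγ, h1]

theorem colMap_surjective {I : Ideal S3} (hI : IsMonomial I) [Module.Finite k (S3 ⧸ I)]
    (α : Fin 3 → ℤ) : Function.Surjective (colMap hI α) := by
  intro u
  refine ⟨⟨phiOf hI (compat_gCol hI u.2), phiOf_mem hI _⟩, ?_⟩
  apply Subtype.ext
  funext P
  show colFn I α (phiOf hI (compat_gCol hI u.2)) P = u.1 P
  unfold colFn
  by_cases hg : Good I α P
  · rw [if_pos hg]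
    obtain ⟨h1, h2⟩ := lo_mem_region_of_good hI hg
    rw [cf_phiOf hI _ h1 h2]
    unfold gCol
    rw [if_pos h1]
    rfl
  · rw [if_neg hg, u.2.1 P hg]

/-- The graded piece of multidegree `α` is isomorphic to the space of column functions. -/
noncomputable def colEquiv {I : Ideal S3} (hI : IsMonomial I) [Module.Finite k (S3 ⧸ I)]
    (α : Fin 3 → ℤ) : ↥(tPiece I α) ≃ₗ[k] ↥(ColSp I α) :=
  LinearEquiv.ofBijective (colMap hI α) ⟨colMap_injective hI α, colMap_surjective hI α⟩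

end Groth.Agent.Lib.Helper44.TgtComp
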