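import Groth.Prelude.Def_W4c1hilbpnTgt
import Mathlib

/-! Monomial ideals: graded pieces of `T(I) = Hom_S(I, S/I)` correspond to functions on the bounded
connected components of the region `(Ĩ + α) ∖ Ĩ`. (helper44) -/

set_option autoImplicit false
set_option linter.style.haveILetI false
set_option linter.unusedSectionVars false

universe u

namespace Groth.Agent.Lib.Helper44.TgtComp

open W4c1hilbpn MvPolynomial

variable {k : Type u} [Field k] {n : ℕ}

local notation "S" => MvPolynomial (Fin n) k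

/-! ### Basics on monomial ideals -/

theorem exps_add {I : Ideal S} {β : Fin n →₀ ℕ} (hβ : β ∈ exps I) (δ : Fin n →₀ ℕ) :
    β + δ ∈ exps I := by
  change monomial (β + δ) (1 : k) ∈ I
  have : monomial (β + δ) (1 : k) = monomial β 1 * monomial δ 1 := by
    rw [monomial_mul, one_mul]
  rw [this]
  exact I.mul_mem_right _ hβ

theorem exps_of_le {I : Ideal S} {β β' : Fin n →₀ ℕ} (hβ : β ∈ exps I) (h : β ≤ β') :
    β' ∈ exps I := by
  have := exps_add hβ (β' - β)
  rwa [add_tsub_cancel_of_le h] at this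

theorem mem_iff_support {I : Ideal S} (hI : IsMonomial I) (p : S) :
    p ∈ I ↔ ∀ β ∈ p.support, β ∈ exps I := by
  constructor
  · intro hp β hβ
    exact hI p hp β hβ
  · intro h
    rw [as_sum p]
    refine I.sum_mem fun β hβ => ?_
    have : monomial β (coeff β p) = C (coeff β p) * monomial β 1 := by
      rw [C_mul_monomial, mul_one]
    rw [this]
    exact I.mul_mem_left _ (h β hβ)

theorem coeff_eq_zero_of_mem {I : Ideal S} (hI : IsMonomial I) {p : S} (hp : p ∈ I)
    {γ : Fin n →₀ ℕ} (hγ : γ ∉ exps I) : coeff γ p = 0 := by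
  by_contra h
  exact hγ (hI p hp γ (mem_support_iff.mpr h))

/-- Coefficient extraction on the quotient (meaningful for `γ ∉ exps I`). -/
noncomputable def cq (I : Ideal S) (γ : Fin n →₀ ℕ) (x : S ⧸ I) : k :=
  coeff γ (Quotient.out x)

theorem cq_mk {I : Ideal S} (hI : IsMonomial I) {γ : Fin n →₀ ℕ} (hγ : γ ∉ exps I) (p : S) :
    cq I γ (Ideal.Quotient.mk I p) = coeff γ p := by
  unfold cq
  have h1 : Ideal.Quotient.mk I (Quotient.out (Ideal.Quotient.mk I p)) = Ideal.Quotient.mk I p :=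
    Quotient.out_eq _
  rw [Ideal.Quotient.eq] at h1
  have := coeff_eq_zero_of_mem hI h1 hγ
  rw [coeff_sub, sub_eq_zero] at this
  exact this

theorem cq_add {I : Ideal S} (hI : IsMonomial I) {γ : Fin n →₀ ℕ} (hγ : γ ∉ exps I)
    (x y : S ⧸ I) : cq I γ (x + y) = cq I γ x + cq I γ y := by
  obtain ⟨p, rfl⟩ := Ideal.Quotient.mk_surjective x
  obtain ⟨q, rfl⟩ := Ideal.Quotient.mk_surjective y
  rw [← map_add, cq_mk hI hγ, cq_mk hI hγ, cq_mk hI hγ, coeff_add]

theorem smul_mk (I : Ideal S) (c : k) (p : S) :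
    c • Ideal.Quotient.mk I p = Ideal.Quotient.mk I (c • p) := rfl

theorem cq_smul {I : Ideal S} (hI : IsMonomial I) {γ : Fin n →₀ ℕ} (hγ : γ ∉ exps I)
    (c : k) (x : S ⧸ I) : cq I γ (c • x) = c * cq I γ x := by
  obtain ⟨p, rfl⟩ := Ideal.Quotient.mk_surjective x
  rw [smul_mk, cq_mk hI hγ, cq_mk hI hγ, coeff_smul, smul_eq_mul]

theorem cq_zero {I : Ideal S} (hI : IsMonomial I) {γ : Fin n →₀ ℕ} (hγ : γ ∉ exps I) :
    cq I γ (0 : S ⧸ I) = 0 := by
  have := cq_smul hI hγ 0 (0 : S ⧸ I)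
  simpa using this

theorem mk_monomial_eq_zero {I : Ideal S} {γ : Fin n →₀ ℕ} (hγ : γ ∈ exps I) :
    Ideal.Quotient.mk I (monomial γ (1 : k)) = 0 :=
  Ideal.Quotient.eq_zero_iff_mem.mpr hγ


/-! ### Integer vectors -/

/-- All entries nonnegative. -/
def Nonneg (γ : Fin n → ℤ) : Prop := ∀ i, 0 ≤ γ i

/-- Truncation to a natural exponent vector. -/
noncomputable def toN (γ : Fin n → ℤ) : Fin n →₀ ℕ :=
  Finsupp.equivFunOnFinite.symm fun i => (γ i).toNat

@[simp] theorem toN_apply (γ : Fin n → ℤ) (i : Fin n) : toN γ i = (γ i).toNat := rfl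

/-- The integer vector of an exponent vector. -/
def ofN (β : Fin n →₀ ℕ) : Fin n → ℤ := fun i => (β i : ℤ)

@[simp] theorem ofN_apply (β : Fin n →₀ ℕ) (i : Fin n) : ofN β i = (β i : ℤ) := rfl

theorem toN_ofN (β : Fin n →₀ ℕ) : toN (ofN β) = β := by
  ext i; simp

theorem ofN_toN {γ : Fin n → ℤ} (h : Nonneg γ) : ofN (toN γ) = γ := by
  funext i; simp [Int.toNat_of_nonneg (h i)]

theorem shift_eq (β : Fin n →₀ ℕ) (α : Fin n → ℤ) : shift β α = toN (ofN β + α) := rfl

/-- unit vector -/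
def ev (i : Fin n) : Fin n → ℤ := Pi.single i 1

theorem ev_apply (i j : Fin n) : ev i j = if j = i then 1 else 0 := by
  unfold ev; rw [Pi.single_apply]

theorem ofN_add_single (β : Fin n →₀ ℕ) (i : Fin n) :
    ofN (β + Finsupp.single i 1) = ofN β + ev i := by
  funext j
  simp only [ofN_apply, Finsupp.add_apply, Pi.add_apply, ev_apply, Finsupp.single_apply]
  by_cases h : j = i
  · subst h; simp
  · have h' : ¬ i = j := fun e => h e.symm
    simp [h, h']

theorem nonneg_add_ev {γ : Fin n → ℤ} (h : Nonneg γ) (i : Fin n) : Nonneg (γ + ev i) := by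
  intro j
  have := h j
  simp only [Pi.add_apply, ev_apply]
  split_ifs <;> omega

theorem toN_add_ev {γ : Fin n → ℤ} (h : Nonneg γ) (i : Fin n) :
    toN (γ + ev i) = toN γ + Finsupp.single i 1 := by
  ext j
  have := h j
  simp only [toN_apply, Pi.add_apply, ev_apply, Finsupp.add_apply, Finsupp.single_apply]
  by_cases hj : j = i
  · subst hj; simp; omega
  · have h' : ¬ i = j := fun e => hj e.symm
    simp [hj, h']

/-! ### The region -/

theorem mem_region {I : Ideal S} {α γ : Fin n → ℤ} :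
    γ ∈ region I α ↔ (∃ β ∈ exps I, γ = ofN β + α) ∧ ¬ (Nonneg γ ∧ toN γ ∈ exps I) := Iff.rfl

theorem mem_region_of {I : Ideal S} {α : Fin n → ℤ} {β : Fin n →₀ ℕ} (hβ : β ∈ exps I)
    (h : ¬ (Nonneg (ofN β + α) ∧ toN (ofN β + α) ∈ exps I)) : ofN β + α ∈ region I α :=
  ⟨⟨β, hβ, rfl⟩, h⟩

theorem region_add_ev {I : Ideal S} {α γ : Fin n → ℤ} (hγ : γ ∈ region I α) (i : Fin n)
    (h : ¬ (Nonneg (γ + ev i) ∧ toN (γ + ev i) ∈ exps I)) : γ + ev i ∈ region I α := by
  rw [mem_region] at hγ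
  obtain ⟨⟨β, hβ, rfl⟩, _⟩ := hγ
  rw [mem_region]
  refine ⟨⟨β + Finsupp.single i 1, exps_add hβ _, ?_⟩, h⟩
  rw [ofN_add_single]; abel

/-! ### The step graph -/

theorem stepGraph_adj_add_ev (γ : Fin n → ℤ) (i : Fin n) :
    (stepGraph (Fin n)).Adj γ (γ + ev i) := by
  unfold stepGraph
  rw [SimpleGraph.fromRel_adj]
  refine ⟨?_, Or.inl ?_⟩
  · intro h
    have := congrFun h i
    simp [ev_apply] at this
  · rw [Finset.sum_eq_single i]
    · simp [ev_apply]
    · intro j _ hj
      simp [ev_apply, hj]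
    · intro h; exact absurd (Finset.mem_univ i) h

theorem stepGraph_adj_iff (a b : Fin n → ℤ) :
    (stepGraph (Fin n)).Adj a b ↔ ∃ i, b = a + ev i ∨ a = b + ev i := by
  constructor
  · intro h
    unfold stepGraph at h
    rw [SimpleGraph.fromRel_adj] at h
    obtain ⟨hne, h⟩ := h
    have hsum : ∑ i, |a i - b i| = 1 := by
      rcases h with h | h
      · exact h
      · rw [← h]; exact Finset.sum_congr rfl fun i _ => abs_sub_comm _ _
    have hex : ∃ i, a i ≠ b i := by
      by_contra hcon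
      push Not at hcon
      exact hne (funext hcon)
    obtain ⟨i, hi⟩ := hex
    have hpos : 1 ≤ |a i - b i| := by
      have : a i - b i ≠ 0 := sub_ne_zero.mpr hi
      exact Int.one_le_abs this
    have hrest : ∀ j, j ≠ i → a j = b j := by
      intro j hj
      by_contra hjne
      have hposj : 1 ≤ |a j - b j| := Int.one_le_abs (sub_ne_zero.mpr hjne)
      have hle : |a i - b i| + |a j - b j| ≤ ∑ l, |a l - b l| := by
        have h2 : ∑ l ∈ ({i, j} : Finset (Fin n)), |a l - b l| ≤ ∑ l, |a l - b l| :=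
          Finset.sum_le_sum_of_subset_of_nonneg (Finset.subset_univ _) fun _ _ _ => abs_nonneg _
        rwa [Finset.sum_pair (Ne.symm hj)] at h2
      omega
    have hi1 : |a i - b i| = 1 := by
      have hle : |a i - b i| ≤ ∑ l, |a l - b l| :=
        Finset.single_le_sum (f := fun l => |a l - b l|) (fun _ _ => abs_nonneg _)
          (Finset.mem_univ i)
      omega
    refine ⟨i, ?_⟩
    rcases (abs_eq (by norm_num : (0 : ℤ) ≤ 1)).mp hi1 with h1 | h1
    · right
      funext j
      simp only [Pi.add_apply, ev_apply]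
      by_cases hj : j = i
      · subst hj; simp; omega
      · simp [hj, hrest j hj]
    · left
      funext j
      simp only [Pi.add_apply, ev_apply]
      by_cases hj : j = i
      · subst hj; simp; omega
      · simp [hj, hrest j hj]
  · rintro ⟨i, rfl | rfl⟩
    · exact stepGraph_adj_add_ev a i
    · exact (stepGraph_adj_add_ev b i).symm


/-! ### Finiteness of the complement of the exponent set -/

theorem finite_compl_exps {I : Ideal S} (hI : IsMonomial I) [Module.Finite k (S ⧸ I)] :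
    {β : Fin n →₀ ℕ | β ∉ exps I}.Finite := by
  classical
  have hli : LinearIndependent k (fun β : {β : Fin n →₀ ℕ // β ∉ exps I} =>
      Ideal.Quotient.mk I (monomial β.1 (1 : k))) := by
    rw [linearIndependent_iff']
    intro s g hg i₀ hi₀
    have hp : (∑ i ∈ s, monomial i.1 (g i)) ∈ I := by
      rw [← Ideal.Quotient.eq_zero_iff_mem, map_sum, ← hg]
      refine Finset.sum_congr rfl fun i _ => ?_
      rw [smul_mk, smul_monomial, smul_eq_mul, mul_one]
    have hcoeff : coeff i₀.1 (∑ i ∈ s, monomial i.1 (g i)) = g i₀ := by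
      rw [coeff_sum, Finset.sum_eq_single i₀]
      · simp
      · intro b _ hb
        rw [coeff_monomial, if_neg]
        intro h
        exact hb (Subtype.ext h)
      · intro h; exact absurd hi₀ h
    rw [← hcoeff]
    exact coeff_eq_zero_of_mem hI hp i₀.2
  have : Finite {β : Fin n →₀ ℕ // β ∉ exps I} := hli.finite
  exact Set.finite_coe_iff.mp this

/-! ### Components of the region graph -/

/-- The induced graph on the region. -/
abbrev RG (I : Ideal S) (α : Fin n → ℤ) : SimpleGraph ↥(region I α) :=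
  (stepGraph (Fin n)).induce (region I α)

theorem rg_adj {I : Ideal S} {α : Fin n → ℤ} (u w : ↥(region I α)) :
    (RG I α).Adj u w ↔ (stepGraph (Fin n)).Adj u.1 w.1 := Iff.rfl

theorem not_nonneg_region {I : Ideal S} {α γ : Fin n → ℤ} (hγ : γ ∈ region I α)
    (h : Nonneg γ) : toN γ ∉ exps I := fun h' => hγ.2 ⟨h, h'⟩

theorem infinite_supp_of_neg {I : Ideal S} {α : Fin n → ℤ} (hn : 2 ≤ n)
    (v : ↥(region I α)) (hv : ¬ Nonneg v.1) :
    ((RG I α).connectedComponentMk v).supp.Infinite := by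
  unfold Nonneg at hv
  push Not at hv
  obtain ⟨i, hi⟩ := hv
  haveI : Nontrivial (Fin n) := Fin.nontrivial_iff_two_le.mpr hn
  obtain ⟨j, hj⟩ := exists_ne i
  have hmem : ∀ t : ℕ, v.1 + (t : ℤ) • ev j ∈ region I α := by
    intro t
    induction t with
    | zero => simp
    | succ t ih =>
      have : v.1 + ((t + 1 : ℕ) : ℤ) • ev j = (v.1 + (t : ℤ) • ev j) + ev j := by
        push_cast; rw [add_smul, one_smul, add_assoc]
      rw [this]
      refine region_add_ev ih j ?_
      rintro ⟨hnn, _⟩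
      have := hnn i
      simp only [Pi.add_apply, Pi.smul_apply, ev_apply, smul_eq_mul] at this
      rw [if_neg (Ne.symm hj)] at this
      omega
  have hreach : ∀ t : ℕ, (RG I α).Reachable v ⟨_, hmem t⟩ := by
    intro t
    induction t with
    | zero =>
      have : (⟨_, hmem 0⟩ : ↥(region I α)) = v := Subtype.ext (by simp)
      rw [this]
    | succ t ih =>
      refine ih.trans (SimpleGraph.Adj.reachable ?_)
      rw [rg_adj]
      have : v.1 + ((t + 1 : ℕ) : ℤ) • ev j = (v.1 + (t : ℤ) • ev j) + ev j := by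
        push_cast; rw [add_smul, one_smul, add_assoc]
      show (stepGraph (Fin n)).Adj (v.1 + (t : ℤ) • ev j) (v.1 + ((t + 1 : ℕ) : ℤ) • ev j)
      rw [this]
      exact stepGraph_adj_add_ev _ j
  refine Set.infinite_of_injective_forall_mem (f := fun t : ℕ => (⟨_, hmem t⟩ : ↥(region I α)))
    ?_ ?_
  · intro t t' h
    have h1 := congrArg (fun w : ↥(region I α) => w.1 j) h
    simp only [Pi.add_apply, Pi.smul_apply, ev_apply, smul_eq_mul, if_true, mul_one] at h1
    omega
  · intro t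
    rw [SimpleGraph.ConnectedComponent.mem_supp_iff]
    exact (SimpleGraph.ConnectedComponent.sound (hreach t)).symm

theorem finite_nonneg_region {I : Ideal S} (hI : IsMonomial I) [Module.Finite k (S ⧸ I)]
    (α : Fin n → ℤ) : {v : ↥(region I α) | Nonneg v.1}.Finite := by
  refine Set.Finite.of_finite_image (f := fun v : ↥(region I α) => toN v.1)
    ((finite_compl_exps hI).subset ?_) ?_
  · rintro _ ⟨v, hv, rfl⟩
    exact not_nonneg_region v.2 hv
  · intro v hv w hw h
    apply Subtype.ext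
    have := congrArg ofN h
    rwa [ofN_toN hv, ofN_toN hw] at this

theorem exists_neg_of_infinite {I : Ideal S} (hI : IsMonomial I) [Module.Finite k (S ⧸ I)]
    {α : Fin n → ℤ} (c : (RG I α).ConnectedComponent) (hc : c.supp.Infinite) :
    ∃ v ∈ c.supp, ¬ Nonneg v.1 := by
  by_contra hcon
  push Not at hcon
  exact hc ((finite_nonneg_region hI α).subset fun v hv => hcon v hv)

theorem nonneg_of_finite {I : Ideal S} {α : Fin n → ℤ} (hn : 2 ≤ n)
    (v : ↥(region I α)) (hv : ((RG I α).connectedComponentMk v).supp.Finite) : Nonneg v.1 := by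
  by_contra h
  exact infinite_supp_of_neg hn v h hv


/-! ### Module structure lemmas -/

theorem X_smul_monomial_mem {I : Ideal S} {β : Fin n →₀ ℕ} (hβ : β ∈ exps I) (i : Fin n) :
    (X i : S) • (⟨monomial β 1, hβ⟩ : ↥I) =
      ⟨monomial (β + Finsupp.single i 1) 1, exps_add hβ _⟩ := by
  apply Subtype.ext
  show (X i : S) * monomial β 1 = monomial (β + Finsupp.single i 1) 1
  rw [monomial_add_single, pow_one, mul_comm]

theorem S_smul_mk (I : Ideal S) (q p : S) :
    q • Ideal.Quotient.mk I p = Ideal.Quotient.mk I (q * p) := rfl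

theorem X_smul_mk_monomial (I : Ideal S) (i : Fin n) (γ : Fin n →₀ ℕ) :
    (X i : S) • Ideal.Quotient.mk I (monomial γ (1 : k)) =
      Ideal.Quotient.mk I (monomial (γ + Finsupp.single i 1) 1) := by
  rw [S_smul_mk, monomial_add_single, pow_one, mul_comm]

theorem monomial_subtype_congr {I : Ideal S} (φ : Tgt I) {β β' : Fin n →₀ ℕ} (h : β = β')
    (hβ : monomial β (1 : k) ∈ I) (hβ' : monomial β' (1 : k) ∈ I) :
    φ ⟨monomial β 1, hβ⟩ = φ ⟨monomial β' 1, hβ'⟩ := by
  subst h; rfl

theorem mem_eq_sum {I : Ideal S} (hI : IsMonomial I) (p : S) (hp : p ∈ I) :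
    (⟨p, hp⟩ : ↥I) = ∑ β ∈ p.support.attach,
      (C (coeff β.1 p) : S) • (⟨monomial β.1 1, hI p hp β.1 β.2⟩ : ↥I) := by
  apply Subtype.ext
  rw [Submodule.coe_sum]
  simp only [Submodule.coe_smul, smul_eq_mul, C_mul_monomial, mul_one]
  rw [Finset.sum_attach p.support (fun β => monomial β (coeff β p))]
  exact as_sum p

theorem tgt_ext {I : Ideal S} (hI : IsMonomial I) (φ ψ : Tgt I)
    (h : ∀ β (hβ : β ∈ exps I), φ ⟨monomial β 1, hβ⟩ = ψ ⟨monomial β 1, hβ⟩) : φ = ψ := by
  apply LinearMap.ext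
  rintro ⟨p, hp⟩
  rw [mem_eq_sum hI p hp, map_sum, map_sum]
  refine Finset.sum_congr rfl fun β _ => ?_
  rw [map_smul, map_smul, h]

/-! ### The coefficient function of a tangent vector -/

/-- `β = γ - α` truncated. -/
noncomputable def bOf (α γ : Fin n → ℤ) : Fin n →₀ ℕ := toN (γ - α)

theorem bOf_add (α : Fin n → ℤ) (β : Fin n →₀ ℕ) : bOf α (ofN β + α) = β := by
  unfold bOf
  rw [add_sub_cancel_right, toN_ofN]

theorem bOf_mem_of_region {I : Ideal S} {α γ : Fin n → ℤ} (hγ : γ ∈ region I α) :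
    bOf α γ ∈ exps I ∧ ofN (bOf α γ) + α = γ := by
  rw [mem_region] at hγ
  obtain ⟨⟨β, hβ, rfl⟩, _⟩ := hγ
  rw [bOf_add]
  exact ⟨hβ, rfl⟩

open Classical in
/-- The coefficient of `φ` at the lattice point `γ`. -/
noncomputable def cf (I : Ideal S) (α : Fin n → ℤ) (φ : Tgt I) (γ : Fin n → ℤ) : k :=
  if h : bOf α γ ∈ exps I ∧ Nonneg γ ∧ toN γ ∉ exps I then
    cq I (toN γ) (φ ⟨monomial (bOf α γ) 1, h.1⟩)
  else 0

theorem cf_of_not_nonneg {I : Ideal S} {α : Fin n → ℤ} (φ : Tgt I) {γ : Fin n → ℤ}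
    (h : ¬ Nonneg γ) : cf I α φ γ = 0 := by
  unfold cf
  rw [dif_neg]
  exact fun h' => h h'.2.1

theorem cf_add {I : Ideal S} (hI : IsMonomial I) {α : Fin n → ℤ} (φ ψ : Tgt I)
    (γ : Fin n → ℤ) : cf I α (φ + ψ) γ = cf I α φ γ + cf I α ψ γ := by
  unfold cf
  split_ifs with h
  · rw [LinearMap.add_apply, cq_add hI h.2.2]
  · simp

theorem cf_smul {I : Ideal S} (hI : IsMonomial I) {α : Fin n → ℤ} (c : k) (φ : Tgt I)
    (γ : Fin n → ℤ) : cf I α (c • φ) γ = c * cf I α φ γ := by
  unfold cf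
  split_ifs with h
  · rw [LinearMap.smul_apply, cq_smul hI h.2.2]
  · simp

/-- For `φ` in the graded piece, `φ(x^β)` is `cf` times the shifted monomial. -/
theorem cf_spec {I : Ideal S} (hI : IsMonomial I) {α : Fin n → ℤ} {φ : Tgt I}
    (hφ : φ ∈ tPiece I α) {β : Fin n →₀ ℕ} (hβ : β ∈ exps I) (hnn : Nonneg (ofN β + α)) :
    φ ⟨monomial β 1, hβ⟩ =
      cf I α φ (ofN β + α) • Ideal.Quotient.mk I (monomial (toN (ofN β + α)) (1 : k)) := by
  have h1 := (hφ β hβ).1 hnn
  rw [shift_eq, Submodule.mem_span_singleton] at h1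
  obtain ⟨c, hc⟩ := h1
  by_cases hin : toN (ofN β + α) ∈ exps I
  · rw [← hc, mk_monomial_eq_zero hin, smul_zero, smul_zero]
  · unfold cf
    rw [dif_pos ⟨by rw [bOf_add]; exact hβ, hnn, hin⟩]
    rw [monomial_subtype_congr φ (bOf_add α β) _ hβ, ← hc, cq_smul hI hin, cq_mk hI hin,
      coeff_monomial, if_pos rfl, mul_one]

theorem apply_eq_zero_of_neg {I : Ideal S} {α : Fin n → ℤ} {φ : Tgt I}
    (hφ : φ ∈ tPiece I α) {β : Fin n →₀ ℕ} (hβ : β ∈ exps I) (hnn : ¬ Nonneg (ofN β + α)) :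
    φ ⟨monomial β 1, hβ⟩ = 0 := by
  refine (hφ β hβ).2 ?_
  unfold Nonneg at hnn
  push Not at hnn
  obtain ⟨i, hi⟩ := hnn
  exact ⟨i, hi⟩

theorem cf_add_ev {I : Ideal S} (hI : IsMonomial I) {α : Fin n → ℤ} {φ : Tgt I}
    (hφ : φ ∈ tPiece I α) {γ : Fin n → ℤ} (hγ : γ ∈ region I α) (i : Fin n)
    (hγ' : γ + ev i ∈ region I α) : cf I α φ (γ + ev i) = cf I α φ γ := by
  obtain ⟨hb, hbe⟩ := bOf_mem_of_region hγ
  set β := bOf α γ with hβdef
  have hb' : β + Finsupp.single i 1 ∈ exps I := exps_add hb _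
  have hsum : ofN (β + Finsupp.single i 1) + α = γ + ev i := by
    rw [ofN_add_single, ← hbe]; abel
  have hlin : φ ⟨monomial (β + Finsupp.single i 1) 1, hb'⟩ = (X i : S) • φ ⟨monomial β 1, hb⟩ := by
    rw [← map_smul, X_smul_monomial_mem hb i]
  by_cases hnn' : Nonneg (γ + ev i)
  · have hout' : toN (γ + ev i) ∉ exps I := not_nonneg_region hγ' hnn'
    have h1 := cf_spec hI hφ hb' (by rw [hsum]; exact hnn')
    rw [hsum] at h1
    by_cases hnn : Nonneg γ
    · have h2 := cf_spec hI hφ hb (by rw [hbe]; exact hnn)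
      rw [hbe] at h2
      rw [hlin, h2, smul_comm, X_smul_mk_monomial, ← toN_add_ev hnn] at h1
      have h3 := congrArg (cq I (toN (γ + ev i))) h1
      rw [cq_smul hI hout', cq_smul hI hout', cq_mk hI hout', coeff_monomial, if_pos rfl,
        mul_one, mul_one] at h3
      exact h3.symm
    · rw [cf_of_not_nonneg φ hnn]
      have h2 := apply_eq_zero_of_neg hφ hb (by rw [hbe]; exact hnn)
      rw [hlin, h2, smul_zero] at h1
      have h3 := congrArg (cq I (toN (γ + ev i))) h1
      rw [cq_zero hI hout', cq_smul hI hout', cq_mk hI hout', coeff_monomial, if_pos rfl,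
        mul_one] at h3
      exact h3.symm
  · have hnn : ¬ Nonneg γ := fun h => hnn' (nonneg_add_ev h i)
    rw [cf_of_not_nonneg φ hnn, cf_of_not_nonneg φ hnn']

theorem cf_adj {I : Ideal S} (hI : IsMonomial I) {α : Fin n → ℤ} {φ : Tgt I}
    (hφ : φ ∈ tPiece I α) {u w : ↥(region I α)} (h : (RG I α).Adj u w) :
    cf I α φ u.1 = cf I α φ w.1 := by
  rw [rg_adj, stepGraph_adj_iff] at h
  obtain ⟨i, h | h⟩ := h
  · rw [h]; exact (cf_add_ev hI hφ u.2 i (h ▸ w.2)).symm
  · rw [h]; exact cf_add_ev hI hφ w.2 i (h ▸ u.2)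

theorem cf_reachable {I : Ideal S} (hI : IsMonomial I) {α : Fin n → ℤ} {φ : Tgt I}
    (hφ : φ ∈ tPiece I α) {u w : ↥(region I α)} (h : (RG I α).Reachable u w) :
    cf I α φ u.1 = cf I α φ w.1 := by
  obtain ⟨p⟩ := h
  induction p with
  | nil => rfl
  | cons hadj _ ih => exact (cf_adj hI hφ hadj).trans ih

theorem cf_eq_zero_of_infinite {I : Ideal S} (hI : IsMonomial I) [Module.Finite k (S ⧸ I)]
    {α : Fin n → ℤ} {φ : Tgt I} (hφ : φ ∈ tPiece I α) (v : ↥(region I α))
    (hv : ((RG I α).connectedComponentMk v).supp.Infinite) : cf I α φ v.1 = 0 := by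
  obtain ⟨w, hw, hneg⟩ := exists_neg_of_infinite hI _ hv
  rw [SimpleGraph.ConnectedComponent.mem_supp_iff] at hw
  rw [cf_reachable hI hφ (SimpleGraph.ConnectedComponent.exact hw.symm)]
  exact cf_of_not_nonneg φ hneg


/-! ### Construction of a tangent vector from a function on the region -/

/-- Compatibility of a coefficient function with the region graph. -/
structure Compat (I : Ideal S) (α : Fin n → ℤ) (g : (Fin n → ℤ) → k) : Prop where
  step : ∀ γ ∈ region I α, ∀ i, γ + ev i ∈ region I α → g (γ + ev i) = g γ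
  neg : ∀ γ ∈ region I α, ¬ Nonneg γ → g γ = 0

open Classical in
/-- value attached to a lattice point -/
noncomputable def mval (I : Ideal S) (g : (Fin n → ℤ) → k) (γ : Fin n → ℤ) : S ⧸ I :=
  if Nonneg γ then g γ • Ideal.Quotient.mk I (monomial (toN γ) (1 : k)) else 0

open Classical in
/-- the `k`-linear map `S → S/I` determined by `g` -/
noncomputable def psi (I : Ideal S) (α : Fin n → ℤ) (g : (Fin n → ℤ) → k) : S →ₗ[k] (S ⧸ I) :=
  (basisMonomials (Fin n) k).constr k fun β => if β ∈ exps I then mval I g (ofN β + α) else 0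

theorem psi_monomial {I : Ideal S} {α : Fin n → ℤ} (g : (Fin n → ℤ) → k) {β : Fin n →₀ ℕ}
    (hβ : β ∈ exps I) : psi I α g (monomial β 1) = mval I g (ofN β + α) := by
  unfold psi
  have : monomial β (1 : k) = basisMonomials (Fin n) k β := by
    rw [coe_basisMonomials]
  rw [this, Module.Basis.constr_basis, if_pos hβ]

theorem mval_add_ev {I : Ideal S} {α : Fin n → ℤ} {g : (Fin n → ℤ) → k} (hg : Compat I α g)
    {γ : Fin n → ℤ} (hγ : γ ∈ region I α ∨ (Nonneg γ ∧ toN γ ∈ exps I))
    (hγ2 : ∃ β ∈ exps I, γ = ofN β + α) (i : Fin n) :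
    mval I g (γ + ev i) = (X i : S) • mval I g γ := by
  have hreg : ∀ {δ : Fin n → ℤ}, (∃ β ∈ exps I, δ = ofN β + α) →
      ¬ (Nonneg δ ∧ toN δ ∈ exps I) → δ ∈ region I α := fun h1 h2 => ⟨h1, h2⟩
  have hγ2' : ∃ β ∈ exps I, γ + ev i = ofN β + α := by
    obtain ⟨β, hβ, rfl⟩ := hγ2
    exact ⟨β + Finsupp.single i 1, exps_add hβ _, by rw [ofN_add_single]; abel⟩
  unfold mval
  by_cases hnn : Nonneg γ
  · rw [if_pos hnn, if_pos (nonneg_add_ev hnn i), smul_comm, X_smul_mk_monomial,
      ← toN_add_ev hnn]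
    by_cases hin' : toN (γ + ev i) ∈ exps I
    · rw [mk_monomial_eq_zero hin', smul_zero, smul_zero]
    · have hin : toN γ ∉ exps I := by
        intro h
        apply hin'
        rw [toN_add_ev hnn]
        exact exps_add h _
      have h1 : γ ∈ region I α := hreg hγ2 fun h => hin h.2
      have h2 : γ + ev i ∈ region I α := hreg hγ2' fun h => hin' h.2
      rw [hg.step γ h1 i h2]
  · rw [if_neg hnn, smul_zero]
    have h1 : γ ∈ region I α := hreg hγ2 fun h => hnn h.1
    split_ifs with hnn'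
    · by_cases hin' : toN (γ + ev i) ∈ exps I
      · rw [mk_monomial_eq_zero hin', smul_zero]
      · have h2 : γ + ev i ∈ region I α := hreg hγ2' fun h => hin' h.2
        rw [hg.step γ h1 i h2, hg.neg γ h1 hnn, zero_smul]
    · rfl

theorem psi_X_mul_monomial {I : Ideal S} {α : Fin n → ℤ} {g : (Fin n → ℤ) → k}
    (hg : Compat I α g) {β : Fin n →₀ ℕ} (hβ : β ∈ exps I) (i : Fin n) :
    psi I α g (X i * monomial β 1) = (X i : S) • psi I α g (monomial β 1) := by
  have h1 : (X i : S) * monomial β 1 = monomial (β + Finsupp.single i 1) 1 := by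
    rw [monomial_add_single, pow_one, mul_comm]
  rw [h1, psi_monomial g (exps_add hβ _), psi_monomial g hβ, ofN_add_single]
  have h2 : ofN β + ev i + α = (ofN β + α) + ev i := by abel
  rw [h2]
  refine mval_add_ev hg ?_ ⟨β, hβ, rfl⟩ i
  by_cases h : Nonneg (ofN β + α) ∧ toN (ofN β + α) ∈ exps I
  · exact Or.inr h
  · exact Or.inl ⟨⟨β, hβ, rfl⟩, h⟩

theorem k_smul_eq_C_smul (I : Ideal S) (c : k) (x : S ⧸ I) : c • x = (C c : S) • x := by
  obtain ⟨p, rfl⟩ := Ideal.Quotient.mk_surjective x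
  rw [smul_mk, S_smul_mk, smul_eq_C_mul]

theorem psi_X_mul {I : Ideal S} (hI : IsMonomial I) {α : Fin n → ℤ} {g : (Fin n → ℤ) → k}
    (hg : Compat I α g) {p : S} (hp : p ∈ I) (i : Fin n) :
    psi I α g (X i * p) = (X i : S) • psi I α g p := by
  conv_lhs => rw [as_sum p]
  conv_rhs => rw [as_sum p]
  rw [Finset.mul_sum, map_sum, map_sum, Finset.smul_sum]
  refine Finset.sum_congr rfl fun β hβ => ?_
  have hβ' : β ∈ exps I := hI p hp β hβ
  have h1 : monomial β (coeff β p) = coeff β p • monomial β (1 : k) := by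
    rw [smul_monomial, smul_eq_mul, mul_one]
  rw [h1, mul_smul_comm, map_smul, map_smul, psi_X_mul_monomial hg hβ', smul_comm]

theorem psi_mul {I : Ideal S} (hI : IsMonomial I) {α : Fin n → ℤ} {g : (Fin n → ℤ) → k}
    (hg : Compat I α g) (q : S) : ∀ p ∈ I, psi I α g (q * p) = q • psi I α g p := by
  induction q using MvPolynomial.induction_on with
  | C a =>
    intro p _
    rw [C_mul', map_smul, k_smul_eq_C_smul]
  | add q1 q2 h1 h2 =>
    intro p hp
    rw [add_mul, map_add, h1 p hp, h2 p hp, add_smul]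
  | mul_X q i h =>
    intro p hp
    rw [mul_assoc, h _ (I.mul_mem_left _ hp), psi_X_mul hI hg hp, mul_smul]

/-- The tangent vector determined by a compatible `g`. -/
noncomputable def phiOf {I : Ideal S} (hI : IsMonomial I) {α : Fin n → ℤ} {g : (Fin n → ℤ) → k}
    (hg : Compat I α g) : Tgt I where
  toFun p := psi I α g p.1
  map_add' p q := by rw [Submodule.coe_add, map_add]
  map_smul' q p := by
    rw [Submodule.coe_smul, smul_eq_mul, psi_mul hI hg q p.1 p.2, RingHom.id_apply]

theorem phiOf_monomial {I : Ideal S} (hI : IsMonomial I) {α : Fin n → ℤ} {g : (Fin n → ℤ) → k}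
    (hg : Compat I α g) {β : Fin n →₀ ℕ} (hβ : β ∈ exps I) :
    phiOf hI hg ⟨monomial β 1, hβ⟩ = mval I g (ofN β + α) :=
  psi_monomial g hβ

theorem phiOf_mem {I : Ideal S} (hI : IsMonomial I) {α : Fin n → ℤ} {g : (Fin n → ℤ) → k}
    (hg : Compat I α g) : phiOf hI hg ∈ tPiece I α := by
  intro β hβ
  have hβ' : β ∈ exps I := hβ
  rw [phiOf_monomial hI hg hβ']
  constructor
  · intro h
    have h' : Nonneg (ofN β + α) := h
    unfold mval
    rw [if_pos h', shift_eq]
    exact Submodule.smul_mem _ _ (Submodule.mem_span_singleton_self _)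
  · rintro ⟨i, hi⟩
    unfold mval
    rw [if_neg]
    intro h
    have := h i
    simp only [Pi.add_apply, ofN_apply] at this
    omega

theorem cf_phiOf {I : Ideal S} (hI : IsMonomial I) {α : Fin n → ℤ} {g : (Fin n → ℤ) → k}
    (hg : Compat I α g) {γ : Fin n → ℤ} (hγ : γ ∈ region I α) (hnn : Nonneg γ) :
    cf I α (phiOf hI hg) γ = g γ := by
  obtain ⟨hb, hbe⟩ := bOf_mem_of_region hγ
  have hout : toN γ ∉ exps I := not_nonneg_region hγ hnn
  unfold cf
  rw [dif_pos ⟨hb, hnn, hout⟩, phiOf_monomial hI hg hb, hbe]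
  unfold mval
  rw [if_pos hnn, cq_smul hI hout, cq_mk hI hout, coeff_monomial, if_pos rfl, mul_one]


/-! ### The main equivalence -/

/-- Bounded (finite) components of the region graph. -/
abbrev BComp (I : Ideal S) (α : Fin n → ℤ) : Type :=
  {c : (RG I α).ConnectedComponent // c.supp.Finite}

/-- a representative vertex of a component -/
noncomputable def rep {I : Ideal S} {α : Fin n → ℤ} (c : (RG I α).ConnectedComponent) :
    ↥(region I α) := Quot.out c

theorem mk_rep {I : Ideal S} {α : Fin n → ℤ} (c : (RG I α).ConnectedComponent) :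
    (RG I α).connectedComponentMk (rep c) = c := Quot.out_eq c

theorem nonneg_rep {I : Ideal S} {α : Fin n → ℤ} (hn : 2 ≤ n) (b : BComp I α) :
    Nonneg (rep b.1).1 :=
  nonneg_of_finite hn _ (by rw [mk_rep]; exact b.2)

theorem finite_BComp {I : Ideal S} (hI : IsMonomial I) [Module.Finite k (S ⧸ I)] (hn : 2 ≤ n)
    (α : Fin n → ℤ) : Finite (BComp I α) := by
  have hfin := finite_nonneg_region hI α
  haveI : Finite ↥{v : ↥(region I α) | Nonneg v.1} := hfin.to_subtype
  refine Finite.of_injective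
    (fun b : BComp I α => (⟨rep b.1, nonneg_rep hn b⟩ : ↥{v : ↥(region I α) | Nonneg v.1})) ?_
  intro b b' h
  have h1 : rep b.1 = rep b'.1 := congrArg Subtype.val h
  apply Subtype.ext
  rw [← mk_rep b.1, ← mk_rep b'.1, h1]

/-- The linear map from the graded piece to functions on bounded components. -/
noncomputable def Phi {I : Ideal S} (hI : IsMonomial I) (α : Fin n → ℤ) :
    ↥(tPiece I α) →ₗ[k] (BComp I α → k) where
  toFun φ b := cf I α φ.1 (rep b.1).1
  map_add' φ ψ := by
    funext b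
    rw [Pi.add_apply, Submodule.coe_add, cf_add hI]
  map_smul' c φ := by
    funext b
    rw [Pi.smul_apply, Submodule.coe_smul, cf_smul hI, RingHom.id_apply, smul_eq_mul]

theorem Phi_injective {I : Ideal S} (hI : IsMonomial I) [Module.Finite k (S ⧸ I)]
    (α : Fin n → ℤ) : Function.Injective (Phi hI α) := by
  intro φ ψ hφ
  have heq : ∀ v : ↥(region I α), cf I α φ.1 v.1 = cf I α ψ.1 v.1 := by
    intro v
    by_cases hfin : ((RG I α).connectedComponentMk v).supp.Finite
    · have h1 : cf I α φ.1 (rep ((RG I α).connectedComponentMk v)).1 =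
          cf I α ψ.1 (rep ((RG I α).connectedComponentMk v)).1 :=
        congrFun hφ ⟨_, hfin⟩
      have h2 : (RG I α).Reachable (rep ((RG I α).connectedComponentMk v)) v :=
        SimpleGraph.ConnectedComponent.exact (mk_rep _)
      rw [← cf_reachable hI φ.2 h2, ← cf_reachable hI ψ.2 h2]
      exact h1
    · rw [cf_eq_zero_of_infinite hI φ.2 v hfin, cf_eq_zero_of_infinite hI ψ.2 v hfin]
  apply Subtype.ext
  apply tgt_ext hI
  intro β hβ
  by_cases hnn : Nonneg (ofN β + α)
  · rw [cf_spec hI φ.2 hβ hnn, cf_spec hI ψ.2 hβ hnn]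
    by_cases hin : toN (ofN β + α) ∈ exps I
    · rw [mk_monomial_eq_zero hin, smul_zero, smul_zero]
    · have hreg : ofN β + α ∈ region I α := mem_region_of hβ fun h => hin h.2
      rw [heq ⟨_, hreg⟩]
  · rw [apply_eq_zero_of_neg φ.2 hβ hnn, apply_eq_zero_of_neg ψ.2 hβ hnn]

open Classical in
/-- the function on components attached to `f` -/
noncomputable def gC {I : Ideal S} {α : Fin n → ℤ} (f : BComp I α → k)
    (c : (RG I α).ConnectedComponent) : k :=
  if hf : c.supp.Finite then f ⟨c, hf⟩ else 0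

open Classical in
/-- the coefficient function attached to `f` -/
noncomputable def gOf {I : Ideal S} {α : Fin n → ℤ} (f : BComp I α → k) (γ : Fin n → ℤ) : k :=
  if h : γ ∈ region I α then gC f ((RG I α).connectedComponentMk ⟨γ, h⟩) else 0

theorem compat_gOf {I : Ideal S} {α : Fin n → ℤ} (hn : 2 ≤ n) (f : BComp I α → k) :
    Compat I α (gOf f) where
  step γ hγ i hγ' := by
    unfold gOf
    rw [dif_pos hγ, dif_pos hγ']
    congr 1
    apply SimpleGraph.ConnectedComponent.sound
    apply SimpleGraph.Adj.reachable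
    rw [rg_adj]
    exact (stepGraph_adj_add_ev γ i).symm
  neg γ hγ hneg := by
    unfold gOf
    rw [dif_pos hγ]
    unfold gC
    rw [dif_neg]
    exact infinite_supp_of_neg hn ⟨γ, hγ⟩ hneg

theorem Phi_surjective {I : Ideal S} (hI : IsMonomial I) (hn : 2 ≤ n)
    (α : Fin n → ℤ) : Function.Surjective (Phi hI α) := by
  intro f
  refine ⟨⟨phiOf hI (compat_gOf hn f), phiOf_mem hI _⟩, ?_⟩
  funext b
  show cf I α (phiOf hI (compat_gOf hn f)) (rep b.1).1 = f b
  rw [cf_phiOf hI _ (rep b.1).2 (nonneg_rep hn b)]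
  unfold gOf
  rw [dif_pos (rep b.1).2]
  have h1 : (RG I α).connectedComponentMk ⟨(rep b.1).1, (rep b.1).2⟩ = b.1 := mk_rep b.1
  rw [h1]
  unfold gC
  rw [dif_pos b.2]

/-- **Main theorem**: the dimension of the graded piece of `T(I)` of multidegree `α` is the
number of bounded connected components of the region `(Ĩ + α) ∖ Ĩ`. -/
theorem finrank_tPiece {I : Ideal S} (hI : IsMonomial I) [Module.Finite k (S ⧸ I)] (hn : 2 ≤ n)
    (α : Fin n → ℤ) : Module.finrank k ↥(tPiece I α) = nBddComp I α := by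
  haveI : Finite (BComp I α) := finite_BComp hI hn α
  haveI : Fintype (BComp I α) := Fintype.ofFinite _
  have e : ↥(tPiece I α) ≃ₗ[k] (BComp I α → k) :=
    LinearEquiv.ofBijective (Phi hI α) ⟨Phi_injective hI α, Phi_surjective hI hn α⟩
  rw [e.finrank_eq, Module.finrank_fintype_fun_eq_card]
  unfold nBddComp
  rw [Nat.card_eq_fintype_card]

end Groth.Agent.Lib.Helper44.TgtComp
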