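import Groth.Agent.Lib.Helper44.TgtSign

/-! Independence of the graded pieces of `T(I)`; dimension of spans of pieces. (helper44) -/

set_option autoImplicit false
set_option linter.style.haveILetI false
set_option linter.unusedSectionVars false

universe u

namespace Groth.Agent.Lib.Helper44.TgtComp

open W4c1hilbpn MvPolynomial

variable {k : Type u} [Field k] {n : ℕ}

local notation "S" => MvPolynomial (Fin n) k

/-! ### The homogeneous component as a linear map -/

theorem mval_add (I : Ideal S) (g1 g2 : (Fin n → ℤ) → k) (γ : Fin n → ℤ) :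
    mval I (fun x => g1 x + g2 x) γ = mval I g1 γ + mval I g2 γ := by
  unfold mval
  split_ifs
  · rw [add_smul]
  · rw [add_zero]

theorem mval_smul (I : Ideal S) (c : k) (g : (Fin n → ℤ) → k) (γ : Fin n → ℤ) :
    mval I (fun x => c * g x) γ = c • mval I g γ := by
  unfold mval
  split_ifs
  · rw [mul_smul]
  · rw [smul_zero]

theorem mval_congr (I : Ideal S) {g1 g2 : (Fin n → ℤ) → k} {γ : Fin n → ℤ} (h : g1 γ = g2 γ) :
    mval I g1 γ = mval I g2 γ := by
  unfold mval
  rw [h]

/-- The homogeneous component, as a `k`-linear endomorphism of `T(I)`. -/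
noncomputable def compL {I : Ideal S} (hI : IsMonomial I) (α : Fin n → ℤ) : Tgt I →ₗ[k] Tgt I where
  toFun φ := comp hI α φ
  map_add' φ ψ := by
    apply tgt_ext hI
    intro β hβ
    rw [LinearMap.add_apply, comp_apply, comp_apply, comp_apply, ← mval_add]
    exact mval_congr I (cf_add hI φ ψ _)
  map_smul' c φ := by
    apply tgt_ext hI
    intro β hβ
    rw [RingHom.id_apply, LinearMap.smul_apply, comp_apply, comp_apply, ← mval_smul]
    exact mval_congr I (cf_smul hI c φ _)

theorem compL_apply {I : Ideal S} (hI : IsMonomial I) (α : Fin n → ℤ) (φ : Tgt I) :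
    compL hI α φ = comp hI α φ := rfl

theorem comp_of_mem {I : Ideal S} (hI : IsMonomial I) {α : Fin n → ℤ} {φ : Tgt I}
    (hφ : φ ∈ tPiece I α) : comp hI α φ = φ := by
  apply tgt_ext hI
  intro β hβ
  rw [comp_apply]
  unfold mval
  by_cases hnn : Nonneg (ofN β + α)
  · rw [if_pos hnn, cf_spec hI hφ hβ hnn]
  · rw [if_neg hnn, apply_eq_zero_of_neg hφ hβ hnn]

theorem comp_of_mem_ne {I : Ideal S} (hI : IsMonomial I) {α α' : Fin n → ℤ} (hne : α ≠ α')
    {φ : Tgt I} (hφ : φ ∈ tPiece I α') : comp hI α φ = 0 := by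
  apply tgt_ext hI
  intro β hβ
  rw [comp_apply, LinearMap.zero_apply]
  unfold mval
  by_cases hnn : Nonneg (ofN β + α)
  swap
  · rw [if_neg hnn]
  rw [if_pos hnn]
  by_cases hout : toN (ofN β + α) ∈ exps I
  · rw [mk_monomial_eq_zero hout, smul_zero]
  rw [cf_eq_cq α φ hβ hnn hout]
  by_cases hnn' : Nonneg (ofN β + α')
  · rw [cf_spec hI hφ hβ hnn', cq_smul hI hout, cq_mk hI hout, coeff_monomial, if_neg, mul_zero,
      zero_smul]
    intro heq
    apply hne
    have h1 := congrArg ofN heq
    rw [ofN_toN hnn, ofN_toN hnn'] at h1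
    exact (add_left_cancel h1).symm
  · rw [apply_eq_zero_of_neg hφ hβ hnn', cq_zero hI hout, zero_smul]

/-! ### Finite-dimensionality of `T(I)` -/

theorem finiteDimensional_Tgt {I : Ideal S} (hI : IsMonomial I) [Module.Finite k (S ⧸ I)] :
    Module.Finite k (Tgt I) := by
  classical
  obtain ⟨G, hG1, hG2⟩ := exists_gen hI
  -- evaluation at the generators
  let ev : Tgt I →ₗ[k] (↥G → S ⧸ I) :=
    { toFun := fun φ b => φ ⟨monomial b.1 1, hG1 b.1 b.2⟩
      map_add' := fun φ ψ => by funext b; rfl
      map_smul' := fun c φ => by funext b; rfl }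
  have hinj : Function.Injective ev := by
    intro φ ψ h
    apply tgt_ext hI
    intro β hβ
    obtain ⟨b, hb, hle⟩ := hG2 β hβ
    have hb' : b ∈ exps I := hG1 b hb
    have hmon : (⟨monomial β 1, hβ⟩ : ↥I) =
        (monomial (β - b) (1 : k) : S) • ⟨monomial b 1, hb'⟩ := by
      apply Subtype.ext
      show monomial β (1 : k) = monomial (β - b) 1 * monomial b 1
      rw [monomial_mul, one_mul, tsub_add_cancel_of_le hle]
    rw [hmon, map_smul, map_smul]
    have := congrFun h ⟨b, hb⟩
    exact congrArg _ this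
  exact Module.Finite.of_injective ev hinj

/-! ### Independence -/

theorem disjoint_tPiece_biSup {I : Ideal S} (hI : IsMonomial I) (s : Finset (Fin n → ℤ))
    {α : Fin n → ℤ} (hα : α ∉ s) : Disjoint (tPiece I α) (⨆ α' ∈ s, tPiece I α') := by
  rw [Submodule.disjoint_def]
  intro φ h1 h2
  have hker : (⨆ α' ∈ s, tPiece I α') ≤ LinearMap.ker (compL hI α) := by
    refine iSup₂_le fun α' hα' ψ hψ => ?_
    rw [LinearMap.mem_ker, compL_apply]
    exact comp_of_mem_ne hI (fun h : α = α' => hα (by rw [h]; exact hα')) hψ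
  have h3 := hker h2
  rw [LinearMap.mem_ker, compL_apply, comp_of_mem hI h1] at h3
  exact h3

theorem finrank_biSup_tPiece {I : Ideal S} (hI : IsMonomial I) [Module.Finite k (S ⧸ I)]
    (s : Finset (Fin n → ℤ)) :
    Module.finrank k ↥(⨆ α ∈ s, tPiece I α) = ∑ α ∈ s, Module.finrank k ↥(tPiece I α) := by
  classical
  haveI := finiteDimensional_Tgt hI
  induction s using Finset.induction_on with
  | empty => simp
  | insert a s ha ih =>
    rw [Finset.iSup_insert, Finset.sum_insert ha, ← ih]
    have h1 := Submodule.finrank_sup_add_finrank_inf_eq (tPiece I a) (⨆ α ∈ s, tPiece I α)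
    rw [(disjoint_tPiece_biSup hI s ha).eq_bot, finrank_bot, add_zero] at h1
    exact h1

/-- Dimension of the span of a family of graded pieces with finite support. -/
theorem finrank_iSup_tPiece {I : Ideal S} (hI : IsMonomial I) [Module.Finite k (S ⧸ I)]
    (P : (Fin n → ℤ) → Prop) (s : Finset (Fin n → ℤ)) (hs : ∀ α ∈ s, P α)
    (hbot : ∀ α, P α → α ∉ s → tPiece I α = ⊥) :
    Module.finrank k ↥(⨆ α : {α : Fin n → ℤ // P α}, tPiece I α.1) =
      ∑ α ∈ s, Module.finrank k ↥(tPiece I α) := by
  have h : (⨆ α : {α : Fin n → ℤ // P α}, tPiece I α.1) = ⨆ α ∈ s, tPiece I α := by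
    apply le_antisymm
    · refine iSup_le fun α => ?_
      by_cases hα : α.1 ∈ s
      · exact le_biSup (fun α => tPiece I α) hα
      · rw [hbot α.1 α.2 hα]; exact bot_le
    · refine iSup₂_le fun α hα => ?_
      exact le_iSup (fun α : {α : Fin n → ℤ // P α} => tPiece I α.1) ⟨α, hs α hα⟩
  rw [h, finrank_biSup_tPiece hI s]

end Groth.Agent.Lib.Helper44.TgtComp
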