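import Groth.Agent.Lib.Helper44.TgtStair

/-! Three variables: the main dimension identity for graded pieces of `T(I)` (S13436). (helper44) -/

set_option autoImplicit false
set_option linter.style.haveILetI false
set_option linter.unusedSectionVars false

universe u

namespace Groth.Agent.Lib.Helper44.TgtComp

open W4c1hilbpn MvPolynomial Groth.Agent.Lib.Helper44.StairLA

variable {k : Type u} [Field k]

section

variable {I : Ideal (MvPolynomial (Fin 3) k)} (hI : IsMonomial I)
  [Module.Finite k (MvPolynomial (Fin 3) k ⧸ I)] (i j : ℕ)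

include hI

theorem stairZ_le_top (a b : ℕ) : stairZ I a b ≤ stairZ I 0 0 :=
  stairZ_anti hI (Nat.zero_le a) (Nat.zero_le b)

theorem alA_injective : Function.Injective (fun c : ℕ => alA i j c) := by
  intro c c' h
  have := congrFun h 2
  simp only [alA, vec3_2] at this
  omega

theorem alB_injective : Function.Injective (fun c : ℕ => alB i j c) := by
  intro c c' h
  have := congrFun h 2
  simp only [alB, vec3_2] at this
  omega

/-- the span of the pieces of multidegrees `(i, j, *)` -/
theorem finrank_iSup_A :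
    Module.finrank k ↥(⨆ α : {α : Fin 3 → ℤ // α 0 = (i : ℤ) ∧ α 1 = (j : ℤ)}, tPiece I α.1) =
      ∑ c ∈ Finset.range (stairZ I 0 0), Module.finrank k ↥(Wc k (stairZ I) i j c) := by
  classical
  rw [finrank_iSup_tPiece hI (fun α => α 0 = (i : ℤ) ∧ α 1 = (j : ℤ))
    ((Finset.range (stairZ I 0 0)).image fun c => alA i j c)]
  · rw [Finset.sum_image fun c _ c' _ h => alA_injective hI i j h]
    refine Finset.sum_congr rfl fun c _ => ?_
    exact finrank_tPiece_A hI i j c
  · intro α hα
    rw [Finset.mem_image] at hα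
    obtain ⟨c, _, rfl⟩ := hα
    exact ⟨rfl, rfl⟩
  · intro α hα hns
    by_cases h2 : 0 ≤ α 2
    · apply tPiece_eq_bot_of_nonneg hI
      intro l
      fin_cases l
      · show 0 ≤ α 0; rw [hα.1]; positivity
      · show 0 ≤ α 1; rw [hα.2]; positivity
      · exact h2
    · have hαeq : α = alA i j (-α 2 - 1).toNat := by
        rw [← vec3_eta α, hα.1, hα.2]
        unfold alA
        simp only [vec3_2]
        congr 1
        omega
      rw [hαeq]
      apply tPiece_A_eq_bot hI
      intro a b
      have h1 := stairZ_le_top hI a b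
      by_contra hlt
      apply hns
      rw [Finset.mem_image]
      exact ⟨(-α 2 - 1).toNat, Finset.mem_range.mpr (by omega), hαeq.symm⟩

/-- the span of the pieces of multidegrees `(-i-1, -j-1, *)` -/
theorem finrank_iSup_B :
    Module.finrank k ↥(⨆ α : {α : Fin 3 → ℤ // α 0 = -(i : ℤ) - 1 ∧ α 1 = -(j : ℤ) - 1},
        tPiece I α.1) =
      ∑ c ∈ Finset.range (stairZ I 0 0), Module.finrank k ↥(Wc' k (stairZ I) i j c) := by
  classical
  rw [finrank_iSup_tPiece hI (fun α => α 0 = -(i : ℤ) - 1 ∧ α 1 = -(j : ℤ) - 1)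
    ((Finset.range (stairZ I 0 0)).image fun c => alB i j c)]
  · rw [Finset.sum_image fun c _ c' _ h => alB_injective hI i j h]
    refine Finset.sum_congr rfl fun c _ => ?_
    exact finrank_tPiece_B hI i j c
  · intro α hα
    rw [Finset.mem_image] at hα
    obtain ⟨c, _, rfl⟩ := hα
    exact ⟨rfl, rfl⟩
  · intro α hα hns
    by_cases h2 : α 2 < 0
    · apply tPiece_eq_bot_of_allneg hI (by norm_num)
      intro l
      fin_cases l
      · show α 0 < 0; rw [hα.1]; omega
      · show α 1 < 0; rw [hα.2]; omega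
      · exact h2
    · have hαeq : α = alB i j (α 2).toNat := by
        rw [← vec3_eta α, hα.1, hα.2]
        unfold alB
        simp only [vec3_2]
        congr 1
        omega
      rw [hαeq]
      apply tPiece_B_eq_bot hI
      intro a b
      have h1 := stairZ_le_top hI a b
      by_contra hlt
      apply hns
      rw [Finset.mem_image]
      exact ⟨(α 2).toNat, Finset.mem_range.mpr (by omega), hαeq.symm⟩

/-- **Main identity** (S13436). -/
theorem finrank_iSup_A_eq :
    Module.finrank k ↥(⨆ α : {α : Fin 3 → ℤ // α 0 = (i : ℤ) ∧ α 1 = (j : ℤ)}, tPiece I α.1) =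
      stairZ I i j +
        Module.finrank k ↥(⨆ α : {α : Fin 3 → ℤ // α 0 = -(i : ℤ) - 1 ∧ α 1 = -(j : ℤ) - 1},
          tPiece I α.1) := by
  rw [finrank_iSup_A hI, finrank_iSup_B hI]
  obtain ⟨M, hM⟩ := stairZ_bdd hI
  have := sum_finrank_Wc (k := k) (i := i) (j := j) (stair_stairZ hI) hM
    (fun a b => stairZ_le_top hI a b)
  rw [this]
  unfold g
  simp only [zero_add]
  ring

/-- the span of the pieces of multidegrees `(i, j, c)`, `c < 0` -/
theorem finrank_iSup_A_neg :
    Module.finrank k ↥(⨆ α : {α : Fin 3 → ℤ // α 0 = (i : ℤ) ∧ α 1 = (j : ℤ) ∧ α 2 < 0},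
        tPiece I α.1) =
      ∑ c ∈ Finset.range (stairZ I 0 0), Module.finrank k ↥(Wc k (stairZ I) i j c) := by
  classical
  rw [finrank_iSup_tPiece hI (fun α => α 0 = (i : ℤ) ∧ α 1 = (j : ℤ) ∧ α 2 < 0)
    ((Finset.range (stairZ I 0 0)).image fun c => alA i j c)]
  · rw [Finset.sum_image fun c _ c' _ h => alA_injective hI i j h]
    refine Finset.sum_congr rfl fun c _ => ?_
    exact finrank_tPiece_A hI i j c
  · intro α hα
    rw [Finset.mem_image] at hα
    obtain ⟨c, _, rfl⟩ := hα
    refine ⟨rfl, rfl, ?_⟩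
    simp only [alA, vec3_2]
    omega
  · intro α hα hns
    have hαeq : α = alA i j (-α 2 - 1).toNat := by
      rw [← vec3_eta α, hα.1, hα.2.1]
      unfold alA
      simp only [vec3_2]
      congr 1
      have := hα.2.2
      omega
    rw [hαeq]
    apply tPiece_A_eq_bot hI
    intro a b
    have h1 := stairZ_le_top hI a b
    by_contra hlt
    apply hns
    rw [Finset.mem_image]
    exact ⟨(-α 2 - 1).toNat, Finset.mem_range.mpr (by omega), hαeq.symm⟩

/-- **Upper bound by staircase numbers** (S13440). -/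
theorem finrank_iSup_A_neg_le :
    Module.finrank k ↥(⨆ α : {α : Fin 3 → ℤ // α 0 = (i : ℤ) ∧ α 1 = (j : ℤ) ∧ α 2 < 0},
        tPiece I α.1) ≤
      ∑ᶠ p : ℕ × ℕ, (if i ≤ p.1 ∧ j ≤ p.2
        then stairZ I p.1 p.2 - max (stairZ I (p.1 + 1) p.2) (stairZ I p.1 (p.2 + 1)) else 0) := by
  classical
  rw [finrank_iSup_A_neg hI]
  obtain ⟨M, hM⟩ := stairZ_bdd hI
  refine le_trans (sum_finrank_Wc_le (k := k) (i := i) (j := j) (stair_stairZ hI) hM
    (fun a b => stairZ_le_top hI a b)) ?_
  apply le_of_eq
  rw [finsum_eq_sum_of_support_subset (s := (Box M).image fun q => (q.1 + i, q.2 + j))]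
  · rw [Finset.sum_image]
    · refine Finset.sum_congr rfl fun q _ => ?_
      simp only
      rw [if_pos ⟨Nat.le_add_left _ _, Nat.le_add_left _ _⟩]
      unfold g
      rw [Nat.add_right_comm q.1 1 i, Nat.add_right_comm q.2 1 j]
    · intro q _ q' _ hqq
      simp only [Prod.mk.injEq] at hqq
      exact Prod.ext (by omega) (by omega)
  · intro p hp
    rw [Function.mem_support] at hp
    rw [Finset.mem_coe, Finset.mem_image]
    by_cases hcond : i ≤ p.1 ∧ j ≤ p.2
    · rw [if_pos hcond] at hp
      have hpos : 0 < stairZ I p.1 p.2 := by omega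
      refine ⟨(p.1 - i, p.2 - j), ?_, ?_⟩
      · unfold Box
        rw [Finset.mem_product, Finset.mem_range, Finset.mem_range]
        by_contra hcon
        have : M ≤ p.1 ∨ M ≤ p.2 := by omega
        have := hM p.1 p.2 this
        omega
      · exact Prod.ext (by simp only; omega) (by simp only; omega)
    · rw [if_neg hcond] at hp
      exact absurd rfl hp

end

end Groth.Agent.Lib.Helper44.TgtComp
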