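import Groth.Agent.Lib.Helper44.TgtSigma

/-! The sign-pattern pieces and the total dimension of `T(m^r)` in three variables (S13442).
(helper44) -/

set_option autoImplicit false
set_option linter.style.haveILetI false
set_option linter.unusedSectionVars false

universe u

namespace Groth.Agent.Lib.Helper44.TgtComp

open W4c1hilbpn MvPolynomial

variable {k : Type u} [Field k]

section general

variable {n : ℕ}

local notation "S" => MvPolynomial (Fin n) k

/-- monomial ideals with the same exponent sets are equal -/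
theorem eq_of_exps_eq {I J : Ideal S} (hI : IsMonomial I) (hJ : IsMonomial J)
    (h : exps I = exps J) : I = J := by
  ext p
  rw [mem_iff_support hI, mem_iff_support hJ, h]

theorem degree_pn (σ : Equiv.Perm (Fin n)) (β : Fin n →₀ ℕ) : (pn σ β).degree = β.degree := by
  rw [Finsupp.degree_eq_sum, Finsupp.degree_eq_sum]
  exact Equiv.sum_comp σ (fun i => β i)

theorem permI_Mr (σ : Equiv.Perm (Fin n)) (r : ℕ) : permI σ (Mr k n r) = Mr k n r := by
  refine eq_of_exps_eq (isMonomial_permI σ _) (isMonomial_Mr r) ?_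
  ext β
  rw [mem_exps_permI, mem_exps_Mr, mem_exps_Mr, degree_pn]

theorem finrank_tPiece_eq_zero_iff {I : Ideal S} (hI : IsMonomial I) [Module.Finite k (S ⧸ I)]
    (α : Fin n → ℤ) : Module.finrank k ↥(tPiece I α) = 0 ↔ tPiece I α = ⊥ := by
  haveI := finiteDimensional_Tgt hI
  exact Submodule.finrank_eq_zero

end general

/-! ### Binomial sums -/

theorem sum_choose_two' (n : ℕ) :
    ∑ b ∈ Finset.range n, Nat.choose (n - b) 2 = Nat.choose (n + 1) 3 := by
  induction n with
  | zero => rfl
  | succ n ih =>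
    rw [Finset.sum_range_succ']
    simp only [Nat.add_sub_add_right, Nat.sub_zero]
    have hp : Nat.choose (n + 1 + 1) 3 = Nat.choose (n + 1) 2 + Nat.choose (n + 1) 3 :=
      Nat.choose_succ_succ' (n + 1) 2
    rw [ih, hp]
    omega

theorem sum_choose_two (n N : ℕ) (h : n ≤ N) :
    ∑ b ∈ Finset.range N, Nat.choose (n - b) 2 = Nat.choose (n + 1) 3 := by
  rw [← sum_choose_two' n]
  symm
  apply Finset.sum_subset (Finset.range_subset_range.mpr h)
  intro b _ hb
  have : n - b = 0 := by
    rw [Finset.mem_range] at hb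
    omega
  rw [this]
  rfl

theorem sum_choose_three (n : ℕ) :
    ∑ a ∈ Finset.range n, Nat.choose (n - a + 1) 3 = Nat.choose (n + 2) 4 := by
  induction n with
  | zero => rfl
  | succ n ih =>
    rw [Finset.sum_range_succ']
    simp only [Nat.add_sub_add_right, Nat.sub_zero]
    have hp : Nat.choose (n + 1 + 2) 4 = Nat.choose (n + 2) 3 + Nat.choose (n + 2) 4 :=
      Nat.choose_succ_succ' (n + 2) 3
    have hq : Nat.choose (n + 1 + 1) 3 = Nat.choose (n + 2) 3 := rfl
    rw [ih, hp, hq]
    omega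

theorem sum_G (R : ℕ) :
    ∑ a ∈ Finset.range R, ∑ b ∈ Finset.range R, Nat.choose (R - a - b) 2 =
      Nat.choose (R + 2) 4 := by
  rw [← sum_choose_three R]
  refine Finset.sum_congr rfl fun a _ => ?_
  exact sum_choose_two (R - a) R (Nat.sub_le _ _)

/-! ### The pieces of `T(m^r)` in three variables -/

theorem finrank_tPiece_Mr3 (r : ℕ) (x y z : ℤ) :
    Module.finrank k ↥(tPiece (Mr k 3 r) (vec3 x y z)) =
      if (x + y + z = -1 ∧ (-x).toNat + (-y).toNat + (-z).toNat ≤ r)
        then Nat.choose (3 + r - ((-x).toNat + (-y).toNat + (-z).toNat) - 1) 2 else 0 := by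
  rw [finrank_tPiece_Mr (by norm_num) r, Fin.sum_univ_three, Fin.sum_univ_three]
  rfl

theorem finrank_sig2c_Mr (r : ℕ) :
    Module.finrank k ↥(sigPiece (Mr k 3 r) ({2}ᶜ : Set (Fin 3))) = Nat.choose (r + 2) 4 := by
  classical
  have hI := isMonomial_Mr (k := k) (n := 3) r
  unfold sigPiece
  rw [finrank_iSup_tPiece hI (fun α => ∀ i, α i < 0 ↔ i ∈ ({2}ᶜ : Set (Fin 3)))
    ((Finset.range r ×ˢ Finset.range r).image fun p : ℕ × ℕ =>
      vec3 (-(p.1 : ℤ) - 1) (-(p.2 : ℤ) - 1) ((p.1 : ℤ) + p.2 + 1))]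
  · rw [Finset.sum_image, Finset.sum_product, ← sum_G r]
    · refine Finset.sum_congr rfl fun a _ => Finset.sum_congr rfl fun b _ => ?_
      rw [finrank_tPiece_Mr3]
      have e1 : (-(-(a : ℤ) - 1)).toNat = a + 1 := by omega
      have e2 : (-(-(b : ℤ) - 1)).toNat = b + 1 := by omega
      have e3 : (-((a : ℤ) + b + 1)).toNat = 0 := by omega
      simp only [e1, e2, e3]
      by_cases hw : a + b + 2 ≤ r
      · rw [if_pos ⟨by ring, by omega⟩]
        congr 1
        omega
      · rw [if_neg (fun h => hw (by omega))]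
        symm
        apply Nat.choose_eq_zero_of_lt
        omega
    · intro p _ q _ hpq
      have h0 := congrFun hpq 0
      have h1 := congrFun hpq 1
      simp only [vec3_0, vec3_1] at h0 h1
      exact Prod.ext (by omega) (by omega)
  · intro α hα
    rw [Finset.mem_image] at hα
    obtain ⟨p, _, rfl⟩ := hα
    rw [sign2c_iff]
    simp only [vec3_0, vec3_1, vec3_2]
    omega
  · intro α hP hns
    rw [sign2c_iff] at hP
    rw [← finrank_tPiece_eq_zero_iff hI, ← vec3_eta α, finrank_tPiece_Mr3, if_neg]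
    rintro ⟨hsum, hw⟩
    apply hns
    rw [Finset.mem_image]
    refine ⟨((-α 0 - 1).toNat, (-α 1 - 1).toNat), ?_, ?_⟩
    · rw [Finset.mem_product, Finset.mem_range, Finset.mem_range]
      constructor
      · simp only; omega
      · simp only; omega
    · conv_rhs => rw [← vec3_eta α]
      simp only
      congr 1 <;> omega

theorem finrank_sig2_Mr (r : ℕ) :
    Module.finrank k ↥(sigPiece (Mr k 3 r) ({2} : Set (Fin 3))) = Nat.choose (r + 3) 4 := by
  classical
  have hI := isMonomial_Mr (k := k) (n := 3) r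
  unfold sigPiece
  rw [finrank_iSup_tPiece hI (fun α => ∀ i, α i < 0 ↔ i ∈ ({2} : Set (Fin 3)))
    ((Finset.range (r + 1) ×ˢ Finset.range (r + 1)).image fun p : ℕ × ℕ =>
      vec3 (p.1 : ℤ) (p.2 : ℤ) (-(p.1 : ℤ) - p.2 - 1))]
  · rw [Finset.sum_image, Finset.sum_product, ← sum_G (r + 1)]
    · refine Finset.sum_congr rfl fun a _ => Finset.sum_congr rfl fun b _ => ?_
      rw [finrank_tPiece_Mr3]
      have e1 : (-(a : ℤ)).toNat = 0 := by omega
      have e2 : (-(b : ℤ)).toNat = 0 := by omega
      have e3 : (-(-(a : ℤ) - b - 1)).toNat = a + b + 1 := by omega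
      simp only [e1, e2, e3]
      by_cases hw : a + b + 1 ≤ r
      · rw [if_pos ⟨by ring, by omega⟩]
        congr 1
        omega
      · rw [if_neg (fun h => hw (by omega))]
        symm
        apply Nat.choose_eq_zero_of_lt
        omega
    · intro p _ q _ hpq
      have h0 := congrFun hpq 0
      have h1 := congrFun hpq 1
      simp only [vec3_0, vec3_1] at h0 h1
      exact Prod.ext (by omega) (by omega)
  · intro α hα
    rw [Finset.mem_image] at hα
    obtain ⟨p, _, rfl⟩ := hα
    rw [sign2_iff]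
    simp only [vec3_0, vec3_1, vec3_2]
    omega
  · intro α hP hns
    rw [sign2_iff] at hP
    rw [← finrank_tPiece_eq_zero_iff hI, ← vec3_eta α, finrank_tPiece_Mr3, if_neg]
    rintro ⟨hsum, hw⟩
    apply hns
    rw [Finset.mem_image]
    refine ⟨((α 0).toNat, (α 1).toNat), ?_, ?_⟩
    · rw [Finset.mem_product, Finset.mem_range, Finset.mem_range]
      constructor
      · simp only; omega
      · simp only; omega
    · conv_rhs => rw [← vec3_eta α]
      simp only
      congr 1 <;> omega

theorem swap_preimage_singleton (i : Fin 3) :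
    (Equiv.swap i 2) ⁻¹' ({2} : Set (Fin 3)) = {i} := by
  ext l
  simp only [Set.mem_preimage, Set.mem_singleton_iff]
  constructor
  · intro h
    have h' := congrArg (Equiv.swap i 2).symm h
    rw [Equiv.symm_apply_apply] at h'
    rw [h', Equiv.symm_swap, Equiv.swap_apply_right]
  · rintro rfl
    exact Equiv.swap_apply_left _ _

theorem finrank_sig_Mr (r : ℕ) (i : Fin 3) :
    Module.finrank k ↥(sigPiece (Mr k 3 r) ({i} : Set (Fin 3))) = Nat.choose (r + 3) 4 ∧
    Module.finrank k ↥(sigPiece (Mr k 3 r) ({i}ᶜ : Set (Fin 3))) = Nat.choose (r + 2) 4 := by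
  have hI := isMonomial_Mr (k := k) (n := 3) r
  have h1 := finrank_sigPiece_permI (Equiv.swap i 2) hI (by norm_num) ({2} : Set (Fin 3))
  have h2 := finrank_sigPiece_permI (Equiv.swap i 2) hI (by norm_num) ({2}ᶜ : Set (Fin 3))
  rw [permI_Mr, swap_preimage_singleton] at h1
  rw [permI_Mr, Set.preimage_compl, swap_preimage_singleton] at h2
  exact ⟨by rw [← h1]; exact finrank_sig2_Mr r, by rw [← h2]; exact finrank_sig2c_Mr r⟩

theorem c2 (n : ℕ) : 2 * Nat.choose (n + 1) 2 = (n + 1) * n := by
  have := Nat.descFactorial_eq_factorial_mul_choose (n + 1) 2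
  simp [Nat.descFactorial_succ, Nat.factorial] at this
  linarith

theorem c4 (n : ℕ) : 24 * Nat.choose (n + 3) 4 = (n + 3) * (n + 2) * (n + 1) * n := by
  have := Nat.descFactorial_eq_factorial_mul_choose (n + 3) 4
  simp [Nat.descFactorial_succ, Nat.factorial] at this
  nlinarith [this]

theorem choose_identity (r : ℕ) :
    3 * (Nat.choose (r + 3) 4 + Nat.choose (r + 2) 4) =
      Nat.choose (r + 2) 2 * Nat.choose (r + 1) 2 := by
  have h1 := c4 r
  have h3 := c2 (r + 1)
  have h4 := c2 r
  have h2 : 24 * Nat.choose (r + 2) 4 = (r + 2) * (r + 1) * r * (r - 1) := by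
    rcases r with _ | m
    · simp [Nat.choose]
    · have := c4 m
      have e1 : m + 1 + 2 = m + 3 := by ring
      have e2 : m + 1 - 1 = m := by omega
      rw [e1, e2, this]
  have h5 : 8 * (3 * (Nat.choose (r + 3) 4 + Nat.choose (r + 2) 4)) =
      8 * (Nat.choose (r + 2) 2 * Nat.choose (r + 1) 2) := by
    have e1 : 8 * (3 * (Nat.choose (r + 3) 4 + Nat.choose (r + 2) 4)) =
        24 * Nat.choose (r + 3) 4 + 24 * Nat.choose (r + 2) 4 := by ring
    have e2 : 8 * (Nat.choose (r + 2) 2 * Nat.choose (r + 1) 2) =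
        2 * ((2 * Nat.choose (r + 1 + 1) 2) * (2 * Nat.choose (r + 1) 2)) := by ring
    rw [e1, e2, h1, h2, h3, h4]
    rcases r with _ | m
    · simp
    · simp only [Nat.add_sub_cancel]
      ring
  omega

/-- the total dimension of `T(m^r)` -/
theorem finrank_Tgt_Mr (r : ℕ) :
    Module.finrank k (Tgt (Mr k 3 r)) = Nat.choose (r + 2) 2 * Nat.choose (r + 1) 2 := by
  have hI := isMonomial_Mr (k := k) (n := 3) r
  rw [finrank_Tgt_eq_sum_sig hI, univ_finset_fin3]
  rw [Finset.sum_insert (by decide), Finset.sum_insert (by decide), Finset.sum_insert (by decide),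
    Finset.sum_insert (by decide), Finset.sum_insert (by decide), Finset.sum_insert (by decide),
    Finset.sum_insert (by decide), Finset.sum_singleton]
  have c0 : ((∅ : Finset (Fin 3)) : Set (Fin 3)) = ∅ := Finset.coe_empty
  have c1 : (({0} : Finset (Fin 3)) : Set (Fin 3)) = {0} := Finset.coe_singleton _
  have c2 : (({1} : Finset (Fin 3)) : Set (Fin 3)) = {1} := Finset.coe_singleton _
  have c3 : (({2} : Finset (Fin 3)) : Set (Fin 3)) = {2} := Finset.coe_singleton _
  have c4 : (({0, 1} : Finset (Fin 3)) : Set (Fin 3)) = {2}ᶜ := by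
    ext i; fin_cases i <;> simp
  have c5 : (({0, 2} : Finset (Fin 3)) : Set (Fin 3)) = {1}ᶜ := by
    ext i; fin_cases i <;> simp
  have c6 : (({1, 2} : Finset (Fin 3)) : Set (Fin 3)) = {0}ᶜ := by
    ext i; fin_cases i <;> simp
  have c7 : (({0, 1, 2} : Finset (Fin 3)) : Set (Fin 3)) = Set.univ := by
    ext i; fin_cases i <;> simp
  rw [c0, c1, c2, c3, c4, c5, c6, c7, sigPiece_empty hI, sigPiece_univ hI,
    (finrank_sig_Mr r 0).1, (finrank_sig_Mr r 1).1, (finrank_sig_Mr r 2).1,
    (finrank_sig_Mr r 0).2, (finrank_sig_Mr r 1).2, (finrank_sig_Mr r 2).2, finrank_bot,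
    ← choose_identity r]
  ring

end Groth.Agent.Lib.Helper44.TgtComp
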