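import Groth.Agent.Lib.Helper44.TgtSign

/-! Graded pieces of `T(m^r)` for the irrelevant ideal `m`. (helper44) -/

set_option autoImplicit false
set_option linter.style.haveILetI false
set_option linter.unusedSectionVars false

universe u

namespace Groth.Agent.Lib.Helper44.TgtComp

open W4c1hilbpn MvPolynomial

variable {k : Type u} [Field k] {n : ℕ}

local notation "S" => MvPolynomial (Fin n) k

/-! ### Isolated vertices -/

theorem nBddComp_of_isolated {I : Ideal S} (hn : 2 ≤ n) {α : Fin n → ℤ}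
    (hiso : ∀ v w : ↥(region I α), Nonneg v.1 → ¬ (RG I α).Adj v w) :
    nBddComp I α = Nat.card {v : ↥(region I α) // Nonneg v.1} := by
  have hreach : ∀ v w : ↥(region I α), Nonneg v.1 → (RG I α).Reachable v w → v = w := by
    intro v w hv h
    obtain ⟨p⟩ := h
    cases p with
    | nil => rfl
    | cons h _ => exact absurd h (hiso _ _ hv)
  have hfin : ∀ v : ↥(region I α), Nonneg v.1 →
      ((RG I α).connectedComponentMk v).supp.Finite := by
    intro v hv
    refine (Set.finite_singleton v).subset ?_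
    intro w hw
    rw [SimpleGraph.ConnectedComponent.mem_supp_iff] at hw
    rw [Set.mem_singleton_iff]
    exact (hreach v w hv (SimpleGraph.ConnectedComponent.exact hw.symm)).symm
  symm
  unfold nBddComp
  refine Nat.card_eq_of_bijective
    (fun v : {v : ↥(region I α) // Nonneg v.1} =>
      (⟨(RG I α).connectedComponentMk v.1, hfin v.1 v.2⟩ : BComp I α)) ⟨?_, ?_⟩
  · intro v v' h
    have h1 : (RG I α).connectedComponentMk v.1 = (RG I α).connectedComponentMk v'.1 :=
      congrArg Subtype.val h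
    exact Subtype.ext (hreach _ _ v.2 (SimpleGraph.ConnectedComponent.exact h1))
  · intro b
    refine ⟨⟨rep b.1, nonneg_rep hn b⟩, ?_⟩
    exact Subtype.ext (mk_rep b.1)

theorem nBddComp_eq_zero_of_reach_neg {I : Ideal S} (hn : 2 ≤ n) {α : Fin n → ℤ}
    (h : ∀ v : ↥(region I α), Nonneg v.1 →
      ∃ w : ↥(region I α), (RG I α).Reachable v w ∧ ¬ Nonneg w.1) :
    nBddComp I α = 0 := by
  have hempty : IsEmpty (BComp I α) := by
    refine ⟨fun b => ?_⟩
    obtain ⟨w, hw1, hw2⟩ := h (rep b.1) (nonneg_rep hn b)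
    have h1 := infinite_supp_of_neg hn w hw2
    rw [← SimpleGraph.ConnectedComponent.sound hw1, mk_rep] at h1
    exact h1 b.2
  unfold nBddComp
  exact Nat.card_of_isEmpty

/-! ### The powers of the irrelevant ideal -/

/-- `m^r` -/
noncomputable abbrev Mr (k : Type u) [Field k] (n r : ℕ) : Ideal (MvPolynomial (Fin n) k) :=
  (Ideal.span (Set.range (X : Fin n → MvPolynomial (Fin n) k))) ^ r

theorem mem_exps_Mr {r : ℕ} {β : Fin n →₀ ℕ} : β ∈ exps (Mr k n r) ↔ r ≤ β.degree := by
  change monomial β (1 : k) ∈ idealOfVars (Fin n) k ^ r ↔ _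
  rw [mem_pow_idealOfVars_iff]
  classical
  have hs : (monomial β (1 : k)).support = {β} := by
    rw [support_monomial, if_neg one_ne_zero]
  rw [hs]
  simp

theorem isMonomial_Mr (r : ℕ) : IsMonomial (Mr k n r) := by
  intro p hp β hβ
  have h1 : p ∈ idealOfVars (Fin n) k ^ r := hp
  rw [mem_pow_idealOfVars_iff] at h1
  exact mem_exps_Mr.mpr (h1 β hβ)

theorem finite_quot_of_finite_compl {I : Ideal S} (hfin : {β : Fin n →₀ ℕ | β ∉ exps I}.Finite) :
    Module.Finite k (S ⧸ I) := by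
  classical
  rw [Module.finite_def, Submodule.fg_def]
  refine ⟨(fun β => Ideal.Quotient.mk I (monomial β (1 : k))) '' {β | β ∉ exps I},
    hfin.image _, ?_⟩
  rw [eq_top_iff]
  intro y _
  obtain ⟨p, rfl⟩ := Ideal.Quotient.mk_surjective y
  rw [as_sum p, map_sum]
  refine Submodule.sum_mem _ fun β _ => ?_
  have h1 : Ideal.Quotient.mk I (monomial β (coeff β p)) =
      coeff β p • Ideal.Quotient.mk I (monomial β (1 : k)) := by
    rw [smul_mk, smul_monomial, smul_eq_mul, mul_one]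
  rw [h1]
  by_cases hβ : β ∈ exps I
  · rw [mk_monomial_eq_zero hβ, smul_zero]
    exact Submodule.zero_mem _
  · exact Submodule.smul_mem _ _ (Submodule.subset_span ⟨β, hβ, rfl⟩)

instance finite_Mr (r : ℕ) : Module.Finite k (S ⧸ Mr k n r) := by
  refine finite_quot_of_finite_compl ((Finsupp.finite_of_degree_lt (σ := Fin n) r).subset ?_)
  intro β hβ
  have hβ' : β ∉ exps (Mr k n r) := hβ
  rw [mem_exps_Mr, not_le] at hβ'
  exact hβ'

/-! ### Integer sums -/

theorem degree_cast (β : Fin n →₀ ℕ) : ((β.degree : ℕ) : ℤ) = ∑ i, ofN β i := by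
  rw [Finsupp.degree_eq_sum]
  push_cast
  rfl

theorem degree_toN {γ : Fin n → ℤ} (h : Nonneg γ) : (((toN γ).degree : ℕ) : ℤ) = ∑ i, γ i := by
  rw [degree_cast, ofN_toN h]

theorem sum_add_ev (γ : Fin n → ℤ) (i : Fin n) : ∑ l, (γ + ev i) l = ∑ l, γ l + 1 := by
  simp only [Pi.add_apply, Finset.sum_add_distrib, ev_apply]
  simp

theorem uform_Mr {r : ℕ} {α γ : Fin n → ℤ} :
    (∃ β ∈ exps (Mr k n r), γ = ofN β + α) ↔
      (∀ i, α i ≤ γ i) ∧ (r : ℤ) ≤ ∑ i, (γ i - α i) := by
  constructor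
  · rintro ⟨β, hβ, rfl⟩
    rw [mem_exps_Mr] at hβ
    refine ⟨fun i => by simp, ?_⟩
    have : ∑ i, ((ofN β + α) i - α i) = ∑ i, ofN β i := by
      refine Finset.sum_congr rfl fun i _ => ?_
      simp
    rw [this, ← degree_cast]
    exact_mod_cast hβ
  · rintro ⟨h1, h2⟩
    have hnn : Nonneg (γ - α) := fun i => by
      have := h1 i
      simp only [Pi.sub_apply]; omega
    refine ⟨toN (γ - α), ?_, ?_⟩
    · rw [mem_exps_Mr]
      have := degree_toN hnn
      simp only [Pi.sub_apply] at this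
      rw [← this] at h2
      exact_mod_cast h2
    · rw [ofN_toN hnn]; abel

theorem mem_region_Mr {r : ℕ} {α γ : Fin n → ℤ} :
    γ ∈ region (Mr k n r) α ↔
      ((∀ i, α i ≤ γ i) ∧ (r : ℤ) ≤ ∑ i, (γ i - α i)) ∧ ¬ (Nonneg γ ∧ (r : ℤ) ≤ ∑ i, γ i) := by
  rw [mem_region, uform_Mr]
  refine and_congr_right fun _ => not_congr ?_
  refine and_congr_right fun hnn => ?_
  rw [mem_exps_Mr, ← degree_toN hnn]
  exact_mod_cast Iff.rfl


theorem mem_region_Mr' {r : ℕ} {α γ : Fin n → ℤ} :
    γ ∈ region (Mr k n r) α ↔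
      ((∀ i, α i ≤ γ i) ∧ (r : ℤ) + ∑ i, α i ≤ ∑ i, γ i) ∧
        ¬ (Nonneg γ ∧ (r : ℤ) ≤ ∑ i, γ i) := by
  rw [mem_region_Mr, Finset.sum_sub_distrib]
  constructor
  · rintro ⟨⟨h1, h2⟩, h3⟩
    exact ⟨⟨h1, by omega⟩, h3⟩
  · rintro ⟨⟨h1, h2⟩, h3⟩
    exact ⟨⟨h1, by omega⟩, h3⟩

theorem sum_sub_ev (γ : Fin n → ℤ) (i : Fin n) : ∑ l, (γ - ev i) l = ∑ l, γ l - 1 := by
  have := sum_add_ev (γ - ev i) i
  rw [sub_add_cancel] at this
  omega

/-! ### Case `∑ α ≥ 0` -/

theorem nBddComp_Mr_of_sum_nonneg {r : ℕ} (hn : 2 ≤ n) {α : Fin n → ℤ} (hα : 0 ≤ ∑ i, α i) :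
    nBddComp (Mr k n r) α = 0 := by
  refine nBddComp_eq_zero_of_reach_neg hn fun v hv => ?_
  have h := mem_region_Mr'.mp v.2
  exfalso
  apply h.2
  refine ⟨hv, ?_⟩
  have := h.1.2
  omega

/-! ### Case `∑ α ≤ -2` -/

theorem down_mem_Mr {r : ℕ} {α v : Fin n → ℤ} (hv : v ∈ region (Mr k n r) α) {i : Fin n}
    (hvi : 0 ≤ v i) (hαi : α i < 0) (hσ : (r : ℤ) + ∑ l, α l + 1 ≤ ∑ l, v l)
    (hσ2 : ∑ l, v l ≤ r) : v - ev i ∈ region (Mr k n r) α := by
  have h := mem_region_Mr'.mp hv
  rw [mem_region_Mr']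
  refine ⟨⟨fun l => ?_, ?_⟩, ?_⟩
  · have := h.1.1 l
    simp only [Pi.sub_apply, ev_apply]
    by_cases hl : l = i
    · subst hl; rw [if_pos rfl]; omega
    · rw [if_neg hl]; omega
  · rw [sum_sub_ev]; omega
  · rintro ⟨_, h2⟩
    rw [sum_sub_ev] at h2
    omega

theorem adj_sub_ev {I : Ideal S} {α v : Fin n → ℤ} (hv : v ∈ region I α) (i : Fin n)
    (hw : v - ev i ∈ region I α) : (RG I α).Adj ⟨v, hv⟩ ⟨v - ev i, hw⟩ := by
  rw [rg_adj]
  show (stepGraph (Fin n)).Adj v (v - ev i)
  have : v = (v - ev i) + ev i := by abel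
  conv_lhs => rw [this]
  exact (stepGraph_adj_add_ev _ i).symm

theorem adj_add_ev {I : Ideal S} {α v : Fin n → ℤ} (hv : v ∈ region I α) (i : Fin n)
    (hw : v + ev i ∈ region I α) : (RG I α).Adj ⟨v, hv⟩ ⟨v + ev i, hw⟩ := by
  rw [rg_adj]
  exact stepGraph_adj_add_ev _ i

theorem reach_neg_Mr {r : ℕ} {α : Fin n → ℤ} (hα : ∑ l, α l ≤ -2) {i j : Fin n} (hij : i ≠ j)
    (hαi : α i < 0) :
    ∀ m : ℕ, ∀ v : ↥(region (Mr k n r) α), v.1 i < m →
      ∃ w : ↥(region (Mr k n r) α), (RG (Mr k n r) α).Reachable v w ∧ ¬ Nonneg w.1 := by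
  intro m
  induction m with
  | zero =>
    intro v hv
    refine ⟨v, SimpleGraph.Reachable.refl _, fun h => ?_⟩
    have := h i
    simp only [Nat.cast_zero] at hv
    omega
  | succ m ih =>
    intro v hv
    by_cases hnn : Nonneg v.1
    swap
    · exact ⟨v, SimpleGraph.Reachable.refl _, hnn⟩
    have h := mem_region_Mr'.mp v.2
    have hσ1 : ∑ l, v.1 l < r := by
      by_contra hcon
      exact h.2 ⟨hnn, by omega⟩
    have hσ0 := h.1.2
    by_cases hbig : (r : ℤ) + ∑ l, α l + 1 ≤ ∑ l, v.1 l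
    · have hw := down_mem_Mr v.2 (hnn i) hαi hbig (by omega)
      have hlt : (v.1 - ev i) i < m := by
        rw [Pi.sub_apply, ev_apply, if_pos rfl]
        push_cast at hv
        omega
      obtain ⟨w, hw1, hw2⟩ := ih ⟨_, hw⟩ hlt
      exact ⟨w, (adj_sub_ev v.2 i hw).reachable.trans hw1, hw2⟩
    · -- first step up in direction j
      have hu : v.1 + ev j ∈ region (Mr k n r) α := by
        rw [mem_region_Mr']
        refine ⟨⟨fun l => ?_, ?_⟩, ?_⟩
        · have := h.1.1 l
          simp only [Pi.add_apply, ev_apply]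
          split_ifs <;> omega
        · rw [sum_add_ev]; omega
        · rintro ⟨_, h2⟩
          rw [sum_add_ev] at h2
          omega
      have hui : 0 ≤ (v.1 + ev j) i := by
        rw [Pi.add_apply, ev_apply, if_neg hij, add_zero]
        exact hnn i
      have hw := down_mem_Mr hu hui hαi (by rw [sum_add_ev]; omega) (by rw [sum_add_ev]; omega)
      have hlt : (v.1 + ev j - ev i) i < m := by
        rw [Pi.sub_apply, Pi.add_apply, ev_apply, ev_apply, if_pos rfl, if_neg hij]
        push_cast at hv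
        omega
      obtain ⟨w, hw1, hw2⟩ := ih ⟨_, hw⟩ hlt
      exact ⟨w, ((adj_add_ev v.2 j hu).reachable.trans (adj_sub_ev hu i hw).reachable).trans hw1,
        hw2⟩

theorem nBddComp_Mr_of_sum_le {r : ℕ} (hn : 2 ≤ n) {α : Fin n → ℤ} (hα : ∑ i, α i ≤ -2) :
    nBddComp (Mr k n r) α = 0 := by
  haveI : Nontrivial (Fin n) := Fin.nontrivial_iff_two_le.mpr hn
  have hex : ∃ i, α i < 0 := by
    by_contra hcon
    push Not at hcon
    have : 0 ≤ ∑ i, α i := Finset.sum_nonneg fun i _ => hcon i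
    omega
  obtain ⟨i, hi⟩ := hex
  obtain ⟨j, hj⟩ := exists_ne i
  refine nBddComp_eq_zero_of_reach_neg hn fun v _ => ?_
  exact reach_neg_Mr hα (Ne.symm hj) hi (v.1 i).toNat.succ v (by push_cast; omega)


/-! ### Case `∑ α = -1` -/

theorem isolated_Mr {r : ℕ} {α : Fin n → ℤ} (hα : ∑ i, α i = -1)
    (v w : ↥(region (Mr k n r) α)) (hv : Nonneg v.1) : ¬ (RG (Mr k n r) α).Adj v w := by
  intro hadj
  rw [rg_adj, stepGraph_adj_iff] at hadj
  have h := mem_region_Mr'.mp v.2
  have h' := mem_region_Mr'.mp w.2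
  have hσ1 : ∑ l, v.1 l < r := by
    by_contra hcon
    exact h.2 ⟨hv, by omega⟩
  have hσ0 := h.1.2
  obtain ⟨i, hi | hi⟩ := hadj
  · apply h'.2
    rw [hi]
    refine ⟨nonneg_add_ev hv i, ?_⟩
    rw [sum_add_ev]; omega
  · have h2 := h'.1.2
    have h3 : ∑ l, w.1 l = ∑ l, v.1 l - 1 := by
      have := sum_add_ev w.1 i
      rw [← hi] at this
      omega
    omega

/-- sum of the negative parts -/
def negW (α : Fin n → ℤ) : ℕ := ∑ i, (-α i).toNat

theorem sum_toN_eq (α : Fin n → ℤ) :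
    ∑ i, ((toN α i : ℕ) : ℤ) = ∑ i, α i + (negW α : ℤ) := by
  unfold negW
  push_cast
  rw [← Finset.sum_add_distrib]
  refine Finset.sum_congr rfl fun i _ => ?_
  rw [toN_apply]
  omega

theorem card_nonneg_region_Mr {r : ℕ} {α : Fin n → ℤ} (hα : ∑ i, α i = -1) :
    Nat.card {v : ↥(region (Mr k n r) α) // Nonneg v.1} =
      if negW α ≤ r then Nat.choose (n + r - negW α - 1) (n - 1) else 0 := by
  classical
  have hwpos : 1 ≤ negW α := by
    by_contra hcon
    have h0 : negW α = 0 := by omega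
    have hnn : ∀ i, 0 ≤ α i := by
      intro i
      unfold negW at h0
      have := (Finset.sum_eq_zero_iff.mp h0) i (Finset.mem_univ i)
      omega
    have : 0 ≤ ∑ i, α i := Finset.sum_nonneg fun i _ => hnn i
    omega
  have hsumtoN := sum_toN_eq α
  -- description of nonneg region vertices
  have hdesc : ∀ v : Fin n → ℤ, (v ∈ region (Mr k n r) α ∧ Nonneg v) ↔
      ((∀ i, α i ≤ v i) ∧ Nonneg v ∧ ∑ i, v i = (r : ℤ) - 1) := by
    intro v
    rw [mem_region_Mr']
    constructor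
    · rintro ⟨⟨⟨h1, h2⟩, h3⟩, h4⟩
      refine ⟨h1, h4, ?_⟩
      have : ∑ l, v l < r := by
        by_contra hcon
        exact h3 ⟨h4, by omega⟩
      omega
    · rintro ⟨h1, h2, h3⟩
      exact ⟨⟨⟨h1, by omega⟩, fun h => by omega⟩, h2⟩
  split_ifs with hle
  · -- bijection with the antidiagonal
    have hn1 : 1 ≤ n := by
      by_contra hcon
      have h0 : n = 0 := by omega
      subst h0
      simp at hα
    have hcard : Nat.card {v : ↥(region (Mr k n r) α) // Nonneg v.1} =
        Nat.card ↥((Finset.univ : Finset (Fin n)).finsuppAntidiag (r - negW α)) := by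
      refine Nat.card_eq_of_bijective
        (fun v : {v : ↥(region (Mr k n r) α) // Nonneg v.1} =>
          (⟨toN (v.1.1 - ofN (toN α)), ?_⟩ :
            ↥((Finset.univ : Finset (Fin n)).finsuppAntidiag (r - negW α)))) ⟨?_, ?_⟩
      · -- membership
        obtain ⟨h1, h2, h3⟩ := (hdesc v.1.1).mp ⟨v.1.2, v.2⟩
        rw [Finset.mem_finsuppAntidiag]
        refine ⟨?_, Finset.subset_univ _⟩
        have hge : ∀ i, 0 ≤ v.1.1 i - ((toN α i : ℕ) : ℤ) := by
          intro i
          have := h1 i; have := h2 i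
          rw [toN_apply]; omega
        have hcast : ((∑ i, toN (v.1.1 - ofN (toN α)) i : ℕ) : ℤ) =
            ∑ i, v.1.1 i - ∑ i, ((toN α i : ℕ) : ℤ) := by
          push_cast
          rw [← Finset.sum_sub_distrib]
          refine Finset.sum_congr rfl fun i _ => ?_
          have := hge i
          rw [toN_apply, Pi.sub_apply, ofN_apply, Int.toNat_of_nonneg this]
        have : ((∑ i, toN (v.1.1 - ofN (toN α)) i : ℕ) : ℤ) = ((r - negW α : ℕ) : ℤ) := by
          rw [hcast, hsumtoN, h3, hα]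
          push_cast [hle]
          ring
        exact_mod_cast this
      · -- injective
        intro v v' h
        have h0 : toN (v.1.1 - ofN (toN α)) = toN (v'.1.1 - ofN (toN α)) := congrArg Subtype.val h
        obtain ⟨h1, h2, _⟩ := (hdesc v.1.1).mp ⟨v.1.2, v.2⟩
        obtain ⟨h1', h2', _⟩ := (hdesc v'.1.1).mp ⟨v'.1.2, v'.2⟩
        apply Subtype.ext
        apply Subtype.ext
        funext i
        have e := congrArg (fun b : Fin n →₀ ℕ => b i) h0
        simp only [toN_apply, Pi.sub_apply, ofN_apply] at e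
        have := h1 i; have := h2 i; have := h1' i; have := h2' i
        omega
      · -- surjective
        intro δ
        have hδ := δ.2
        rw [Finset.mem_finsuppAntidiag] at hδ
        have hδsum : ∑ i, ((δ.1 i : ℕ) : ℤ) = ((r - negW α : ℕ) : ℤ) := by
          have := hδ.1
          exact_mod_cast this
        have hmem : ofN (toN α + δ.1) ∈ region (Mr k n r) α ∧ Nonneg (ofN (toN α + δ.1)) := by
          rw [hdesc]
          refine ⟨fun i => ?_, fun i => ?_, ?_⟩
          · rw [ofN_apply, Finsupp.add_apply, toN_apply]; push_cast; omega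
          · rw [ofN_apply]; positivity
          · have : ∑ i, ofN (toN α + δ.1) i =
                ∑ i, ((toN α i : ℕ) : ℤ) + ∑ i, ((δ.1 i : ℕ) : ℤ) := by
              rw [← Finset.sum_add_distrib]
              refine Finset.sum_congr rfl fun i _ => ?_
              rw [ofN_apply, Finsupp.add_apply]; push_cast; rfl
            rw [this, hsumtoN, hδsum, hα]
            push_cast [hle]
            ring
        refine ⟨⟨⟨_, hmem.1⟩, hmem.2⟩, ?_⟩
        apply Subtype.ext
        show toN (ofN (toN α + δ.1) - ofN (toN α)) = δ.1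
        ext i
        rw [toN_apply, Pi.sub_apply, ofN_apply, ofN_apply, Finsupp.add_apply]
        push_cast
        omega
    rw [hcard, Nat.card_eq_finsetCard, Finset.card_finsuppAntidiag_nat_eq_choose,
      Finset.card_univ, Fintype.card_fin]
    have e1 : n + (r - negW α) - 1 = n + r - negW α - 1 := by omega
    rw [e1]
    exact Nat.choose_symm_of_eq_add (by omega)
  · -- no vertices
    have hempty : IsEmpty {v : ↥(region (Mr k n r) α) // Nonneg v.1} := by
      refine ⟨fun v => ?_⟩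
      obtain ⟨h1, h2, h3⟩ := (hdesc v.1.1).mp ⟨v.1.2, v.2⟩
      have hge : ∑ i, ((toN α i : ℕ) : ℤ) ≤ ∑ i, v.1.1 i := by
        refine Finset.sum_le_sum fun i _ => ?_
        have := h1 i; have := h2 i
        rw [toN_apply]; omega
      omega
    exact Nat.card_of_isEmpty

/-- The dimension of the graded pieces of `T(m^r)` (S13435). -/
theorem finrank_tPiece_Mr (hn : 2 ≤ n) (r : ℕ) (α : Fin n → ℤ) :
    Module.finrank k ↥(tPiece (Mr k n r) α) =
      if (∑ i, α i = -1 ∧ ∑ i, (-α i).toNat ≤ r)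
        then Nat.choose (n + r - (∑ i, (-α i).toNat) - 1) (n - 1) else 0 := by
  rw [finrank_tPiece (isMonomial_Mr r) hn α]
  by_cases h1 : ∑ i, α i = -1
  · rw [nBddComp_of_isolated hn (isolated_Mr h1), card_nonneg_region_Mr h1]
    unfold negW
    by_cases h2 : ∑ i, (-α i).toNat ≤ r
    · rw [if_pos h2, if_pos ⟨h1, h2⟩]
    · rw [if_neg h2, if_neg fun h => h2 h.2]
  · rw [if_neg fun h => h1 h.1]
    by_cases h2 : 0 ≤ ∑ i, α i
    · exact nBddComp_Mr_of_sum_nonneg hn h2
    · exact nBddComp_Mr_of_sum_le hn (by omega)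

end Groth.Agent.Lib.Helper44.TgtComp
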