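import Groth.Agent.Lib.Helper44.TgtSum
import Groth.Agent.Lib.Helper44.TgtPow

/-! Transfer of the multigraded structure of `T(I)` along a permutation of the variables. (helper44) -/

set_option autoImplicit false
set_option linter.style.haveILetI false
set_option linter.unusedSectionVars false

universe u

namespace Groth.Agent.Lib.Helper44.TgtComp

open W4c1hilbpn MvPolynomial

variable {k : Type u} [Field k] {n : ℕ}

local notation "S" => MvPolynomial (Fin n) k

section Perm

variable (σ : Equiv.Perm (Fin n))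

/-- reindexing of integer vectors -/
def pz (γ : Fin n → ℤ) : Fin n → ℤ := fun i => γ (σ i)

/-- reindexing of exponent vectors -/
noncomputable def pn (β : Fin n →₀ ℕ) : Fin n →₀ ℕ :=
  Finsupp.equivFunOnFinite.symm fun i => β (σ i)

@[simp] theorem pz_apply (γ : Fin n → ℤ) (i : Fin n) : pz σ γ i = γ (σ i) := rfl
@[simp] theorem pn_apply (β : Fin n →₀ ℕ) (i : Fin n) : pn σ β i = β (σ i) := rfl

theorem pz_symm_pz (γ : Fin n → ℤ) : pz σ.symm (pz σ γ) = γ := by funext i; simp
theorem pz_pz_symm (γ : Fin n → ℤ) : pz σ (pz σ.symm γ) = γ := by funext i; simp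
theorem pn_symm_pn (β : Fin n →₀ ℕ) : pn σ.symm (pn σ β) = β := by ext i; simp
theorem pn_pn_symm (β : Fin n →₀ ℕ) : pn σ (pn σ.symm β) = β := by ext i; simp

/-- `pz` as an equivalence -/
def pzEquiv : (Fin n → ℤ) ≃ (Fin n → ℤ) where
  toFun := pz σ
  invFun := pz σ.symm
  left_inv := pz_symm_pz σ
  right_inv := pz_pz_symm σ

/-- `pn` as an equivalence -/
noncomputable def pnEquiv : (Fin n →₀ ℕ) ≃ (Fin n →₀ ℕ) where
  toFun := pn σ
  invFun := pn σ.symm
  left_inv := pn_symm_pn σ
  right_inv := pn_pn_symm σ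

theorem pz_injective : Function.Injective (pz σ) := (pzEquiv σ).injective
theorem pn_injective : Function.Injective (pn σ) := (pnEquiv σ).injective

theorem pn_le {β β' : Fin n →₀ ℕ} (h : β ≤ β') : pn σ β ≤ pn σ β' := fun i => h (σ i)

theorem toN_pz (γ : Fin n → ℤ) : toN (pz σ γ) = pn σ (toN γ) := by ext i; simp
theorem ofN_pn (β : Fin n →₀ ℕ) : ofN (pn σ β) = pz σ (ofN β) := by funext i; simp
theorem pz_add (γ δ : Fin n → ℤ) : pz σ (γ + δ) = pz σ γ + pz σ δ := rfl

theorem nonneg_pz {γ : Fin n → ℤ} : Nonneg (pz σ γ) ↔ Nonneg γ :=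
  ⟨fun h i => by have := h (σ.symm i); simpa using this, fun h i => h (σ i)⟩

/-- the ideal obtained by permuting the variables -/
noncomputable def permI (I : Ideal S) : Ideal S :=
  Ideal.span ((fun β => monomial β (1 : k)) '' {β | pn σ β ∈ exps I})

theorem mem_permI {I : Ideal S} (p : S) :
    p ∈ permI σ I ↔ ∀ β ∈ p.support, pn σ β ∈ exps I := by
  unfold permI
  rw [mem_ideal_span_monomial_image]
  constructor
  · intro h β hβ
    obtain ⟨si, hsi, hle⟩ := h β hβ
    exact exps_of_le hsi (pn_le σ hle)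
  · intro h β hβ
    exact ⟨β, h β hβ, le_rfl⟩

theorem mem_exps_permI {I : Ideal S} {β : Fin n →₀ ℕ} :
    β ∈ exps (permI σ I) ↔ pn σ β ∈ exps I := by
  classical
  change monomial β (1 : k) ∈ permI σ I ↔ _
  rw [mem_permI, support_monomial, if_neg one_ne_zero]
  simp

theorem isMonomial_permI (I : Ideal S) : IsMonomial (permI σ I) := by
  intro p hp β hβ
  exact (mem_exps_permI σ).mpr ((mem_permI σ p).mp hp β hβ)

theorem finite_permI {I : Ideal S} (hI : IsMonomial I) [Module.Finite k (S ⧸ I)] :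
    Module.Finite k (S ⧸ permI σ I) := by
  refine finite_quot_of_finite_compl ?_
  have h := (finite_compl_exps hI).preimage (f := pn σ) (pn_injective σ).injOn
  refine h.subset ?_
  intro β hβ
  show pn σ β ∈ {β | β ∉ exps I}
  exact fun h' => hβ ((mem_exps_permI σ).mpr h')

theorem mem_region_permI {I : Ideal S} {α γ : Fin n → ℤ} :
    γ ∈ region (permI σ I) α ↔ pz σ γ ∈ region I (pz σ α) := by
  have h1 : (∃ β ∈ exps (permI σ I), γ = ofN β + α) ↔
      (∃ β ∈ exps I, pz σ γ = ofN β + pz σ α) := by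
    constructor
    · rintro ⟨β, hβ, rfl⟩
      exact ⟨pn σ β, (mem_exps_permI σ).mp hβ, by rw [pz_add, ofN_pn]⟩
    · rintro ⟨β, hβ, h⟩
      refine ⟨pn σ.symm β, (mem_exps_permI σ).mpr (by rw [pn_pn_symm]; exact hβ), ?_⟩
      rw [← pz_symm_pz σ γ, h, pz_add, ofN_pn, pz_symm_pz]
  rw [mem_region, mem_region]
  refine and_congr h1 (not_congr (and_congr (nonneg_pz σ).symm ?_))
  rw [toN_pz]
  exact mem_exps_permI σ

theorem stepGraph_adj_pz (a b : Fin n → ℤ) :
    (stepGraph (Fin n)).Adj (pz σ a) (pz σ b) ↔ (stepGraph (Fin n)).Adj a b := by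
  unfold stepGraph
  rw [SimpleGraph.fromRel_adj, SimpleGraph.fromRel_adj]
  have h1 : ∀ a b : Fin n → ℤ, ∑ i, |pz σ a i - pz σ b i| = ∑ i, |a i - b i| :=
    fun a b => Equiv.sum_comp σ (fun i => |a i - b i|)
  rw [h1, h1, (pz_injective σ).ne_iff]

/-- the regions correspond -/
def regionEquiv (I : Ideal S) (α : Fin n → ℤ) :
    ↥(region (permI σ I) α) ≃ ↥(region I (pz σ α)) where
  toFun v := ⟨pz σ v.1, (mem_region_permI σ).mp v.2⟩
  invFun w := ⟨pz σ.symm w.1, (mem_region_permI σ).mpr (by rw [pz_pz_symm]; exact w.2)⟩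
  left_inv v := Subtype.ext (pz_symm_pz σ v.1)
  right_inv w := Subtype.ext (pz_pz_symm σ w.1)

/-- the region graphs are isomorphic -/
def rgIso (I : Ideal S) (α : Fin n → ℤ) : RG (permI σ I) α ≃g RG I (pz σ α) where
  toEquiv := regionEquiv σ I α
  map_rel_iff' := by
    intro a b
    exact stepGraph_adj_pz σ a.1 b.1

theorem nBddComp_permI (I : Ideal S) (α : Fin n → ℤ) :
    nBddComp (permI σ I) α = nBddComp I (pz σ α) := by
  unfold nBddComp
  refine Nat.card_congr (Equiv.subtypeEquiv (rgIso σ I α).connectedComponentEquiv ?_)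
  intro c
  have e := SimpleGraph.ConnectedComponent.isoEquivSupp (rgIso σ I α) c
  rw [← Set.finite_coe_iff, ← Set.finite_coe_iff]
  exact e.finite_iff

theorem finrank_tPiece_permI {I : Ideal S} (hI : IsMonomial I) [Module.Finite k (S ⧸ I)]
    (hn : 2 ≤ n) (α : Fin n → ℤ) :
    Module.finrank k ↥(tPiece (permI σ I) α) = Module.finrank k ↥(tPiece I (pz σ α)) := by
  haveI := finite_permI σ hI
  rw [finrank_tPiece (isMonomial_permI σ I) hn, finrank_tPiece hI hn, nBddComp_permI]

theorem tPiece_permI_eq_bot_iff {I : Ideal S} (hI : IsMonomial I) [Module.Finite k (S ⧸ I)]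
    (hn : 2 ≤ n) (α : Fin n → ℤ) :
    tPiece (permI σ I) α = ⊥ ↔ tPiece I (pz σ α) = ⊥ := by
  haveI := finite_permI σ hI
  haveI := finiteDimensional_Tgt hI
  haveI := finiteDimensional_Tgt (isMonomial_permI σ I)
  rw [← Submodule.finrank_eq_zero, ← Submodule.finrank_eq_zero, finrank_tPiece_permI σ hI hn]

theorem finrank_sigPiece_permI {I : Ideal S} (hI : IsMonomial I) [Module.Finite k (S ⧸ I)]
    (hn : 2 ≤ n) (N : Set (Fin n)) :
    Module.finrank k ↥(sigPiece (permI σ I) N) = Module.finrank k ↥(sigPiece I (σ ⁻¹' N)) := by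
  classical
  haveI := finite_permI σ hI
  rw [finrank_sigPiece (isMonomial_permI σ I) N, finrank_sigPiece hI (σ ⁻¹' N)]
  refine Finset.sum_equiv (pzEquiv σ) ?_ (fun a _ => finrank_tPiece_permI σ hI hn a)
  intro a
  rw [Finset.mem_filter, Finset.mem_filter, mem_suppT, mem_suppT]
  refine and_congr (not_congr (tPiece_permI_eq_bot_iff σ hI hn a)) ?_
  constructor
  · intro h i
    exact h (σ i)
  · intro h i
    have := h (σ.symm i)
    simpa [pzEquiv] using this

theorem finrank_quot_permI {I : Ideal S} (hI : IsMonomial I) [Module.Finite k (S ⧸ I)] :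
    Module.finrank k (S ⧸ permI σ I) = Module.finrank k (S ⧸ I) := by
  haveI := finite_permI σ hI
  rw [finrank_quot (isMonomial_permI σ I), finrank_quot hI]
  refine Finset.card_equiv (pnEquiv σ) ?_
  intro β
  rw [Set.Finite.mem_toFinset, Set.Finite.mem_toFinset]
  exact not_congr (mem_exps_permI σ)

end Perm

end Groth.Agent.Lib.Helper44.TgtComp
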