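import Groth.Agent.Lib.Helper44.TgtMrSum
import Groth.Agent.Lib.Helper44.StairSeq

/-! Strongly stable ideals in three variables: exchange properties of the staircase, colengths of
the slices, tail-sum bounds (S13454). (helper44; the `lift3`/`sliceX` lemmas follow helper61's
S13453) -/

set_option autoImplicit false
set_option linter.style.haveILetI false
set_option linter.unusedSectionVars false

universe u

namespace Groth.Agent.Lib.Helper44.TgtComp

open W4c1hilbpn MvPolynomial Groth.Agent.Lib.Helper44.StairLA Groth.Agent.Lib.Helper44.StairSeq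

variable {k : Type u} [Field k]

/-! ### Exchange properties -/

/-- `y → x` exchange property -/
def XY (J : Ideal (MvPolynomial (Fin 3) k)) : Prop :=
  ∀ β ∈ exps J, 0 < β 1 → β - Finsupp.single 1 1 + Finsupp.single 0 1 ∈ exps J

/-- `z → y` exchange property -/
def YZ (J : Ideal (MvPolynomial (Fin 3) k)) : Prop :=
  ∀ β ∈ exps J, 0 < β 2 → β - Finsupp.single 2 1 + Finsupp.single 1 1 ∈ exps J

theorem xy_of_ss {I : Ideal (MvPolynomial (Fin 3) k)} (hI : IsStronglyStable I) : XY I :=
  fun β hβ h => hI.2 β hβ 0 1 (by decide) h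

theorem yz_of_ss {I : Ideal (MvPolynomial (Fin 3) k)} (hI : IsStronglyStable I) : YZ I :=
  fun β hβ h => hI.2 β hβ 1 2 (by decide) h

theorem e3_xy (a b c : ℕ) :
    e3 a (b + 1) c - Finsupp.single (1 : Fin 3) 1 + Finsupp.single (0 : Fin 3) 1 =
      e3 (a + 1) b c := by
  ext l
  rw [Finsupp.add_apply, Finsupp.tsub_apply, Finsupp.single_apply, Finsupp.single_apply]
  fin_cases l
  · show e3 a (b + 1) c 0 - (if (1 : Fin 3) = 0 then 1 else 0) +
      (if (0 : Fin 3) = 0 then 1 else 0) = e3 (a + 1) b c 0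
    rw [if_neg (by decide), if_pos rfl]
    rfl
  · show e3 a (b + 1) c 1 - (if (1 : Fin 3) = 1 then 1 else 0) +
      (if (0 : Fin 3) = 1 then 1 else 0) = e3 (a + 1) b c 1
    rw [if_pos rfl, if_neg (by decide)]
    rfl
  · show e3 a (b + 1) c 2 - (if (1 : Fin 3) = 2 then 1 else 0) +
      (if (0 : Fin 3) = 2 then 1 else 0) = e3 (a + 1) b c 2
    rw [if_neg (by decide), if_neg (by decide)]
    rfl

theorem e3_yz (a b c : ℕ) :
    e3 a b (c + 1) - Finsupp.single (2 : Fin 3) 1 + Finsupp.single (1 : Fin 3) 1 =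
      e3 a (b + 1) c := by
  ext l
  rw [Finsupp.add_apply, Finsupp.tsub_apply, Finsupp.single_apply, Finsupp.single_apply]
  fin_cases l
  · show e3 a b (c + 1) 0 - (if (2 : Fin 3) = 0 then 1 else 0) +
      (if (1 : Fin 3) = 0 then 1 else 0) = e3 a (b + 1) c 0
    rw [if_neg (by decide), if_neg (by decide)]
    rfl
  · show e3 a b (c + 1) 1 - (if (2 : Fin 3) = 1 then 1 else 0) +
      (if (1 : Fin 3) = 1 then 1 else 0) = e3 a (b + 1) c 1
    rw [if_neg (by decide), if_pos rfl]
    rfl
  · show e3 a b (c + 1) 2 - (if (2 : Fin 3) = 2 then 1 else 0) +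
      (if (1 : Fin 3) = 2 then 1 else 0) = e3 a (b + 1) c 2
    rw [if_pos rfl, if_neg (by decide)]
    rfl

section staircase

variable {J : Ideal (MvPolynomial (Fin 3) k)} (hJ : IsMonomial J)
  [Module.Finite k (MvPolynomial (Fin 3) k ⧸ J)]

include hJ

theorem stairZ_xy (hxy : XY J) (a b : ℕ) : stairZ J (a + 1) b ≤ stairZ J a (b + 1) := by
  rw [← stairZ_spec hJ]
  have h1 : e3 a (b + 1) (stairZ J a (b + 1)) ∈ exps J := (stairZ_spec hJ _ _ _).mpr le_rfl
  have h2 := hxy _ h1 (by rw [e3_apply1]; omega)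
  rwa [e3_xy] at h2

theorem stairZ_yz (hyz : YZ J) (a b : ℕ) : stairZ J a (b + 1) ≤ stairZ J a b - 1 := by
  rcases Nat.eq_zero_or_pos (stairZ J a b) with h0 | hpos
  · have := stairZ_anti hJ (le_refl a) (Nat.le_add_right b 1)
    omega
  · rw [← stairZ_spec hJ]
    have h1 : e3 a b (stairZ J a b - 1 + 1) ∈ exps J := (stairZ_spec hJ _ _ _).mpr (by omega)
    have h2 := hyz _ h1 (by rw [e3_apply2]; omega)
    rwa [e3_yz] at h2

theorem stairZ_yz_iter (hyz : YZ J) (a b : ℕ) : stairZ J a b ≤ stairZ J a 0 - b := by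
  induction b with
  | zero => exact le_rfl
  | succ b ih =>
    have := stairZ_yz hJ hyz a b
    omega

/-- a common bound -/
theorem exists_bound (r : ℕ) : ∃ M, r ≤ M ∧ (∀ l : Fin 3, Finsupp.single l M ∈ exps J) ∧
    (∀ a b : ℕ, (M ≤ a ∨ M ≤ b) → stairZ J a b = 0) := by
  obtain ⟨M0, hM0⟩ := exists_single_mem_all hJ
  have hMs : ∀ l : Fin 3, Finsupp.single l (max M0 r) ∈ exps J := by
    intro l
    refine exps_of_le (hM0 l) ?_
    intro l'
    rw [Finsupp.single_apply, Finsupp.single_apply]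
    split_ifs
    · exact le_max_left _ _
    · exact le_rfl
  refine ⟨max M0 r, le_max_right _ _, hMs, ?_⟩
  intro a b h
  have hz : stairZ J a b ≤ 0 := by
    rw [← stairZ_spec hJ]
    rcases h with h | h
    · refine exps_of_le (hMs 0) ?_
      intro l
      by_cases hl : l = 0
      · subst hl
        rw [Finsupp.single_eq_same, e3_apply0]
        exact h
      · rw [Finsupp.single_apply, if_neg (fun h => hl h.symm)]
        exact Nat.zero_le _
    · refine exps_of_le (hMs 1) ?_
      intro l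
      by_cases hl : l = 1
      · subst hl
        rw [Finsupp.single_eq_same, e3_apply1]
        exact h
      · rw [Finsupp.single_apply, if_neg (fun h => hl h.symm)]
        exact Nat.zero_le _
  omega

end staircase

/-! ### The number of monomials outside `J` with given `x`-exponent -/

/-- the number of monomials outside `J` with `x`-exponent `a` -/
noncomputable def dX (J : Ideal (MvPolynomial (Fin 3) k)) (a : ℕ) : ℕ :=
  Set.ncard {β : Fin 3 →₀ ℕ | β ∉ exps J ∧ β 0 = a}

theorem e3_eta (β : Fin 3 →₀ ℕ) : e3 (β 0) (β 1) (β 2) = β := by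
  ext l
  fin_cases l <;> rfl

theorem dX_eq_sum {J : Ideal (MvPolynomial (Fin 3) k)} (hJ : IsMonomial J)
    [Module.Finite k (MvPolynomial (Fin 3) k ⧸ J)] {M : ℕ}
    (hM : ∀ a b : ℕ, (M ≤ a ∨ M ≤ b) → stairZ J a b = 0) (a : ℕ) :
    dX J a = ∑ b ∈ Finset.range M, stairZ J a b := by
  classical
  have hset : {β : Fin 3 →₀ ℕ | β ∉ exps J ∧ β 0 = a} =
      ↑(((Finset.range M).sigma fun b => Finset.range (stairZ J a b)).image
        fun x : (_ : ℕ) × ℕ => e3 a x.1 x.2) := by
    ext β
    rw [Finset.mem_coe, Finset.mem_image]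
    constructor
    · intro h
      obtain ⟨hβ, h0⟩ := h
      rw [← e3_eta β, stairZ_spec hJ, h0] at hβ
      refine ⟨⟨β 1, β 2⟩, ?_, ?_⟩
      · rw [Finset.mem_sigma, Finset.mem_range, Finset.mem_range]
        refine ⟨?_, by simp only; omega⟩
        by_contra hc
        have := hM a (β 1) (Or.inr (by simp only at hc; omega))
        omega
      · simp only
        rw [← h0]
        exact e3_eta β
    · rintro ⟨⟨b, c⟩, hx, rfl⟩
      rw [Finset.mem_sigma, Finset.mem_range, Finset.mem_range] at hx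
      refine ⟨?_, rfl⟩
      show e3 a b c ∉ exps J
      rw [stairZ_spec hJ]
      simp only at hx
      omega
  unfold dX
  rw [hset, Set.ncard_coe_finset, Finset.card_image_of_injective, Finset.card_sigma]
  · simp
  · intro x y h
    have h1 := congrArg (fun f : Fin 3 →₀ ℕ => f 1) h
    have h2 := congrArg (fun f : Fin 3 →₀ ℕ => f 2) h
    simp only [e3_apply1, e3_apply2] at h1 h2
    obtain ⟨x1, x2⟩ := x
    obtain ⟨y1, y2⟩ := y
    simp only at h1 h2
    subst h1
    subst h2
    rfl

theorem dX_permI (σ : Equiv.Perm (Fin 3)) (hσ : σ 0 = 0) (J : Ideal (MvPolynomial (Fin 3) k))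
    (a : ℕ) : dX (permI σ J) a = dX J a := by
  unfold dX
  have hset : {β : Fin 3 →₀ ℕ | β ∉ exps J ∧ β 0 = a} =
      pn σ '' {β : Fin 3 →₀ ℕ | β ∉ exps (permI σ J) ∧ β 0 = a} := by
    ext γ
    constructor
    · intro h
      obtain ⟨hγ, h0⟩ := h
      refine ⟨pn σ.symm γ, ⟨?_, ?_⟩, pn_pn_symm σ γ⟩
      · rw [mem_exps_permI, pn_pn_symm]
        exact hγ
      · rw [pn_apply]
        have : σ.symm 0 = 0 := by
          rw [Equiv.symm_apply_eq, hσ]
        rw [this]
        exact h0
    · rintro ⟨β, ⟨hβ, h0⟩, rfl⟩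
      exact ⟨fun h => hβ ((mem_exps_permI σ).mpr h), by rw [pn_apply, hσ]; exact h0⟩
  rw [hset, Set.ncard_image_of_injective _ (pn_injective σ)]

/-! ### Slices (after helper61's S13453) -/

/-- the exponent in three variables attached to an exponent in two variables and a power of
`x` -/
noncomputable def lift3 (i : ℕ) (β : Fin 2 →₀ ℕ) : Fin 3 →₀ ℕ :=
  Finsupp.single 0 i + β.mapDomain Fin.succ

theorem lift3_zero (i : ℕ) (β : Fin 2 →₀ ℕ) : lift3 i β 0 = i := by
  rw [lift3, Finsupp.add_apply, Finsupp.single_eq_same,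
    Finsupp.mapDomain_of_notMem_range _ _ (by simp), add_zero]

theorem lift3_succ (i : ℕ) (β : Fin 2 →₀ ℕ) (j : Fin 2) : lift3 i β j.succ = β j := by
  rw [lift3, Finsupp.add_apply, Finsupp.single_eq_of_ne (Fin.succ_ne_zero j),
    Finsupp.mapDomain_apply (Fin.succ_injective 2), zero_add]

theorem X_pow_mul_rename_monomial (i : ℕ) (β : Fin 2 →₀ ℕ) (c : k) :
    (X 0 ^ i : MvPolynomial (Fin 3) k) * rename Fin.succ (monomial β c) =
      monomial (lift3 i β) c := by
  rw [rename_monomial, X_pow_eq_monomial, monomial_mul, one_mul, lift3]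

theorem lift3_injective (i : ℕ) : Function.Injective (lift3 i) := by
  intro β β' h
  ext j
  have := congrArg (fun f => f j.succ) h
  simpa [lift3_succ] using this

theorem mem_sliceX (I : Ideal (MvPolynomial (Fin 3) k)) (i : ℕ) (f : MvPolynomial (Fin 2) k) :
    f ∈ sliceX I i ↔ (X 0 ^ i : MvPolynomial (Fin 3) k) * rename Fin.succ f ∈ I := by
  rw [sliceX, Ideal.mem_comap, Submodule.mem_colon_singleton, smul_eq_mul, mul_comm]
  rfl

theorem X_pow_mul_rename (i : ℕ) (f : MvPolynomial (Fin 2) k) :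
    (X 0 ^ i : MvPolynomial (Fin 3) k) * rename Fin.succ f =
      ∑ β ∈ f.support, monomial (lift3 i β) (coeff β f) := by
  conv_lhs => rw [← MvPolynomial.support_sum_monomial_coeff f]
  rw [map_sum, Finset.mul_sum]
  exact Finset.sum_congr rfl fun β _ => X_pow_mul_rename_monomial i β _

theorem coeff_X_pow_mul_rename (i : ℕ) (f : MvPolynomial (Fin 2) k) (β : Fin 2 →₀ ℕ) :
    coeff (lift3 i β) ((X 0 ^ i : MvPolynomial (Fin 3) k) * rename Fin.succ f) = coeff β f := by
  classical
  rw [X_pow_mul_rename, coeff_sum]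
  simp only [coeff_monomial]
  rw [Finset.sum_eq_single β]
  · simp
  · intro b _ hb
    rw [if_neg]
    intro h
    exact hb (lift3_injective i h)
  · intro hβ
    rw [if_pos rfl]
    simpa using hβ

theorem mem_sliceX_iff (I : Ideal (MvPolynomial (Fin 3) k)) (hI : IsMonomial I) (i : ℕ)
    (f : MvPolynomial (Fin 2) k) :
    f ∈ sliceX I i ↔ ∀ β ∈ f.support, lift3 i β ∈ exps I := by
  rw [mem_sliceX]
  constructor
  · intro h β hβ
    apply hI _ h
    rw [mem_support_iff, coeff_X_pow_mul_rename]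
    exact mem_support_iff.mp hβ
  · intro h
    rw [X_pow_mul_rename]
    refine Ideal.sum_mem _ fun β hβ => ?_
    have : monomial (lift3 i β) (coeff β f) = C (coeff β f) * monomial (lift3 i β) (1 : k) := by
      rw [C_mul_monomial, mul_one]
    rw [this]
    exact Ideal.mul_mem_left _ _ (h β hβ)

theorem mem_exps_sliceX (I : Ideal (MvPolynomial (Fin 3) k)) (hI : IsMonomial I) (i : ℕ)
    (β : Fin 2 →₀ ℕ) : β ∈ exps (sliceX I i) ↔ lift3 i β ∈ exps I := by
  classical
  show monomial β (1 : k) ∈ sliceX I i ↔ _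
  rw [mem_sliceX_iff I hI]
  constructor
  · intro h
    apply h β
    rw [mem_support_iff, coeff_monomial, if_pos rfl]
    exact one_ne_zero
  · intro h β' hβ'
    rw [support_monomial, if_neg one_ne_zero, Finset.mem_singleton] at hβ'
    rw [hβ']
    exact h

theorem isMonomial_sliceX (I : Ideal (MvPolynomial (Fin 3) k)) (hI : IsMonomial I) (i : ℕ) :
    IsMonomial (sliceX I i) := by
  intro p hp β hβ
  exact (mem_exps_sliceX I hI i β).mpr ((mem_sliceX_iff I hI i p).mp hp β hβ)

theorem finite_compl_sliceX {I : Ideal (MvPolynomial (Fin 3) k)} (hI : IsMonomial I)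
    [Module.Finite k (MvPolynomial (Fin 3) k ⧸ I)] (i : ℕ) :
    {β : Fin 2 →₀ ℕ | β ∉ exps (sliceX I i)}.Finite := by
  have h := (finite_compl_exps hI).preimage (f := lift3 i) (lift3_injective i).injOn
  refine h.subset ?_
  intro β hβ
  show lift3 i β ∈ {β | β ∉ exps I}
  exact fun h' => hβ ((mem_exps_sliceX I hI i β).mpr h')

theorem finite_sliceX {I : Ideal (MvPolynomial (Fin 3) k)} (hI : IsMonomial I)
    [Module.Finite k (MvPolynomial (Fin 3) k ⧸ I)] (i : ℕ) :
    Module.Finite k (MvPolynomial (Fin 2) k ⧸ sliceX I i) :=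
  finite_quot_of_finite_compl (finite_compl_sliceX hI i)

/-- the colength of a slice -/
theorem finrank_slice {I : Ideal (MvPolynomial (Fin 3) k)} (hI : IsMonomial I)
    [Module.Finite k (MvPolynomial (Fin 3) k ⧸ I)] (a : ℕ) :
    Module.finrank k (MvPolynomial (Fin 2) k ⧸ sliceX I a) = dX I a := by
  haveI := finite_sliceX hI a
  have hmon := isMonomial_sliceX I hI a
  rw [finrank_quot hmon]
  unfold dX
  have hset : {β : Fin 3 →₀ ℕ | β ∉ exps I ∧ β 0 = a} =
      lift3 a '' {β : Fin 2 →₀ ℕ | β ∉ exps (sliceX I a)} := by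
    ext γ
    constructor
    · intro h
      obtain ⟨hγ, h0⟩ := h
      have hl : lift3 a (Finsupp.equivFunOnFinite.symm fun j : Fin 2 => γ j.succ) = γ := by
        ext l
        refine Fin.cases ?_ (fun j => ?_) l
        · rw [lift3_zero, h0]
        · rw [lift3_succ]
          rfl
      refine ⟨Finsupp.equivFunOnFinite.symm fun j : Fin 2 => γ j.succ, ?_, hl⟩
      show _ ∉ exps (sliceX I a)
      rw [mem_exps_sliceX I hI, hl]
      exact hγ
    · rintro ⟨β, hβ, rfl⟩
      refine ⟨?_, lift3_zero a β⟩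
      intro h
      exact hβ ((mem_exps_sliceX I hI a β).mpr h)
  rw [hset, Set.ncard_image_of_injective _ (lift3_injective a),
    Set.ncard_eq_toFinset_card _ (finite_compl_exps hmon)]

end Groth.Agent.Lib.Helper44.TgtComp
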