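import Groth.Agent.Lib.Helper44.TgtSS

/-! Strongly stable ideals in three variables: the slice colengths satisfy the staircase
recursion; tail-sum bounds and the equality case (S13454). (helper44) -/

set_option autoImplicit false
set_option linter.style.haveILetI false
set_option linter.unusedSectionVars false

universe u

namespace Groth.Agent.Lib.Helper44.TgtComp

open W4c1hilbpn MvPolynomial Groth.Agent.Lib.Helper44.StairLA Groth.Agent.Lib.Helper44.StairSeq

variable {k : Type u} [Field k]

theorem sum_sub_le_T (e : ℕ) : ∀ M, ∑ b ∈ Finset.range M, (e - b) ≤ T e := by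
  induction e with
  | zero =>
    intro M
    simp [T_zero]
  | succ e ih =>
    intro M
    rcases M with _ | M
    · simp
    · rw [Finset.sum_range_succ']
      simp only [Nat.add_sub_add_right, Nat.sub_zero]
      have := ih M
      rw [T_succ]
      omega

theorem sum_dX_le {J : Ideal (MvPolynomial (Fin 3) k)} (hJ : IsMonomial J)
    [Module.Finite k (MvPolynomial (Fin 3) k ⧸ J)] (N : ℕ) :
    ∑ i ∈ Finset.range N, dX J i ≤ Module.finrank k (MvPolynomial (Fin 3) k ⧸ J) := by
  obtain ⟨M, -, -, hM⟩ := exists_bound hJ 0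
  rw [← sum_stairZ hJ hM]
  unfold Box
  rw [Finset.sum_product]
  have h1 : ∀ i, dX J i = ∑ b ∈ Finset.range M, stairZ J i b := dX_eq_sum hJ hM
  have h2 : ∀ i, M ≤ i → dX J i = 0 := by
    intro i hi
    rw [h1]
    exact Finset.sum_eq_zero fun b _ => hM i b (Or.inl hi)
  calc ∑ i ∈ Finset.range N, dX J i
      ≤ ∑ i ∈ Finset.range (max N M), dX J i :=
        Finset.sum_le_sum_of_subset (Finset.range_subset_range.mpr (le_max_left _ _))
    _ = ∑ i ∈ Finset.range M, dX J i := by
        symm
        refine Finset.sum_subset (Finset.range_subset_range.mpr (le_max_right _ _)) ?_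
        intro i _ hi
        rw [Finset.mem_range] at hi
        exact h2 i (by omega)
    _ = ∑ i ∈ Finset.range M, ∑ b ∈ Finset.range M, stairZ J i b :=
        Finset.sum_congr rfl fun i _ => h1 i

section ss

variable {I : Ideal (MvPolynomial (Fin 3) k)} (hI : IsStronglyStable I)
  [Module.Finite k (MvPolynomial (Fin 3) k ⧸ I)]

include hI

theorem ss_of_stronglyStable : SS (dX I) (fun i => stairZ I i 0) := by
  obtain ⟨M, -, -, hM⟩ := exists_bound hI.1 0
  constructor
  · intro i
    rw [dX_eq_sum hI.1 hM, dX_eq_sum hI.1 hM]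
    have h1 : ∑ b ∈ Finset.range M, stairZ I (i + 1) b ≤
        ∑ b ∈ Finset.range M, stairZ I i (b + 1) :=
      Finset.sum_le_sum fun b _ => stairZ_xy hI.1 (xy_of_ss hI) i b
    have h2 : ∑ b ∈ Finset.range (M + 1), stairZ I i b =
        ∑ b ∈ Finset.range M, stairZ I i (b + 1) + stairZ I i 0 := Finset.sum_range_succ' _ _
    have h3 : ∑ b ∈ Finset.range (M + 1), stairZ I i b =
        ∑ b ∈ Finset.range M, stairZ I i b + stairZ I i M := Finset.sum_range_succ _ _
    have h4 := hM i M (Or.inr le_rfl)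
    show ∑ b ∈ Finset.range M, stairZ I (i + 1) b + stairZ I i 0 ≤
      ∑ b ∈ Finset.range M, stairZ I i b
    omega
  · intro i
    rw [dX_eq_sum hI.1 hM]
    exact le_trans (Finset.sum_le_sum fun b _ => stairZ_yz_iter hI.1 (yz_of_ss hI) i b)
      (sum_sub_le_T _ M)

theorem hc_of_colength {r : ℕ}
    (hd : Module.finrank k (MvPolynomial (Fin 3) k ⧸ I) ≤ Nat.choose (r + 2) 3) :
    ∀ N, ∑ i ∈ Finset.range N, dX I i ≤ ∑ i ∈ Finset.range r, T (r - i) := by
  intro N
  rw [sum_T_range]
  exact le_trans (sum_dX_le hI.1 N) hd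

/-- from the equality case of the sequences to `I = m^r` -/
theorem eq_Mr_of_eq_case {r : ℕ}
    (h : ∀ i, dX I i = T (r - i) ∧ stairZ I i 0 = r - i) : I = Mr k 3 r := by
  obtain ⟨M, hrM, -, hM⟩ := exists_bound hI.1 r
  have hstair : ∀ a b, stairZ I a b = r - a - b := by
    intro a
    have hle : ∀ b, stairZ I a b ≤ r - a - b := by
      intro b
      have := stairZ_yz_iter hI.1 (yz_of_ss hI) a b
      rw [(h a).2] at this
      exact this
    have hsum : ∑ b ∈ Finset.range M, stairZ I a b = T (r - a) := by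
      rw [← dX_eq_sum hI.1 hM]
      exact (h a).1
    have hsum2 : ∑ b ∈ Finset.range M, (r - a - b) ≤ T (r - a) := sum_sub_le_T _ M
    have heq : ∀ b ∈ Finset.range M, stairZ I a b = r - a - b :=
      (Finset.sum_eq_sum_iff_of_le (fun b _ => hle b)).mp
        (le_antisymm (Finset.sum_le_sum fun b _ => hle b) (by rw [hsum]; exact hsum2))
    intro b
    by_cases hb : b < M
    · exact heq b (Finset.mem_range.mpr hb)
    · rw [hM a b (Or.inr (by omega))]
      omega
  refine eq_of_exps_eq hI.1 (isMonomial_Mr r) ?_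
  ext β
  rw [mem_exps_Mr]
  have h1 := stairZ_spec hI.1 (β 0) (β 1) (β 2)
  rw [e3_eta, hstair] at h1
  rw [h1, Finsupp.degree_eq_sum, Fin.sum_univ_three]
  omega

/-- **S13454** -/
theorem slice_tails (r : ℕ)
    (hd : Module.finrank k (MvPolynomial (Fin 3) k ⧸ I) ≤ Nat.choose (r + 2) 3) :
    (∀ j, j ≤ r →
      ∑ i ∈ Finset.Ico j r, Module.finrank k (MvPolynomial (Fin 2) k ⧸ sliceX I i) ≤
        ∑ i ∈ Finset.Ico j r, Nat.choose (r - i + 1) 2) ∧
    ((∀ j, j < r →
      ∑ i ∈ Finset.Ico j r, Module.finrank k (MvPolynomial (Fin 2) k ⧸ sliceX I i) =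
        ∑ i ∈ Finset.Ico j r, Nat.choose (r - i + 1) 2) → I = Mr k 3 r) := by
  have hss := ss_of_stronglyStable hI
  have hc := hc_of_colength hI hd
  simp only [finrank_slice hI.1]
  constructor
  · intro j hj
    exact hss.tail_le hc hj
  · intro heq
    exact eq_Mr_of_eq_case hI (hss.eq_case hc heq)

end ss

end Groth.Agent.Lib.Helper44.TgtComp
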