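import Groth.Agent.Lib.Helper44.TgtSS2

/-! Strongly stable ideals of colength `C(r+2,3)` in three variables: bounds for the sign-pattern
pieces of `T(I)` with equality exactly for `m^r` (S13443). (helper44) -/

set_option autoImplicit false
set_option linter.style.haveILetI false
set_option linter.unusedSectionVars false

universe u

namespace Groth.Agent.Lib.Helper44.TgtComp

open W4c1hilbpn MvPolynomial Groth.Agent.Lib.Helper44.StairLA Groth.Agent.Lib.Helper44.StairSeq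

variable {k : Type u} [Field k]

theorem tele (f : ℕ → ℕ) (hf : ∀ b, f (b + 1) ≤ f b) :
    ∀ M, ∑ b ∈ Finset.range M, (f b - f (b + 1)) + f M = f 0 := by
  intro M
  induction M with
  | zero => simp
  | succ M ih =>
    rw [Finset.sum_range_succ]
    have := hf M
    omega

section bound

variable {J : Ideal (MvPolynomial (Fin 3) k)} (hJ : IsMonomial J)
  [Module.Finite k (MvPolynomial (Fin 3) k ⧸ J)]

include hJ

theorem finrank_iSup_A_le_sum (hxy : XY J) {M : ℕ}
    (hM : ∀ a b : ℕ, (M ≤ a ∨ M ≤ b) → stairZ J a b = 0) (i j : ℕ) :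
    Module.finrank k ↥(⨆ α : {α : Fin 3 → ℤ // α 0 = (i : ℤ) ∧ α 1 = (j : ℤ)}, tPiece J α.1) ≤
      ∑ p ∈ Finset.range M, stairZ J (p + i) j := by
  rw [finrank_iSup_A hJ]
  refine le_trans (sum_finrank_Wc_le (k := k) (i := i) (j := j) (stair_stairZ hJ) hM
    (fun a b => stairZ_le_top hJ a b)) ?_
  unfold Box
  rw [Finset.sum_product]
  refine Finset.sum_le_sum fun p1 _ => ?_
  have hmax : ∀ p2, max (g (stairZ J) i j (p1 + 1) p2) (g (stairZ J) i j p1 (p2 + 1)) =
      g (stairZ J) i j p1 (p2 + 1) := by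
    intro p2
    apply max_eq_right
    unfold g
    have := stairZ_xy hJ hxy (p1 + i) (p2 + j)
    rw [show p1 + 1 + i = p1 + i + 1 from by ring, show p2 + 1 + j = p2 + j + 1 from by ring]
    exact this
  have hanti : ∀ b, g (stairZ J) i j p1 (b + 1) ≤ g (stairZ J) i j p1 b := by
    intro b
    unfold g
    exact stairZ_anti hJ le_rfl (by omega)
  have ht := tele (fun b => g (stairZ J) i j p1 b) hanti M
  have h0 : g (stairZ J) i j p1 0 = stairZ J (p1 + i) j := by
    unfold g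
    rw [zero_add]
  show ∑ p2 ∈ Finset.range M, (g (stairZ J) i j p1 p2 -
    max (g (stairZ J) i j (p1 + 1) p2) (g (stairZ J) i j p1 (p2 + 1))) ≤ stairZ J (p1 + i) j
  simp only [hmax]
  omega

theorem finrank_sig2_le (hxy : XY J) {M : ℕ} (hMs : ∀ l : Fin 3, Finsupp.single l M ∈ exps J)
    (hM : ∀ a b : ℕ, (M ≤ a ∨ M ≤ b) → stairZ J a b = 0) :
    Module.finrank k ↥(sigPiece J ({2} : Set (Fin 3))) ≤
      ∑ i ∈ Finset.range M, ∑ p ∈ Finset.range M, dX J (p + i) := by
  classical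
  rw [finrank_sigPiece hJ {2}, sum_sig_pos hJ hMs]
  unfold Box
  rw [Finset.sum_product]
  refine Finset.sum_le_sum fun i _ => ?_
  calc ∑ j ∈ Finset.range M, Module.finrank k
        ↥(⨆ α : {α : Fin 3 → ℤ // α 0 = (i : ℤ) ∧ α 1 = (j : ℤ)}, tPiece J α.1)
      ≤ ∑ j ∈ Finset.range M, ∑ p ∈ Finset.range M, stairZ J (p + i) j :=
        Finset.sum_le_sum fun j _ => finrank_iSup_A_le_sum hJ hxy hM i j
    _ = ∑ p ∈ Finset.range M, ∑ j ∈ Finset.range M, stairZ J (p + i) j := Finset.sum_comm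
    _ = ∑ p ∈ Finset.range M, dX J (p + i) :=
        Finset.sum_congr rfl fun p _ => (dX_eq_sum hJ hM (p + i)).symm

end bound

/-- rewriting the double sum as a sum of tails -/
theorem sum_shift_eq (d : ℕ → ℕ) {r M : ℕ} (hd0 : ∀ a, r ≤ a → d a = 0) (hrM : r ≤ M) :
    ∑ i ∈ Finset.range M, ∑ p ∈ Finset.range M, d (p + i) =
      ∑ i ∈ Finset.range r, ∑ a ∈ Finset.Ico i r, d a := by
  have h1 : ∀ i, ∑ p ∈ Finset.range M, d (p + i) = ∑ a ∈ Finset.Ico i r, d a := by
    intro i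
    rw [Finset.sum_Ico_eq_sum_range]
    have hsub : Finset.range (r - i) ⊆ Finset.range M :=
      Finset.range_subset_range.mpr (by omega)
    rw [← Finset.sum_subset hsub (fun p _ hp => hd0 (p + i) (by
      rw [Finset.mem_range] at hp; omega))]
    exact Finset.sum_congr rfl fun p _ => by rw [add_comm]
  rw [Finset.sum_congr rfl fun i _ => h1 i]
  symm
  refine Finset.sum_subset (Finset.range_subset_range.mpr hrM) ?_
  intro i _ hi
  rw [Finset.mem_range] at hi
  rw [Finset.Ico_eq_empty_of_le (by omega), Finset.sum_empty]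

theorem swap12_0 : (Equiv.swap (1 : Fin 3) 2) 0 = 0 := by decide
theorem swap12_1 : (Equiv.swap (1 : Fin 3) 2) 1 = 2 := by decide
theorem swap12_2 : (Equiv.swap (1 : Fin 3) 2) 2 = 1 := by decide

theorem swap12_preimage : (Equiv.swap (1 : Fin 3) 2) ⁻¹' ({2} : Set (Fin 3)) = {1} := by
  ext l
  simp only [Set.mem_preimage, Set.mem_singleton_iff]
  fin_cases l
  · show (Equiv.swap (1 : Fin 3) 2) 0 = 2 ↔ (0 : Fin 3) = 1
    rw [swap12_0]; decide
  · show (Equiv.swap (1 : Fin 3) 2) 1 = 2 ↔ (1 : Fin 3) = 1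
    rw [swap12_1]; decide
  · show (Equiv.swap (1 : Fin 3) 2) 2 = 2 ↔ (2 : Fin 3) = 1
    rw [swap12_2]; decide

section ss

variable {I : Ideal (MvPolynomial (Fin 3) k)} (hI : IsStronglyStable I)
  [Module.Finite k (MvPolynomial (Fin 3) k ⧸ I)] {r : ℕ}
  (hd : Module.finrank k (MvPolynomial (Fin 3) k ⧸ I) = Nat.choose (r + 2) 3)

include hI hd

/-- the key bound, for an auxiliary monomial ideal `J` with the same slice colengths -/
theorem sig_bound {J : Ideal (MvPolynomial (Fin 3) k)} (hJ : IsMonomial J)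
    [Module.Finite k (MvPolynomial (Fin 3) k ⧸ J)] (hxy : XY J) (hdX : ∀ a, dX J a = dX I a) :
    Module.finrank k ↥(sigPiece J ({2} : Set (Fin 3))) ≤ Nat.choose (r + 3) 4 ∧
    (Module.finrank k ↥(sigPiece J ({2} : Set (Fin 3))) = Nat.choose (r + 3) 4 → I = Mr k 3 r) := by
  have hss := ss_of_stronglyStable hI
  have hc := hc_of_colength hI (le_of_eq hd)
  obtain ⟨M, hrM, hMs, hM⟩ := exists_bound hJ r
  have h1 := finrank_sig2_le hJ hxy hMs hM
  simp only [hdX] at h1
  rw [sum_shift_eq (dX I) (fun a ha => hss.d_eq_zero hc ha) hrM] at h1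
  have h2 : ∑ i ∈ Finset.range r, ∑ a ∈ Finset.Ico i r, dX I a ≤
      ∑ i ∈ Finset.range r, ∑ a ∈ Finset.Ico i r, T (r - a) :=
    Finset.sum_le_sum fun i hi => hss.tail_le hc (le_of_lt (Finset.mem_range.mp hi))
  rw [sum_tails_T] at h2
  refine ⟨le_trans h1 h2, fun heq => ?_⟩
  have h3 : ∑ i ∈ Finset.range r, ∑ a ∈ Finset.Ico i r, dX I a =
      ∑ i ∈ Finset.range r, ∑ a ∈ Finset.Ico i r, T (r - a) := by
    rw [sum_tails_T]
    omega
  have h4 := (Finset.sum_eq_sum_iff_of_le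
    (fun i hi => hss.tail_le hc (le_of_lt (Finset.mem_range.mp hi)))).mp h3
  exact eq_Mr_of_eq_case hI (hss.eq_case hc fun j hj => h4 j (Finset.mem_range.mpr hj))

omit hd [Module.Finite k (MvPolynomial (Fin 3) k ⧸ I)] in
theorem xy_permI : XY (permI (Equiv.swap (1 : Fin 3) 2) I) := by
  intro β hβ hpos
  rw [mem_exps_permI] at hβ ⊢
  have h := hI.2 _ hβ 0 2 (by decide) (by rw [pn_apply, swap12_2]; exact hpos)
  convert h using 1
  ext l
  rw [pn_apply, Finsupp.add_apply, Finsupp.tsub_apply, Finsupp.add_apply, Finsupp.tsub_apply,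
    pn_apply, Finsupp.single_apply, Finsupp.single_apply, Finsupp.single_apply,
    Finsupp.single_apply]
  fin_cases l
  · show β ((Equiv.swap (1 : Fin 3) 2) 0) - (if (1 : Fin 3) = (Equiv.swap (1 : Fin 3) 2) 0
      then 1 else 0) + (if (0 : Fin 3) = (Equiv.swap (1 : Fin 3) 2) 0 then 1 else 0) =
      β ((Equiv.swap (1 : Fin 3) 2) 0) - (if (2 : Fin 3) = 0 then 1 else 0) +
        (if (0 : Fin 3) = 0 then 1 else 0)
    rw [swap12_0]
    simp
  · show β ((Equiv.swap (1 : Fin 3) 2) 1) - (if (1 : Fin 3) = (Equiv.swap (1 : Fin 3) 2) 1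
      then 1 else 0) + (if (0 : Fin 3) = (Equiv.swap (1 : Fin 3) 2) 1 then 1 else 0) =
      β ((Equiv.swap (1 : Fin 3) 2) 1) - (if (2 : Fin 3) = 1 then 1 else 0) +
        (if (0 : Fin 3) = 1 then 1 else 0)
    rw [swap12_1]
    simp
  · show β ((Equiv.swap (1 : Fin 3) 2) 2) - (if (1 : Fin 3) = (Equiv.swap (1 : Fin 3) 2) 2
      then 1 else 0) + (if (0 : Fin 3) = (Equiv.swap (1 : Fin 3) 2) 2 then 1 else 0) =
      β ((Equiv.swap (1 : Fin 3) 2) 2) - (if (2 : Fin 3) = 2 then 1 else 0) +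
        (if (0 : Fin 3) = 2 then 1 else 0)
    rw [swap12_2]
    simp

/-- **S13443** -/
theorem ss_sig_bounds :
    (Module.finrank k ↥(sigPiece I ({2} : Set (Fin 3))) ≤ Nat.choose (r + 3) 4 ∧
      (Module.finrank k ↥(sigPiece I ({2} : Set (Fin 3))) = Nat.choose (r + 3) 4 ↔
        I = Mr k 3 r)) ∧
    (Module.finrank k ↥(sigPiece I ({1} : Set (Fin 3))) ≤ Nat.choose (r + 3) 4 ∧
      (Module.finrank k ↥(sigPiece I ({1} : Set (Fin 3))) = Nat.choose (r + 3) 4 ↔
        I = Mr k 3 r)) ∧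
    (Module.finrank k ↥(sigPiece I ({0, 1} : Set (Fin 3))) ≤ Nat.choose (r + 2) 4 ∧
      (Module.finrank k ↥(sigPiece I ({0, 1} : Set (Fin 3))) = Nat.choose (r + 2) 4 ↔
        I = Mr k 3 r)) ∧
    (Module.finrank k ↥(sigPiece I ({0, 2} : Set (Fin 3))) ≤ Nat.choose (r + 2) 4 ∧
      (Module.finrank k ↥(sigPiece I ({0, 2} : Set (Fin 3))) = Nat.choose (r + 2) 4 ↔
        I = Mr k 3 r)) := by
  -- the `z`-direction
  have b2 := sig_bound hI hd hI.1 (xy_of_ss hI) (fun _ => rfl)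
  -- the `y`-direction, via the swap of `y` and `z`
  haveI := finite_permI (Equiv.swap (1 : Fin 3) 2) hI.1
  have b1 := sig_bound hI hd (isMonomial_permI (Equiv.swap (1 : Fin 3) 2) I) (xy_permI hI)
    (fun a => dX_permI _ swap12_0 I a)
  rw [finrank_sigPiece_permI _ hI.1 (by norm_num), swap12_preimage] at b1
  -- complements
  have e2 := finrank_sig_singleton hI.1 2
  have e1 := finrank_sig_singleton hI.1 1
  rw [hd] at e1 e2
  have c01 : ({0, 1} : Set (Fin 3)) = {2}ᶜ := by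
    ext i; fin_cases i <;> simp
  have c02 : ({0, 2} : Set (Fin 3)) = {1}ᶜ := by
    ext i; fin_cases i <;> simp
  have hp : Nat.choose (r + 3) 4 = Nat.choose (r + 2) 3 + Nat.choose (r + 2) 4 :=
    Nat.choose_succ_succ' (r + 2) 3
  have m2 : I = Mr k 3 r → Module.finrank k ↥(sigPiece I ({2} : Set (Fin 3))) =
      Nat.choose (r + 3) 4 := by
    intro h; rw [h]; exact (finrank_sig_Mr r 2).1
  have m1 : I = Mr k 3 r → Module.finrank k ↥(sigPiece I ({1} : Set (Fin 3))) =
      Nat.choose (r + 3) 4 := by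
    intro h; rw [h]; exact (finrank_sig_Mr r 1).1
  rw [c01, c02]
  refine ⟨⟨b2.1, b2.2, m2⟩, ⟨b1.1, b1.2, m1⟩, ⟨by omega, fun h => b2.2 (by omega), fun h => ?_⟩,
    ⟨by omega, fun h => b1.2 (by omega), fun h => ?_⟩⟩
  · have := m2 h
    omega
  · have := m1 h
    omega

end ss

end Groth.Agent.Lib.Helper44.TgtComp
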