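import Groth.Agent.Lib.Helper44.TgtMain
import Groth.Agent.Lib.Helper44.TgtPerm

/-! Three variables: sign-pattern pieces of `T(I)`: `dim T_{{i}} = dim T_{{i}ᶜ} + colength`
(S13433) and the parity of `dim T(I)` (S13437). (helper44) -/

set_option autoImplicit false
set_option linter.style.haveILetI false
set_option linter.unusedSectionVars false

universe u

namespace Groth.Agent.Lib.Helper44.TgtComp

open W4c1hilbpn MvPolynomial Groth.Agent.Lib.Helper44.StairLA

variable {k : Type u} [Field k]

local notation "S3" => MvPolynomial (Fin 3) k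

theorem sign2_iff (α : Fin 3 → ℤ) :
    (∀ i, α i < 0 ↔ i ∈ ({2} : Set (Fin 3))) ↔ 0 ≤ α 0 ∧ 0 ≤ α 1 ∧ α 2 < 0 := by
  constructor
  · intro h
    have h0 := h 0
    have h1 := h 1
    have h2 := h 2
    simp only [Set.mem_singleton_iff] at h0 h1 h2
    refine ⟨?_, ?_, (h 2).mpr (Set.mem_singleton _)⟩
    · by_contra hc
      push Not at hc
      exact absurd (h0.mp hc) (by decide)
    · by_contra hc
      push Not at hc
      exact absurd (h1.mp hc) (by decide)
  · rintro ⟨h0, h1, h2⟩ i
    rw [Set.mem_singleton_iff]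
    fin_cases i
    · show α 0 < 0 ↔ (0 : Fin 3) = 2
      constructor
      · intro h; omega
      · intro h; exact absurd h (by decide)
    · show α 1 < 0 ↔ (1 : Fin 3) = 2
      constructor
      · intro h; omega
      · intro h; exact absurd h (by decide)
    · show α 2 < 0 ↔ (2 : Fin 3) = 2
      exact ⟨fun _ => rfl, fun _ => h2⟩

theorem sign2c_iff (α : Fin 3 → ℤ) :
    (∀ i, α i < 0 ↔ i ∈ ({2}ᶜ : Set (Fin 3))) ↔ α 0 < 0 ∧ α 1 < 0 ∧ 0 ≤ α 2 := by
  constructor
  · intro h
    have h0 := h 0
    have h1 := h 1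
    have h2 := h 2
    simp only [Set.mem_compl_iff, Set.mem_singleton_iff] at h0 h1 h2
    refine ⟨h0.mpr (by decide), h1.mpr (by decide), ?_⟩
    by_contra hc
    push Not at hc
    exact (h 2).mp hc (Set.mem_singleton _)
  · rintro ⟨h0, h1, h2⟩ i
    rw [Set.mem_compl_iff, Set.mem_singleton_iff]
    fin_cases i
    · show α 0 < 0 ↔ ¬ (0 : Fin 3) = 2
      exact ⟨fun _ => by decide, fun _ => h0⟩
    · show α 1 < 0 ↔ ¬ (1 : Fin 3) = 2
      exact ⟨fun _ => by decide, fun _ => h1⟩
    · show α 2 < 0 ↔ ¬ (2 : Fin 3) = 2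
      constructor
      · intro h; omega
      · intro h; exact absurd rfl h

theorem univ_finset_fin3 : (Finset.univ : Finset (Finset (Fin 3))) =
    {∅, {0}, {1}, {2}, {0, 1}, {0, 2}, {1, 2}, {0, 1, 2}} := by decide

section

variable {I : Ideal (MvPolynomial (Fin 3) k)} (hI : IsMonomial I)
  [Module.Finite k (MvPolynomial (Fin 3) k ⧸ I)]

include hI

theorem sum_sig_pos {M : ℕ} (hM : ∀ l : Fin 3, Finsupp.single l M ∈ exps I)
    [DecidablePred fun α : Fin 3 → ℤ => ∀ i, α i < 0 ↔ i ∈ ({2} : Set (Fin 3))] :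
    ∑ α ∈ (suppT hI).filter (fun α => ∀ i, α i < 0 ↔ i ∈ ({2} : Set (Fin 3))),
        Module.finrank k ↥(tPiece I α) =
      ∑ p ∈ Box M, Module.finrank k
        ↥(⨆ α : {α : Fin 3 → ℤ // α 0 = (p.1 : ℤ) ∧ α 1 = (p.2 : ℤ)}, tPiece I α.1) := by
  classical
  rw [← Finset.sum_fiberwise_of_maps_to
    (g := fun α : Fin 3 → ℤ => ((α 0).toNat, (α 1).toNat)) (t := Box M)]
  · refine Finset.sum_congr rfl fun p hp => ?_
    rw [finrank_iSup_eq_sum hI]
    refine Finset.sum_congr ?_ fun _ _ => rfl
    ext α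
    simp only [Finset.mem_filter, mem_suppT, sign2_iff]
    constructor
    · rintro ⟨⟨hne, h0, h1, h2⟩, hp⟩
      have e1 := congrArg Prod.fst hp
      have e2 := congrArg Prod.snd hp
      simp only at e1 e2
      refine ⟨hne, ?_, ?_⟩ <;> omega
    · rintro ⟨hne, h0, h1⟩
      refine ⟨⟨hne, by omega, by omega, ?_⟩, ?_⟩
      · by_contra hc
        push Not at hc
        apply hne
        apply tPiece_eq_bot_of_nonneg hI
        intro l
        fin_cases l
        · show 0 ≤ α 0; omega
        · show 0 ≤ α 1; omega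
        · exact hc
      · exact Prod.ext (by simp only; omega) (by simp only; omega)
  · intro α hα
    rw [Finset.mem_filter, mem_suppT, sign2_iff] at hα
    obtain ⟨hne, h0, h1, h2⟩ := hα
    unfold Box
    rw [Finset.mem_product, Finset.mem_range, Finset.mem_range]
    constructor
    · by_contra hc
      push Not at hc
      exact hne (tPiece_eq_bot_of_large hI (hM 0) (by simp only at hc; omega))
    · by_contra hc
      push Not at hc
      exact hne (tPiece_eq_bot_of_large hI (hM 1) (by simp only at hc; omega))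

theorem sum_sig_neg {M : ℕ} (hM : ∀ l : Fin 3, Finsupp.single l M ∈ exps I)
    [DecidablePred fun α : Fin 3 → ℤ => ∀ i, α i < 0 ↔ i ∈ ({2}ᶜ : Set (Fin 3))] :
    ∑ α ∈ (suppT hI).filter (fun α => ∀ i, α i < 0 ↔ i ∈ ({2}ᶜ : Set (Fin 3))),
        Module.finrank k ↥(tPiece I α) =
      ∑ p ∈ Box M, Module.finrank k
        ↥(⨆ α : {α : Fin 3 → ℤ // α 0 = -(p.1 : ℤ) - 1 ∧ α 1 = -(p.2 : ℤ) - 1}, tPiece I α.1) := by
  classical
  rw [← Finset.sum_fiberwise_of_maps_to
    (g := fun α : Fin 3 → ℤ => ((-α 0 - 1).toNat, (-α 1 - 1).toNat)) (t := Box M)]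
  · refine Finset.sum_congr rfl fun p hp => ?_
    rw [finrank_iSup_eq_sum hI]
    refine Finset.sum_congr ?_ fun _ _ => rfl
    ext α
    simp only [Finset.mem_filter, mem_suppT, sign2c_iff]
    constructor
    · rintro ⟨⟨hne, h0, h1, h2⟩, hp⟩
      have e1 := congrArg Prod.fst hp
      have e2 := congrArg Prod.snd hp
      simp only at e1 e2
      refine ⟨hne, ?_, ?_⟩ <;> omega
    · rintro ⟨hne, h0, h1⟩
      refine ⟨⟨hne, by omega, by omega, ?_⟩, ?_⟩
      · by_contra hc
        push Not at hc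
        apply hne
        apply tPiece_eq_bot_of_allneg hI (by norm_num)
        intro l
        fin_cases l
        · show α 0 < 0; omega
        · show α 1 < 0; omega
        · exact hc
      · exact Prod.ext (by simp only; omega) (by simp only; omega)
  · intro α hα
    rw [Finset.mem_filter, mem_suppT, sign2c_iff] at hα
    obtain ⟨hne, h0, h1, h2⟩ := hα
    unfold Box
    rw [Finset.mem_product, Finset.mem_range, Finset.mem_range]
    constructor
    · by_contra hc
      push Not at hc
      exact hne (tPiece_eq_bot_of_small hI (hM 0) (by simp only at hc; omega))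
    · by_contra hc
      push Not at hc
      exact hne (tPiece_eq_bot_of_small hI (hM 1) (by simp only at hc; omega))

theorem sum_stairZ {M : ℕ} (hM : ∀ a b : ℕ, (M ≤ a ∨ M ≤ b) → stairZ I a b = 0) :
    ∑ p ∈ Box M, stairZ I p.1 p.2 = Module.finrank k (MvPolynomial (Fin 3) k ⧸ I) := by
  classical
  rw [finrank_quot hI]
  have h1 : ∑ p ∈ Box M, stairZ I p.1 p.2 =
      ((Box M).sigma fun p => Finset.range (stairZ I p.1 p.2)).card := by
    rw [Finset.card_sigma]
    simp
  rw [h1]
  refine Finset.card_bij (fun x _ => e3 x.1.1 x.1.2 x.2) ?_ ?_ ?_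
  · intro x hx
    rw [Finset.mem_sigma, Finset.mem_range] at hx
    rw [Set.Finite.mem_toFinset]
    show e3 _ _ _ ∉ exps I
    rw [stairZ_spec hI]
    omega
  · intro x hx y hy h
    have h0 := congrArg (fun f : Fin 3 →₀ ℕ => f 0) h
    have h1 := congrArg (fun f : Fin 3 →₀ ℕ => f 1) h
    have h2 := congrArg (fun f : Fin 3 →₀ ℕ => f 2) h
    simp only [e3_apply0, e3_apply1, e3_apply2] at h0 h1 h2
    obtain ⟨⟨a, b⟩, c⟩ := x
    obtain ⟨⟨a', b'⟩, c'⟩ := y
    simp only at h0 h1 h2
    subst h0
    subst h1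
    subst h2
    rfl
  · intro γ hγ
    rw [Set.Finite.mem_toFinset] at hγ
    have hγ' : γ ∉ exps I := hγ
    have heq : γ = e3 (γ 0) (γ 1) (γ 2) := by
      ext l
      fin_cases l <;> rfl
    rw [heq, stairZ_spec hI] at hγ'
    refine ⟨⟨(γ 0, γ 1), γ 2⟩, ?_, heq.symm⟩
    rw [Finset.mem_sigma, Finset.mem_range]
    refine ⟨?_, by show γ 2 < stairZ I (γ 0) (γ 1); omega⟩
    unfold Box
    rw [Finset.mem_product, Finset.mem_range, Finset.mem_range]
    by_contra hc
    have := hM (γ 0) (γ 1) (by simp only at hc; omega)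
    omega

/-- the `z`-direction of S13433 -/
theorem finrank_sig_z :
    Module.finrank k ↥(sigPiece I {2}) =
      Module.finrank k ↥(sigPiece I ({2}ᶜ : Set (Fin 3))) +
        Module.finrank k (MvPolynomial (Fin 3) k ⧸ I) := by
  classical
  obtain ⟨M, hM⟩ := exists_single_mem_all hI
  have hMz : ∀ a b : ℕ, (M ≤ a ∨ M ≤ b) → stairZ I a b = 0 := by
    intro a b h
    have hz : stairZ I a b ≤ 0 := by
      rw [← stairZ_spec hI]
      rcases h with h | h
      · refine exps_of_le (hM 0) ?_
        intro l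
        by_cases hl : l = 0
        · subst hl
          rw [Finsupp.single_eq_same, e3_apply0]
          exact h
        · rw [Finsupp.single_apply, if_neg (fun h => hl h.symm)]
          exact Nat.zero_le _
      · refine exps_of_le (hM 1) ?_
        intro l
        by_cases hl : l = 1
        · subst hl
          rw [Finsupp.single_eq_same, e3_apply1]
          exact h
        · rw [Finsupp.single_apply, if_neg (fun h => hl h.symm)]
          exact Nat.zero_le _
    omega
  rw [finrank_sigPiece hI {2}, finrank_sigPiece hI ({2}ᶜ : Set (Fin 3)), sum_sig_pos hI hM,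
    sum_sig_neg hI hM, ← sum_stairZ hI hMz, ← Finset.sum_add_distrib]
  refine Finset.sum_congr rfl fun p _ => ?_
  rw [finrank_iSup_A_eq hI p.1 p.2]
  exact Nat.add_comm _ _

/-- **S13433** -/
theorem finrank_sig_singleton (i₀ : Fin 3) :
    Module.finrank k ↥(sigPiece I {i₀}) =
      Module.finrank k ↥(sigPiece I ({i₀}ᶜ : Set (Fin 3))) +
        Module.finrank k (MvPolynomial (Fin 3) k ⧸ I) := by
  set σ : Equiv.Perm (Fin 3) := Equiv.swap i₀ 2 with hσ
  haveI := finite_permI σ hI
  have h := finrank_sig_z (isMonomial_permI σ I)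
  rw [finrank_sigPiece_permI σ hI (by norm_num), finrank_sigPiece_permI σ hI (by norm_num),
    finrank_quot_permI σ hI] at h
  have e1 : σ ⁻¹' {2} = {i₀} := by
    ext i
    simp only [Set.mem_preimage, Set.mem_singleton_iff]
    constructor
    · intro h
      have h' := congrArg σ.symm h
      rw [Equiv.symm_apply_apply] at h'
      rw [h', hσ, Equiv.symm_swap, Equiv.swap_apply_right]
    · rintro rfl
      exact Equiv.swap_apply_left _ _
  have e2 : σ ⁻¹' ({2}ᶜ : Set (Fin 3)) = {i₀}ᶜ := by rw [Set.preimage_compl, e1]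
  rw [e1, e2] at h
  exact h

/-! ### Parity -/

theorem sigPiece_empty : sigPiece I (∅ : Set (Fin 3)) = ⊥ := by
  unfold sigPiece
  rw [iSup_eq_bot]
  rintro ⟨α, hα⟩
  apply tPiece_eq_bot_of_nonneg hI
  intro i
  have := hα i
  simp only [Set.mem_empty_iff_false, iff_false, not_lt] at this
  exact this

theorem sigPiece_univ : sigPiece I (Set.univ : Set (Fin 3)) = ⊥ := by
  unfold sigPiece
  rw [iSup_eq_bot]
  rintro ⟨α, hα⟩
  apply tPiece_eq_bot_of_allneg hI (by norm_num)
  intro i
  exact (hα i).mpr (Set.mem_univ i)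

/-- the set of negative entries -/
def negs (α : Fin 3 → ℤ) : Finset (Fin 3) := Finset.univ.filter fun i => α i < 0

theorem finrank_sigPiece_coe (N : Finset (Fin 3)) :
    Module.finrank k ↥(sigPiece I (↑N : Set (Fin 3))) =
      ∑ α ∈ (suppT hI).filter (fun α => negs α = N), Module.finrank k ↥(tPiece I α) := by
  classical
  rw [finrank_sigPiece hI (↑N : Set (Fin 3))]
  refine Finset.sum_congr ?_ (fun _ _ => rfl)
  ext α
  simp only [Finset.mem_filter]
  refine and_congr Iff.rfl ?_
  unfold negs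
  rw [Finset.ext_iff]
  simp

theorem finrank_Tgt_eq_sum_sig :
    Module.finrank k (Tgt I) =
      ∑ N : Finset (Fin 3), Module.finrank k ↥(sigPiece I (↑N : Set (Fin 3))) := by
  classical
  rw [finrank_Tgt hI, ← Finset.sum_fiberwise_of_maps_to (g := negs) (t := Finset.univ)
    (fun _ _ => Finset.mem_univ _)]
  exact Finset.sum_congr rfl fun N _ => (finrank_sigPiece_coe hI N).symm

/-- **S13437** -/
theorem finrank_Tgt_mod_two :
    Module.finrank k (Tgt I) % 2 = Module.finrank k (MvPolynomial (Fin 3) k ⧸ I) % 2 := by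
  rw [finrank_Tgt_eq_sum_sig hI, univ_finset_fin3]
  rw [Finset.sum_insert (by decide), Finset.sum_insert (by decide), Finset.sum_insert (by decide),
    Finset.sum_insert (by decide), Finset.sum_insert (by decide), Finset.sum_insert (by decide),
    Finset.sum_insert (by decide), Finset.sum_singleton]
  have c0 : ((∅ : Finset (Fin 3)) : Set (Fin 3)) = ∅ := Finset.coe_empty
  have c1 : (({0} : Finset (Fin 3)) : Set (Fin 3)) = {0} := Finset.coe_singleton _
  have c2 : (({1} : Finset (Fin 3)) : Set (Fin 3)) = {1} := Finset.coe_singleton _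
  have c3 : (({2} : Finset (Fin 3)) : Set (Fin 3)) = {2} := Finset.coe_singleton _
  have c4 : (({0, 1} : Finset (Fin 3)) : Set (Fin 3)) = {2}ᶜ := by
    ext i; fin_cases i <;> simp
  have c5 : (({0, 2} : Finset (Fin 3)) : Set (Fin 3)) = {1}ᶜ := by
    ext i; fin_cases i <;> simp
  have c6 : (({1, 2} : Finset (Fin 3)) : Set (Fin 3)) = {0}ᶜ := by
    ext i; fin_cases i <;> simp
  have c7 : (({0, 1, 2} : Finset (Fin 3)) : Set (Fin 3)) = Set.univ := by
    ext i; fin_cases i <;> simp
  rw [c0, c1, c2, c3, c4, c5, c6, c7, sigPiece_empty hI, sigPiece_univ hI,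
    finrank_sig_singleton hI 0, finrank_sig_singleton hI 1, finrank_sig_singleton hI 2]
  rw [finrank_bot]
  omega

end

end Groth.Agent.Lib.Helper44.TgtComp
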