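import Groth.Agent.Lib.Helper44.TgtComp

/-! Vanishing of the graded pieces of `T(I)` of constant sign, and the decomposition of `T(I)`
into graded pieces. (helper44) -/

set_option autoImplicit false
set_option linter.style.haveILetI false
set_option linter.unusedSectionVars false

universe u

namespace Groth.Agent.Lib.Helper44.TgtComp

open W4c1hilbpn MvPolynomial

variable {k : Type u} [Field k] {n : ℕ}

local notation "S" => MvPolynomial (Fin n) k

/-! ### Nonnegative multidegrees -/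

theorem tPiece_eq_bot_of_nonneg {I : Ideal S} (hI : IsMonomial I) {α : Fin n → ℤ}
    (hα : ∀ i, 0 ≤ α i) : tPiece I α = ⊥ := by
  rw [eq_bot_iff]
  intro φ hφ
  rw [Submodule.mem_bot]
  apply tgt_ext hI
  intro β hβ
  rw [LinearMap.zero_apply]
  have hnn : Nonneg (ofN β + α) := by
    intro i
    have := hα i
    simp only [Pi.add_apply, ofN_apply]
    omega
  rw [cf_spec hI hφ hβ hnn]
  have hin : toN (ofN β + α) ∈ exps I := by
    refine exps_of_le hβ ?_
    intro i
    have := hα i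
    simp only [toN_apply, Pi.add_apply, ofN_apply]
    omega
  rw [mk_monomial_eq_zero hin, smul_zero]

/-! ### Moving inside the region -/

theorem uform_mono {I : Ideal S} {α γ γ' : Fin n → ℤ} (h : ∃ β ∈ exps I, γ = ofN β + α)
    (hle : ∀ i, γ i ≤ γ' i) : ∃ β ∈ exps I, γ' = ofN β + α := by
  obtain ⟨β, hβ, rfl⟩ := h
  refine ⟨β + toN (γ' - (ofN β + α)), exps_add hβ _, ?_⟩
  funext i
  have := hle i
  simp only [Pi.add_apply, ofN_apply, Finsupp.add_apply, toN_apply, Pi.sub_apply] at this ⊢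
  push_cast
  rw [Int.toNat_of_nonneg (by omega)]
  ring

theorem region_up {I : Ideal S} {α γ : Fin n → ℤ} (hγ : γ ∈ region I α) (i : Fin n) :
    ∀ t : ℕ, (∀ t' : ℕ, t' ≤ t → ¬ (Nonneg (γ + (t' : ℤ) • ev i) ∧
        toN (γ + (t' : ℤ) • ev i) ∈ exps I)) →
      ∃ h' : γ + (t : ℤ) • ev i ∈ region I α, (RG I α).Reachable ⟨γ, hγ⟩ ⟨_, h'⟩ := by
  intro t
  induction t with
  | zero =>
    intro _
    have h0 : γ + ((0 : ℕ) : ℤ) • ev i = γ := by simp
    refine ⟨by rw [h0]; exact hγ, ?_⟩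
    have : (⟨γ + ((0 : ℕ) : ℤ) • ev i, by rw [h0]; exact hγ⟩ : ↥(region I α)) = ⟨γ, hγ⟩ :=
      Subtype.ext h0
    rw [this]
  | succ t ih =>
    intro h
    obtain ⟨h1, hr⟩ := ih fun t' ht' => h t' (Nat.le_succ_of_le ht')
    have e : γ + ((t + 1 : ℕ) : ℤ) • ev i = (γ + (t : ℤ) • ev i) + ev i := by
      push_cast; rw [add_smul, one_smul, add_assoc]
    have h2 : γ + ((t + 1 : ℕ) : ℤ) • ev i ∈ region I α := by
      rw [e]
      refine region_add_ev h1 i ?_
      rw [← e]
      exact h (t + 1) le_rfl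
    refine ⟨h2, hr.trans (SimpleGraph.Adj.reachable ?_)⟩
    rw [rg_adj]
    show (stepGraph (Fin n)).Adj (γ + (t : ℤ) • ev i) (γ + ((t + 1 : ℕ) : ℤ) • ev i)
    rw [e]
    exact stepGraph_adj_add_ev _ i

theorem exists_mem_exps_up {I : Ideal S} (hI : IsMonomial I) [Module.Finite k (S ⧸ I)]
    {γ : Fin n → ℤ} (hγ : Nonneg γ) (i : Fin n) :
    ∃ t : ℕ, toN (γ + (t : ℤ) • ev i) ∈ exps I := by
  by_contra hcon
  push Not at hcon
  have hfin := finite_compl_exps hI
  refine (Set.infinite_of_injective_forall_mem (f := fun t : ℕ => toN (γ + (t : ℤ) • ev i))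
    ?_ hcon) hfin
  intro t t' h
  have h1 := congrArg (fun b : Fin n →₀ ℕ => b i) h
  simp only [toN_apply, Pi.add_apply, Pi.smul_apply, ev_apply, if_true, smul_eq_mul, mul_one]
    at h1
  have := hγ i
  omega

/-- For an all-negative multidegree every vertex of the region reaches a vertex with a negative
entry. -/
theorem reach_neg_of_allneg {I : Ideal S} (hI : IsMonomial I) [Module.Finite k (S ⧸ I)]
    {α : Fin n → ℤ} (hα : ∀ i, α i < 0) {i j : Fin n} (hij : i ≠ j) :
    ∀ m : ℕ, ∀ v : ↥(region I α), v.1 j < m →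
      ∃ w : ↥(region I α), (RG I α).Reachable v w ∧ ¬ Nonneg w.1 := by
  classical
  intro m
  induction m with
  | zero =>
    intro v hv
    refine ⟨v, SimpleGraph.Reachable.refl _, fun h => ?_⟩
    have := h j
    simp only [Nat.cast_zero] at hv
    omega
  | succ m ih =>
    intro v hv
    by_cases hnn : Nonneg v.1
    swap
    · exact ⟨v, SimpleGraph.Reachable.refl _, hnn⟩
    have hex := exists_mem_exps_up hI hnn i
    have hnnup : ∀ t : ℕ, Nonneg (v.1 + (t : ℤ) • ev i) := by
      intro t l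
      have := hnn l
      simp only [Pi.add_apply, Pi.smul_apply, ev_apply, smul_eq_mul]
      split_ifs <;> simp <;> omega
    set t0 := Nat.find hex with ht0
    have hP : toN (v.1 + (t0 : ℤ) • ev i) ∈ exps I := Nat.find_spec hex
    have hmin : ∀ t : ℕ, t < t0 → toN (v.1 + (t : ℤ) • ev i) ∉ exps I :=
      fun t ht => Nat.find_min hex ht
    have ht0pos : t0 ≠ 0 := by
      intro h0
      rw [h0] at hP
      simp only [Nat.cast_zero, zero_smul, add_zero] at hP
      exact not_nonneg_region v.2 hnn hP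
    obtain ⟨s, hs⟩ := Nat.exists_eq_succ_of_ne_zero ht0pos
    obtain ⟨hδ, hreach⟩ := region_up v.2 i s fun t' ht' h =>
      hmin t' (by omega) h.2
    set δ := v.1 + (s : ℤ) • ev i with hδdef
    have hδnn : Nonneg δ := hnnup s
    have hδout : toN δ ∉ exps I := hmin s (by omega)
    have hδin : toN (δ + ev i) ∈ exps I := by
      have e : v.1 + (t0 : ℤ) • ev i = δ + ev i := by
        rw [hs, hδdef]; push_cast; rw [add_smul, one_smul, add_assoc]
      rwa [e] at hP
    have hδ1nn : Nonneg (δ + ev i) := nonneg_add_ev hδnn i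
    -- the vertex δ - e_j
    have hu : ∃ β ∈ exps I, δ - ev j = ofN β + α := by
      refine uform_mono (γ := ofN (toN (δ + ev i)) + α) ⟨_, hδin, rfl⟩ ?_
      intro l
      rw [ofN_toN hδ1nn]
      have hαl := hα l
      simp only [Pi.add_apply, Pi.sub_apply, ev_apply]
      by_cases hli : l = i
      · subst hli
        rw [if_pos rfl, if_neg hij]
        omega
      · rw [if_neg hli]
        split_ifs <;> omega
    have hw : δ - ev j ∈ region I α := by
      refine ⟨hu, ?_⟩
      rintro ⟨hnn', hin'⟩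
      apply hδout
      have hin'' : toN (δ - ev j) ∈ exps I := hin'
      refine exps_of_le hin'' ?_
      intro l
      rw [toN_apply, toN_apply]
      simp only [Pi.sub_apply, ev_apply]
      split_ifs <;> omega
    have hadj : (RG I α).Adj ⟨δ, hδ⟩ ⟨δ - ev j, hw⟩ := by
      rw [rg_adj]
      have : δ = (δ - ev j) + ev j := by abel
      show (stepGraph (Fin n)).Adj δ (δ - ev j)
      conv_lhs => rw [this]
      exact (stepGraph_adj_add_ev _ j).symm
    have hlt : (δ - ev j) j < m := by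
      have e1 : ev i j = 0 := by rw [ev_apply, if_neg (Ne.symm hij)]
      have e2 : ev j j = 1 := by rw [ev_apply, if_pos rfl]
      rw [hδdef, Pi.sub_apply, Pi.add_apply, Pi.smul_apply, e1, e2, smul_zero, add_zero]
      push_cast at hv
      omega
    obtain ⟨w, hw1, hw2⟩ := ih ⟨δ - ev j, hw⟩ hlt
    exact ⟨w, (hreach.trans hadj.reachable).trans hw1, hw2⟩

theorem tPiece_eq_bot_of_allneg {I : Ideal S} (hI : IsMonomial I) [Module.Finite k (S ⧸ I)]
    (hn : 2 ≤ n) {α : Fin n → ℤ} (hα : ∀ i, α i < 0) : tPiece I α = ⊥ := by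
  haveI : Nontrivial (Fin n) := Fin.nontrivial_iff_two_le.mpr hn
  obtain ⟨i, j, hij⟩ := exists_pair_ne (Fin n)
  have hempty : IsEmpty (BComp I α) := by
    refine ⟨fun b => ?_⟩
    obtain ⟨w, hw1, hw2⟩ := reach_neg_of_allneg hI hα hij ((rep b.1).1 j).toNat.succ (rep b.1)
      (by push_cast; omega)
    have h1 := infinite_supp_of_neg hn w hw2
    rw [← SimpleGraph.ConnectedComponent.sound hw1, mk_rep] at h1
    exact h1 b.2
  rw [eq_bot_iff]
  intro φ hφ
  rw [Submodule.mem_bot]
  have h0 : (0 : Tgt I) ∈ tPiece I α := Submodule.zero_mem _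
  have := Phi_injective hI α (a₁ := ⟨φ, hφ⟩) (a₂ := ⟨0, h0⟩) (by
    funext b
    exact (hempty.false b).elim)
  exact congrArg Subtype.val this


/-! ### The coefficient function of an arbitrary tangent vector is compatible -/

theorem cq_monomial_smul {I : Ideal S} (hI : IsMonomial I) {γ : Fin n →₀ ℕ} (hγ : γ ∉ exps I)
    (δ : Fin n →₀ ℕ) (y : S ⧸ I) :
    cq I γ ((monomial δ (1 : k) : S) • y) = if δ ≤ γ then cq I (γ - δ) y else 0 := by
  classical
  obtain ⟨p, rfl⟩ := Ideal.Quotient.mk_surjective y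
  rw [S_smul_mk, cq_mk hI hγ, coeff_monomial_mul']
  split_ifs with h
  · have hout : γ - δ ∉ exps I := fun h' => hγ (exps_of_le h' tsub_le_self)
    rw [cq_mk hI hout, one_mul]
  · rfl

theorem cq_X_smul {I : Ideal S} (hI : IsMonomial I) {γ : Fin n →₀ ℕ} (i : Fin n)
    (hγ : γ + Finsupp.single i 1 ∉ exps I) (y : S ⧸ I) :
    cq I (γ + Finsupp.single i 1) ((X i : S) • y) = cq I γ y := by
  have h1 := cq_monomial_smul hI hγ (Finsupp.single i 1) y
  rw [if_pos le_add_self, add_tsub_cancel_right] at h1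
  exact h1

theorem cq_X_smul_zero {I : Ideal S} (hI : IsMonomial I) {γ : Fin n →₀ ℕ} (i : Fin n)
    (hγ : γ ∉ exps I) (hi : γ i = 0) (y : S ⧸ I) : cq I γ ((X i : S) • y) = 0 := by
  have h1 := cq_monomial_smul hI hγ (Finsupp.single i 1) y
  rw [if_neg] at h1
  · exact h1
  · intro hle
    have := hle i
    rw [Finsupp.single_eq_same] at this
    omega

theorem compat_cf {I : Ideal S} (hI : IsMonomial I) (α : Fin n → ℤ) (φ : Tgt I) :
    Compat I α (cf I α φ) where
  neg γ _ hneg := cf_of_not_nonneg φ hneg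
  step γ hγ i hγ' := by
    obtain ⟨hb, hbe⟩ := bOf_mem_of_region hγ
    obtain ⟨hb', hbe'⟩ := bOf_mem_of_region hγ'
    have hbeq : bOf α (γ + ev i) = bOf α γ + Finsupp.single i 1 := by
      have h1 : γ + ev i = ofN (bOf α γ + Finsupp.single i 1) + α := by
        rw [ofN_add_single]; conv_lhs => rw [← hbe]
        abel
      conv_lhs => rw [h1]
      rw [bOf_add]
    have hlin : φ ⟨monomial (bOf α (γ + ev i)) 1, hb'⟩ =
        (X i : S) • φ ⟨monomial (bOf α γ) 1, hb⟩ := by
      rw [← map_smul, X_smul_monomial_mem hb i]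
      exact monomial_subtype_congr φ hbeq _ _
    by_cases hnn' : Nonneg (γ + ev i)
    · have hout' : toN (γ + ev i) ∉ exps I := not_nonneg_region hγ' hnn'
      have hc1 : cf I α φ (γ + ev i) =
          cq I (toN (γ + ev i)) (φ ⟨monomial (bOf α (γ + ev i)) 1, hb'⟩) := by
        unfold cf
        rw [dif_pos ⟨hb', hnn', hout'⟩]
      rw [hc1, hlin]
      by_cases hnn : Nonneg γ
      · have hout : toN γ ∉ exps I := not_nonneg_region hγ hnn
        have hc2 : cf I α φ γ = cq I (toN γ) (φ ⟨monomial (bOf α γ) 1, hb⟩) := by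
          unfold cf
          rw [dif_pos ⟨hb, hnn, hout⟩]
        rw [hc2]
        have e : toN (γ + ev i) = toN γ + Finsupp.single i 1 := toN_add_ev hnn i
        rw [e] at hout' ⊢
        exact cq_X_smul hI i hout' _
      · rw [cf_of_not_nonneg φ hnn]
        refine cq_X_smul_zero hI i hout' ?_ _
        -- γ i = -1
        have hi : γ i < 0 := by
          by_contra hge
          apply hnn
          intro l
          by_cases hl : l = i
          · subst hl; omega
          · have := hnn' l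
            simp only [Pi.add_apply, ev_apply, if_neg hl, add_zero] at this
            exact this
        have := hnn' i
        simp only [Pi.add_apply, ev_apply, if_pos rfl] at this
        rw [toN_apply, Pi.add_apply, ev_apply, if_pos rfl]
        omega
    · have hnn : ¬ Nonneg γ := fun h => hnn' (nonneg_add_ev h i)
      rw [cf_of_not_nonneg φ hnn, cf_of_not_nonneg φ hnn']

/-- The homogeneous component of `φ` of multidegree `α`. -/
noncomputable def comp {I : Ideal S} (hI : IsMonomial I) (α : Fin n → ℤ) (φ : Tgt I) : Tgt I :=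
  phiOf hI (compat_cf hI α φ)

theorem comp_mem {I : Ideal S} (hI : IsMonomial I) (α : Fin n → ℤ) (φ : Tgt I) :
    comp hI α φ ∈ tPiece I α := phiOf_mem hI _

/-! ### Finite generation by monomials -/

theorem exists_gen {I : Ideal S} (hI : IsMonomial I) :
    ∃ G : Finset (Fin n →₀ ℕ), (∀ b ∈ G, b ∈ exps I) ∧ ∀ β ∈ exps I, ∃ b ∈ G, b ≤ β := by
  classical
  obtain ⟨T, hT⟩ := (isNoetherianRing_iff_ideal_fg S).mp inferInstance I
  refine ⟨T.biUnion fun p => p.support, ?_, ?_⟩
  · intro b hb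
    rw [Finset.mem_biUnion] at hb
    obtain ⟨p, hp, hbp⟩ := hb
    exact hI p (hT ▸ Ideal.subset_span hp) b hbp
  · intro β hβ
    have hle : I ≤ Ideal.span ((fun s => monomial s (1 : k)) ''
        (↑(T.biUnion fun p => p.support) : Set (Fin n →₀ ℕ))) := by
      rw [← hT, Ideal.span_le]
      intro p hp
      rw [SetLike.mem_coe, mem_ideal_span_monomial_image]
      intro xi hxi
      exact ⟨xi, Finset.mem_coe.mpr (Finset.mem_biUnion.mpr ⟨p, hp, hxi⟩), le_rfl⟩
    have h1 := hle hβ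
    rw [mem_ideal_span_monomial_image] at h1
    have hsupp : β ∈ (monomial β (1 : k)).support := by
      rw [mem_support_iff, coeff_monomial, if_pos rfl]
      exact one_ne_zero
    obtain ⟨b, hb, hle⟩ := h1 β hsupp
    exact ⟨b, Finset.mem_coe.mp hb, hle⟩

/-! ### Expansion in the monomial basis of `S/I` -/

theorem expand {I : Ideal S} (hI : IsMonomial I) [Module.Finite k (S ⧸ I)] (y : S ⧸ I) :
    y = ∑ γ ∈ (finite_compl_exps hI).toFinset,
      cq I γ y • Ideal.Quotient.mk I (monomial γ (1 : k)) := by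
  classical
  obtain ⟨p, rfl⟩ := Ideal.Quotient.mk_surjective y
  have h1 : Ideal.Quotient.mk I p =
      ∑ γ ∈ p.support, coeff γ p • Ideal.Quotient.mk I (monomial γ (1 : k)) := by
    conv_lhs => rw [as_sum p]
    rw [map_sum]
    refine Finset.sum_congr rfl fun γ _ => ?_
    rw [smul_mk, smul_monomial, smul_eq_mul, mul_one]
  rw [h1]
  have h2 : ∑ γ ∈ p.support, coeff γ p • Ideal.Quotient.mk I (monomial γ (1 : k)) =
      ∑ γ ∈ p.support ∪ (finite_compl_exps hI).toFinset,
        (if γ ∈ exps I then 0 else coeff γ p • Ideal.Quotient.mk I (monomial γ (1 : k))) := by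
    rw [← Finset.sum_subset (Finset.subset_union_left)]
    · refine Finset.sum_congr rfl fun γ _ => ?_
      split_ifs with h
      · rw [mk_monomial_eq_zero h, smul_zero]
      · rfl
    · intro γ _ hγ
      split_ifs
      · rfl
      · rw [notMem_support_iff.mp hγ, zero_smul]
  have h3 : ∑ γ ∈ (finite_compl_exps hI).toFinset,
        cq I γ (∑ γ ∈ p.support, coeff γ p • Ideal.Quotient.mk I (monomial γ (1 : k))) •
          Ideal.Quotient.mk I (monomial γ (1 : k)) =
      ∑ γ ∈ p.support ∪ (finite_compl_exps hI).toFinset,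
        (if γ ∈ exps I then 0 else coeff γ p • Ideal.Quotient.mk I (monomial γ (1 : k))) := by
    rw [← h1, ← Finset.sum_subset (Finset.subset_union_right)]
    · refine Finset.sum_congr rfl fun γ hγ => ?_
      have hout : γ ∉ exps I := by
        rw [Set.Finite.mem_toFinset] at hγ
        exact hγ
      rw [if_neg hout, cq_mk hI hout]
    · intro γ _ hγ
      rw [Set.Finite.mem_toFinset] at hγ
      rw [if_pos (not_not.mp hγ)]
  rw [h3, h2]


/-! ### Decomposition into graded pieces -/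

/-- value of the `α`-component of `φ` at `x^β` -/
theorem comp_apply {I : Ideal S} (hI : IsMonomial I) (α : Fin n → ℤ) (φ : Tgt I)
    {β : Fin n →₀ ℕ} (hβ : β ∈ exps I) :
    comp hI α φ ⟨monomial β 1, hβ⟩ = mval I (cf I α φ) (ofN β + α) :=
  phiOf_monomial hI _ hβ

theorem cf_eq_cq {I : Ideal S} (α : Fin n → ℤ) (φ : Tgt I) {β : Fin n →₀ ℕ} (hβ : β ∈ exps I)
    (hnn : Nonneg (ofN β + α)) (hout : toN (ofN β + α) ∉ exps I) :
    cf I α φ (ofN β + α) = cq I (toN (ofN β + α)) (φ ⟨monomial β 1, hβ⟩) := by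
  unfold cf
  rw [dif_pos ⟨by rw [bOf_add]; exact hβ, hnn, hout⟩]
  rw [monomial_subtype_congr φ (bOf_add α β) _ hβ]

theorem comp_apply_of_compl {I : Ideal S} (hI : IsMonomial I) (φ : Tgt I)
    {β : Fin n →₀ ℕ} (hβ : β ∈ exps I) {γ : Fin n →₀ ℕ} (hγ : γ ∉ exps I) :
    comp hI (ofN γ - ofN β) φ ⟨monomial β 1, hβ⟩ =
      cq I γ (φ ⟨monomial β 1, hβ⟩) • Ideal.Quotient.mk I (monomial γ (1 : k)) := by
  rw [comp_apply]
  have e : ofN β + (ofN γ - ofN β) = ofN γ := by abel
  have hnn : Nonneg (ofN β + (ofN γ - ofN β)) := by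
    rw [e]; intro i; simp
  have hout : toN (ofN β + (ofN γ - ofN β)) ∉ exps I := by
    rw [e, toN_ofN]; exact hγ
  unfold mval
  rw [if_pos hnn, cf_eq_cq _ φ hβ hnn hout, e, toN_ofN]

theorem comp_apply_ne_zero {I : Ideal S} (hI : IsMonomial I) (φ : Tgt I) (α : Fin n → ℤ)
    {β : Fin n →₀ ℕ} (hβ : β ∈ exps I) (h : comp hI α φ ⟨monomial β 1, hβ⟩ ≠ 0) :
    ∃ γ, γ ∉ exps I ∧ α = ofN γ - ofN β ∧ cq I γ (φ ⟨monomial β 1, hβ⟩) ≠ 0 := by
  rw [comp_apply] at h
  unfold mval at h
  by_cases hnn : Nonneg (ofN β + α)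
  · rw [if_pos hnn] at h
    by_cases hout : toN (ofN β + α) ∈ exps I
    · rw [mk_monomial_eq_zero hout, smul_zero] at h
      exact absurd rfl h
    · refine ⟨toN (ofN β + α), hout, ?_, ?_⟩
      · rw [ofN_toN hnn]; abel
      · rw [cf_eq_cq _ φ hβ hnn hout] at h
        intro h0
        rw [h0, zero_smul] at h
        exact h rfl
  · rw [if_neg hnn] at h
    exact absurd rfl h

theorem sum_comp {I : Ideal S} (hI : IsMonomial I) [Module.Finite k (S ⧸ I)] (φ : Tgt I) :
    ∃ A : Finset (Fin n → ℤ), φ = ∑ α ∈ A, comp hI α φ := by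
  classical
  obtain ⟨G, hG1, hG2⟩ := exists_gen hI
  set C := (finite_compl_exps hI).toFinset with hC
  have hCmem : ∀ γ, γ ∈ C ↔ γ ∉ exps I := fun γ => by
    rw [hC, Set.Finite.mem_toFinset]; rfl
  set A : Finset (Fin n → ℤ) := (C ×ˢ G).image fun x => ofN x.1 - ofN x.2 with hA
  refine ⟨A, ?_⟩
  apply tgt_ext hI
  intro β hβ
  rw [LinearMap.sum_apply]
  set y := φ ⟨monomial β 1, hβ⟩ with hy
  -- support in A
  have hsuppA : ∀ γ, γ ∉ exps I → cq I γ y ≠ 0 → ofN γ - ofN β ∈ A := by
    intro γ hγ hne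
    obtain ⟨b, hb, hle⟩ := hG2 β hβ
    have hb' : b ∈ exps I := hG1 b hb
    have hmon : (⟨monomial β 1, hβ⟩ : ↥I) = (monomial (β - b) (1 : k) : S) • ⟨monomial b 1, hb'⟩ := by
      apply Subtype.ext
      show monomial β (1 : k) = monomial (β - b) 1 * monomial b 1
      rw [monomial_mul, one_mul, tsub_add_cancel_of_le hle]
    rw [hy, hmon, map_smul, cq_monomial_smul hI hγ] at hne
    split_ifs at hne with hle2
    swap
    · exact absurd rfl hne
    rw [hA, Finset.mem_image]
    refine ⟨(γ - (β - b), b), ?_, ?_⟩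
    · rw [Finset.mem_product]
      refine ⟨?_, hb⟩
      rw [hCmem]
      exact fun h' => hγ (exps_of_le h' tsub_le_self)
    · funext l
      have h1 := hle l
      have h2 := hle2 l
      simp only [Finsupp.tsub_apply] at h2
      simp only [Pi.sub_apply, ofN_apply, Finsupp.tsub_apply]
      omega
  set A' : Finset (Fin n → ℤ) := C.image fun γ => ofN γ - ofN β with hA'
  have hvanish : ∀ α, comp hI α φ ⟨monomial β 1, hβ⟩ ≠ 0 → α ∈ A ∧ α ∈ A' := by
    intro α hne
    obtain ⟨γ, hγ, rfl, hcq⟩ := comp_apply_ne_zero hI φ α hβ hne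
    refine ⟨hsuppA γ hγ hcq, ?_⟩
    rw [hA', Finset.mem_image]
    exact ⟨γ, (hCmem γ).mpr hγ, rfl⟩
  have hsum1 : ∑ α ∈ A, comp hI α φ ⟨monomial β 1, hβ⟩ =
      ∑ α ∈ A ∪ A', comp hI α φ ⟨monomial β 1, hβ⟩ := by
    refine Finset.sum_subset Finset.subset_union_left ?_
    intro α _ hα
    by_contra hne
    exact hα (hvanish α hne).1
  have hsum2 : ∑ α ∈ A', comp hI α φ ⟨monomial β 1, hβ⟩ =
      ∑ α ∈ A ∪ A', comp hI α φ ⟨monomial β 1, hβ⟩ := by
    refine Finset.sum_subset Finset.subset_union_right ?_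
    intro α _ hα
    by_contra hne
    exact hα (hvanish α hne).2
  rw [hsum1, ← hsum2, hA', Finset.sum_image]
  · conv_lhs => rw [expand hI y]
    refine Finset.sum_congr rfl fun γ hγ => ?_
    rw [comp_apply_of_compl hI φ hβ ((hCmem γ).mp hγ)]
  · intro γ _ γ' _ h
    have h1 : ofN γ = ofN γ' := by
      have := congrArg (fun v => v + ofN β) h
      simpa using this
    have := congrArg toN h1
    rwa [toN_ofN, toN_ofN] at this

/-- `T(I)` is the span of its graded pieces. -/
theorem iSup_tPiece {I : Ideal S} (hI : IsMonomial I) [Module.Finite k (S ⧸ I)] :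
    (⨆ α : Fin n → ℤ, tPiece I α) = ⊤ := by
  rw [eq_top_iff]
  intro φ _
  obtain ⟨A, hA⟩ := sum_comp hI φ
  rw [hA]
  refine Submodule.sum_mem _ fun α _ => ?_
  exact Submodule.mem_iSup_of_mem α (comp_mem hI α φ)

/-- `T(I)` is the span of the pieces of non-constant sign pattern. -/
theorem iSup_sigPiece {I : Ideal S} (hI : IsMonomial I) [Module.Finite k (S ⧸ I)] (hn : 2 ≤ n) :
    (⨆ N : {N : Set (Fin n) // N.Nonempty ∧ N ≠ Set.univ}, sigPiece I N.1) = ⊤ := by
  rw [eq_top_iff, ← iSup_tPiece hI]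
  refine iSup_le fun α => ?_
  by_cases h1 : ∀ i, 0 ≤ α i
  · rw [tPiece_eq_bot_of_nonneg hI h1]; exact bot_le
  by_cases h2 : ∀ i, α i < 0
  · rw [tPiece_eq_bot_of_allneg hI hn h2]; exact bot_le
  push Not at h1 h2
  obtain ⟨i1, hi1⟩ := h1
  obtain ⟨i2, hi2⟩ := h2
  have hN : ({i | α i < 0} : Set (Fin n)).Nonempty ∧ ({i | α i < 0} : Set (Fin n)) ≠ Set.univ := by
    refine ⟨⟨i1, hi1⟩, fun h => ?_⟩
    have : i2 ∈ ({i | α i < 0} : Set (Fin n)) := h ▸ Set.mem_univ i2
    exact absurd this (by simp only [Set.mem_setOf_eq]; omega)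
  refine le_trans ?_ (le_iSup (fun N : {N : Set (Fin n) // N.Nonempty ∧ N ≠ Set.univ} =>
    sigPiece I N.1) ⟨_, hN⟩)
  unfold sigPiece
  exact le_iSup (fun α' : {α' : Fin n → ℤ // ∀ i, α' i < 0 ↔ i ∈ ({i | α i < 0} : Set (Fin n))} =>
    tPiece I α'.1) ⟨α, fun i => Iff.rfl⟩

end Groth.Agent.Lib.Helper44.TgtComp
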