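import Groth.Agent.Lib.Helper44.TgtSS3
import Groth.Agent.Lib.Helper44.SliceLA

/-! Three variables: slicing a graded piece of `T(J)` with negative `z`-degree by levels; the
piece embeds into the kernel of a family of path complexes. (helper44) -/

set_option autoImplicit false
set_option linter.style.haveILetI false
set_option linter.unusedSectionVars false

universe u

namespace Groth.Agent.Lib.Helper44.TgtComp

open W4c1hilbpn MvPolynomial Groth.Agent.Lib.Helper44.StairLA Groth.Agent.Lib.Helper44.SliceLA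

variable {k : Type u} [Field k]

/-! ### Generalities on `cf` -/

section general

variable {n : ℕ}

local notation "S" => MvPolynomial (Fin n) k

theorem cf_of_mem_exps {I : Ideal S} {α : Fin n → ℤ} (φ : Tgt I) {γ : Fin n → ℤ}
    (h : toN γ ∈ exps I) : cf I α φ γ = 0 := by
  unfold cf
  rw [dif_neg]
  exact fun h' => h'.2.2 h

theorem cf_zero {I : Ideal S} (hI : IsMonomial I) (α : Fin n → ℤ) (γ : Fin n → ℤ) :
    cf I α (0 : Tgt I) γ = 0 := by
  have := cf_smul hI (α := α) (0 : k) (0 : Tgt I) γ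
  rw [zero_smul, zero_mul] at this
  exact this

theorem not_mem_of_le_top {I : Ideal S} {γ δ : Fin n → ℤ} (hle : ∀ l, γ l ≤ δ l)
    (hδ : toN δ ∉ exps I) : ¬ (Nonneg γ ∧ toN γ ∈ exps I) := by
  rintro ⟨_, h⟩
  apply hδ
  refine exps_of_le h ?_
  intro l
  rw [toN_apply, toN_apply]
  exact Int.toNat_le_toNat (hle l)

/-- `cf` is constant along a straight segment below a point outside `I` -/
theorem cf_up {I : Ideal S} (hI : IsMonomial I) {α : Fin n → ℤ} {φ : Tgt I}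
    (hφ : φ ∈ tPiece I α) {γ : Fin n → ℤ} (hγ : γ ∈ region I α) (i : Fin n) (m : ℕ)
    (htop : toN (γ + (m : ℤ) • ev i) ∉ exps I) :
    cf I α φ (γ + (m : ℤ) • ev i) = cf I α φ γ := by
  obtain ⟨h', hr⟩ := region_up hγ i m (fun m' hm' => not_mem_of_le_top (fun l => by
    simp only [Pi.add_apply, Pi.smul_apply, smul_eq_mul, ev_apply]
    have : (m' : ℤ) ≤ m := by exact_mod_cast hm'
    split_ifs
    · nlinarith
    · simp) htop)
  exact (cf_reachable hI hφ hr).symm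

end general

theorem vec3_add_smul_ev1 (X Y Z : ℤ) (m : ℕ) :
    vec3 X Y Z + (m : ℤ) • ev 1 = vec3 X (Y + m) Z := by
  funext i; fin_cases i <;> simp [ev_apply, vec3]

theorem vec3_add_smul_ev2 (X Y Z : ℤ) (m : ℕ) :
    vec3 X Y Z + (m : ℤ) • ev 2 = vec3 X Y (Z + m) := by
  funext i; fin_cases i <;> simp [ev_apply, vec3]

/-! ### The staircase of the level sets -/

/-- the least `b` with `stairZ J a b ≤ e'` -/
noncomputable def eta (J : Ideal (MvPolynomial (Fin 3) k)) (e' a : ℕ) : ℕ :=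
  sInf {b | stairZ J a b ≤ e'}

section slice

variable {J : Ideal (MvPolynomial (Fin 3) k)} (hJ : IsMonomial J)
  [Module.Finite k (MvPolynomial (Fin 3) k ⧸ J)]

include hJ

theorem eta_spec (e' a b : ℕ) : stairZ J a b ≤ e' ↔ eta J e' a ≤ b := by
  obtain ⟨M, hM⟩ := stairZ_bdd hJ
  have hne : {b | stairZ J a b ≤ e'}.Nonempty :=
    ⟨M, by show stairZ J a M ≤ e'; rw [hM a M (Or.inr le_rfl)]; exact Nat.zero_le _⟩
  constructor
  · intro h
    exact Nat.sInf_le h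
  · intro h
    have hmem : stairZ J a (eta J e' a) ≤ e' := Nat.sInf_mem hne
    exact le_trans (stairZ_anti hJ le_rfl h) hmem

theorem eta_anti (e' a : ℕ) : eta J e' (a + 1) ≤ eta J e' a := by
  rw [← eta_spec hJ]
  exact le_trans (stairZ_anti hJ (Nat.le_succ a) le_rfl) ((eta_spec hJ e' a _).mpr le_rfl)

theorem eta_le {M : ℕ} (hM : ∀ a b : ℕ, (M ≤ a ∨ M ≤ b) → stairZ J a b = 0) (e' a : ℕ) :
    eta J e' a ≤ M := by
  rw [← eta_spec hJ, hM a M (Or.inr le_rfl)]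
  exact Nat.zero_le _

theorem mem_region_slice {s u : ℤ} {t : ℕ} {X Y Z : ℤ} :
    vec3 X Y Z ∈ region J (vec3 s u (-(t : ℤ))) ↔
      (s ≤ X ∧ u ≤ Y ∧ (stairZ J (X - s).toNat (Y - u).toNat : ℤ) ≤ Z + t) ∧
        (X < 0 ∨ Y < 0 ∨ Z < stairZ J X.toNat Y.toNat) := by
  rw [mem_region3 hJ]
  unfold Lo Hi
  simp only [vec3_0, vec3_1, vec3_2]
  constructor
  · rintro ⟨⟨h1, h2, h3⟩, h4⟩
    exact ⟨⟨h1, h2, by omega⟩, h4⟩
  · rintro ⟨⟨h1, h2, h3⟩, h4⟩
    exact ⟨⟨h1, h2, by omega⟩, h4⟩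

theorem toN_vec3_not_mem {X Y Z : ℤ} (hZ : 0 ≤ Z) (h : Z < stairZ J X.toNat Y.toNat) :
    toN (vec3 X Y Z) ∉ exps J := by
  rw [toN_vec3, stairZ_spec hJ]
  omega

/-! ### The vertex points -/

/-- the vertex point of level `e` and position `a` -/
noncomputable def gpt (J : Ideal (MvPolynomial (Fin 3) k)) (s u : ℤ) (t e a : ℕ) : Fin 3 → ℤ :=
  vec3 ((a : ℤ) + s) ((eta J (e + t) a : ℤ) + u) (e : ℤ)

/-- the vertex is present -/
def pres (J : Ideal (MvPolynomial (Fin 3) k)) (s u : ℤ) (t e a : ℕ) : Prop :=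
  0 ≤ (a : ℤ) + s ∧ 0 ≤ (eta J (e + t) a : ℤ) + u ∧
    e < stairZ J ((a : ℤ) + s).toNat ((eta J (e + t) a : ℤ) + u).toNat

/-- the edge is active -/
def act (J : Ideal (MvPolynomial (Fin 3) k)) (s u : ℤ) (t e a : ℕ) : Prop :=
  0 ≤ (a : ℤ) + 1 + s ∧ 0 ≤ (eta J (e + t) a : ℤ) + u ∧
    e < stairZ J ((a : ℤ) + 1 + s).toNat ((eta J (e + t) a : ℤ) + u).toNat

theorem act_pres {s u : ℤ} {t e a : ℕ} (h : act J s u t e a) (hs : 0 ≤ (a : ℤ) + s) :
    pres J s u t e a := by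
  obtain ⟨h1, h2, h3⟩ := h
  refine ⟨hs, h2, lt_of_lt_of_le h3 (stairZ_anti hJ ?_ le_rfl)⟩
  omega

theorem act_pres_succ {s u : ℤ} {t e a : ℕ} (h : act J s u t e a)
    (hy : 0 ≤ (eta J (e + t) (a + 1) : ℤ) + u) : pres J s u t e (a + 1) := by
  obtain ⟨h1, h2, h3⟩ := h
  have hanti := eta_anti hJ (e + t) a
  refine ⟨by push_cast; omega, hy, ?_⟩
  have : ((a + 1 : ℕ) : ℤ) + s = (a : ℤ) + 1 + s := by push_cast; ring
  rw [this]
  exact lt_of_lt_of_le h3 (stairZ_anti hJ le_rfl (by omega))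

theorem gpt_mem_region {s u : ℤ} {t e a : ℕ}
    (h : (a : ℤ) + s < 0 ∨ (eta J (e + t) a : ℤ) + u < 0 ∨
      e < stairZ J ((a : ℤ) + s).toNat ((eta J (e + t) a : ℤ) + u).toNat) :
    gpt J s u t e a ∈ region J (vec3 s u (-(t : ℤ))) := by
  unfold gpt
  rw [mem_region_slice hJ]
  refine ⟨⟨by omega, by omega, ?_⟩, ?_⟩
  · have e1 : ((a : ℤ) + s - s).toNat = a := by
      rw [add_sub_cancel_right, Int.toNat_natCast]
    have e2 : ((eta J (e + t) a : ℤ) + u - u).toNat = eta J (e + t) a := by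
      rw [add_sub_cancel_right, Int.toNat_natCast]
    rw [e1, e2]
    have := (eta_spec hJ (e + t) a _).mpr le_rfl
    exact_mod_cast this
  · rcases h with h | h | h
    · exact Or.inl h
    · exact Or.inr (Or.inl h)
    · exact Or.inr (Or.inr (by exact_mod_cast h))

variable {φ : Tgt J} {s u : ℤ} {t : ℕ}

theorem cf_gpt_of_not_pres (φ : Tgt J) {e a : ℕ} (h : ¬ pres J s u t e a) :
    cf J (vec3 s u (-(t : ℤ))) φ (gpt J s u t e a) = 0 := by
  unfold gpt
  by_cases h1 : 0 ≤ (a : ℤ) + s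
  · by_cases h2 : 0 ≤ (eta J (e + t) a : ℤ) + u
    · apply cf_of_mem_exps
      rw [toN_vec3, stairZ_spec hJ, Int.toNat_natCast]
      unfold pres at h
      push Not at h
      exact h h1 h2
    · apply cf_of_not_nonneg
      rw [nonneg_vec3]
      omega
  · apply cf_of_not_nonneg
    rw [nonneg_vec3]
    omega

theorem cf_gpt_act (hφ : φ ∈ tPiece J (vec3 s u (-(t : ℤ)))) {e a : ℕ}
    (h : act J s u t e a) :
    cf J (vec3 s u (-(t : ℤ))) φ (gpt J s u t e a) =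
      cf J (vec3 s u (-(t : ℤ))) φ (gpt J s u t e (a + 1)) := by
  obtain ⟨h1, h2, h3⟩ := h
  have hanti := eta_anti hJ (e + t) a
  set ea := eta J (e + t) a with hea
  set ea' := eta J (e + t) (a + 1) with hea'
  -- the corner point
  have hlam_out : toN (vec3 ((a : ℤ) + 1 + s) ((ea : ℤ) + u) (e : ℤ)) ∉ exps J :=
    toN_vec3_not_mem hJ (Int.natCast_nonneg e) (by exact_mod_cast h3)
  -- first leg
  have hg1 : gpt J s u t e a ∈ region J (vec3 s u (-(t : ℤ))) := by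
    apply gpt_mem_region hJ
    by_cases hs : (a : ℤ) + s < 0
    · exact Or.inl hs
    · right; right
      exact lt_of_lt_of_le h3 (stairZ_anti hJ (by omega) le_rfl)
  have hlam1 : vec3 ((a : ℤ) + 1 + s) ((ea : ℤ) + u) (e : ℤ) = gpt J s u t e a + ev 0 := by
    unfold gpt
    rw [vec3_add_ev0]
    congr 1
    ring
  have hlam_reg : vec3 ((a : ℤ) + 1 + s) ((ea : ℤ) + u) (e : ℤ) ∈
      region J (vec3 s u (-(t : ℤ))) := by
    rw [mem_region_slice hJ]
    refine ⟨⟨by omega, by omega, ?_⟩, Or.inr (Or.inr (by exact_mod_cast h3))⟩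
    have e1 : ((a : ℤ) + 1 + s - s).toNat = a + 1 := by
      rw [add_sub_cancel_right]
      exact Int.toNat_natCast (a + 1)
    have e2 : ((ea : ℤ) + u - u).toNat = ea := by
      rw [add_sub_cancel_right, Int.toNat_natCast]
    rw [e1, e2]
    have := le_trans (stairZ_anti hJ (Nat.le_succ a) (le_refl ea))
      ((eta_spec hJ (e + t) a _).mpr le_rfl)
    exact_mod_cast this
  have hc1 : cf J (vec3 s u (-(t : ℤ))) φ (vec3 ((a : ℤ) + 1 + s) ((ea : ℤ) + u) (e : ℤ)) =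
      cf J (vec3 s u (-(t : ℤ))) φ (gpt J s u t e a) := by
    rw [hlam1]
    exact cf_add_ev hJ hφ hg1 0 (hlam1 ▸ hlam_reg)
  -- second leg
  have hg2 : gpt J s u t e (a + 1) ∈ region J (vec3 s u (-(t : ℤ))) := by
    apply gpt_mem_region hJ
    by_cases hy : (ea' : ℤ) + u < 0
    · exact Or.inr (Or.inl hy)
    · right; right
      have : ((a + 1 : ℕ) : ℤ) + s = (a : ℤ) + 1 + s := by push_cast; ring
      rw [this]
      exact lt_of_lt_of_le h3 (stairZ_anti hJ le_rfl (by omega))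
  have hlam2 : vec3 ((a : ℤ) + 1 + s) ((ea : ℤ) + u) (e : ℤ) =
      gpt J s u t e (a + 1) + ((ea - ea' : ℕ) : ℤ) • ev 1 := by
    have hcast : ((ea - ea' : ℕ) : ℤ) = (ea : ℤ) - ea' := Nat.cast_sub hanti
    unfold gpt
    rw [vec3_add_smul_ev1, hcast, ← hea']
    congr 1 <;> (push_cast; ring)
  have hc2 : cf J (vec3 s u (-(t : ℤ))) φ (vec3 ((a : ℤ) + 1 + s) ((ea : ℤ) + u) (e : ℤ)) =
      cf J (vec3 s u (-(t : ℤ))) φ (gpt J s u t e (a + 1)) := by
    rw [hlam2]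
    exact cf_up hJ hφ hg2 1 _ (hlam2 ▸ hlam_out)
  rw [← hc1, hc2]

end slice

end Groth.Agent.Lib.Helper44.TgtComp
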