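import Groth.Agent.Lib.Helper44.TgtSlice

/-! Three variables: the graded piece of `T(J)` of multidegree `(s, u, -t)` embeds into the kernel
of the coboundary of a family of path complexes; the resulting dimension count. (helper44) -/

set_option autoImplicit false
set_option linter.style.haveILetI false
set_option linter.unusedSectionVars false

universe u

namespace Groth.Agent.Lib.Helper44.TgtComp

open W4c1hilbpn MvPolynomial Groth.Agent.Lib.Helper44.StairLA Groth.Agent.Lib.Helper44.SliceLA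

variable {k : Type u} [Field k]

section general

variable {n : ℕ}

local notation "S" => MvPolynomial (Fin n) k

theorem eq_zero_of_cf {I : Ideal S} (hI : IsMonomial I) {α : Fin n → ℤ} {φ : Tgt I}
    (hφ : φ ∈ tPiece I α) (h : ∀ γ ∈ region I α, Nonneg γ → cf I α φ γ = 0) : φ = 0 := by
  apply tgt_ext hI
  intro β hβ
  rw [LinearMap.zero_apply]
  by_cases hnn : Nonneg (ofN β + α)
  · rw [cf_spec hI hφ hβ hnn]
    by_cases hin : toN (ofN β + α) ∈ exps I
    · rw [mk_monomial_eq_zero hin, smul_zero]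
    · have hreg : ofN β + α ∈ region I α := mem_region_of hβ fun h => hin h.2
      rw [h _ hreg hnn, zero_smul]
  · exact apply_eq_zero_of_neg hφ hβ hnn

end general

open Classical in
/-- the vertex set -/
noncomputable def Vset (J : Ideal (MvPolynomial (Fin 3) k)) (s u : ℤ) (t m n : ℕ) :
    Finset (ℕ × ℕ) :=
  ((Finset.range m) ×ˢ (Finset.range n)).filter fun v => pres J s u t v.1 v.2

open Classical in
/-- the edge set -/
noncomputable def Eset (J : Ideal (MvPolynomial (Fin 3) k)) (s u : ℤ) (t m n : ℕ) :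
    Finset (ℕ × ℕ) :=
  ((Finset.range m) ×ˢ (Finset.range n)).filter fun v => v.2 + 1 < n ∧ act J s u t v.1 v.2

theorem mem_Vset {J : Ideal (MvPolynomial (Fin 3) k)} {s u : ℤ} {t m n e a : ℕ} :
    (e, a) ∈ Vset J s u t m n ↔ (e < m ∧ a < n) ∧ pres J s u t e a := by
  classical
  unfold Vset
  rw [Finset.mem_filter, Finset.mem_product, Finset.mem_range, Finset.mem_range]

theorem mem_Eset {J : Ideal (MvPolynomial (Fin 3) k)} {s u : ℤ} {t m n e a : ℕ} :
    (e, a) ∈ Eset J s u t m n ↔ (e < m ∧ a < n) ∧ a + 1 < n ∧ act J s u t e a := by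
  classical
  unfold Eset
  rw [Finset.mem_filter, Finset.mem_product, Finset.mem_range, Finset.mem_range]

section slice

variable {J : Ideal (MvPolynomial (Fin 3) k)} (hJ : IsMonomial J)
  [Module.Finite k (MvPolynomial (Fin 3) k ⧸ J)]

include hJ

variable {φ : Tgt J} {s u : ℤ} {t : ℕ}

/-- moving along the `y`-direction to a vertex point -/
theorem cf_eq_cf_gpt (hφ : φ ∈ tPiece J (vec3 s u (-(t : ℤ)))) {X Y : ℤ} {e : ℕ}
    (hX : 0 ≤ X) (hY : 0 ≤ Y) (hreg : vec3 X Y (e : ℤ) ∈ region J (vec3 s u (-(t : ℤ)))) :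
    cf J (vec3 s u (-(t : ℤ))) φ (vec3 X Y (e : ℤ)) =
      cf J (vec3 s u (-(t : ℤ))) φ (gpt J s u t e (X - s).toNat) := by
  rw [mem_region_slice hJ] at hreg
  obtain ⟨⟨h1, h2, h3⟩, h4⟩ := hreg
  have h5 : e < stairZ J X.toNat Y.toNat := by
    rcases h4 with h | h | h
    · omega
    · omega
    · exact_mod_cast h
  set a := (X - s).toNat with ha
  have haX : (a : ℤ) = X - s := Int.toNat_of_nonneg (by omega)
  have h3' : stairZ J a (Y - u).toNat ≤ e + t := by exact_mod_cast h3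
  have h6 : eta J (e + t) a ≤ (Y - u).toNat := (eta_spec hJ (e + t) a _).mp h3'
  have hYu : ((Y - u).toNat : ℤ) = Y - u := Int.toNat_of_nonneg (by omega)
  have hcast : (((Y - u).toNat - eta J (e + t) a : ℕ) : ℤ) = Y - u - eta J (e + t) a := by
    rw [Nat.cast_sub h6, hYu]
  have hpt : vec3 X Y (e : ℤ) =
      gpt J s u t e a + (((Y - u).toNat - eta J (e + t) a : ℕ) : ℤ) • ev 1 := by
    unfold gpt
    rw [vec3_add_smul_ev1, hcast, haX]
    congr 1 <;> ring
  have hXa : (a : ℤ) + s = X := by rw [haX]; ring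
  have hg : gpt J s u t e a ∈ region J (vec3 s u (-(t : ℤ))) := by
    apply gpt_mem_region hJ
    by_cases hy : (eta J (e + t) a : ℤ) + u < 0
    · exact Or.inr (Or.inl hy)
    · right; right
      rw [hXa]
      refine lt_of_lt_of_le h5 (stairZ_anti hJ le_rfl ?_)
      apply Int.toNat_le_toNat
      omega
  have htop : toN (gpt J s u t e a + (((Y - u).toNat - eta J (e + t) a : ℕ) : ℤ) • ev 1) ∉
      exps J := by
    rw [← hpt]
    exact toN_vec3_not_mem hJ (Int.natCast_nonneg e) (by exact_mod_cast h5)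
  rw [hpt]
  exact cf_up hJ hφ hg 1 _ htop

/-- moving down to a lower level -/
theorem cf_level_down (hφ : φ ∈ tPiece J (vec3 s u (-(t : ℤ)))) {X Y Z : ℤ} {e : ℕ}
    (hX : 0 ≤ X) (hY : 0 ≤ Y) (heZ : (e : ℤ) ≤ Z)
    (hreg : vec3 X Y Z ∈ region J (vec3 s u (-(t : ℤ))))
    (hlow : ∀ a b : ℕ, stairZ J a b ≤ e + t) :
    vec3 X Y (e : ℤ) ∈ region J (vec3 s u (-(t : ℤ))) ∧
      cf J (vec3 s u (-(t : ℤ))) φ (vec3 X Y Z) =
        cf J (vec3 s u (-(t : ℤ))) φ (vec3 X Y (e : ℤ)) := by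
  rw [mem_region_slice hJ] at hreg
  obtain ⟨⟨h1, h2, h3⟩, h4⟩ := hreg
  have h5 : Z < stairZ J X.toNat Y.toNat := by
    rcases h4 with h | h | h
    · omega
    · omega
    · exact h
  have hreg' : vec3 X Y (e : ℤ) ∈ region J (vec3 s u (-(t : ℤ))) := by
    rw [mem_region_slice hJ]
    refine ⟨⟨h1, h2, ?_⟩, Or.inr (Or.inr (by omega))⟩
    have := hlow (X - s).toNat (Y - u).toNat
    exact_mod_cast this
  refine ⟨hreg', ?_⟩
  have hcast : ((Z - e).toNat : ℤ) = Z - e := Int.toNat_of_nonneg (by omega)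
  have hpt : vec3 X Y Z = vec3 X Y (e : ℤ) + ((Z - e).toNat : ℤ) • ev 2 := by
    rw [vec3_add_smul_ev2, hcast]
    congr 1
    ring
  have htop : toN (vec3 X Y (e : ℤ) + ((Z - e).toNat : ℤ) • ev 2) ∉ exps J := by
    rw [← hpt]
    exact toN_vec3_not_mem hJ (by omega) h5
  rw [hpt]
  exact cf_up hJ hφ hreg' 2 _ htop

/-- the map from the graded piece to functions on the vertices -/
noncomputable def sliceMap (s u : ℤ) (t m n : ℕ) :
    ↥(tPiece J (vec3 s u (-(t : ℤ)))) →ₗ[k] (↥(Vset J s u t m n) → k) where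
  toFun φ v := cf J (vec3 s u (-(t : ℤ))) φ.1 (gpt J s u t v.1.1 v.1.2)
  map_add' φ ψ := by
    funext v
    rw [Pi.add_apply, Submodule.coe_add, cf_add hJ]
  map_smul' c φ := by
    funext v
    rw [Pi.smul_apply, Submodule.coe_smul, cf_smul hJ, RingHom.id_apply, smul_eq_mul]

theorem sliceMap_apply (m n : ℕ) (φ : ↥(tPiece J (vec3 s u (-(t : ℤ)))))
    (v : ↥(Vset J s u t m n)) :
    sliceMap hJ s u t m n φ v = cf J (vec3 s u (-(t : ℤ))) φ.1 (gpt J s u t v.1.1 v.1.2) := rfl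

theorem extend0_sliceMap {m n : ℕ} (φ : ↥(tPiece J (vec3 s u (-(t : ℤ))))) {e a : ℕ}
    (he : e < m) (ha : a < n) :
    extend0 (Vset J s u t m n) (sliceMap hJ s u t m n φ) (e, a) =
      cf J (vec3 s u (-(t : ℤ))) φ.1 (gpt J s u t e a) := by
  by_cases hv : (e, a) ∈ Vset J s u t m n
  · rw [extend0_mem _ _ hv, sliceMap_apply]
  · rw [extend0_not_mem _ _ hv, cf_gpt_of_not_pres hJ]
    intro hp
    exact hv (mem_Vset.mpr ⟨⟨he, ha⟩, hp⟩)

theorem sliceMap_mem_ker (m n : ℕ) (φ : ↥(tPiece J (vec3 s u (-(t : ℤ))))) :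
    sliceMap hJ s u t m n φ ∈
      LinearMap.ker (Dmat k (Vset J s u t m n) (Eset J s u t m n)).mulVecLin := by
  rw [LinearMap.mem_ker, Matrix.mulVecLin_apply]
  funext ε
  rw [Dmat_mulVec, Pi.zero_apply]
  have hε : (ε.1.1, ε.1.2) ∈ Eset J s u t m n := ε.2
  rw [mem_Eset] at hε
  obtain ⟨⟨he, ha⟩, ha1, hact⟩ := hε
  have h1 : extend0 (Vset J s u t m n) (sliceMap hJ s u t m n φ) ε.1 =
      cf J (vec3 s u (-(t : ℤ))) φ.1 (gpt J s u t ε.1.1 ε.1.2) :=
    extend0_sliceMap hJ φ he ha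
  rw [h1, extend0_sliceMap hJ φ he ha1, cf_gpt_act hJ φ.2 hact, sub_self]

theorem sliceMap_injective {m n M : ℕ}
    (hM : ∀ a b : ℕ, (M ≤ a ∨ M ≤ b) → stairZ J a b = 0)
    (hm : ∀ a b : ℕ, stairZ J a b < m + t) (hm1 : 1 ≤ m)
    (hs : -(M : ℤ) ≤ s) (hn : 2 * M ≤ n) :
    Function.Injective (sliceMap hJ s u t m n) := by
  suffices hker : ∀ φ : ↥(tPiece J (vec3 s u (-(t : ℤ)))), sliceMap hJ s u t m n φ = 0 → φ = 0 by
    intro φ ψ h
    have h0 := hker (φ - ψ) (((sliceMap hJ s u t m n).map_sub φ ψ).trans (by rw [h, sub_self]))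
    exact sub_eq_zero.mp h0
  intro φ hφ0
  have hz : ∀ e a : ℕ, e < m → a < n →
      cf J (vec3 s u (-(t : ℤ))) φ.1 (gpt J s u t e a) = 0 := by
    intro e a he ha
    rw [← extend0_sliceMap hJ φ he ha, hφ0]
    by_cases hv : (e, a) ∈ Vset J s u t m n
    · rw [extend0_mem _ _ hv]; rfl
    · rw [extend0_not_mem _ _ hv]
  apply Subtype.ext
  apply eq_zero_of_cf hJ φ.2
  intro γ hγ hnn
  rw [← vec3_eta γ] at hγ ⊢
  have hX := hnn 0
  have hY := hnn 1
  have hZ := hnn 2
  set X := γ 0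
  set Y := γ 1
  set Z := γ 2
  -- reduce to a level below `m`
  obtain ⟨e, he, hreg, hcf⟩ : ∃ e : ℕ, e < m ∧
      vec3 X Y (e : ℤ) ∈ region J (vec3 s u (-(t : ℤ))) ∧
      cf J (vec3 s u (-(t : ℤ))) φ.1 (vec3 X Y Z) =
        cf J (vec3 s u (-(t : ℤ))) φ.1 (vec3 X Y (e : ℤ)) := by
    by_cases hZm : Z.toNat < m
    · refine ⟨Z.toNat, hZm, ?_, ?_⟩
      · rw [Int.toNat_of_nonneg hZ]; exact hγ
      · rw [Int.toNat_of_nonneg hZ]
    · have hle : ((m - 1 : ℕ) : ℤ) ≤ Z := by omega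
      obtain ⟨h1, h2⟩ := cf_level_down hJ φ.2 hX hY hle hγ (fun a b => by
        have := hm a b
        omega)
      exact ⟨m - 1, by omega, h1, h2⟩
  rw [hcf, cf_eq_cf_gpt hJ φ.2 hX hY hreg]
  apply hz _ _ he
  -- the position is below `n`
  rw [mem_region_slice hJ] at hreg
  obtain ⟨⟨h1, h2, h3⟩, h4⟩ := hreg
  have h5 : e < stairZ J X.toNat Y.toNat := by
    rcases h4 with h | h | h
    · omega
    · omega
    · exact_mod_cast h
  have hXM : X.toNat < M := by
    by_contra hc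
    push Not at hc
    rw [hM _ _ (Or.inl hc)] at h5
    omega
  omega

/-- the dimension count for one multidegree -/
theorem slice_count {m n M : ℕ}
    (hM : ∀ a b : ℕ, (M ≤ a ∨ M ≤ b) → stairZ J a b = 0)
    (hm : ∀ a b : ℕ, stairZ J a b < m + t) (hm1 : 1 ≤ m)
    (hs : -(M : ℤ) ≤ s) (hn : 2 * M ≤ n) :
    Module.finrank k ↥(tPiece J (vec3 s u (-(t : ℤ)))) + (Eset J s u t m n).card ≤
      (Vset J s u t m n).card +
        ((Eset J s u t m n).filter fun ε => (ε.2 : ℤ) + s = -1 ∧ u < 0).card := by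
  have h1 : Module.finrank k ↥(tPiece J (vec3 s u (-(t : ℤ)))) ≤ Module.finrank k
      ↥(LinearMap.ker (Dmat k (Vset J s u t m n) (Eset J s u t m n)).mulVecLin) := by
    let f := LinearMap.codRestrict
      (LinearMap.ker (Dmat k (Vset J s u t m n) (Eset J s u t m n)).mulVecLin)
      (sliceMap hJ s u t m n) (sliceMap_mem_ker hJ m n)
    have hf : Function.Injective f := by
      intro φ ψ h
      apply sliceMap_injective hJ hM hm hm1 hs hn
      exact congrArg Subtype.val h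
    exact LinearMap.finrank_le_finrank_of_injective hf
  have h2 := finrank_ker_le (k := k) (V := Vset J s u t m n) (E := Eset J s u t m n) s u n
    (fun x => 0 ≤ (eta J (x.1 + t) x.2 : ℤ) + u)
    (fun e a hE h0 => by
      rw [mem_Eset] at hE
      exact mem_Vset.mpr ⟨hE.1, act_pres hJ hE.2.2 h0⟩)
    (fun e a hE => by
      rw [mem_Eset] at hE
      have := hE.2.2.1
      omega)
    (fun e a hE hy => by
      rw [mem_Eset] at hE
      exact mem_Vset.mpr ⟨⟨hE.1.1, hE.2.1⟩, act_pres_succ hJ hE.2.2 hy⟩)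
    (fun x hx => by
      have : (0 : ℤ) ≤ (eta J (x.1 + t) x.2 : ℤ) := Int.natCast_nonneg _
      omega)
    (fun e a hE => by
      rw [mem_Eset] at hE
      exact hE.2.1)
  omega

/-- the count when the piece vanishes -/
theorem slice_count_bot {m n : ℕ} :
    (Eset J s u t m n).card ≤
      (Vset J s u t m n).card +
        ((Eset J s u t m n).filter fun ε => (ε.2 : ℤ) + s = -1 ∧ u < 0).card := by
  have h2 := finrank_ker_le (k := k) (V := Vset J s u t m n) (E := Eset J s u t m n) s u n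
    (fun x => 0 ≤ (eta J (x.1 + t) x.2 : ℤ) + u)
    (fun e a hE h0 => by
      rw [mem_Eset] at hE
      exact mem_Vset.mpr ⟨hE.1, act_pres hJ hE.2.2 h0⟩)
    (fun e a hE => by
      rw [mem_Eset] at hE
      have := hE.2.2.1
      omega)
    (fun e a hE hy => by
      rw [mem_Eset] at hE
      exact mem_Vset.mpr ⟨⟨hE.1.1, hE.2.1⟩, act_pres_succ hJ hE.2.2 hy⟩)
    (fun x hx => by
      have : (0 : ℤ) ≤ (eta J (x.1 + t) x.2 : ℤ) := Int.natCast_nonneg _
      omega)
    (fun e a hE => by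
      rw [mem_Eset] at hE
      exact hE.2.1)
  omega

end slice

end Groth.Agent.Lib.Helper44.TgtComp
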