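import Groth.Agent.Lib.Helper44.TgtSlice2
import Groth.Agent.Lib.Helper44.TgtMrSum

/-! Three variables: summing the slice counts; the bound `dim T(I) ≤ (2p+1)·colength` for a
monomial ideal containing `x^p`, and the comparison with `T(m^r)`. (helper44) -/

set_option autoImplicit false
set_option linter.style.haveILetI false
set_option linter.unusedSectionVars false

universe u

namespace Groth.Agent.Lib.Helper44.TgtComp

open W4c1hilbpn MvPolynomial Groth.Agent.Lib.Helper44.StairLA Groth.Agent.Lib.Helper44.SliceLA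

variable {k : Type u} [Field k]

/-! ### Generalities on finite sums -/

theorem sum_card_filter_comm {A B : Type*} (s : Finset A) (r : Finset B) (P : A → B → Prop)
    [∀ a b, Decidable (P a b)] :
    ∑ a ∈ s, (r.filter (fun b => P a b)).card = ∑ b ∈ r, (s.filter (fun a => P a b)).card := by
  simp_rw [Finset.card_filter]
  exact Finset.sum_comm

theorem card_filter_product' {A B : Type*} (s : Finset A) (r : Finset B) (P : A → B → Prop)
    [∀ a b, Decidable (P a b)] :
    ((s ×ˢ r).filter (fun y => P y.1 y.2)).card = ∑ a ∈ s, (r.filter (fun b => P a b)).card := by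
  simp_rw [Finset.card_filter]
  rw [Finset.sum_product]

theorem sum_prod_fst (m n : ℕ) (f : ℕ → ℕ) :
    ∑ x ∈ Finset.range m ×ˢ Finset.range n, f x.1 = n * ∑ e ∈ Finset.range m, f e := by
  rw [Finset.sum_product, Finset.mul_sum]
  refine Finset.sum_congr rfl fun e _ => ?_
  show ∑ _y ∈ Finset.range n, f e = n * f e
  rw [Finset.sum_const, Finset.card_range, smul_eq_mul]

theorem sum_prod_fst' (m n : ℕ) (f : ℕ → ℕ) :
    ∑ x ∈ Finset.range m ×ˢ Finset.range n, (if x.2 + 1 < n then f x.1 else 0) =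
      (n - 1) * ∑ e ∈ Finset.range m, f e := by
  rw [Finset.sum_product, Finset.mul_sum]
  refine Finset.sum_congr rfl fun e _ => ?_
  show ∑ a ∈ Finset.range n, (if a + 1 < n then f e else 0) = (n - 1) * f e
  rw [← Finset.sum_filter, Finset.sum_const, smul_eq_mul]
  congr 1
  have : (Finset.range n).filter (fun a => a + 1 < n) = Finset.range (n - 1) := by
    ext a
    simp only [Finset.mem_filter, Finset.mem_range]
    omega
  rw [this, Finset.card_range]

/-- prefix sums -/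
def pre (D : ℕ → ℕ) (j : ℕ) : ℕ := ∑ e ∈ Finset.range j, D e

theorem sum_AB (D : ℕ → ℕ) (p : ℕ) :
    ∑ i ∈ Finset.range p,
        (pre D (p - i) + ∑ e ∈ Finset.range (p - i), D (e + (i + 1))) = p * pre D (p + 1) := by
  have hB : ∀ i ∈ Finset.range p,
      ∑ e ∈ Finset.range (p - i), D (e + (i + 1)) + pre D (i + 1) = pre D (p + 1) := by
    intro i hi
    rw [Finset.mem_range] at hi
    have h1 := Finset.sum_range_add D (i + 1) (p - i)
    have h2 : i + 1 + (p - i) = p + 1 := by omega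
    rw [h2] at h1
    unfold pre
    rw [h1, add_comm]
    congr 1
    refine Finset.sum_congr rfl fun e _ => ?_
    rw [add_comm]
  have hrefl : ∑ i ∈ Finset.range p, pre D (p - i) = ∑ i ∈ Finset.range p, pre D (i + 1) := by
    rw [← Finset.sum_range_reflect (fun j => pre D (j + 1)) p]
    refine Finset.sum_congr rfl fun i hi => ?_
    rw [Finset.mem_range] at hi
    congr 1
    omega
  have h3 : ∑ i ∈ Finset.range p,
        (pre D (p - i) + ∑ e ∈ Finset.range (p - i), D (e + (i + 1))) +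
      ∑ i ∈ Finset.range p, pre D (i + 1) =
      ∑ i ∈ Finset.range p, pre D (i + 1) + p * pre D (p + 1) := by
    rw [← Finset.sum_add_distrib, ← hrefl]
    have : ∀ i ∈ Finset.range p,
        pre D (p - i) + ∑ e ∈ Finset.range (p - i), D (e + (i + 1)) + pre D (i + 1) =
          pre D (p - i) + pre D (p + 1) := by
      intro i hi
      rw [add_assoc, hB i hi]
    rw [Finset.sum_congr rfl this, Finset.sum_add_distrib, Finset.sum_const, Finset.card_range,
      smul_eq_mul]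
  omega

theorem c3 (n : ℕ) : 6 * Nat.choose (n + 2) 3 = (n + 2) * (n + 1) * n := by
  have := Nat.descFactorial_eq_factorial_mul_choose (n + 2) 3
  simp [Nat.descFactorial_succ, Nat.factorial] at this
  nlinarith [this]

theorem arith_bound {d r p : ℕ} (hdr : d ≤ Nat.choose (r + 2) 3) (hp : 4 * p ≤ 3 * r + 1) :
    (2 * p + 1) * d ≤ Nat.choose (r + 2) 2 * Nat.choose (r + 1) 2 := by
  have h6 := c3 r
  have ha := c2 (r + 1)
  have hb := c2 r
  set A := Nat.choose (r + 2) 2
  set B := Nat.choose (r + 1) 2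
  set C := Nat.choose (r + 2) 3
  have ha' : 2 * A = (r + 2) * (r + 1) := ha
  have e1 : (2 * p + 1) * d ≤ (2 * p + 1) * C := Nat.mul_le_mul_left _ hdr
  have e2 : 2 * (2 * p + 1) ≤ 3 * (r + 1) := by omega
  have e3 : 2 * (2 * p + 1) * ((r + 2) * (r + 1) * r) ≤ 3 * (r + 1) * ((r + 2) * (r + 1) * r) :=
    Nat.mul_le_mul_right _ e2
  have e4 : 12 * (A * B) = 3 * (r + 1) * ((r + 2) * (r + 1) * r) := by
    have : 12 * (A * B) = 3 * ((2 * A) * (2 * B)) := by ring
    rw [this, ha', hb]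
    ring
  have e5 : 12 * ((2 * p + 1) * C) = 2 * (2 * p + 1) * ((r + 2) * (r + 1) * r) := by
    rw [← h6]
    ring
  have e6 : 12 * ((2 * p + 1) * d) ≤ 12 * (A * B) := by
    calc 12 * ((2 * p + 1) * d) ≤ 12 * ((2 * p + 1) * C) := Nat.mul_le_mul_left _ e1
      _ = 2 * (2 * p + 1) * ((r + 2) * (r + 1) * r) := e5
      _ ≤ 3 * (r + 1) * ((r + 2) * (r + 1) * r) := e3
      _ = 12 * (A * B) := e4.symm
  exact Nat.le_of_mul_le_mul_left e6 (by norm_num)

/-! ### The level sets and the boxes -/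

/-- the level set of the staircase -/
noncomputable def Dset (J : Ideal (MvPolynomial (Fin 3) k)) (M e : ℕ) : Finset (ℕ × ℕ) :=
  (Box M).filter fun Q => e < stairZ J Q.1 Q.2

/-- the box of multidegrees -/
noncomputable def Bx (n : ℕ) : Finset (ℤ × ℤ) :=
  Finset.Icc (-(n : ℤ)) n ×ˢ Finset.Icc (-(n : ℤ)) n

theorem mem_Bx {n : ℕ} {α : ℤ × ℤ} :
    α ∈ Bx n ↔ (-(n : ℤ) ≤ α.1 ∧ α.1 ≤ n) ∧ (-(n : ℤ) ≤ α.2 ∧ α.2 ≤ n) := by
  unfold Bx
  rw [Finset.mem_product, Finset.mem_Icc, Finset.mem_Icc]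

theorem single2_eq_e3 (m : ℕ) : Finsupp.single (2 : Fin 3) m = e3 0 0 m := by
  ext l
  rw [Finsupp.single_apply]
  fin_cases l
  · show (if (2 : Fin 3) = 0 then m else 0) = e3 0 0 m 0
    rw [if_neg (by decide)]; rfl
  · show (if (2 : Fin 3) = 1 then m else 0) = e3 0 0 m 1
    rw [if_neg (by decide)]; rfl
  · show (if (2 : Fin 3) = 2 then m else 0) = e3 0 0 m 2
    rw [if_pos rfl]; rfl

section slice

variable {J : Ideal (MvPolynomial (Fin 3) k)} (hJ : IsMonomial J)
  [Module.Finite k (MvPolynomial (Fin 3) k ⧸ J)]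

include hJ

variable {M : ℕ} (hM : ∀ a b : ℕ, (M ≤ a ∨ M ≤ b) → stairZ J a b = 0)

include hM

theorem lt_of_stairZ_pos {a b e : ℕ} (h : e < stairZ J a b) : a < M ∧ b < M := by
  constructor
  · by_contra hc
    push Not at hc
    rw [hM _ _ (Or.inl hc)] at h
    omega
  · by_contra hc
    push Not at hc
    rw [hM _ _ (Or.inr hc)] at h
    omega

theorem mem_Dset {e : ℕ} {Q : ℕ × ℕ} : Q ∈ Dset J M e ↔ e < stairZ J Q.1 Q.2 := by
  unfold Dset Box
  rw [Finset.mem_filter, Finset.mem_product, Finset.mem_range, Finset.mem_range]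
  constructor
  · exact fun h => h.2
  · intro h
    exact ⟨lt_of_stairZ_pos hJ hM h, h⟩

theorem card_pres_le (t e a n : ℕ)
    [DecidablePred fun α : ℤ × ℤ => pres J α.1 α.2 t e a] :
    ((Bx n).filter fun α => pres J α.1 α.2 t e a).card ≤ (Dset J M e).card := by
  refine Finset.card_le_card_of_injOn
    (fun α => (((a : ℤ) + α.1).toNat, ((eta J (e + t) a : ℤ) + α.2).toNat)) ?_ ?_
  · intro α hα
    rw [Finset.mem_coe, Finset.mem_filter] at hα
    rw [Finset.mem_coe, mem_Dset hJ hM]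
    exact hα.2.2.2
  · intro α hα α' hα' h
    rw [Finset.mem_coe, Finset.mem_filter] at hα hα'
    obtain ⟨_, h1, h2, _⟩ := hα
    obtain ⟨_, h1', h2', _⟩ := hα'
    have e1 := congrArg Prod.fst h
    have e2 := congrArg Prod.snd h
    simp only at e1 e2
    apply Prod.ext <;> omega

theorem card_act_ge {n : ℕ} (hMn : M ≤ n) (t e a : ℕ) (ha : a + 1 < n)
    [DecidablePred fun α : ℤ × ℤ => act J α.1 α.2 t e a] :
    (Dset J M e).card ≤ ((Bx n).filter fun α => act J α.1 α.2 t e a).card := by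
  refine Finset.card_le_card_of_injOn
    (fun Q => ((Q.1 : ℤ) - a - 1, (Q.2 : ℤ) - eta J (e + t) a)) ?_ ?_
  · intro Q hQ
    rw [Finset.mem_coe, mem_Dset hJ hM] at hQ
    obtain ⟨hQ1, hQ2⟩ := lt_of_stairZ_pos hJ hM hQ
    have heta := eta_le hJ hM (e + t) a
    rw [Finset.mem_coe, Finset.mem_filter, mem_Bx]
    refine ⟨⟨⟨?_, ?_⟩, ⟨?_, ?_⟩⟩, ?_⟩
    · show -(n : ℤ) ≤ (Q.1 : ℤ) - a - 1
      omega
    · show (Q.1 : ℤ) - a - 1 ≤ n
      omega
    · show -(n : ℤ) ≤ (Q.2 : ℤ) - eta J (e + t) a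
      omega
    · show (Q.2 : ℤ) - eta J (e + t) a ≤ n
      omega
    · show act J ((Q.1 : ℤ) - a - 1) ((Q.2 : ℤ) - eta J (e + t) a) t e a
      unfold act
      have e1 : (a : ℤ) + 1 + ((Q.1 : ℤ) - a - 1) = Q.1 := by ring
      have e2 : (eta J (e + t) a : ℤ) + ((Q.2 : ℤ) - eta J (e + t) a) = Q.2 := by ring
      rw [e1, e2, Int.toNat_natCast, Int.toNat_natCast]
      exact ⟨Int.natCast_nonneg _, Int.natCast_nonneg _, hQ⟩
  · intro Q _ Q' _ h
    have e1 := congrArg Prod.fst h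
    have e2 := congrArg Prod.snd h
    simp only at e1 e2
    apply Prod.ext <;> omega

theorem card_G_le (t e n : ℕ)
    [DecidablePred fun y : ℕ × (ℤ × ℤ) => (y.1 + 1 < n ∧ act J y.2.1 y.2.2 t e y.1) ∧
      ((y.1 : ℤ) + y.2.1 = -1 ∧ y.2.2 < 0)] :
    (((Finset.range n) ×ˢ (Bx n)).filter fun y : ℕ × (ℤ × ℤ) =>
      (y.1 + 1 < n ∧ act J y.2.1 y.2.2 t e y.1) ∧
        ((y.1 : ℤ) + y.2.1 = -1 ∧ y.2.2 < 0)).card ≤ (Dset J M (e + t)).card := by
  refine Finset.card_le_card_of_injOn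
    (fun y : ℕ × (ℤ × ℤ) => (y.1, (-y.2.2 - 1).toNat)) ?_ ?_
  · intro y hy
    rw [Finset.mem_coe, Finset.mem_filter] at hy
    obtain ⟨_, ⟨_, hact⟩, hs, hu⟩ := hy
    rw [Finset.mem_coe, mem_Dset hJ hM]
    show e + t < stairZ J y.1 (-y.2.2 - 1).toNat
    obtain ⟨_, h2, _⟩ := hact
    by_contra hc
    push Not at hc
    have := (eta_spec hJ (e + t) y.1 _).mp hc
    omega
  · intro y hy y' hy' h
    rw [Finset.mem_coe, Finset.mem_filter] at hy hy'
    have e1 := congrArg Prod.fst h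
    have e2 := congrArg Prod.snd h
    simp only at e1 e2
    obtain ⟨_, _, hs, hu⟩ := hy
    obtain ⟨_, _, hs', hu'⟩ := hy'
    apply Prod.ext
    · exact e1
    · apply Prod.ext <;> omega

theorem sum_card_Vset_le (t m n : ℕ) :
    ∑ α ∈ Bx n, (Vset J α.1 α.2 t m n).card ≤
      n * ∑ e ∈ Finset.range m, (Dset J M e).card := by
  classical
  unfold Vset
  rw [sum_card_filter_comm (Bx n) (Finset.range m ×ˢ Finset.range n)
    (fun α v => pres J α.1 α.2 t v.1 v.2)]
  rw [← sum_prod_fst m n (fun e => (Dset J M e).card)]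
  exact Finset.sum_le_sum fun x _ => card_pres_le hJ hM t x.1 x.2 n

theorem sum_card_Eset_ge {n : ℕ} (hMn : M ≤ n) (t m : ℕ) :
    (n - 1) * ∑ e ∈ Finset.range m, (Dset J M e).card ≤
      ∑ α ∈ Bx n, (Eset J α.1 α.2 t m n).card := by
  classical
  unfold Eset
  rw [sum_card_filter_comm (Bx n) (Finset.range m ×ˢ Finset.range n)
    (fun α v => v.2 + 1 < n ∧ act J α.1 α.2 t v.1 v.2)]
  rw [← sum_prod_fst' m n (fun e => (Dset J M e).card)]
  refine Finset.sum_le_sum fun x _ => ?_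
  split_ifs with hx
  · refine le_trans (card_act_ge hJ hM hMn t x.1 x.2 hx) (Finset.card_le_card ?_)
    intro α hα
    rw [Finset.mem_filter] at hα ⊢
    exact ⟨hα.1, hx, hα.2⟩
  · exact Nat.zero_le _

theorem sum_card_Gset_le (t m n : ℕ) :
    ∑ α ∈ Bx n, ((Eset J α.1 α.2 t m n).filter
        fun ε => (ε.2 : ℤ) + α.1 = -1 ∧ α.2 < 0).card ≤
      ∑ e ∈ Finset.range m, (Dset J M (e + t)).card := by
  classical
  unfold Eset
  simp_rw [Finset.filter_filter]
  rw [sum_card_filter_comm (Bx n) (Finset.range m ×ˢ Finset.range n)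
    (fun α v => (v.2 + 1 < n ∧ act J α.1 α.2 t v.1 v.2) ∧ ((v.2 : ℤ) + α.1 = -1 ∧ α.2 < 0))]
  rw [Finset.sum_product]
  refine Finset.sum_le_sum fun e _ => ?_
  rw [← card_filter_product' (Finset.range n) (Bx n)
    (fun a α => (a + 1 < n ∧ act J α.1 α.2 t e a) ∧ ((a : ℤ) + α.1 = -1 ∧ α.2 < 0))]
  exact card_G_le hJ hM t e n

/-- the sum of the dimensions of the pieces of `z`-degree `-t` -/
theorem slice_sum (hMs0 : Finsupp.single (0 : Fin 3) M ∈ exps J) {t m : ℕ}
    (hm : ∀ a b : ℕ, stairZ J a b < m + t) (hm1 : 1 ≤ m) (hM1 : 1 ≤ M) :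
    ∑ α ∈ Bx (2 * M), Module.finrank k ↥(tPiece J (vec3 α.1 α.2 (-(t : ℤ)))) ≤
      ∑ e ∈ Finset.range m, (Dset J M e).card +
        ∑ e ∈ Finset.range m, (Dset J M (e + t)).card := by
  set n := 2 * M with hn
  have h1 : ∀ α ∈ Bx n, Module.finrank k ↥(tPiece J (vec3 α.1 α.2 (-(t : ℤ)))) +
      (Eset J α.1 α.2 t m n).card ≤ (Vset J α.1 α.2 t m n).card +
        ((Eset J α.1 α.2 t m n).filter fun ε => (ε.2 : ℤ) + α.1 = -1 ∧ α.2 < 0).card := by
    intro α _
    by_cases hs : -(M : ℤ) ≤ α.1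
    · exact slice_count hJ hM hm hm1 hs le_rfl
    · have hbot : tPiece J (vec3 α.1 α.2 (-(t : ℤ))) = ⊥ :=
        tPiece_eq_bot_of_small hJ hMs0 (by rw [vec3_0]; omega)
      rw [hbot, finrank_bot, zero_add]
      exact slice_count_bot hJ
  have h2 := Finset.sum_le_sum h1
  rw [Finset.sum_add_distrib, Finset.sum_add_distrib] at h2
  have h3 := sum_card_Vset_le hJ hM t m n
  have h4 := sum_card_Eset_ge hJ hM (by omega : M ≤ n) t m
  have h5 := sum_card_Gset_le hJ hM t m n
  have h6 : n * ∑ e ∈ Finset.range m, (Dset J M e).card =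
      (n - 1) * ∑ e ∈ Finset.range m, (Dset J M e).card +
        ∑ e ∈ Finset.range m, (Dset J M e).card := by
    have : n = (n - 1) + 1 := by omega
    conv_lhs => rw [this]
    ring
  omega

theorem sum_Dset {p : ℕ} (hp : ∀ a b : ℕ, stairZ J a b ≤ p) :
    ∑ e ∈ Finset.range (p + 1), (Dset J M e).card =
      Module.finrank k (MvPolynomial (Fin 3) k ⧸ J) := by
  rw [← sum_stairZ hJ hM]
  unfold Dset
  rw [sum_card_filter_comm (Finset.range (p + 1)) (Box M) (fun e Q => e < stairZ J Q.1 Q.2)]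
  refine Finset.sum_congr rfl fun Q _ => ?_
  have : (Finset.range (p + 1)).filter (fun e => e < stairZ J Q.1 Q.2) =
      Finset.range (stairZ J Q.1 Q.2) := by
    ext e
    simp only [Finset.mem_filter, Finset.mem_range]
    have := hp Q.1 Q.2
    omega
  rw [this, Finset.card_range]

/-- the sum of the dimensions of all pieces of negative `z`-degree in the box -/
theorem sum_neg_le (hMs0 : Finsupp.single (0 : Fin 3) M ∈ exps J) (hM1 : 1 ≤ M) {p : ℕ}
    (hp : ∀ a b : ℕ, stairZ J a b ≤ p) :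
    ∑ i ∈ Finset.range p, ∑ α ∈ Bx (2 * M),
        Module.finrank k ↥(tPiece J (vec3 α.1 α.2 (-((i + 1 : ℕ) : ℤ)))) ≤
      p * Module.finrank k (MvPolynomial (Fin 3) k ⧸ J) := by
  rw [← sum_Dset hJ hM hp]
  have h := sum_AB (fun e => (Dset J M e).card) p
  unfold pre at h
  rw [← h]
  refine Finset.sum_le_sum fun i hi => ?_
  rw [Finset.mem_range] at hi
  exact slice_sum hJ hM hMs0 (t := i + 1) (m := p - i) (fun a b => by
    have := hp a b
    omega) (by omega) hM1

end slice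

section total

variable {I : Ideal (MvPolynomial (Fin 3) k)} (hI : IsMonomial I)
  [Module.Finite k (MvPolynomial (Fin 3) k ⧸ I)]

include hI

/-- the pieces of negative `z`-degree lie in the box -/
theorem sum_suppT_neg_le {M p : ℕ} (hMs : ∀ l : Fin 3, Finsupp.single l M ∈ exps I)
    (hp2 : Finsupp.single (2 : Fin 3) p ∈ exps I) :
    ∑ α ∈ (suppT hI).filter (fun α => α 2 < 0), Module.finrank k ↥(tPiece I α) ≤
      ∑ i ∈ Finset.range p, ∑ α ∈ Bx (2 * M),
        Module.finrank k ↥(tPiece I (vec3 α.1 α.2 (-((i + 1 : ℕ) : ℤ)))) := by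
  classical
  set h : ℕ × (ℤ × ℤ) → (Fin 3 → ℤ) := fun x => vec3 x.2.1 x.2.2 (-((x.1 + 1 : ℕ) : ℤ)) with hh
  have hinj : Set.InjOn h ↑(Finset.range p ×ˢ Bx (2 * M)) := by
    intro x _ y _ hxy
    have e0 := congrFun hxy 0
    have e1 := congrFun hxy 1
    have e2 := congrFun hxy 2
    simp only [hh, vec3_0, vec3_1, vec3_2] at e0 e1 e2
    apply Prod.ext
    · omega
    · exact Prod.ext e0 e1
  have h1 : ∑ i ∈ Finset.range p, ∑ α ∈ Bx (2 * M),
        Module.finrank k ↥(tPiece I (vec3 α.1 α.2 (-((i + 1 : ℕ) : ℤ)))) =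
      ∑ α ∈ (Finset.range p ×ˢ Bx (2 * M)).image h, Module.finrank k ↥(tPiece I α) := by
    rw [Finset.sum_image hinj, Finset.sum_product]
  rw [h1]
  refine Finset.sum_le_sum_of_subset ?_
  intro α hα
  rw [Finset.mem_filter, mem_suppT] at hα
  obtain ⟨hne, hneg⟩ := hα
  have b0 : -(M : ℤ) ≤ α 0 := by
    by_contra hc
    push Not at hc
    exact hne (tPiece_eq_bot_of_small hI (hMs 0) hc)
  have b0' : α 0 < M := by
    by_contra hc
    push Not at hc
    exact hne (tPiece_eq_bot_of_large hI (hMs 0) hc)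
  have b1 : -(M : ℤ) ≤ α 1 := by
    by_contra hc
    push Not at hc
    exact hne (tPiece_eq_bot_of_small hI (hMs 1) hc)
  have b1' : α 1 < M := by
    by_contra hc
    push Not at hc
    exact hne (tPiece_eq_bot_of_large hI (hMs 1) hc)
  have b2 : -(p : ℤ) ≤ α 2 := by
    by_contra hc
    push Not at hc
    exact hne (tPiece_eq_bot_of_small hI hp2 hc)
  rw [Finset.mem_image]
  refine ⟨((-α 2 - 1).toNat, (α 0, α 1)), ?_, ?_⟩
  · rw [Finset.mem_product, Finset.mem_range, mem_Bx]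
    refine ⟨by omega, ⟨?_, ?_⟩, ⟨?_, ?_⟩⟩
    · show -((2 * M : ℕ) : ℤ) ≤ α 0
      push_cast; omega
    · show α 0 ≤ ((2 * M : ℕ) : ℤ)
      push_cast; omega
    · show -((2 * M : ℕ) : ℤ) ≤ α 1
      push_cast; omega
    · show α 1 ≤ ((2 * M : ℕ) : ℤ)
      push_cast; omega
  · show vec3 (α 0) (α 1) (-(((-α 2 - 1).toNat + 1 : ℕ) : ℤ)) = α
    have : (-(((-α 2 - 1).toNat + 1 : ℕ) : ℤ)) = α 2 := by
      push_cast
      omega
    rw [this, vec3_eta]

/-- `dim T(I)` in terms of the pieces of negative `z`-degree -/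
theorem finrank_Tgt_eq_two_mul :
    Module.finrank k (Tgt I) =
      2 * (Module.finrank k ↥(sigPiece I (↑({2} : Finset (Fin 3)) : Set (Fin 3))) +
        Module.finrank k ↥(sigPiece I (↑({0, 2} : Finset (Fin 3)) : Set (Fin 3))) +
        Module.finrank k ↥(sigPiece I (↑({1, 2} : Finset (Fin 3)) : Set (Fin 3)))) +
      Module.finrank k (MvPolynomial (Fin 3) k ⧸ I) := by
  rw [finrank_Tgt_eq_sum_sig hI, univ_finset_fin3]
  rw [Finset.sum_insert (by decide), Finset.sum_insert (by decide), Finset.sum_insert (by decide),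
    Finset.sum_insert (by decide), Finset.sum_insert (by decide), Finset.sum_insert (by decide),
    Finset.sum_insert (by decide), Finset.sum_singleton]
  have c0 : ((∅ : Finset (Fin 3)) : Set (Fin 3)) = ∅ := Finset.coe_empty
  have c1 : (({0} : Finset (Fin 3)) : Set (Fin 3)) = {0} := Finset.coe_singleton _
  have c2 : (({1} : Finset (Fin 3)) : Set (Fin 3)) = {1} := Finset.coe_singleton _
  have c3 : (({2} : Finset (Fin 3)) : Set (Fin 3)) = {2} := Finset.coe_singleton _
  have c4 : (({0, 1} : Finset (Fin 3)) : Set (Fin 3)) = {2}ᶜ := by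
    ext i; fin_cases i <;> simp
  have c5 : (({0, 2} : Finset (Fin 3)) : Set (Fin 3)) = {1}ᶜ := by
    ext i; fin_cases i <;> simp
  have c6 : (({1, 2} : Finset (Fin 3)) : Set (Fin 3)) = {0}ᶜ := by
    ext i; fin_cases i <;> simp
  have c7 : (({0, 1, 2} : Finset (Fin 3)) : Set (Fin 3)) = Set.univ := by
    ext i; fin_cases i <;> simp
  have s0 : Module.finrank k ↥(sigPiece I (↑(∅ : Finset (Fin 3)) : Set (Fin 3))) = 0 := by
    rw [c0, sigPiece_empty hI, finrank_bot]
  have s7 : Module.finrank k ↥(sigPiece I (↑({0, 1, 2} : Finset (Fin 3)) : Set (Fin 3))) = 0 := by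
    rw [c7, sigPiece_univ hI, finrank_bot]
  have s1 : Module.finrank k ↥(sigPiece I (↑({0} : Finset (Fin 3)) : Set (Fin 3))) =
      Module.finrank k ↥(sigPiece I (↑({1, 2} : Finset (Fin 3)) : Set (Fin 3))) +
        Module.finrank k (MvPolynomial (Fin 3) k ⧸ I) := by
    rw [c1, c6, finrank_sig_singleton hI 0]
  have s2 : Module.finrank k ↥(sigPiece I (↑({1} : Finset (Fin 3)) : Set (Fin 3))) =
      Module.finrank k ↥(sigPiece I (↑({0, 2} : Finset (Fin 3)) : Set (Fin 3))) +
        Module.finrank k (MvPolynomial (Fin 3) k ⧸ I) := by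
    rw [c2, c5, finrank_sig_singleton hI 1]
  have s3 : Module.finrank k ↥(sigPiece I (↑({2} : Finset (Fin 3)) : Set (Fin 3))) =
      Module.finrank k ↥(sigPiece I (↑({0, 1} : Finset (Fin 3)) : Set (Fin 3))) +
        Module.finrank k (MvPolynomial (Fin 3) k ⧸ I) := by
    rw [c3, c4, finrank_sig_singleton hI 2]
  omega

theorem sum_sig_neg_le :
    Module.finrank k ↥(sigPiece I (↑({2} : Finset (Fin 3)) : Set (Fin 3))) +
        Module.finrank k ↥(sigPiece I (↑({0, 2} : Finset (Fin 3)) : Set (Fin 3))) +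
        Module.finrank k ↥(sigPiece I (↑({1, 2} : Finset (Fin 3)) : Set (Fin 3))) ≤
      ∑ α ∈ (suppT hI).filter (fun α => α 2 < 0), Module.finrank k ↥(tPiece I α) := by
  classical
  rw [finrank_sigPiece_coe hI, finrank_sigPiece_coe hI, finrank_sigPiece_coe hI]
  rw [Finset.sum_filter, Finset.sum_filter, Finset.sum_filter, Finset.sum_filter,
    ← Finset.sum_add_distrib, ← Finset.sum_add_distrib]
  refine Finset.sum_le_sum fun α _ => ?_
  have hmem : (2 : Fin 3) ∈ negs α ↔ α 2 < 0 := by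
    unfold negs
    simp
  by_cases h2 : α 2 < 0
  · rw [if_pos h2]
    by_cases ha : negs α = {2}
    · rw [if_pos ha, if_neg (by rw [ha]; decide), if_neg (by rw [ha]; decide)]
      omega
    · rw [if_neg ha]
      by_cases hb : negs α = {0, 2}
      · rw [if_pos hb, if_neg (by rw [hb]; decide)]
        omega
      · rw [if_neg hb]
        split_ifs <;> omega
  · have hno : ∀ N : Finset (Fin 3), 2 ∈ N → negs α ≠ N :=
      fun N hN h => h2 (hmem.mp (h ▸ hN))
    rw [if_neg h2, if_neg (hno _ (by decide)), if_neg (hno _ (by decide)),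
      if_neg (hno _ (by decide))]
    omega

/-- the bound for an ideal containing `z^p` -/
theorem finrank_Tgt_le_of_single2 {p : ℕ} (hp2 : Finsupp.single (2 : Fin 3) p ∈ exps I) :
    Module.finrank k (Tgt I) ≤
      (2 * p + 1) * Module.finrank k (MvPolynomial (Fin 3) k ⧸ I) := by
  obtain ⟨M, hM1, hMs, hM⟩ := exists_bound hI 1
  have hstair : ∀ a b : ℕ, stairZ I a b ≤ p := by
    intro a b
    rw [← stairZ_spec hI]
    refine exps_of_le hp2 ?_
    rw [single2_eq_e3]
    exact e3_le_e3 (Nat.zero_le _) (Nat.zero_le _) le_rfl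
  have h1 := finrank_Tgt_eq_two_mul hI
  have h2 := sum_sig_neg_le hI
  have h3 := sum_suppT_neg_le hI hMs hp2
  have h4 := sum_neg_le hI hM (hMs 0) hM1 hstair
  have h5 : (2 * p + 1) * Module.finrank k (MvPolynomial (Fin 3) k ⧸ I) =
      2 * (p * Module.finrank k (MvPolynomial (Fin 3) k ⧸ I)) +
        Module.finrank k (MvPolynomial (Fin 3) k ⧸ I) := by ring
  omega

theorem finrank_Tgt_permI (σ : Equiv.Perm (Fin 3)) :
    Module.finrank k (Tgt (permI σ I)) = Module.finrank k (Tgt I) := by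
  haveI := finite_permI σ hI
  rw [finrank_Tgt (isMonomial_permI σ I), finrank_Tgt hI]
  refine Finset.sum_equiv (pzEquiv σ) ?_ ?_
  · intro α
    rw [mem_suppT, mem_suppT, Ne, Ne, tPiece_permI_eq_bot_iff σ hI (by norm_num)]
    rfl
  · intro α _
    exact finrank_tPiece_permI σ hI (by norm_num) α

/-- the bound for an ideal containing `x^p` -/
theorem finrank_Tgt_le_of_X_pow {p : ℕ} (hx : (X 0 : MvPolynomial (Fin 3) k) ^ p ∈ I) :
    Module.finrank k (Tgt I) ≤
      (2 * p + 1) * Module.finrank k (MvPolynomial (Fin 3) k ⧸ I) := by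
  set σ : Equiv.Perm (Fin 3) := Equiv.swap 0 2 with hσ
  haveI := finite_permI σ hI
  have h1 : Finsupp.single (2 : Fin 3) p ∈ exps (permI σ I) := by
    rw [mem_exps_permI]
    have hpn : pn σ (Finsupp.single (2 : Fin 3) p) = Finsupp.single (0 : Fin 3) p := by
      ext i
      rw [pn_apply]
      fin_cases i <;> simp [hσ, Equiv.swap_apply_def]
    rw [hpn]
    show monomial (Finsupp.single (0 : Fin 3) p) (1 : k) ∈ I
    rw [← X_pow_eq_monomial]
    exact hx
  have h2 := finrank_Tgt_le_of_single2 (isMonomial_permI σ I) h1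
  rw [finrank_Tgt_permI hI σ, finrank_quot_permI σ hI] at h2
  exact h2

/-- **S13446** -/
theorem finrank_Tgt_le_Mr {d r p : ℕ} (hdr : d ≤ Nat.choose (r + 2) 3) (hp : 4 * p ≤ 3 * r + 1)
    (hd : Module.finrank k (MvPolynomial (Fin 3) k ⧸ I) = d)
    (hx : (X 0 : MvPolynomial (Fin 3) k) ^ p ∈ I) :
    Module.finrank k (Tgt I) ≤ Module.finrank k (Tgt (Mr k 3 r)) := by
  rw [finrank_Tgt_Mr]
  have h1 := finrank_Tgt_le_of_X_pow hI hx
  rw [hd] at h1
  exact le_trans h1 (arith_bound hdr hp)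

end total

end Groth.Agent.Lib.Helper44.TgtComp
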