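import Groth.Agent.Lib.Helper44.TgtSum
import Groth.Agent.Lib.Helper44.TgtCol

/-! Tangent vectors `generator ↦ socle monomial`; nonvanishing of pieces with two negative
entries (S13438). (helper44) -/

set_option autoImplicit false
set_option linter.style.haveILetI false
set_option linter.unusedSectionVars false

universe u

namespace Groth.Agent.Lib.Helper44.TgtComp

open W4c1hilbpn MvPolynomial

variable {k : Type u} [Field k] {n : ℕ}

local notation "S" => MvPolynomial (Fin n) k

theorem nonneg_ofN (β : Fin n →₀ ℕ) : Nonneg (ofN β) := fun i => by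
  rw [ofN_apply]; exact Int.natCast_nonneg _

/-- an isolated nonnegative point of the region gives a nonzero tangent vector -/
theorem tPiece_ne_bot_of_isolated {I : Ideal S} (hI : IsMonomial I) {α γ₀ : Fin n → ℤ}
    (h0 : γ₀ ∈ region I α) (hnn : Nonneg γ₀)
    (hup : ∀ i, γ₀ + ev i ∉ region I α) (hdown : ∀ i, γ₀ - ev i ∉ region I α) :
    tPiece I α ≠ ⊥ := by
  classical
  set g : (Fin n → ℤ) → k := fun γ => if γ = γ₀ then 1 else 0 with hg
  have hc : Compat I α g := by
    constructor
    · intro γ hγ i hγi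
      by_cases h1 : γ = γ₀
      · subst h1
        exact absurd hγi (hup i)
      · by_cases h2 : γ + ev i = γ₀
        · exfalso
          apply hdown i
          rw [← h2, add_sub_cancel_right]
          exact hγ
        · simp only [hg, if_neg h1, if_neg h2]
    · intro γ hγ hneg
      simp only [hg]
      rw [if_neg]
      rintro rfl
      exact hneg hnn
  intro hbot
  have hmem := phiOf_mem hI hc
  rw [hbot, Submodule.mem_bot] at hmem
  have h1 := cf_phiOf hI hc h0 hnn
  rw [hmem] at h1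
  have h2 : cf I α (0 : Tgt I) γ₀ = 0 := by
    have := cf_smul hI (α := α) (0 : k) (0 : Tgt I) γ₀
    rw [zero_smul, zero_mul] at this
    exact this
  rw [h2] at h1
  simp [hg] at h1

/-- the tangent vector sending a minimal generator to a socle monomial -/
theorem tPiece_ne_bot_of_socle {I : Ideal S} (hI : IsMonomial I) {g s : Fin n →₀ ℕ}
    (hg : g ∈ exps I) (hgmin : ∀ i, 0 < g i → g - Finsupp.single i 1 ∉ exps I)
    (hs : s ∉ exps I) (hsoc : ∀ i, s + Finsupp.single i 1 ∈ exps I) :
    tPiece I (ofN s - ofN g) ≠ ⊥ := by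
  apply tPiece_ne_bot_of_isolated hI (γ₀ := ofN s)
  · rw [mem_region]
    refine ⟨⟨g, hg, by abel⟩, ?_⟩
    rintro ⟨_, h⟩
    rw [toN_ofN] at h
    exact hs h
  · exact nonneg_ofN s
  · intro i hreg
    rw [mem_region] at hreg
    apply hreg.2
    rw [← ofN_add_single s i]
    refine ⟨nonneg_ofN _, ?_⟩
    rw [toN_ofN]
    exact hsoc i
  · intro i hreg
    rw [mem_region] at hreg
    obtain ⟨⟨β, hβ, hβe⟩, _⟩ := hreg
    have h1 : ∀ l, (β l : ℤ) = (g l : ℤ) - ev i l := by
      intro l
      have := congrFun hβe l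
      simp only [Pi.sub_apply, Pi.add_apply, ofN_apply] at this
      omega
    have hgi : 0 < g i := by
      have := h1 i
      rw [ev_apply, if_pos rfl] at this
      omega
    apply hgmin i hgi
    have : β = g - Finsupp.single i 1 := by
      ext l
      have := h1 l
      rw [ev_apply] at this
      rw [Finsupp.tsub_apply, Finsupp.single_apply]
      by_cases hl : l = i
      · subst hl
        rw [if_pos rfl] at this ⊢
        omega
      · rw [if_neg hl] at this
        rw [if_neg (fun h => hl h.symm)]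
        omega
    rw [← this]
    exact hβ

/-- every monomial outside `I` lies below a socle monomial -/
theorem exists_socle_ge {I : Ideal S} (hI : IsMonomial I) [Module.Finite k (S ⧸ I)]
    {u : Fin n →₀ ℕ} (hu : u ∉ exps I) :
    ∃ s, u ≤ s ∧ s ∉ exps I ∧ ∀ i, s + Finsupp.single i 1 ∈ exps I := by
  have hfin : {s : Fin n →₀ ℕ | u ≤ s ∧ s ∉ exps I}.Finite :=
    (finite_compl_exps hI).subset fun s hs => hs.2
  obtain ⟨s, hs, hmax⟩ := hfin.exists_maximal ⟨u, le_rfl, hu⟩
  refine ⟨s, hs.1, hs.2, fun i => ?_⟩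
  by_contra hcon
  have hle : s ≤ s + Finsupp.single i 1 := le_self_add
  have h2 := hmax (show u ≤ s + Finsupp.single i 1 ∧ s + Finsupp.single i 1 ∉ exps I from
    ⟨le_trans hs.1 hle, hcon⟩) hle
  have h3 := h2 i
  rw [Finsupp.add_apply, Finsupp.single_eq_same] at h3
  omega

theorem fin3_cases : ∀ p q r : Fin 3, p ≠ q → p ≠ r → q ≠ r → ∀ l, l = p ∨ l = q ∨ l = r := by
  decide

/-- the symmetric form of S13438 -/
theorem sigPiece_pair_ne_bot {I : Ideal (MvPolynomial (Fin 3) k)} (hI : IsMonomial I)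
    [Module.Finite k (MvPolynomial (Fin 3) k ⧸ I)] (p q r : Fin 3)
    (hpq : p ≠ q) (hpr : p ≠ r) (hqr : q ≠ r) {G B C : Fin 3 →₀ ℕ}
    (hG : G ∈ exps I) (hGr : G r = 0) (hGp : G - Finsupp.single p 1 ∉ exps I)
    (hGq : G - Finsupp.single q 1 ∉ exps I)
    (hB : B ∈ exps I) (hBq : B q = 0) (hBp : B - Finsupp.single p 1 ∉ exps I)
    (hC : C ∈ exps I) (hCp : C p = 0) (hCq : C - Finsupp.single q 1 ∉ exps I)
    (hle1 : B p ≤ G p) (hle2 : C q ≤ G q) :
    sigPiece I ({p, q} : Set (Fin 3)) ≠ ⊥ := by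
  have all3 := fin3_cases p q r hpq hpr hqr
  have key : ∃ s, s ∉ exps I ∧ (∀ i, s + Finsupp.single i 1 ∈ exps I) ∧ s p < G p ∧ s q < G q := by
    rcases le_total (C r) (B r) with h | h
    · obtain ⟨s, hus, hs, hsoc⟩ := exists_socle_ge hI hBp
      have hur : B r ≤ s r := by
        have := hus r
        rw [Finsupp.tsub_apply, Finsupp.single_apply, if_neg hpr] at this
        simpa using this
      refine ⟨s, hs, hsoc, ?_, ?_⟩
      · by_contra hc
        push Not at hc
        apply hs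
        refine exps_of_le hB ?_
        intro l
        rcases all3 l with rfl | rfl | rfl
        · omega
        · rw [hBq]; exact Nat.zero_le _
        · exact hur
      · by_contra hc
        push Not at hc
        apply hs
        refine exps_of_le hC ?_
        intro l
        rcases all3 l with rfl | rfl | rfl
        · rw [hCp]; exact Nat.zero_le _
        · omega
        · omega
    · obtain ⟨s, hus, hs, hsoc⟩ := exists_socle_ge hI hCq
      have hur : C r ≤ s r := by
        have := hus r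
        rw [Finsupp.tsub_apply, Finsupp.single_apply, if_neg hqr] at this
        simpa using this
      refine ⟨s, hs, hsoc, ?_, ?_⟩
      · by_contra hc
        push Not at hc
        apply hs
        refine exps_of_le hB ?_
        intro l
        rcases all3 l with rfl | rfl | rfl
        · omega
        · rw [hBq]; exact Nat.zero_le _
        · omega
      · by_contra hc
        push Not at hc
        apply hs
        refine exps_of_le hC ?_
        intro l
        rcases all3 l with rfl | rfl | rfl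
        · rw [hCp]; exact Nat.zero_le _
        · omega
        · exact hur
  obtain ⟨s, hs, hsoc, hsp, hsq⟩ := key
  have hne := tPiece_ne_bot_of_socle hI hG (fun i hi => by
    rcases all3 i with rfl | rfl | rfl
    · exact hGp
    · exact hGq
    · omega) hs hsoc
  intro hbot
  apply hne
  rw [eq_bot_iff, ← hbot]
  unfold sigPiece
  refine le_iSup (fun α : {α : Fin 3 → ℤ // ∀ i, α i < 0 ↔ i ∈ ({p, q} : Set (Fin 3))} =>
    tPiece I α.1) ⟨ofN s - ofN G, ?_⟩
  intro i
  rw [Set.mem_insert_iff, Set.mem_singleton_iff, Pi.sub_apply, ofN_apply, ofN_apply]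
  rcases all3 i with rfl | rfl | rfl
  · constructor
    · intro _; exact Or.inl rfl
    · intro _; omega
  · constructor
    · intro _; exact Or.inr rfl
    · intro _; omega
  · constructor
    · intro h; rw [hGr] at h; omega
    · rintro (h | h)
      · exact absurd h.symm hpr
      · exact absurd h.symm hqr

/-! ### Subtracting a unit vector from `e3` -/

theorem e3_sub_single0 (a b c : ℕ) :
    e3 a b c - Finsupp.single (0 : Fin 3) 1 = e3 (a - 1) b c := by
  ext l
  rw [Finsupp.tsub_apply]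
  fin_cases l
  · show e3 a b c 0 - Finsupp.single (0 : Fin 3) 1 0 = e3 (a - 1) b c 0
    rw [Finsupp.single_eq_same]; rfl
  · show e3 a b c 1 - Finsupp.single (0 : Fin 3) 1 1 = e3 (a - 1) b c 1
    rw [Finsupp.single_apply, if_neg (by decide)]; rfl
  · show e3 a b c 2 - Finsupp.single (0 : Fin 3) 1 2 = e3 (a - 1) b c 2
    rw [Finsupp.single_apply, if_neg (by decide)]; rfl

theorem e3_sub_single1 (a b c : ℕ) :
    e3 a b c - Finsupp.single (1 : Fin 3) 1 = e3 a (b - 1) c := by
  ext l
  rw [Finsupp.tsub_apply]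
  fin_cases l
  · show e3 a b c 0 - Finsupp.single (1 : Fin 3) 1 0 = e3 a (b - 1) c 0
    rw [Finsupp.single_apply, if_neg (by decide)]; rfl
  · show e3 a b c 1 - Finsupp.single (1 : Fin 3) 1 1 = e3 a (b - 1) c 1
    rw [Finsupp.single_eq_same]; rfl
  · show e3 a b c 2 - Finsupp.single (1 : Fin 3) 1 2 = e3 a (b - 1) c 2
    rw [Finsupp.single_apply, if_neg (by decide)]; rfl

theorem e3_sub_single2 (a b c : ℕ) :
    e3 a b c - Finsupp.single (2 : Fin 3) 1 = e3 a b (c - 1) := by
  ext l
  rw [Finsupp.tsub_apply]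
  fin_cases l
  · show e3 a b c 0 - Finsupp.single (2 : Fin 3) 1 0 = e3 a b (c - 1) 0
    rw [Finsupp.single_apply, if_neg (by decide)]; rfl
  · show e3 a b c 1 - Finsupp.single (2 : Fin 3) 1 1 = e3 a b (c - 1) 1
    rw [Finsupp.single_apply, if_neg (by decide)]; rfl
  · show e3 a b c 2 - Finsupp.single (2 : Fin 3) 1 2 = e3 a b (c - 1) 2
    rw [Finsupp.single_eq_same]; rfl

/-- **S13438** -/
theorem exists_two_neg {I : Ideal (MvPolynomial (Fin 3) k)} (hI : IsMonomial I)
    [Module.Finite k (MvPolynomial (Fin 3) k ⧸ I)]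
    (a1 a2 b1 b3 c2 c3 : ℕ)
    (hA : e3 a1 a2 0 ∈ exps I ∧ e3 (a1 - 1) a2 0 ∉ exps I ∧ e3 a1 (a2 - 1) 0 ∉ exps I)
    (hB : e3 b1 0 b3 ∈ exps I ∧ e3 (b1 - 1) 0 b3 ∉ exps I ∧ e3 b1 0 (b3 - 1) ∉ exps I)
    (hC : e3 0 c2 c3 ∈ exps I ∧ e3 0 (c2 - 1) c3 ∉ exps I ∧ e3 0 c2 (c3 - 1) ∉ exps I)
    (hcase : (b1 ≤ a1 ∧ c2 ≤ a2) ∨ (a1 ≤ b1 ∧ c3 ≤ b3) ∨ (a2 ≤ c2 ∧ b3 ≤ c3)) :
    sigPiece I ({0, 1} : Set (Fin 3)) ≠ ⊥ ∨ sigPiece I ({0, 2} : Set (Fin 3)) ≠ ⊥ ∨
      sigPiece I ({1, 2} : Set (Fin 3)) ≠ ⊥ := by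
  rcases hcase with h | h | h
  · left
    refine sigPiece_pair_ne_bot hI 0 1 2 (by decide) (by decide) (by decide)
      (G := e3 a1 a2 0) (B := e3 b1 0 b3) (C := e3 0 c2 c3) hA.1 rfl ?_ ?_ hB.1 rfl ?_ hC.1 rfl ?_
      h.1 h.2
    · rw [e3_sub_single0]; exact hA.2.1
    · rw [e3_sub_single1]; exact hA.2.2
    · rw [e3_sub_single0]; exact hB.2.1
    · rw [e3_sub_single1]; exact hC.2.1
  · right; left
    refine sigPiece_pair_ne_bot hI 0 2 1 (by decide) (by decide) (by decide)
      (G := e3 b1 0 b3) (B := e3 a1 a2 0) (C := e3 0 c2 c3) hB.1 rfl ?_ ?_ hA.1 rfl ?_ hC.1 rfl ?_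
      h.1 h.2
    · rw [e3_sub_single0]; exact hB.2.1
    · rw [e3_sub_single2]; exact hB.2.2
    · rw [e3_sub_single0]; exact hA.2.1
    · rw [e3_sub_single2]; exact hC.2.2
  · right; right
    refine sigPiece_pair_ne_bot hI 1 2 0 (by decide) (by decide) (by decide)
      (G := e3 0 c2 c3) (B := e3 a1 a2 0) (C := e3 b1 0 b3) hC.1 rfl ?_ ?_ hA.1 rfl ?_ hB.1 rfl ?_
      h.1 h.2
    · rw [e3_sub_single1]; exact hC.2.1
    · rw [e3_sub_single2]; exact hC.2.2
    · rw [e3_sub_single1]; exact hA.2.2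
    · rw [e3_sub_single2]; exact hB.2.2

end Groth.Agent.Lib.Helper44.TgtComp
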