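import Groth.Agent.Lib.Helper44.TgtSS
import Groth.Agent.Lib.Helper44.TgtSocle

/-! Strongly stable ideals in three variables: `x ∈ I` iff the pieces of `T(I)` with exactly two
negative entries vanish (S13439). (helper44) -/

set_option autoImplicit false
set_option linter.style.haveILetI false
set_option linter.unusedSectionVars false

universe u

namespace Groth.Agent.Lib.Helper44.TgtComp

open W4c1hilbpn MvPolynomial

variable {k : Type u} [Field k]

section general

variable {n : ℕ}

local notation "S" => MvPolynomial (Fin n) k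

/-- For a nonpositive multidegree with two negative entries every vertex of the region reaches a
vertex with a negative entry. -/
theorem reach_neg_of_nonpos {I : Ideal S} (hI : IsMonomial I) [Module.Finite k (S ⧸ I)]
    {α : Fin n → ℤ} (hα : ∀ i, α i ≤ 0) {i j : Fin n} (hij : i ≠ j) (hαi : α i < 0)
    (hαj : α j < 0) :
    ∀ m : ℕ, ∀ v : ↥(region I α), v.1 j < m →
      ∃ w : ↥(region I α), (RG I α).Reachable v w ∧ ¬ Nonneg w.1 := by
  classical
  intro m
  induction m with
  | zero =>
    intro v hv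
    refine ⟨v, SimpleGraph.Reachable.refl _, fun h => ?_⟩
    have := h j
    simp only [Nat.cast_zero] at hv
    omega
  | succ m ih =>
    intro v hv
    by_cases hnn : Nonneg v.1
    swap
    · exact ⟨v, SimpleGraph.Reachable.refl _, hnn⟩
    have hex := exists_mem_exps_up hI hnn i
    have hnnup : ∀ t : ℕ, Nonneg (v.1 + (t : ℤ) • ev i) := by
      intro t l
      have := hnn l
      simp only [Pi.add_apply, Pi.smul_apply, ev_apply, smul_eq_mul]
      split_ifs <;> simp <;> omega
    set t0 := Nat.find hex with ht0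
    have hP : toN (v.1 + (t0 : ℤ) • ev i) ∈ exps I := Nat.find_spec hex
    have hmin : ∀ t : ℕ, t < t0 → toN (v.1 + (t : ℤ) • ev i) ∉ exps I :=
      fun t ht => Nat.find_min hex ht
    have ht0pos : t0 ≠ 0 := by
      intro h0
      rw [h0] at hP
      simp only [Nat.cast_zero, zero_smul, add_zero] at hP
      exact not_nonneg_region v.2 hnn hP
    obtain ⟨s, hs⟩ := Nat.exists_eq_succ_of_ne_zero ht0pos
    obtain ⟨hδ, hreach⟩ := region_up v.2 i s fun t' ht' h =>
      hmin t' (by omega) h.2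
    set δ := v.1 + (s : ℤ) • ev i with hδdef
    have hδnn : Nonneg δ := hnnup s
    have hδout : toN δ ∉ exps I := hmin s (by omega)
    have hδin : toN (δ + ev i) ∈ exps I := by
      have e : v.1 + (t0 : ℤ) • ev i = δ + ev i := by
        rw [hs, hδdef]; push_cast; rw [add_smul, one_smul, add_assoc]
      rwa [e] at hP
    have hδ1nn : Nonneg (δ + ev i) := nonneg_add_ev hδnn i
    -- the vertex δ - e_j
    have hu : ∃ β ∈ exps I, δ - ev j = ofN β + α := by
      refine uform_mono (γ := ofN (toN (δ + ev i)) + α) ⟨_, hδin, rfl⟩ ?_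
      intro l
      rw [ofN_toN hδ1nn]
      have hαl := hα l
      simp only [Pi.add_apply, Pi.sub_apply, ev_apply]
      by_cases hli : l = i
      · subst hli
        rw [if_pos rfl, if_neg hij]
        omega
      · rw [if_neg hli]
        by_cases hlj : l = j
        · subst hlj
          rw [if_pos rfl]
          omega
        · rw [if_neg hlj]
          omega
    have hw : δ - ev j ∈ region I α := by
      refine ⟨hu, ?_⟩
      rintro ⟨hnn', hin'⟩
      apply hδout
      have hin'' : toN (δ - ev j) ∈ exps I := hin'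
      refine exps_of_le hin'' ?_
      intro l
      rw [toN_apply, toN_apply]
      simp only [Pi.sub_apply, ev_apply]
      split_ifs <;> omega
    have hadj : (RG I α).Adj ⟨δ, hδ⟩ ⟨δ - ev j, hw⟩ := by
      rw [rg_adj]
      have : δ = (δ - ev j) + ev j := by abel
      show (stepGraph (Fin n)).Adj δ (δ - ev j)
      conv_lhs => rw [this]
      exact (stepGraph_adj_add_ev _ j).symm
    have hlt : (δ - ev j) j < m := by
      have e1 : ev i j = 0 := by rw [ev_apply, if_neg (Ne.symm hij)]
      have e2 : ev j j = 1 := by rw [ev_apply, if_pos rfl]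
      rw [hδdef, Pi.sub_apply, Pi.add_apply, Pi.smul_apply, e1, e2, smul_zero, add_zero]
      push_cast at hv
      omega
    obtain ⟨w, hw1, hw2⟩ := ih ⟨δ - ev j, hw⟩ hlt
    exact ⟨w, (hreach.trans hadj.reachable).trans hw1, hw2⟩

theorem tPiece_eq_bot_of_nonpos {I : Ideal S} (hI : IsMonomial I) [Module.Finite k (S ⧸ I)]
    {α : Fin n → ℤ} (hα : ∀ i, α i ≤ 0) {i j : Fin n} (hij : i ≠ j) (hαi : α i < 0)
    (hαj : α j < 0) : tPiece I α = ⊥ := by
  have hn : 2 ≤ n := by
    haveI : Nontrivial (Fin n) := ⟨⟨i, j, hij⟩⟩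
    exact Fin.nontrivial_iff_two_le.mp inferInstance
  have hempty : IsEmpty (BComp I α) := by
    refine ⟨fun b => ?_⟩
    obtain ⟨w, hw1, hw2⟩ := reach_neg_of_nonpos hI hα hij hαi hαj
      ((rep b.1).1 j).toNat.succ (rep b.1) (by push_cast; omega)
    have h1 := infinite_supp_of_neg hn w hw2
    rw [← SimpleGraph.ConnectedComponent.sound hw1, mk_rep] at h1
    exact h1 b.2
  rw [eq_bot_iff]
  intro φ hφ
  rw [Submodule.mem_bot]
  have h0 : (0 : Tgt I) ∈ tPiece I α := Submodule.zero_mem _
  have := Phi_injective hI α (a₁ := ⟨φ, hφ⟩) (a₂ := ⟨0, h0⟩) (by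
    funext b
    exact (hempty.false b).elim)
  exact congrArg Subtype.val this

/-- a pure power `x_l^m ∈ I`, `α l ≤ -m` and another negative entry force the piece to vanish -/
theorem tPiece_eq_bot_of_small' {I : Ideal S} (hI : IsMonomial I) {α : Fin n → ℤ} {l j : Fin n}
    {m : ℕ} (hm : Finsupp.single l m ∈ exps I) (hα : α l ≤ -(m : ℤ)) (hjl : j ≠ l)
    (hαj : α j < 0) : tPiece I α = ⊥ := by
  rw [eq_bot_iff]
  intro φ hφ
  rw [Submodule.mem_bot]
  apply tgt_ext hI
  intro β hβ
  rw [LinearMap.zero_apply]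
  by_cases hnn : Nonneg (ofN β + α)
  · have hle : Finsupp.single l m ≤ β := by
      intro l'
      by_cases hl : l' = l
      · subst hl
        have := hnn l'
        rw [Pi.add_apply, ofN_apply] at this
        rw [Finsupp.single_eq_same]
        omega
      · rw [Finsupp.single_apply, if_neg (fun h => hl h.symm)]
        exact Nat.zero_le _
    have hmon : (⟨monomial β 1, hβ⟩ : ↥I) =
        (monomial (β - Finsupp.single l m) (1 : k) : S) •
          ⟨monomial (Finsupp.single l m) 1, hm⟩ := by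
      apply Subtype.ext
      show monomial β (1 : k) =
        monomial (β - Finsupp.single l m) 1 * monomial (Finsupp.single l m) 1
      rw [monomial_mul, one_mul, tsub_add_cancel_of_le hle]
    rw [hmon, map_smul, apply_eq_zero_of_neg hφ hm, smul_zero]
    intro hcon
    have := hcon j
    rw [Pi.add_apply, ofN_apply, Finsupp.single_apply, if_neg (fun h => hjl h.symm)] at this
    simp only [Nat.cast_zero, zero_add] at this
    omega
  · exact apply_eq_zero_of_neg hφ hβ hnn

end general

theorem e3_xz (a b c : ℕ) :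
    e3 a b (c + 1) - Finsupp.single (2 : Fin 3) 1 + Finsupp.single (0 : Fin 3) 1 =
      e3 (a + 1) b c := by
  ext l
  rw [Finsupp.add_apply, Finsupp.tsub_apply, Finsupp.single_apply, Finsupp.single_apply]
  fin_cases l
  · show e3 a b (c + 1) 0 - (if (2 : Fin 3) = 0 then 1 else 0) +
      (if (0 : Fin 3) = 0 then 1 else 0) = e3 (a + 1) b c 0
    rw [if_neg (by decide), if_pos rfl]
    rfl
  · show e3 a b (c + 1) 1 - (if (2 : Fin 3) = 1 then 1 else 0) +
      (if (0 : Fin 3) = 1 then 1 else 0) = e3 (a + 1) b c 1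
    rw [if_neg (by decide), if_neg (by decide)]
    rfl
  · show e3 a b (c + 1) 2 - (if (2 : Fin 3) = 2 then 1 else 0) +
      (if (0 : Fin 3) = 2 then 1 else 0) = e3 (a + 1) b c 2
    rw [if_pos rfl, if_neg (by decide)]
    rfl

theorem single0_eq_e3 (m : ℕ) : Finsupp.single (0 : Fin 3) m = e3 m 0 0 := by
  ext l
  rw [Finsupp.single_apply]
  fin_cases l
  · show (if (0 : Fin 3) = 0 then m else 0) = e3 m 0 0 0
    rw [if_pos rfl]; rfl
  · show (if (0 : Fin 3) = 1 then m else 0) = e3 m 0 0 1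
    rw [if_neg (by decide)]; rfl
  · show (if (0 : Fin 3) = 2 then m else 0) = e3 m 0 0 2
    rw [if_neg (by decide)]; rfl

section ss

variable {I : Ideal (MvPolynomial (Fin 3) k)} (hI : IsStronglyStable I)
  [Module.Finite k (MvPolynomial (Fin 3) k ⧸ I)]

include hI

theorem X0_mem_iff : (X 0 : MvPolynomial (Fin 3) k) ∈ I ↔ e3 1 0 0 ∈ exps I := by
  rw [← single0_eq_e3]
  rfl

/-- the vanishing direction -/
theorem two_neg_eq_bot_of_X0 (hx : (X 0 : MvPolynomial (Fin 3) k) ∈ I) :
    sigPiece I ({1, 2} : Set (Fin 3)) = ⊥ ∧ sigPiece I ({0, 2} : Set (Fin 3)) = ⊥ ∧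
      sigPiece I ({0, 1} : Set (Fin 3)) = ⊥ := by
  have hm : Finsupp.single (0 : Fin 3) 1 ∈ exps I := hx
  refine ⟨?_, ?_, ?_⟩
  · unfold sigPiece
    rw [iSup_eq_bot]
    rintro ⟨α, hα⟩
    have h0 : ¬ α 0 < 0 := fun h => by
      have := (hα 0).mp h
      simp at this
    have h1 : α 1 < 0 := (hα 1).mpr (by simp)
    have h2 : α 2 < 0 := (hα 2).mpr (by simp)
    by_cases h : 1 ≤ α 0
    · exact tPiece_eq_bot_of_large hI.1 hm (by simpa using h)
    · refine tPiece_eq_bot_of_nonpos hI.1 ?_ (i := 1) (j := 2) (by decide) h1 h2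
      intro l
      fin_cases l
      · show α 0 ≤ 0; omega
      · show α 1 ≤ 0; omega
      · show α 2 ≤ 0; omega
  · unfold sigPiece
    rw [iSup_eq_bot]
    rintro ⟨α, hα⟩
    have h0 : α 0 < 0 := (hα 0).mpr (by simp)
    have h2 : α 2 < 0 := (hα 2).mpr (by simp)
    exact tPiece_eq_bot_of_small' hI.1 hm (by push_cast; omega) (j := 2) (by decide) h2
  · unfold sigPiece
    rw [iSup_eq_bot]
    rintro ⟨α, hα⟩
    have h0 : α 0 < 0 := (hα 0).mpr (by simp)
    have h1 : α 1 < 0 := (hα 1).mpr (by simp)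
    exact tPiece_eq_bot_of_small' hI.1 hm (by push_cast; omega) (j := 1) (by decide) h1

/-- the nonvanishing direction -/
theorem two_neg_ne_bot_of_not_X0 (hx : (X 0 : MvPolynomial (Fin 3) k) ∉ I) :
    sigPiece I ({0, 1} : Set (Fin 3)) ≠ ⊥ ∨ sigPiece I ({0, 2} : Set (Fin 3)) ≠ ⊥ ∨
      sigPiece I ({1, 2} : Set (Fin 3)) ≠ ⊥ := by
  classical
  rw [X0_mem_iff hI] at hx
  have hxy := xy_of_ss hI
  have hyz := yz_of_ss hI
  have hxz : ∀ β ∈ exps I, 0 < β 2 →
      β - Finsupp.single 2 1 + Finsupp.single 0 1 ∈ exps I :=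
    fun β hβ h => hI.2 β hβ 0 2 (by decide) h
  obtain ⟨M, hM⟩ := exists_single_mem_all hI.1
  -- the least pure power of `x`
  have hexA : ∃ A, e3 A 0 0 ∈ exps I := ⟨M, by rw [← single0_eq_e3]; exact hM 0⟩
  set A := Nat.find hexA with hAdef
  have hA1 : e3 A 0 0 ∈ exps I := Nat.find_spec hexA
  have hAmin : ∀ a, a < A → e3 a 0 0 ∉ exps I := fun a ha => Nat.find_min hexA ha
  have hA2 : 2 ≤ A := by
    by_contra hc
    push Not at hc
    apply hx
    exact exps_of_le hA1 (e3_le_e3 (by omega) le_rfl le_rfl)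
  -- the generator `x^(A-1) y^λ`
  have hexL : ∃ l, e3 (A - 1) l 0 ∈ exps I := by
    refine ⟨M, exps_of_le (hM 1) ?_⟩
    intro l
    rw [Finsupp.single_apply]
    split_ifs with h
    · subst h; exact le_of_eq (e3_apply1 _ _ _).symm
    · exact Nat.zero_le _
  set L := Nat.find hexL with hLdef
  have hL1 : e3 (A - 1) L 0 ∈ exps I := Nat.find_spec hexL
  have hLmin : ∀ l, l < L → e3 (A - 1) l 0 ∉ exps I := fun l hl => Nat.find_min hexL hl
  have hLpos : 1 ≤ L := by
    by_contra hc
    have h0 : L = 0 := by omega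
    rw [h0] at hL1
    exact hAmin (A - 1) (by omega) hL1
  -- the generator `x^(A-1) z^μ`
  have hexU : ∃ u, e3 (A - 1) 0 u ∈ exps I := by
    refine ⟨M, exps_of_le (hM 2) ?_⟩
    intro l
    rw [Finsupp.single_apply]
    split_ifs with h
    · subst h; exact le_of_eq (e3_apply2 _ _ _).symm
    · exact Nat.zero_le _
  set U := Nat.find hexU with hUdef
  have hU1 : e3 (A - 1) 0 U ∈ exps I := Nat.find_spec hexU
  have hUmin : ∀ u, u < U → e3 (A - 1) 0 u ∉ exps I := fun u hu => Nat.find_min hexU hu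
  have hUpos : 1 ≤ U := by
    by_contra hc
    have h0 : U = 0 := by omega
    rw [h0] at hU1
    exact hAmin (A - 1) (by omega) hU1
  -- the generator `y z^ν`
  have hexV : ∃ v, e3 0 1 v ∈ exps I := by
    refine ⟨M, exps_of_le (hM 2) ?_⟩
    intro l
    rw [Finsupp.single_apply]
    split_ifs with h
    · subst h; exact le_of_eq (e3_apply2 _ _ _).symm
    · exact Nat.zero_le _
  set V := Nat.find hexV with hVdef
  have hV1 : e3 0 1 V ∈ exps I := Nat.find_spec hexV
  have hVmin : ∀ v, v < V → e3 0 1 v ∉ exps I := fun v hv => Nat.find_min hexV hv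
  have hVpos : 1 ≤ V := by
    by_contra hc
    have h0 : V = 0 := by omega
    rw [h0] at hV1
    apply hx
    have := hxy _ hV1 (by rw [e3_apply1]; omega)
    rwa [e3_xy] at this
  refine exists_two_neg hI.1 (A - 1) L (A - 1) U 1 V ⟨hL1, ?_, hLmin _ (by omega)⟩
    ⟨hU1, ?_, hUmin _ (by omega)⟩ ⟨hV1, ?_, hVmin _ (by omega)⟩ (Or.inl ⟨le_rfl, hLpos⟩)
  · intro hcon
    have h1 : e3 (A - 1 - 1) (L - 1 + 1) 0 ∈ exps I := by
      rwa [Nat.sub_add_cancel hLpos]
    have h2 := hxy _ h1 (by rw [e3_apply1]; omega)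
    rw [e3_xy, show A - 1 - 1 + 1 = A - 1 from by omega] at h2
    exact hLmin _ (by omega) h2
  · intro hcon
    have h1 : e3 (A - 1 - 1) 0 (U - 1 + 1) ∈ exps I := by
      rwa [Nat.sub_add_cancel hUpos]
    have h2 := hxz _ h1 (by rw [e3_apply2]; omega)
    rw [e3_xz, show A - 1 - 1 + 1 = A - 1 from by omega] at h2
    exact hUmin _ (by omega) h2
  · intro hcon
    have h1 : e3 0 0 (V - 1 + 1) ∈ exps I := by
      rw [Nat.sub_add_cancel hVpos]
      exact hcon
    have h2 := hyz _ h1 (by rw [e3_apply2]; omega)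
    rw [e3_yz] at h2
    exact hVmin _ (by omega) h2

/-- **S13439** -/
theorem X0_mem_iff_two_neg :
    (X 0 : MvPolynomial (Fin 3) k) ∈ I ↔
      (sigPiece I ({1, 2} : Set (Fin 3)) = ⊥ ∧ sigPiece I ({0, 2} : Set (Fin 3)) = ⊥ ∧
        sigPiece I ({0, 1} : Set (Fin 3)) = ⊥) := by
  constructor
  · exact two_neg_eq_bot_of_X0 hI
  · rintro ⟨h12, h02, h01⟩
    by_contra hx
    rcases two_neg_ne_bot_of_not_X0 hI hx with h | h | h
    · exact h h01
    · exact h h02
    · exact h h12

end ss

end Groth.Agent.Lib.Helper44.TgtComp
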