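import Groth.Agent.Lib.Helper44.TgtCol
import Groth.Agent.Lib.Helper44.StairLA

/-! Three variables: the graded pieces of multidegrees `(i, j, -c-1)` and `(-i-1, -j-1, c)` in terms
of the planar staircase spaces `Wc`, `Wc'`. (helper44) -/

set_option autoImplicit false
set_option linter.style.haveILetI false
set_option linter.unusedSectionVars false

universe u

namespace Groth.Agent.Lib.Helper44.TgtComp

open W4c1hilbpn MvPolynomial Groth.Agent.Lib.Helper44.StairLA

variable {k : Type u} [Field k]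

local notation "S3" => MvPolynomial (Fin 3) k

theorem stair_stairZ {I : Ideal S3} (hI : IsMonomial I) [Module.Finite k (S3 ⧸ I)] :
    Stair (stairZ I) where
  anti1 a b := stairZ_anti hI (Nat.le_add_right a 1) le_rfl
  anti2 a b := stairZ_anti hI le_rfl (Nat.le_add_right b 1)
  bdd := stairZ_bdd hI

/-! ### Case A: multidegree `(i, j, -c-1)` -/

section caseA

variable {I : Ideal (MvPolynomial (Fin 3) k)} (hI : IsMonomial I)
  [Module.Finite k (MvPolynomial (Fin 3) k ⧸ I)] (i j c : ℕ)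

/-- the multidegree `(i, j, -c-1)` -/
def alA : Fin 3 → ℤ := vec3 i j (-(c : ℤ) - 1)

/-- restriction of a column function to the shifted quadrant -/
noncomputable def resA (u : ℤ × ℤ → k) : ℕ × ℕ → k := fun p => u ((p.1 : ℤ) + i, (p.2 : ℤ) + j)

open Classical in
/-- extension of a function on the quadrant to a column function -/
noncomputable def extA (w : ℕ × ℕ → k) : ℤ × ℤ → k := fun P =>
  if (i : ℤ) ≤ P.1 ∧ (j : ℤ) ≤ P.2 then w ((P.1 - i).toNat, (P.2 - j).toNat) else 0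

include hI


theorem lo_A (p1 p2 : ℕ) :
    Lo I (alA i j c) ((p1 : ℤ) + i) ((p2 : ℤ) + j) = (stairZ I p1 p2 : ℤ) - c - 1 := by
  unfold Lo alA
  simp only [vec3_0, vec3_1, vec3_2, add_sub_cancel_right, Int.toNat_natCast]
  ring

theorem hi_A (p1 p2 : ℕ) :
    Hi I ((p1 : ℤ) + i) ((p2 : ℤ) + j) = (g (stairZ I) i j p1 p2 : ℤ) := by
  unfold Hi g
  have e1 : ((p1 : ℤ) + i).toNat = p1 + i := by omega
  have e2 : ((p2 : ℤ) + j).toNat = p2 + j := by omega
  rw [e1, e2]

theorem mem_region_A (p1 p2 : ℕ) (e : ℤ) :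
    vec3 ((p1 : ℤ) + i) ((p2 : ℤ) + j) e ∈ region I (alA i j c) ↔
      (stairZ I p1 p2 : ℤ) - c - 1 ≤ e ∧ e < (g (stairZ I) i j p1 p2 : ℤ) := by
  rw [mem_region3 hI, lo_A hI, hi_A hI]
  simp only [alA, vec3_0, vec3_1]
  constructor
  · rintro ⟨⟨_, _, h1⟩, h2⟩
    refine ⟨h1, ?_⟩
    rcases h2 with h | h | h <;> omega
  · rintro ⟨h1, h2⟩
    exact ⟨⟨by omega, by omega, h1⟩, Or.inr (Or.inr h2)⟩

theorem active_of_region_A {a b e : ℤ} (h : vec3 a b e ∈ region I (alA i j c)) :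
    (i : ℤ) ≤ a ∧ (j : ℤ) ≤ b := by
  have := ((mem_region3 hI).mp h).1
  simp only [alA, vec3_0, vec3_1] at this
  exact ⟨this.1, this.2.1⟩

theorem good_A (p1 p2 : ℕ) :
    Good I (alA i j c) ((p1 : ℤ) + i, (p2 : ℤ) + j) ↔
      (c < stairZ I p1 p2 ∧ VK (stairZ I) i j c p1 p2) := by
  unfold Good
  simp only
  rw [lo_A hI, hi_A hI]
  simp only [alA, vec3_0, vec3_1]
  unfold VK
  constructor
  · rintro ⟨_, _, _, _, h1, h2⟩
    constructor <;> omega
  · rintro ⟨h1, h2⟩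
    refine ⟨by omega, by omega, by omega, by omega, by omega, by omega⟩

theorem good_A_active {P : ℤ × ℤ} (h : Good I (alA i j c) P) : (i : ℤ) ≤ P.1 ∧ (j : ℤ) ≤ P.2 := by
  obtain ⟨h1, h2, _⟩ := h
  simp only [alA, vec3_0, vec3_1] at h1 h2
  exact ⟨h1, h2⟩


theorem resA_mem {u : ℤ × ℤ → k} (hu : u ∈ ColSp I (alA i j c)) :
    resA i j u ∈ Wc k (stairZ I) i j c := by
  have hs := stair_stairZ hI
  obtain ⟨hu1, hu2, hu3⟩ := hu
  refine ⟨fun a b hab => ?_, fun a b he => ?_, fun a b he => ?_⟩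
  · apply hu1
    rw [good_A hI]
    exact hab
  · have hg1 := g_anti (i := i) (j := j) hs (Nat.le_add_right a 1) (le_refl b)
    have hh1 := hs.anti1 a b
    unfold EK1 at he
    have h1 : vec3 ((a : ℤ) + i) ((b : ℤ) + j) ((stairZ I a b : ℤ) - c - 1) ∈
        region I (alA i j c) := by
      rw [mem_region_A hI]; constructor <;> omega
    have h2 : vec3 ((a : ℤ) + i + 1) ((b : ℤ) + j) ((stairZ I a b : ℤ) - c - 1) ∈
        region I (alA i j c) := by
      have e : (a : ℤ) + i + 1 = ((a + 1 : ℕ) : ℤ) + i := by push_cast; ring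
      rw [e, mem_region_A hI]; constructor <;> omega
    have := hu2 _ _ _ h1 h2
    show u ((a : ℤ) + i, (b : ℤ) + j) = u (((a + 1 : ℕ) : ℤ) + i, (b : ℤ) + j)
    rw [this]
    congr 2
    push_cast; ring
  · have hg1 := g_anti (i := i) (j := j) hs (le_refl a) (Nat.le_add_right b 1)
    have hh1 := hs.anti2 a b
    unfold EK2 at he
    have h1 : vec3 ((a : ℤ) + i) ((b : ℤ) + j) ((stairZ I a b : ℤ) - c - 1) ∈
        region I (alA i j c) := by
      rw [mem_region_A hI]; constructor <;> omega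
    have h2 : vec3 ((a : ℤ) + i) ((b : ℤ) + j + 1) ((stairZ I a b : ℤ) - c - 1) ∈
        region I (alA i j c) := by
      have e : (b : ℤ) + j + 1 = ((b + 1 : ℕ) : ℤ) + j := by push_cast; ring
      rw [e, mem_region_A hI]; constructor <;> omega
    have := hu3 _ _ _ h1 h2
    show u ((a : ℤ) + i, (b : ℤ) + j) = u ((a : ℤ) + i, ((b + 1 : ℕ) : ℤ) + j)
    rw [this]
    congr 2
    push_cast; ring

/-- the restriction map `ColSp → Wc` -/
noncomputable def resAMap : ↥(ColSp I (alA i j c)) →ₗ[k] ↥(Wc k (stairZ I) i j c) where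
  toFun u := ⟨resA i j u.1, resA_mem hI i j c u.2⟩
  map_add' _ _ := rfl
  map_smul' _ _ := rfl


theorem extA_mem {w : ℕ × ℕ → k} (hw : w ∈ Wc k (stairZ I) i j c) :
    extA i j w ∈ ColSp I (alA i j c) := by
  have hs := stair_stairZ hI
  obtain ⟨hw1, hw2, hw3⟩ := hw
  refine ⟨fun P hP => ?_, fun a b e h1 h2 => ?_, fun a b e h1 h2 => ?_⟩
  · unfold extA
    split_ifs with hact
    · apply hw1
      intro hcon
      apply hP
      have := (good_A hI i j c (P.1 - i).toNat (P.2 - j).toNat).mpr hcon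
      have e1 : (((P.1 - i).toNat : ℕ) : ℤ) + i = P.1 := by omega
      have e2 : (((P.2 - j).toNat : ℕ) : ℤ) + j = P.2 := by omega
      rw [e1, e2] at this
      exact this
    · rfl
  · obtain ⟨ha, hb⟩ := active_of_region_A hI i j c h1
    obtain ⟨p1, rfl⟩ : ∃ p1 : ℕ, a = (p1 : ℤ) + i := ⟨(a - i).toNat, by omega⟩
    obtain ⟨p2, rfl⟩ : ∃ p2 : ℕ, b = (p2 : ℤ) + j := ⟨(b - j).toNat, by omega⟩
    have e : (p1 : ℤ) + i + 1 = ((p1 + 1 : ℕ) : ℤ) + i := by push_cast; ring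
    rw [e] at h2
    rw [mem_region_A hI] at h1 h2
    have hh1 := hs.anti1 p1 p2
    have hek : EK1 (stairZ I) i j c p1 p2 := by unfold EK1; omega
    unfold extA
    rw [if_pos ⟨by omega, by omega⟩, if_pos ⟨by omega, by omega⟩]
    have e1 : ((p1 : ℤ) + i - i).toNat = p1 := by omega
    have e2 : ((p2 : ℤ) + j - j).toNat = p2 := by omega
    have e3 : ((p1 : ℤ) + i + 1 - i).toNat = p1 + 1 := by omega
    simp only [e1, e2, e3]
    exact hw2 p1 p2 hek
  · obtain ⟨ha, hb⟩ := active_of_region_A hI i j c h1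
    obtain ⟨p1, rfl⟩ : ∃ p1 : ℕ, a = (p1 : ℤ) + i := ⟨(a - i).toNat, by omega⟩
    obtain ⟨p2, rfl⟩ : ∃ p2 : ℕ, b = (p2 : ℤ) + j := ⟨(b - j).toNat, by omega⟩
    have e : (p2 : ℤ) + j + 1 = ((p2 + 1 : ℕ) : ℤ) + j := by push_cast; ring
    rw [e] at h2
    rw [mem_region_A hI] at h1 h2
    have hh1 := hs.anti2 p1 p2
    have hek : EK2 (stairZ I) i j c p1 p2 := by unfold EK2; omega
    unfold extA
    rw [if_pos ⟨by omega, by omega⟩, if_pos ⟨by omega, by omega⟩]
    have e1 : ((p1 : ℤ) + i - i).toNat = p1 := by omega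
    have e2 : ((p2 : ℤ) + j - j).toNat = p2 := by omega
    have e3 : ((p2 : ℤ) + j + 1 - j).toNat = p2 + 1 := by omega
    simp only [e1, e2, e3]
    exact hw3 p1 p2 hek

theorem resAMap_bijective : Function.Bijective (resAMap hI i j c) := by
  constructor
  · intro u v huv
    have h1 : resA i j u.1 = resA i j v.1 := congrArg Subtype.val huv
    apply Subtype.ext
    funext P
    by_cases hact : (i : ℤ) ≤ P.1 ∧ (j : ℤ) ≤ P.2
    · have := congrFun h1 ((P.1 - i).toNat, (P.2 - j).toNat)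
      unfold resA at this
      have e1 : (((P.1 - i).toNat : ℕ) : ℤ) + i = P.1 := by omega
      have e2 : (((P.2 - j).toNat : ℕ) : ℤ) + j = P.2 := by omega
      simp only [e1, e2] at this
      exact this
    · rw [u.2.1 P fun hg => hact (good_A_active hI i j c hg),
        v.2.1 P fun hg => hact (good_A_active hI i j c hg)]
  · intro w
    refine ⟨⟨extA i j w.1, extA_mem hI i j c w.2⟩, ?_⟩
    apply Subtype.ext
    funext p
    show extA i j w.1 ((p.1 : ℤ) + i, (p.2 : ℤ) + j) = w.1 p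
    unfold extA
    rw [if_pos ⟨by simp, by simp⟩]
    have e1 : ((p.1 : ℤ) + i - i).toNat = p.1 := by omega
    have e2 : ((p.2 : ℤ) + j - j).toNat = p.2 := by omega
    simp only [e1, e2]

/-- the graded piece of multidegree `(i, j, -c-1)` as a planar space -/
noncomputable def equivA : ↥(tPiece I (alA i j c)) ≃ₗ[k] ↥(Wc k (stairZ I) i j c) :=
  (colEquiv hI (alA i j c)).trans
    (LinearEquiv.ofBijective (resAMap hI i j c) (resAMap_bijective hI i j c))

/-- dimension of the graded piece of multidegree `(i, j, -c-1)` -/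
theorem finrank_tPiece_A :
    Module.finrank k ↥(tPiece I (alA i j c)) = Module.finrank k ↥(Wc k (stairZ I) i j c) :=
  (equivA hI i j c).finrank_eq

theorem tPiece_A_eq_bot (hc : ∀ a b, stairZ I a b ≤ c) : tPiece I (alA i j c) = ⊥ := by
  rw [eq_bot_iff]
  intro φ hφ
  rw [Submodule.mem_bot]
  have h0 : equivA hI i j c ⟨φ, hφ⟩ = 0 := by
    apply Subtype.ext
    funext p
    exact (equivA hI i j c ⟨φ, hφ⟩).2.1 p.1 p.2 fun hcon => by
      have := hc p.1 p.2
      omega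
  have := (LinearEquiv.map_eq_zero_iff (equivA hI i j c)).mp h0
  exact congrArg Subtype.val this

end caseA


/-! ### Case B: multidegree `(-i-1, -j-1, c)` -/

section caseB

variable {I : Ideal (MvPolynomial (Fin 3) k)} (hI : IsMonomial I)
  [Module.Finite k (MvPolynomial (Fin 3) k ⧸ I)] (i j c : ℕ)

/-- the multidegree `(-i-1, -j-1, c)` -/
def alB : Fin 3 → ℤ := vec3 (-(i : ℤ) - 1) (-(j : ℤ) - 1) c

/-- restriction of a column function to the quadrant -/
noncomputable def resB (u : ℤ × ℤ → k) : ℕ × ℕ → k := fun q => u ((q.1 : ℤ), (q.2 : ℤ))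

open Classical in
/-- extension of a function on the quadrant to a column function -/
noncomputable def extB (w : ℕ × ℕ → k) : ℤ × ℤ → k := fun P =>
  if (0 : ℤ) ≤ P.1 ∧ (0 : ℤ) ≤ P.2 then w (P.1.toNat, P.2.toNat) else 0

include hI

theorem lo_B (q1 q2 : ℕ) :
    Lo I (alB i j c) (q1 : ℤ) (q2 : ℤ) = (g (stairZ I) i j (q1 + 1) (q2 + 1) : ℤ) + c := by
  unfold Lo alB g
  simp only [vec3_0, vec3_1, vec3_2]
  have e1 : ((q1 : ℤ) - (-(i : ℤ) - 1)).toNat = q1 + 1 + i := by omega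
  have e2 : ((q2 : ℤ) - (-(j : ℤ) - 1)).toNat = q2 + 1 + j := by omega
  rw [e1, e2]

theorem lo_B_neg1 (q2 : ℕ) :
    Lo I (alB i j c) (-1) (q2 : ℤ) = (g (stairZ I) i j 0 (q2 + 1) : ℤ) + c := by
  unfold Lo alB g
  simp only [vec3_0, vec3_1, vec3_2]
  have e1 : ((-1 : ℤ) - (-(i : ℤ) - 1)).toNat = 0 + i := by omega
  have e2 : ((q2 : ℤ) - (-(j : ℤ) - 1)).toNat = q2 + 1 + j := by omega
  rw [e1, e2]

theorem lo_B_neg2 (q1 : ℕ) :
    Lo I (alB i j c) (q1 : ℤ) (-1) = (g (stairZ I) i j (q1 + 1) 0 : ℤ) + c := by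
  unfold Lo alB g
  simp only [vec3_0, vec3_1, vec3_2]
  have e1 : ((q1 : ℤ) - (-(i : ℤ) - 1)).toNat = q1 + 1 + i := by omega
  have e2 : ((-1 : ℤ) - (-(j : ℤ) - 1)).toNat = 0 + j := by omega
  rw [e1, e2]

theorem hi_B (q1 q2 : ℕ) : Hi I (q1 : ℤ) (q2 : ℤ) = (stairZ I q1 q2 : ℤ) := by
  unfold Hi
  simp

theorem mem_region_B (q1 q2 : ℕ) (e : ℤ) :
    vec3 (q1 : ℤ) (q2 : ℤ) e ∈ region I (alB i j c) ↔
      (g (stairZ I) i j (q1 + 1) (q2 + 1) : ℤ) + c ≤ e ∧ e < (stairZ I q1 q2 : ℤ) := by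
  rw [mem_region3 hI, lo_B hI, hi_B hI]
  simp only [alB, vec3_0, vec3_1]
  constructor
  · rintro ⟨⟨_, _, h1⟩, h2⟩
    refine ⟨h1, ?_⟩
    rcases h2 with h | h | h <;> omega
  · rintro ⟨h1, h2⟩
    exact ⟨⟨by omega, by omega, h1⟩, Or.inr (Or.inr h2)⟩

theorem mem_region_B_neg1 (q2 : ℕ) (e : ℤ) :
    vec3 (-1) (q2 : ℤ) e ∈ region I (alB i j c) ↔
      (g (stairZ I) i j 0 (q2 + 1) : ℤ) + c ≤ e := by
  rw [mem_region3 hI, lo_B_neg1 hI]
  simp only [alB, vec3_0, vec3_1]
  constructor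
  · rintro ⟨⟨_, _, h1⟩, _⟩
    exact h1
  · intro h1
    exact ⟨⟨by omega, by omega, h1⟩, Or.inl (by omega)⟩

theorem mem_region_B_neg2 (q1 : ℕ) (e : ℤ) :
    vec3 (q1 : ℤ) (-1) e ∈ region I (alB i j c) ↔
      (g (stairZ I) i j (q1 + 1) 0 : ℤ) + c ≤ e := by
  rw [mem_region3 hI, lo_B_neg2 hI]
  simp only [alB, vec3_0, vec3_1]
  constructor
  · rintro ⟨⟨_, _, h1⟩, _⟩
    exact h1
  · intro h1
    exact ⟨⟨by omega, by omega, h1⟩, Or.inr (Or.inl (by omega))⟩

theorem good_B (q1 q2 : ℕ) :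
    Good I (alB i j c) ((q1 : ℤ), (q2 : ℤ)) ↔ ¬ FK (stairZ I) i j c q1 q2 := by
  unfold Good
  simp only
  rw [lo_B hI, hi_B hI]
  simp only [alB, vec3_0, vec3_1]
  unfold FK
  constructor
  · rintro ⟨_, _, _, _, h1, h2⟩
    omega
  · intro h1
    refine ⟨by omega, by omega, by omega, by omega, by positivity, by omega⟩

theorem good_B_nonneg {P : ℤ × ℤ} (h : Good I (alB i j c) P) : (0 : ℤ) ≤ P.1 ∧ (0 : ℤ) ≤ P.2 := by
  obtain ⟨_, _, h1, h2, _⟩ := h
  exact ⟨h1, h2⟩

theorem resB_mem {u : ℤ × ℤ → k} (hu : u ∈ ColSp I (alB i j c)) :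
    resB u ∈ Wc' k (stairZ I) i j c := by
  have hs := stair_stairZ hI
  obtain ⟨hu1, hu2, hu3⟩ := hu
  refine ⟨fun a b hf => ?_, fun a b he => ?_, fun a b he => ?_, fun b he => ?_, fun a he => ?_⟩
  · apply hu1
    rw [good_B hI]
    exact fun hcon => hcon hf
  · unfold EK2 at he
    have hh1 := hs.anti1 a b
    have hg1 := g_anti (i := i) (j := j) hs (Nat.le_add_right (a + 1) 1) (le_refl (b + 1))
    have h1 : vec3 (a : ℤ) (b : ℤ) ((g (stairZ I) i j (a + 1) (b + 1) : ℤ) + c) ∈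
        region I (alB i j c) := by
      rw [mem_region_B hI]; constructor <;> omega
    have h2 : vec3 ((a : ℤ) + 1) (b : ℤ) ((g (stairZ I) i j (a + 1) (b + 1) : ℤ) + c) ∈
        region I (alB i j c) := by
      have e : (a : ℤ) + 1 = ((a + 1 : ℕ) : ℤ) := by push_cast; ring
      rw [e, mem_region_B hI]; constructor <;> omega
    have := hu2 _ _ _ h1 h2
    show u ((a : ℤ), (b : ℤ)) = u (((a + 1 : ℕ) : ℤ), (b : ℤ))
    rw [this]
    congr 2
  · unfold EK1 at he
    have hh1 := hs.anti2 a b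
    have hg1 := g_anti (i := i) (j := j) hs (le_refl (a + 1)) (Nat.le_add_right (b + 1) 1)
    have h1 : vec3 (a : ℤ) (b : ℤ) ((g (stairZ I) i j (a + 1) (b + 1) : ℤ) + c) ∈
        region I (alB i j c) := by
      rw [mem_region_B hI]; constructor <;> omega
    have h2 : vec3 (a : ℤ) ((b : ℤ) + 1) ((g (stairZ I) i j (a + 1) (b + 1) : ℤ) + c) ∈
        region I (alB i j c) := by
      have e : (b : ℤ) + 1 = ((b + 1 : ℕ) : ℤ) := by push_cast; ring
      rw [e, mem_region_B hI]; constructor <;> omega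
    have := hu3 _ _ _ h1 h2
    show u ((a : ℤ), (b : ℤ)) = u ((a : ℤ), ((b + 1 : ℕ) : ℤ))
    rw [this]
    congr 2
  · unfold EK2 at he
    have hg1 := g_anti (i := i) (j := j) hs (Nat.le_add_right 0 1) (le_refl (b + 1))
    have h1 : vec3 (-1) (b : ℤ) ((g (stairZ I) i j 0 (b + 1) : ℤ) + c) ∈
        region I (alB i j c) := by
      rw [mem_region_B_neg1 hI]
    have h2 : vec3 ((-1 : ℤ) + 1) (b : ℤ) ((g (stairZ I) i j 0 (b + 1) : ℤ) + c) ∈
        region I (alB i j c) := by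
      have e : (-1 : ℤ) + 1 = ((0 : ℕ) : ℤ) := by simp
      rw [e, mem_region_B hI]; constructor <;> omega
    have := hu2 _ _ _ h1 h2
    have h0 : u ((-1 : ℤ), (b : ℤ)) = 0 := hu1 _ fun hg => by
      have := (good_B_nonneg hI i j c hg).1
      simp at this
    rw [h0] at this
    show u (((0 : ℕ) : ℤ), (b : ℤ)) = 0
    rw [this]
    congr 2
  · unfold EK1 at he
    have hg1 := g_anti (i := i) (j := j) hs (le_refl (a + 1)) (Nat.le_add_right 0 1)
    have h1 : vec3 (a : ℤ) (-1) ((g (stairZ I) i j (a + 1) 0 : ℤ) + c) ∈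
        region I (alB i j c) := by
      rw [mem_region_B_neg2 hI]
    have h2 : vec3 (a : ℤ) ((-1 : ℤ) + 1) ((g (stairZ I) i j (a + 1) 0 : ℤ) + c) ∈
        region I (alB i j c) := by
      have e : (-1 : ℤ) + 1 = ((0 : ℕ) : ℤ) := by simp
      rw [e, mem_region_B hI]; constructor <;> omega
    have := hu3 _ _ _ h1 h2
    have h0 : u ((a : ℤ), (-1 : ℤ)) = 0 := hu1 _ fun hg => by
      have := (good_B_nonneg hI i j c hg).2
      simp at this
    rw [h0] at this
    show u ((a : ℤ), ((0 : ℕ) : ℤ)) = 0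
    rw [this]
    congr 2

/-- the restriction map `ColSp → Wc'` -/
noncomputable def resBMap : ↥(ColSp I (alB i j c)) →ₗ[k] ↥(Wc' k (stairZ I) i j c) where
  toFun u := ⟨resB u.1, resB_mem hI i j c u.2⟩
  map_add' _ _ := rfl
  map_smul' _ _ := rfl

theorem active_of_region_B {a b e : ℤ} (h : vec3 a b e ∈ region I (alB i j c)) :
    -(i : ℤ) - 1 ≤ a ∧ -(j : ℤ) - 1 ≤ b := by
  have := ((mem_region3 hI).mp h).1
  simp only [alB, vec3_0, vec3_1] at this
  exact ⟨this.1, this.2.1⟩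

theorem extB_mem {w : ℕ × ℕ → k} (hw : w ∈ Wc' k (stairZ I) i j c) :
    extB w ∈ ColSp I (alB i j c) := by
  have hs := stair_stairZ hI
  obtain ⟨hw1, hw2, hw3, hw4, hw5⟩ := hw
  refine ⟨fun P hP => ?_, fun a b e h1 h2 => ?_, fun a b e h1 h2 => ?_⟩
  · unfold extB
    split_ifs with hnn
    · apply hw1
      by_contra hcon
      apply hP
      have := (good_B hI i j c P.1.toNat P.2.toNat).mpr hcon
      have e1 : ((P.1.toNat : ℕ) : ℤ) = P.1 := Int.toNat_of_nonneg hnn.1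
      have e2 : ((P.2.toNat : ℕ) : ℤ) = P.2 := Int.toNat_of_nonneg hnn.2
      rw [e1, e2] at this
      exact this
    · rfl
  · unfold extB
    by_cases hb : (0 : ℤ) ≤ b
    swap
    · rw [if_neg (fun h => hb h.2), if_neg (fun h => hb h.2)]
    obtain ⟨q2, rfl⟩ : ∃ q2 : ℕ, b = (q2 : ℤ) := ⟨b.toNat, by omega⟩
    by_cases ha : (0 : ℤ) ≤ a
    · obtain ⟨q1, rfl⟩ : ∃ q1 : ℕ, a = (q1 : ℤ) := ⟨a.toNat, by omega⟩
      have e : (q1 : ℤ) + 1 = ((q1 + 1 : ℕ) : ℤ) := by push_cast; ring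
      rw [e] at h2
      rw [mem_region_B hI] at h1 h2
      have hek : ¬ EK2 (stairZ I) i j c (q1 + 1) q2 := by unfold EK2; omega
      rw [if_pos ⟨by omega, by omega⟩, if_pos ⟨by omega, by omega⟩]
      have e3 : ((q1 : ℤ) + 1).toNat = q1 + 1 := by omega
      simp only [Int.toNat_natCast, e3]
      exact hw2 q1 q2 hek
    · by_cases ha1 : a = -1
      · subst ha1
        have e : (-1 : ℤ) + 1 = ((0 : ℕ) : ℤ) := by simp
        rw [e] at h2
        rw [mem_region_B_neg1 hI] at h1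
        rw [mem_region_B hI] at h2
        have hek : ¬ EK2 (stairZ I) i j c 0 q2 := by unfold EK2; omega
        rw [if_neg (fun h => by have := h.1; omega), if_pos ⟨by omega, by omega⟩]
        simp only [Int.toNat_natCast]
        have e3 : ((-1 : ℤ) + 1).toNat = 0 := by simp
        rw [e3]
        exact (hw4 q2 hek).symm
      · rw [if_neg (fun h => ha h.1), if_neg (fun h => by have := h.1; omega)]
  · unfold extB
    by_cases ha : (0 : ℤ) ≤ a
    swap
    · rw [if_neg (fun h => ha h.1), if_neg (fun h => ha h.1)]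
    obtain ⟨q1, rfl⟩ : ∃ q1 : ℕ, a = (q1 : ℤ) := ⟨a.toNat, by omega⟩
    by_cases hb : (0 : ℤ) ≤ b
    · obtain ⟨q2, rfl⟩ : ∃ q2 : ℕ, b = (q2 : ℤ) := ⟨b.toNat, by omega⟩
      have e : (q2 : ℤ) + 1 = ((q2 + 1 : ℕ) : ℤ) := by push_cast; ring
      rw [e] at h2
      rw [mem_region_B hI] at h1 h2
      have hek : ¬ EK1 (stairZ I) i j c q1 (q2 + 1) := by unfold EK1; omega
      rw [if_pos ⟨by omega, by omega⟩, if_pos ⟨by omega, by omega⟩]
      have e3 : ((q2 : ℤ) + 1).toNat = q2 + 1 := by omega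
      simp only [Int.toNat_natCast, e3]
      exact hw3 q1 q2 hek
    · by_cases hb1 : b = -1
      · subst hb1
        have e : (-1 : ℤ) + 1 = ((0 : ℕ) : ℤ) := by simp
        rw [e] at h2
        rw [mem_region_B_neg2 hI] at h1
        rw [mem_region_B hI] at h2
        have hek : ¬ EK1 (stairZ I) i j c q1 0 := by unfold EK1; omega
        rw [if_neg (fun h => by have := h.2; omega), if_pos ⟨by omega, by omega⟩]
        simp only [Int.toNat_natCast]
        have e3 : ((-1 : ℤ) + 1).toNat = 0 := by simp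
        rw [e3]
        exact (hw5 q1 hek).symm
      · rw [if_neg (fun h => hb h.2), if_neg (fun h => by have := h.2; omega)]

theorem resBMap_bijective : Function.Bijective (resBMap hI i j c) := by
  constructor
  · intro u v huv
    have h1 : resB u.1 = resB v.1 := congrArg Subtype.val huv
    apply Subtype.ext
    funext P
    by_cases hnn : (0 : ℤ) ≤ P.1 ∧ (0 : ℤ) ≤ P.2
    · have := congrFun h1 (P.1.toNat, P.2.toNat)
      unfold resB at this
      have e1 : ((P.1.toNat : ℕ) : ℤ) = P.1 := Int.toNat_of_nonneg hnn.1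
      have e2 : ((P.2.toNat : ℕ) : ℤ) = P.2 := Int.toNat_of_nonneg hnn.2
      simp only [e1, e2] at this
      exact this
    · rw [u.2.1 P fun hg => hnn (good_B_nonneg hI i j c hg),
        v.2.1 P fun hg => hnn (good_B_nonneg hI i j c hg)]
  · intro w
    refine ⟨⟨extB w.1, extB_mem hI i j c w.2⟩, ?_⟩
    apply Subtype.ext
    funext q
    show extB w.1 ((q.1 : ℤ), (q.2 : ℤ)) = w.1 q
    unfold extB
    rw [if_pos ⟨by simp, by simp⟩]
    simp

/-- the graded piece of multidegree `(-i-1, -j-1, c)` as a planar space -/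
noncomputable def equivB : ↥(tPiece I (alB i j c)) ≃ₗ[k] ↥(Wc' k (stairZ I) i j c) :=
  (colEquiv hI (alB i j c)).trans
    (LinearEquiv.ofBijective (resBMap hI i j c) (resBMap_bijective hI i j c))

/-- dimension of the graded piece of multidegree `(-i-1, -j-1, c)` -/
theorem finrank_tPiece_B :
    Module.finrank k ↥(tPiece I (alB i j c)) = Module.finrank k ↥(Wc' k (stairZ I) i j c) :=
  (equivB hI i j c).finrank_eq

theorem tPiece_B_eq_bot (hc : ∀ a b, stairZ I a b ≤ c) : tPiece I (alB i j c) = ⊥ := by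
  rw [eq_bot_iff]
  intro φ hφ
  rw [Submodule.mem_bot]
  have h0 : equivB hI i j c ⟨φ, hφ⟩ = 0 := by
    apply Subtype.ext
    funext p
    exact (equivB hI i j c ⟨φ, hφ⟩).2.1 p.1 p.2 (by
      have := hc p.1 p.2
      unfold FK
      omega)
  have := (LinearEquiv.map_eq_zero_iff (equivB hI i j c)).mp h0
  exact congrArg Subtype.val this

end caseB

end Groth.Agent.Lib.Helper44.TgtComp
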