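import Groth.Agent.Lib.Helper44.TgtIndep

/-! Finite support of the multigrading of `T(I)`, sums over sign patterns, colength. (helper44) -/

set_option autoImplicit false
set_option linter.style.haveILetI false
set_option linter.unusedSectionVars false

universe u

namespace Groth.Agent.Lib.Helper44.TgtComp

open W4c1hilbpn MvPolynomial

variable {k : Type u} [Field k] {n : ℕ}

local notation "S" => MvPolynomial (Fin n) k

/-! ### Independence and finite support -/

theorem iSupIndep_tPiece {I : Ideal S} (hI : IsMonomial I) :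
    iSupIndep (fun α : Fin n → ℤ => tPiece I α) := by
  intro α
  rw [Submodule.disjoint_def]
  intro φ h1 h2
  have hker : (⨆ (α') (_ : α' ≠ α), tPiece I α') ≤ LinearMap.ker (compL hI α) := by
    refine iSup₂_le fun α' hα' ψ hψ => ?_
    rw [LinearMap.mem_ker, compL_apply]
    exact comp_of_mem_ne hI (Ne.symm hα') hψ
  have h3 := hker h2
  rw [LinearMap.mem_ker, compL_apply, comp_of_mem hI h1] at h3
  exact h3

theorem finite_support {I : Ideal S} (hI : IsMonomial I) [Module.Finite k (S ⧸ I)] :
    {α : Fin n → ℤ | tPiece I α ≠ ⊥}.Finite := by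
  haveI := finiteDimensional_Tgt hI
  haveI : Fintype {α : Fin n → ℤ // tPiece I α ≠ ⊥} :=
    (iSupIndep_tPiece hI).fintypeNeBotOfFiniteDimensional
  exact Set.finite_coe_iff.mp (@Finite.of_fintype {α : Fin n → ℤ // tPiece I α ≠ ⊥} this)

/-- the finite set of multidegrees with nonzero graded piece -/
noncomputable def suppT {I : Ideal S} (hI : IsMonomial I) [Module.Finite k (S ⧸ I)] :
    Finset (Fin n → ℤ) := (finite_support hI).toFinset

theorem mem_suppT {I : Ideal S} (hI : IsMonomial I) [Module.Finite k (S ⧸ I)] {α : Fin n → ℤ} :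
    α ∈ suppT hI ↔ tPiece I α ≠ ⊥ := by
  unfold suppT
  rw [Set.Finite.mem_toFinset]
  rfl

theorem finrank_iSup_eq_sum {I : Ideal S} (hI : IsMonomial I) [Module.Finite k (S ⧸ I)]
    (P : (Fin n → ℤ) → Prop) [DecidablePred P] :
    Module.finrank k ↥(⨆ α : {α : Fin n → ℤ // P α}, tPiece I α.1) =
      ∑ α ∈ (suppT hI).filter P, Module.finrank k ↥(tPiece I α) := by
  refine finrank_iSup_tPiece hI P _ (fun α hα => (Finset.mem_filter.mp hα).2) ?_
  intro α hP hns
  by_contra hne
  exact hns (Finset.mem_filter.mpr ⟨(mem_suppT hI).mpr hne, hP⟩)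

theorem finrank_sigPiece {I : Ideal S} (hI : IsMonomial I) [Module.Finite k (S ⧸ I)]
    (N : Set (Fin n)) [DecidablePred fun α : Fin n → ℤ => ∀ i, α i < 0 ↔ i ∈ N] :
    Module.finrank k ↥(sigPiece I N) =
      ∑ α ∈ (suppT hI).filter (fun α => ∀ i, α i < 0 ↔ i ∈ N),
        Module.finrank k ↥(tPiece I α) := by
  unfold sigPiece
  exact finrank_iSup_eq_sum hI _

/-! ### Vanishing for large / very negative entries -/

theorem tPiece_eq_bot_of_large {I : Ideal S} (hI : IsMonomial I) {α : Fin n → ℤ} {l : Fin n}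
    {m : ℕ} (hm : Finsupp.single l m ∈ exps I) (hα : (m : ℤ) ≤ α l) : tPiece I α = ⊥ := by
  rw [eq_bot_iff]
  intro φ hφ
  rw [Submodule.mem_bot]
  apply tgt_ext hI
  intro β hβ
  rw [LinearMap.zero_apply]
  by_cases hnn : Nonneg (ofN β + α)
  · rw [cf_spec hI hφ hβ hnn]
    have hin : toN (ofN β + α) ∈ exps I := by
      refine exps_of_le hm ?_
      intro l'
      by_cases hl : l' = l
      · subst hl
        rw [Finsupp.single_eq_same, toN_apply, Pi.add_apply, ofN_apply]
        omega
      · rw [Finsupp.single_apply, if_neg (fun h => hl h.symm)]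
        exact Nat.zero_le _
    rw [mk_monomial_eq_zero hin, smul_zero]
  · exact apply_eq_zero_of_neg hφ hβ hnn

theorem tPiece_eq_bot_of_small {I : Ideal S} (hI : IsMonomial I) {α : Fin n → ℤ} {l : Fin n}
    {m : ℕ} (hm : Finsupp.single l m ∈ exps I) (hα : α l < -(m : ℤ)) : tPiece I α = ⊥ := by
  rw [eq_bot_iff]
  intro φ hφ
  rw [Submodule.mem_bot]
  apply tgt_ext hI
  intro β hβ
  rw [LinearMap.zero_apply]
  by_cases hnn : Nonneg (ofN β + α)
  · have hle : Finsupp.single l m ≤ β := by
      intro l'
      by_cases hl : l' = l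
      · subst hl
        have := hnn l'
        rw [Pi.add_apply, ofN_apply] at this
        rw [Finsupp.single_eq_same]
        omega
      · rw [Finsupp.single_apply, if_neg (fun h => hl h.symm)]
        exact Nat.zero_le _
    have hmon : (⟨monomial β 1, hβ⟩ : ↥I) =
        (monomial (β - Finsupp.single l m) (1 : k) : S) • ⟨monomial (Finsupp.single l m) 1, hm⟩ := by
      apply Subtype.ext
      show monomial β (1 : k) = monomial (β - Finsupp.single l m) 1 * monomial (Finsupp.single l m) 1
      rw [monomial_mul, one_mul, tsub_add_cancel_of_le hle]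
    rw [hmon, map_smul, apply_eq_zero_of_neg hφ hm, smul_zero]
    intro hcon
    have := hcon l
    rw [Pi.add_apply, ofN_apply, Finsupp.single_eq_same] at this
    omega
  · exact apply_eq_zero_of_neg hφ hβ hnn

/-! ### The colength -/

theorem finrank_quot {I : Ideal S} (hI : IsMonomial I) [Module.Finite k (S ⧸ I)] :
    Module.finrank k (S ⧸ I) = (finite_compl_exps hI).toFinset.card := by
  classical
  set C := (finite_compl_exps hI).toFinset with hC
  have hCmem : ∀ γ, γ ∈ C ↔ γ ∉ exps I := fun γ => by
    rw [hC, Set.Finite.mem_toFinset]; rfl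
  have hli : LinearIndependent k (fun β : ↥C => Ideal.Quotient.mk I (monomial β.1 (1 : k))) := by
    rw [linearIndependent_iff']
    intro s g hg i₀ hi₀
    have hp : (∑ i ∈ s, monomial i.1 (g i)) ∈ I := by
      rw [← Ideal.Quotient.eq_zero_iff_mem, map_sum, ← hg]
      refine Finset.sum_congr rfl fun i _ => ?_
      rw [smul_mk, smul_monomial, smul_eq_mul, mul_one]
    have hcoeff : coeff i₀.1 (∑ i ∈ s, monomial i.1 (g i)) = g i₀ := by
      rw [coeff_sum, Finset.sum_eq_single i₀]
      · simp
      · intro b _ hb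
        rw [coeff_monomial, if_neg]
        intro h
        exact hb (Subtype.ext h)
      · intro h; exact absurd hi₀ h
    rw [← hcoeff]
    exact coeff_eq_zero_of_mem hI hp ((hCmem _).mp i₀.2)
  have hsp : ⊤ ≤ Submodule.span k
      (Set.range fun β : ↥C => Ideal.Quotient.mk I (monomial β.1 (1 : k))) := by
    intro y _
    rw [expand hI y]
    refine Submodule.sum_mem _ fun γ hγ => ?_
    exact Submodule.smul_mem _ _ (Submodule.subset_span ⟨⟨γ, hγ⟩, rfl⟩)
  have := Module.finrank_eq_card_basis (Module.Basis.mk hli hsp)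
  rw [this, Fintype.card_coe]

/-! ### Pure powers of the variables in `I` -/

theorem exists_single_mem {I : Ideal S} (hI : IsMonomial I) [Module.Finite k (S ⧸ I)]
    (l : Fin n) : ∃ m : ℕ, Finsupp.single l m ∈ exps I := by
  by_contra hcon
  push Not at hcon
  have hfin := finite_compl_exps hI
  refine (Set.infinite_of_injective_forall_mem (f := fun t : ℕ => Finsupp.single l t)
    ?_ hcon) hfin
  intro t t' h
  have h1 := congrArg (fun b : Fin n →₀ ℕ => b l) h
  simpa using h1

theorem exists_single_mem_all {I : Ideal S} (hI : IsMonomial I) [Module.Finite k (S ⧸ I)] :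
    ∃ M : ℕ, ∀ l : Fin n, Finsupp.single l M ∈ exps I := by
  choose m hm using exists_single_mem hI
  refine ⟨Finset.univ.sup m, fun l => exps_of_le (hm l) ?_⟩
  intro l'
  by_cases hl : l' = l
  · subst hl
    rw [Finsupp.single_eq_same, Finsupp.single_eq_same]
    exact Finset.le_sup (f := m) (Finset.mem_univ l')
  · rw [Finsupp.single_apply, if_neg (fun h => hl h.symm)]
    exact Nat.zero_le _

/-! ### The whole tangent space -/

theorem finrank_Tgt {I : Ideal S} (hI : IsMonomial I) [Module.Finite k (S ⧸ I)] :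
    Module.finrank k (Tgt I) = ∑ α ∈ suppT hI, Module.finrank k ↥(tPiece I α) := by
  classical
  have h1 := finrank_iSup_eq_sum hI (fun _ => True)
  rw [Finset.filter_true_of_mem (fun _ _ => trivial)] at h1
  rw [← h1]
  have h2 : (⨆ α : {α : Fin n → ℤ // True}, tPiece I α.1) = ⊤ := by
    rw [eq_top_iff, ← iSup_tPiece hI]
    exact iSup_le fun α => le_iSup (fun α : {α : Fin n → ℤ // True} => tPiece I α.1) ⟨α, trivial⟩
  rw [h2, finrank_top]

end Groth.Agent.Lib.Helper44.TgtComp
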