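import Mathlib.RingTheory.IntegralClosure.IntegrallyClosed
import Mathlib.RingTheory.Polynomial.RationalRoot
import Mathlib.RingTheory.Localization.Away.Basic
import Mathlib.RingTheory.UniqueFactorizationDomain.Basic
import Mathlib.Tactic

set_option autoImplicit false

namespace Groth.Agent.Lib.Helper44

universe u

section

variable {A B : Type u} [CommRing A] [IsDomain A] [CommRing B] [Algebra A B]

theorem powers_le_nonZeroDivisors {π : A} (hπ : π ≠ 0) :
    Submonoid.powers π ≤ nonZeroDivisors A := by
  rintro _ ⟨k, rfl⟩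
  exact mem_nonZeroDivisors_of_ne_zero (pow_ne_zero k hπ)

theorem algebraMap_injective_of_away {π : A} (hπ : π ≠ 0) [IsLocalization.Away π B] :
    Function.Injective (algebraMap A B) :=
  IsLocalization.injective B (powers_le_nonZeroDivisors hπ)

set_option backward.isDefEq.respectTransparency.types false in
theorem isIntegrallyClosedIn_of_away [IsIntegrallyClosed A] {π : A} (hπ : π ≠ 0)
    [IsLocalization.Away π B] : IsIntegrallyClosedIn A B := by
  let K := FractionRing A
  have hM := powers_le_nonZeroDivisors hπ
  let g : B →+* K := IsLocalization.map _ (T := nonZeroDivisors A) (RingHom.id A) hM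
  let := g.toAlgebra
  have : IsScalarTower A B K := IsScalarTower.of_algebraMap_eq'
    (by rw [RingHom.algebraMap_toAlgebra, IsLocalization.map_comp, RingHomCompTriple.comp_eq])
  have := IsFractionRing.isFractionRing_of_isDomain_of_isLocalization (Submonoid.powers π) B K
  have hinj : Function.Injective (algebraMap B K) := IsFractionRing.injective _ _
  let f : B →ₐ[A] K := IsScalarTower.toAlgHom A B K
  have hA : IsIntegrallyClosedIn A K := inferInstanceAs (IsIntegrallyClosed A)
  exact AlgHom.isIntegrallyClosedIn f hinj hA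

theorem mem_range_of_pow_mem_range [IsIntegrallyClosed A] {π : A} (hπ : π ≠ 0)
    [IsLocalization.Away π B] {y : B} {n : ℕ} (hn : 0 < n)
    (hy : y ^ n ∈ (algebraMap A B).range) : y ∈ (algebraMap A B).range := by
  have := isIntegrallyClosedIn_of_away (A := A) (B := B) hπ
  obtain ⟨a, ha⟩ := hy
  have hint : IsIntegral A (y ^ n) := ha ▸ isIntegral_algebraMap
  obtain ⟨b, hb⟩ := IsIntegrallyClosedIn.exists_algebraMap_eq_of_isIntegral_pow hn hint
  exact ⟨b, hb⟩

end

section

variable {A : Type u} [CommRing A] [IsDomain A] {r : ℕ} (x : Fin r → A)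

theorem prod_ne_zero_of_prime (hx : ∀ i, Prime (x i)) : (∏ i, x i) ≠ 0 :=
  Finset.prod_ne_zero_iff.mpr fun i _ => (hx i).ne_zero

theorem prod_dvd_of_forall_dvd (hx : ∀ i, Prime (x i))
    (hxa : ∀ i j, Associated (x i) (x j) → i = j) {a : A} (h : ∀ i, x i ∣ a) :
    (∏ i, x i) ∣ a := by
  classical
  have key : ∀ s : Finset (Fin r), (∏ i ∈ s, x i) ∣ a := by
    intro s
    induction s using Finset.induction_on with
    | empty => simp
    | insert j s hj ih =>
      rw [Finset.prod_insert hj]
      obtain ⟨b, hb⟩ := ih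
      have h1 : x j ∣ (∏ i ∈ s, x i) * b := hb ▸ h j
      rcases (hx j).dvd_or_dvd h1 with h2 | h2
      · exfalso
        obtain ⟨i, hi, hji⟩ := (Prime.dvd_finset_prod_iff (hx j) _).mp h2
        have hassoc : Associated (x j) (x i) := (hx j).associated_of_dvd (hx i) hji
        exact hj ((hxa j i hassoc) ▸ hi)
      · obtain ⟨c, hc⟩ := h2
        exact ⟨c, by rw [hb, hc]; ring⟩
  exact key Finset.univ

end

end Groth.Agent.Lib.Helper44
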