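import Groth.Agent.Lib.Helper44.UFDLoc

set_option autoImplicit false

namespace Groth.Agent.Lib.Helper44

universe u

variable {A B : Type u} [CommRing A] [IsDomain A] [CommRing B] [Algebra A B] {r : ℕ}
  (x : Fin r → A)

theorem not_dvd_prod_erase_pow (hx : ∀ i, Prime (x i))
    (hxa : ∀ i j, Associated (x i) (x j) → i = j) (s : Fin r → ℕ) (i : Fin r) :
    ¬ x i ∣ ∏ l ∈ Finset.univ.erase i, x l ^ s l := by
  intro h
  obtain ⟨l, hl, hil⟩ := (Prime.dvd_finset_prod_iff (hx i) _).mp h
  have h2 : x i ∣ x l := (hx i).dvd_of_dvd_pow hil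
  have hassoc : Associated (x i) (x l) := (hx i).associated_of_dvd (hx l) h2
  exact (Finset.ne_of_mem_erase hl) (hxa i l hassoc).symm

theorem mem_range_of_pow_mul_mem_range (hx : ∀ i, Prime (x i))
    (hxa : ∀ i j, Associated (x i) (x j) → i = j) [IsLocalization.Away (∏ i, x i) B]
    (N : ℕ) (s : Fin r → ℕ) (hs : ∀ i, s i < N) (z : B)
    (hz : z ^ N * algebraMap A B (∏ i, x i ^ s i) ∈ (algebraMap A B).range) :
    z ∈ (algebraMap A B).range := by
  classical
  have hπ : (∏ i, x i) ≠ 0 := prod_ne_zero_of_prime x hx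
  have hinj : Function.Injective (algebraMap A B) := algebraMap_injective_of_away hπ
  have hunit : IsUnit (algebraMap A B (∏ i, x i)) :=
    IsLocalization.Away.algebraMap_isUnit (∏ i, x i)
  obtain ⟨w, hw⟩ := hz
  have key : ∀ (k : ℕ) (a : A), z * algebraMap A B ((∏ i, x i) ^ k) = algebraMap A B a →
      z ∈ (algebraMap A B).range := by
    intro k
    induction k with
    | zero =>
      intro a ha
      exact ⟨a, by simpa using ha.symm⟩
    | succ k ih =>
      intro a ha
      have heq : a ^ N * (∏ i, x i ^ s i) = w * (∏ i, x i) ^ ((k + 1) * N) := by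
        apply hinj
        rw [map_mul, map_mul, map_pow, ← ha, hw, mul_pow, ← map_pow, ← pow_mul]
        ring
      have hdvd : ∀ i, x i ∣ a := by
        intro i
        by_contra hna
        have h1 : ¬ x i ∣ a ^ N := fun h => hna ((hx i).dvd_of_dvd_pow h)
        have h2 : x i ∣ ∏ i, x i := Finset.dvd_prod_of_mem _ (Finset.mem_univ i)
        have h3 : x i ^ N ∣ (∏ i, x i) ^ ((k + 1) * N) := by
          calc x i ^ N ∣ (∏ i, x i) ^ N := pow_dvd_pow_of_dvd h2 N
            _ ∣ (∏ i, x i) ^ ((k + 1) * N) := pow_dvd_pow _ (Nat.le_mul_of_pos_left N (Nat.succ_pos k))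
        have h4 : x i ^ N ∣ a ^ N * (∏ i, x i ^ s i) := heq ▸ Dvd.dvd.mul_left h3 w
        have h5 : x i ^ N ∣ ∏ i, x i ^ s i := (hx i).pow_dvd_of_dvd_mul_left N h1 h4
        rw [← Finset.mul_prod_erase Finset.univ (fun l => x l ^ s l) (Finset.mem_univ i)] at h5
        have h6 : x i ^ N ∣ x i ^ s i :=
          (hx i).pow_dvd_of_dvd_mul_right N (not_dvd_prod_erase_pow x hx hxa s i) h5
        have h7 : N ≤ s i := (pow_dvd_pow_iff (hx i).ne_zero (hx i).not_unit).mp h6
        exact absurd (hs i) (not_lt.mpr h7)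
      obtain ⟨a', ha'⟩ := prod_dvd_of_forall_dvd x hx hxa hdvd
      apply ih a'
      apply hunit.mul_right_cancel
      rw [mul_assoc, ← map_mul, ← pow_succ, ha, ha', map_mul, mul_comm]
  obtain ⟨⟨a, ⟨_, k, rfl⟩⟩, hak⟩ := IsLocalization.surj (Submonoid.powers (∏ i, x i)) z
  exact key k a hak

end Groth.Agent.Lib.Helper44
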