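import Mathlib

/-! Finiteness of the fibres of a weighted homogeneous polynomial map with trivial zero fibre.
(helper44)

Let `Φ : τ → MvPolynomial σ k` be weighted homogeneous of positive degrees for positive weights on
the variables, over an algebraically closed field, and suppose `0` is the only common zero of the
`Φ j`. Then the polynomial ring is a finite module over the subalgebra generated by the `Φ j`
(graded Nakayama), so every coordinate is integral over it, and every fibre of `Φ` is finite. -/

set_option autoImplicit false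
set_option linter.style.haveILetI false
set_option linter.unusedSectionVars false

universe u v w'

namespace Groth.Agent.Lib.Helper44.WHFinite

open MvPolynomial

variable {k : Type u} [Field k] {σ : Type v} {τ : Type w'}

/-- the finitely many monomials with all exponents below `M` -/
def smallMonomials (k : Type u) [Field k] (σ : Type v) (M : ℕ) : Set (MvPolynomial σ k) :=
  (fun t : σ →₀ ℕ => monomial t (1 : k)) '' {t | ∀ i, t i < M}

theorem smallMonomials_finite [Finite σ] (M : ℕ) : (smallMonomials k σ M).Finite := by
  apply Set.Finite.image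
  have h : ({t : σ →₀ ℕ | ∀ i, t i < M}) =
      (Finsupp.equivFunOnFinite (α := σ) (M := ℕ)).symm '' (Set.pi Set.univ fun _ => Set.Iio M) := by
    ext t
    constructor
    · intro ht
      refine ⟨Finsupp.equivFunOnFinite t, ?_, by simp⟩
      intro i _
      exact ht i
    · rintro ⟨f, hf, rfl⟩ i
      exact hf i (Set.mem_univ i)
  rw [h]
  exact (Set.Finite.pi fun _ => Set.finite_Iio M).image _

/-- graded Nakayama: every monomial is a combination of small monomials with coefficients in the
subalgebra generated by the `Φ j` -/
theorem monomial_mem_span [Fintype τ] (w : σ → ℕ) (Φ : τ → MvPolynomial σ k) (δ : τ → ℕ)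
    (hδ : ∀ j, 0 < δ j) (hΦ : ∀ j, IsWeightedHomogeneous w (Φ j) (δ j)) (M : ℕ)
    (hM : ∀ i, (X i : MvPolynomial σ k) ^ M ∈ Ideal.span (Set.range Φ)) :
    ∀ (n : ℕ) (s : σ →₀ ℕ), Finsupp.weight w s = n →
      monomial s (1 : k) ∈
        Submodule.span (Algebra.adjoin k (Set.range Φ)) (smallMonomials k σ M) := by
  classical
  set A' := Algebra.adjoin k (Set.range Φ) with hA'
  set N := Submodule.span A' (smallMonomials k σ M) with hN
  have hksmul : ∀ (c : k) (x : MvPolynomial σ k), x ∈ N → c • x ∈ N := by
    intro c x hx
    have : c • x = (algebraMap k A' c) • x := by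
      rw [algebraMap_smul]
    rw [this]
    exact N.smul_mem _ hx
  have hΦmul : ∀ (j : τ) (x : MvPolynomial σ k), x ∈ N → x * Φ j ∈ N := by
    intro j x hx
    have hj : Φ j ∈ A' := Algebra.subset_adjoin ⟨j, rfl⟩
    have : x * Φ j = (⟨Φ j, hj⟩ : A') • x := by
      rw [Subalgebra.smul_def, smul_eq_mul, mul_comm]
    rw [this]
    exact N.smul_mem _ hx
  intro n
  induction n using Nat.strong_induction_on with
  | _ n ih =>
    intro s hs
    by_cases hsmall : ∀ i, s i < M
    · exact Submodule.subset_span ⟨s, hsmall, rfl⟩
    · push Not at hsmall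
      obtain ⟨i, hi⟩ := hsmall
      -- the monomial lies in the ideal
      have hmem : monomial s (1 : k) ∈ Ideal.span (Set.range Φ) := by
        have hse : Finsupp.single i M + (s - Finsupp.single i M) = s := by
          ext l
          by_cases hl : l = i
          · subst hl
            simp only [Finsupp.coe_add, Finsupp.coe_tsub, Pi.add_apply, Pi.sub_apply,
              Finsupp.single_eq_same]
            omega
          · simp only [Finsupp.coe_add, Finsupp.coe_tsub, Pi.add_apply, Pi.sub_apply]
            rw [Finsupp.single_eq_of_ne hl]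
            omega
        have h1 : monomial s (1 : k) = X i ^ M * monomial (s - Finsupp.single i M) (1 : k) := by
          rw [X_pow_eq_monomial, monomial_mul, one_mul, hse]
        rw [h1]
        exact Ideal.mul_mem_right _ _ (hM i)
      obtain ⟨h, hh⟩ := Ideal.mem_span_range_iff_exists_fun.mp hmem
      -- take the component of weight `n`
      have hcomp : weightedHomogeneousComponent w n (monomial s (1 : k)) = monomial s (1 : k) :=
        (isWeightedHomogeneous_monomial w s (1 : k) hs).weightedHomogeneousComponent_same
      rw [← hcomp, ← hh, map_sum]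
      refine Submodule.sum_mem _ fun j _ => ?_
      rw [(h j).as_sum, Finset.sum_mul, map_sum]
      refine Submodule.sum_mem _ fun t _ => ?_
      have hwh : IsWeightedHomogeneous w (monomial t (coeff t (h j)) * Φ j)
          (Finsupp.weight w t + δ j) :=
        (isWeightedHomogeneous_monomial w t _ rfl).mul (hΦ j)
      by_cases hn : n = Finsupp.weight w t + δ j
      · rw [hn, hwh.weightedHomogeneousComponent_same]
        apply hΦmul
        have h2 : monomial t (coeff t (h j)) = coeff t (h j) • monomial t (1 : k) := by
          rw [smul_monomial, smul_eq_mul, mul_one]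
        rw [h2]
        apply hksmul
        exact ih (Finsupp.weight w t) (by have := hδ j; omega) t rfl
      · rw [hwh.weightedHomogeneousComponent_ne n hn]
        exact N.zero_mem

/-- the polynomial ring is a finite module over the subalgebra generated by the `Φ j` -/
theorem finite_over_adjoin [Finite σ] [Fintype τ] (w : σ → ℕ) (Φ : τ → MvPolynomial σ k)
    (δ : τ → ℕ) (hδ : ∀ j, 0 < δ j) (hΦ : ∀ j, IsWeightedHomogeneous w (Φ j) (δ j)) (M : ℕ)
    (hM : ∀ i, (X i : MvPolynomial σ k) ^ M ∈ Ideal.span (Set.range Φ)) :
    Module.Finite (Algebra.adjoin k (Set.range Φ)) (MvPolynomial σ k) := by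
  classical
  rw [Module.finite_def, Submodule.fg_def]
  refine ⟨smallMonomials k σ M, smallMonomials_finite M, ?_⟩
  rw [eq_top_iff]
  intro f _
  rw [f.as_sum]
  refine Submodule.sum_mem _ fun t _ => ?_
  have h2 : monomial t (coeff t f) = (algebraMap k (Algebra.adjoin k (Set.range Φ)) (coeff t f)) •
      monomial t (1 : k) := by
    rw [algebraMap_smul, smul_monomial, smul_eq_mul, mul_one]
  rw [h2]
  exact Submodule.smul_mem _ _ (monomial_mem_span w Φ δ hδ hΦ M hM _ t rfl)

/-- two points of the same fibre give the same evaluation on the subalgebra -/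
theorem eval_eq_of_mem_adjoin (Φ : τ → MvPolynomial σ k) {x y : σ → k}
    (hxy : ∀ j, eval x (Φ j) = eval y (Φ j)) {a : MvPolynomial σ k}
    (ha : a ∈ Algebra.adjoin k (Set.range Φ)) : eval x a = eval y a := by
  induction ha using Algebra.adjoin_induction with
  | mem a ha =>
    obtain ⟨j, rfl⟩ := ha
    exact hxy j
  | algebraMap r => simp
  | add a b _ _ iha ihb => rw [map_add, map_add, iha, ihb]
  | mul a b _ _ iha ihb => rw [map_mul, map_mul, iha, ihb]

/-- **finite fibres** -/
theorem finite_fibre [IsAlgClosed k] [Finite σ] [Finite τ] (w : σ → ℕ)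
    (Φ : τ → MvPolynomial σ k) (δ : τ → ℕ) (hδ : ∀ j, 0 < δ j)
    (hΦ : ∀ j, IsWeightedHomogeneous w (Φ j) (δ j))
    (hzero : ∀ x : σ → k, (∀ j, eval x (Φ j) = 0) → x = 0) (c : τ → k) :
    {x : σ → k | ∀ j, eval x (Φ j) = c j}.Finite := by
  classical
  haveI := Fintype.ofFinite τ
  -- Nullstellensatz: powers of the variables lie in the ideal
  have hrad : ∀ i, (X i : MvPolynomial σ k) ∈ (Ideal.span (Set.range Φ)).radical := by
    intro i
    rw [← vanishingIdeal_zeroLocus_eq_radical (K := k), mem_vanishingIdeal_iff]
    intro x hx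
    have hx0 : x = 0 := by
      apply hzero
      intro j
      have := hx (Φ j) (Ideal.subset_span ⟨j, rfl⟩)
      exact this
    rw [hx0]
    simp
  have hM : ∃ M : ℕ, ∀ i, (X i : MvPolynomial σ k) ^ M ∈ Ideal.span (Set.range Φ) := by
    haveI := Fintype.ofFinite σ
    choose m hm using hrad
    refine ⟨Finset.univ.sup m, fun i => ?_⟩
    exact (Ideal.span (Set.range Φ)).pow_mem_of_pow_mem (hm i)
      (Finset.le_sup (f := m) (Finset.mem_univ i))
  obtain ⟨M, hM⟩ := hM
  haveI := finite_over_adjoin w Φ δ hδ hΦ M hM
  set A' := Algebra.adjoin k (Set.range Φ) with hA'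
  have hint : ∀ i, IsIntegral A' (X i : MvPolynomial σ k) := fun i =>
    Algebra.IsIntegral.isIntegral _
  rcases Set.eq_empty_or_nonempty {x : σ → k | ∀ j, eval x (Φ j) = c j} with hemp | ⟨x0, hx0⟩
  · rw [hemp]
    exact Set.finite_empty
  choose P hPm hP using hint
  let ψ : A' →+* k := (eval x0).comp (algebraMap A' (MvPolynomial σ k))
  have hroot : ∀ x ∈ {x : σ → k | ∀ j, eval x (Φ j) = c j}, ∀ i,
      x i ∈ ((P i).map ψ).roots.toFinset := by
    intro x hx i
    have hψ : ψ = (eval x).comp (algebraMap A' (MvPolynomial σ k)) := by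
      ext a
      exact eval_eq_of_mem_adjoin Φ (fun j => by rw [hx0 j, hx j]) a.2
    rw [Multiset.mem_toFinset, Polynomial.mem_roots ((hPm i).map ψ).ne_zero, Polynomial.IsRoot,
      Polynomial.eval_map, hψ]
    have h3 := Polynomial.hom_eval₂ (P i) (algebraMap A' (MvPolynomial σ k)) (eval x) (X i)
    rw [hP i, map_zero, eval_X] at h3
    exact h3.symm
  have hsub : {x : σ → k | ∀ j, eval x (Φ j) = c j} ⊆
      Set.pi Set.univ fun i => (((P i).map ψ).roots.toFinset : Set k) := by
    intro x hx i _
    exact hroot x hx i
  exact (Set.Finite.pi fun i => Finset.finite_toSet _).subset hsub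

end Groth.Agent.Lib.Helper44.WHFinite
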