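import Groth.Agent.Lib.Helper44.WittTeich
import Groth.Agent.Lib.Helper44.UFDLoc
import Groth.Prelude.Def_W4c6katofiltaWFil
import Mathlib.Algebra.CharP.Lemmas
import Mathlib.Algebra.CharP.Algebra
import Mathlib.FieldTheory.IsAlgClosed.AlgebraicClosure

set_option autoImplicit false

namespace Groth.Agent.Lib.Helper44

universe u

section Root

variable (p : ℕ) [hp : Fact p.Prime] {A B K : Type*} [CommRing A] [CommRing B] [Algebra A B]
  [CommRing K] [CharP K p] (ι : B →+* K) (m : ℕ)

def rootSubring : Subring K where
  carrier := {w | w ^ (p ^ (m - 1)) ∈ (ι.comp (algebraMap A B)).range}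
  mul_mem' := by
    intro a b ha hb
    simp only [Set.mem_setOf_eq, mul_pow] at ha hb ⊢
    exact Subring.mul_mem _ ha hb
  one_mem' := by
    simp only [Set.mem_setOf_eq, one_pow]
    exact Subring.one_mem _
  add_mem' := by
    intro a b ha hb
    simp only [Set.mem_setOf_eq] at ha hb ⊢
    rw [add_pow_char_pow]
    exact Subring.add_mem _ ha hb
  zero_mem' := by
    simp only [Set.mem_setOf_eq]
    rw [zero_pow (pow_ne_zero _ hp.out.ne_zero)]
    exact Subring.zero_mem _
  neg_mem' := by
    intro a ha
    simp only [Set.mem_setOf_eq] at ha ⊢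
    rw [neg_pow, neg_one_pow_char_pow]
    exact Subring.mul_mem _ (Subring.neg_mem _ (Subring.one_mem _)) ha

theorem mem_rootSubring (w : K) :
    w ∈ rootSubring (A := A) p ι m ↔ w ^ (p ^ (m - 1)) ∈ (ι.comp (algebraMap A B)).range :=
  Iff.rfl

noncomputable def coeffSubring (S : Subring K) : Subring (WittVector p K) :=
  (WittVector.map S.subtype).range

theorem mem_coeffSubring (S : Subring K) (x : WittVector p K) :
    x ∈ coeffSubring p S ↔ ∀ n, x.coeff n ∈ S := by
  constructor
  · rintro ⟨y, rfl⟩ n
    rw [WittVector.map_coeff]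
    exact (y.coeff n).2
  · intro h
    refine ⟨WittVector.mk p (fun n => ⟨x.coeff n, h n⟩), ?_⟩
    ext n
    rw [WittVector.map_coeff]
    rfl

variable {ι} in
theorem truncate_mem_fil_iff (hι : Function.Injective ι)
    (hT2 : ∀ (y : B) (k : ℕ), y ^ (p ^ k) ∈ (algebraMap A B).range → y ∈ (algebraMap A B).range)
    (c : B) (T : K) (hT : T ^ (p ^ (m - 1)) = ι c) (X : WittVector p B) :
    WittVector.truncate m X ∈ WittFil.fil p m (A := A) c ↔
      ∀ n < m, (WittVector.map ι X * WittVector.teichmuller p T).coeff n ∈
        rootSubring (A := A) p ι m := by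
  have key : ∀ n < m, ((WittVector.map ι X * WittVector.teichmuller p T).coeff n) ^ (p ^ (m - 1)) =
      ι ((X.coeff n ^ (p ^ (m - 1 - n)) * c) ^ (p ^ n)) := by
    intro n hn
    rw [mul_teichmuller_coeff, WittVector.map_coeff, mul_pow, ← pow_mul, mul_comm (p ^ n),
      pow_mul, hT, map_pow, map_mul, map_pow, mul_pow, ← pow_mul, ← pow_add]
    have e : m - 1 - n + n = m - 1 := by omega
    rw [e]
  constructor
  · intro h n hn
    rw [mem_rootSubring, key n hn]
    have h1 := h ⟨n, hn⟩
    rw [WittVector.coeff_truncate] at h1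
    obtain ⟨a, ha⟩ := Subring.pow_mem _ h1 (p ^ n)
    exact ⟨a, by rw [RingHom.comp_apply, ha]⟩
  · intro h j
    have h1 := h j j.2
    rw [mem_rootSubring, key j j.2] at h1
    obtain ⟨a, ha⟩ := h1
    rw [RingHom.comp_apply] at ha
    have h2 := hι ha
    rw [WittVector.coeff_truncate]
    exact hT2 _ (j : ℕ) ⟨a, h2⟩

end Root

section Setup

variable (p : ℕ) [hp : Fact p.Prime] {A B : Type u} [CommRing A] [IsDomain A]
  [UniqueFactorizationMonoid A] [CharP A p] [CommRing B] [Algebra A B]

theorem exists_root_setup {π : A} (hπ : π ≠ 0) [IsLocalization.Away π B] :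
    ∃ (K : Type u) (_ : Field K) (_ : CharP K p) (_ : IsAlgClosed K) (ι : B →+* K),
      Function.Injective ι := by
  haveI : IsDomain B :=
    IsLocalization.isDomain_of_le_nonZeroDivisors (M := Submonoid.powers π) B
      (powers_le_nonZeroDivisors hπ)
  haveI : CharP B p := charP_of_injective_algebraMap (algebraMap_injective_of_away hπ) p
  haveI : CharP (FractionRing B) p :=
    charP_of_injective_algebraMap (IsFractionRing.injective B (FractionRing B)) p
  haveI : CharP (AlgebraicClosure (FractionRing B)) p :=
    charP_of_injective_algebraMap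
      (algebraMap (FractionRing B) (AlgebraicClosure (FractionRing B))).injective p
  refine ⟨AlgebraicClosure (FractionRing B), inferInstance, inferInstance, inferInstance,
    (algebraMap (FractionRing B) (AlgebraicClosure (FractionRing B))).comp
      (algebraMap B (FractionRing B)), ?_⟩
  exact (algebraMap (FractionRing B) (AlgebraicClosure (FractionRing B))).injective.comp
    (IsFractionRing.injective B (FractionRing B))

end Setup

end Groth.Agent.Lib.Helper44
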