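import Groth.Agent.Lib.Helper44.Pencil5
import Groth.Agent.Lib.Helper44.WHFinite

/-! The fibres of the Wronski map on normalised pairs are finite. (helper44)

Normalised pairs: `F = X^(r+1) + (terms of degree < r)`, `G = X^r + (terms of degree < r)`.
Their Wronskian is `-X^(2r) + (lower terms)`, and the lower coefficients are weighted homogeneous
polynomials in the coefficients of `F` and `G`, vanishing simultaneously only at `(X^(r+1), X^r)`
when the characteristic is zero or larger than `r + 1`. -/

set_option autoImplicit false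
set_option linter.style.haveILetI false
set_option linter.unusedSectionVars false

universe u

namespace Groth.Agent.Lib.Helper44.Pencil

open Polynomial

/-! ### Normalised polynomials -/

section mk

variable {R : Type*} [CommRing R] {r : ℕ}

/-- `X^n` plus the polynomial of degree `< r` with the given coefficients -/
noncomputable def mk (n : ℕ) (a : Fin r → R) : R[X] :=
  X ^ n + ∑ i : Fin r, C (a i) * X ^ (i : ℕ)

theorem coeff_mk (n : ℕ) (a : Fin r → R) (j : ℕ) :
    (mk n a).coeff j = (if j = n then 1 else 0) + (if h : j < r then a ⟨j, h⟩ else 0) := by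
  unfold mk
  rw [coeff_add, coeff_X_pow, finsetSum_coeff]
  congr 1
  by_cases h : j < r
  · rw [dif_pos h, Finset.sum_eq_single ⟨j, h⟩]
    · rw [coeff_C_mul, coeff_X_pow, if_pos rfl, mul_one]
    · intro b _ hb
      rw [coeff_C_mul, coeff_X_pow, if_neg, mul_zero]
      intro hjb
      exact hb (Fin.ext hjb.symm)
    · intro h'
      exact absurd (Finset.mem_univ _) h'
  · rw [dif_neg h]
    apply Finset.sum_eq_zero
    intro b _
    rw [coeff_C_mul, coeff_X_pow, if_neg, mul_zero]
    intro hjb
    exact h (hjb ▸ b.2)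

theorem map_mk {S : Type*} [CommRing S] (f : R →+* S) (n : ℕ) (a : Fin r → R) :
    (mk n a).map f = mk n (fun i => f (a i)) := by
  unfold mk
  simp [Polynomial.map_sum]

theorem mk_eq_of_coeff {n : ℕ} (hn : r ≤ n) {F : R[X]} (h1 : F.coeff n = 1)
    (h2 : ∀ j, n < j → F.coeff j = 0) (h3 : ∀ j, r ≤ j → j < n → F.coeff j = 0) :
    mk n (fun i : Fin r => F.coeff i) = F := by
  ext j
  rw [coeff_mk]
  by_cases hj : j < r
  · rw [dif_pos hj, if_neg (by omega), zero_add]
  · rw [dif_neg hj, add_zero]
    by_cases hjn : j = n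
    · rw [if_pos hjn, hjn, h1]
    · rw [if_neg hjn]
      rcases Nat.lt_or_gt_of_ne hjn with h | h
      · exact (h3 j (by omega) h).symm
      · exact (h2 j h).symm

theorem coeff_mk_self {n : ℕ} (hn : r ≤ n) (a : Fin r → R) : (mk n a).coeff n = 1 := by
  rw [coeff_mk, if_pos rfl, dif_neg (by omega), add_zero]

theorem coeff_mk_of_lt {n : ℕ} (a : Fin r → R) {j : ℕ} (hj : n < j) (hn : r ≤ n) :
    (mk n a).coeff j = 0 := by
  rw [coeff_mk, if_neg (by omega), dif_neg (by omega), add_zero]

theorem coeff_mk_mid {n : ℕ} (a : Fin r → R) {j : ℕ} (hj : r ≤ j) (hjn : j < n) :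
    (mk n a).coeff j = 0 := by
  rw [coeff_mk, if_neg (by omega), dif_neg (by omega), add_zero]

theorem coeff_mk_low {n : ℕ} (hn : r ≤ n) (a : Fin r → R) (i : Fin r) :
    (mk n a).coeff i = a i := by
  rw [coeff_mk, if_neg (by have := i.2; omega), dif_pos i.2, zero_add]

theorem natDegree_mk_le {n : ℕ} (hn : r ≤ n) (a : Fin r → R) : (mk n a).natDegree ≤ n := by
  rw [natDegree_le_iff_coeff_eq_zero]
  intro j hj
  exact coeff_mk_of_lt a hj hn

end mk

/-! ### Coefficients of Wronskians -/

section wr

variable {R : Type*} [CommRing R]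

theorem wronskian_map {S : Type*} [CommRing S] (f : R →+* S) (F G : R[X]) :
    (wronskian F G).map f = wronskian (F.map f) (G.map f) := by
  unfold wronskian
  simp only [Polynomial.map_sub, Polynomial.map_mul, derivative_map]

/-- the top coefficient of the Wronskian of a normalised pair -/
theorem coeff_wronskian_top {r : ℕ} {F G : R[X]} (hF : F.natDegree ≤ r + 1)
    (hG : G.natDegree ≤ r) (hF1 : F.coeff (r + 1) = 1) (hG1 : G.coeff r = 1) :
    (wronskian F G).coeff (2 * r) = -1 := by
  unfold wronskian
  rw [coeff_sub]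
  have h1 : (derivative F * G).coeff (r + r) = (derivative F).coeff r * G.coeff r := by
    apply coeff_mul_add_eq_of_natDegree_le _ hG
    exact (natDegree_derivative_le F).trans (by omega)
  have h2 : (F * derivative G).coeff (2 * r) = (r : R) := by
    rcases Nat.eq_zero_or_pos r with hr | hr
    · subst hr
      have hG0 : G = C (G.coeff 0) := eq_C_of_natDegree_le_zero hG
      rw [hG0, derivative_C, mul_zero, coeff_zero]
      simp
    · have h3 : (F * derivative G).coeff ((r + 1) + (r - 1)) =
          F.coeff (r + 1) * (derivative G).coeff (r - 1) := by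
        apply coeff_mul_add_eq_of_natDegree_le hF
        exact (natDegree_derivative_le G).trans (by omega)
      have h4 : (r + 1) + (r - 1) = 2 * r := by omega
      rw [h4] at h3
      rw [h3, hF1, one_mul, coeff_derivative]
      have h5 : r - 1 + 1 = r := by omega
      rw [h5, hG1, one_mul]
      have h6 : ((r - 1 : ℕ) : R) + 1 = ((r - 1 + 1 : ℕ) : R) := by push_cast; rfl
      rw [h6, h5]
  have h7 : 2 * r = r + r := by omega
  rw [h2, h7, h1, coeff_derivative, hF1, hG1]
  ring

theorem natDegree_wronskian_le {r : ℕ} {F G : R[X]} (hF : F.natDegree ≤ r + 1)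
    (hG : G.natDegree ≤ r) : (wronskian F G).natDegree ≤ 2 * r := by
  unfold wronskian
  apply (natDegree_sub_le _ _).trans
  apply max_le
  · rcases Nat.eq_zero_or_pos r with hr | hr
    · subst hr
      have hG0 : G = C (G.coeff 0) := eq_C_of_natDegree_le_zero hG
      rw [hG0, derivative_C, mul_zero, natDegree_zero]
    · apply natDegree_mul_le.trans
      have := natDegree_derivative_le G
      omega
  · apply natDegree_mul_le.trans
    have := natDegree_derivative_le F
    omega

end wr

/-! ### Weighted homogeneity of the coefficients -/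

section wh

open MvPolynomial in
/-- the coefficient of `X^j` is weighted homogeneous of degree `D - j` -/
def IsWH {k : Type u} [Field k] {σ : Type} (w : σ → ℕ) (Q : (MvPolynomial σ k)[X]) (D : ℕ) : Prop :=
  ∀ j, (∀ i, i + j = D → MvPolynomial.IsWeightedHomogeneous w (Q.coeff j) i) ∧
    (D < j → Q.coeff j = 0)

variable {k : Type u} [Field k] {σ : Type} {w : σ → ℕ}

theorem IsWH.mul {Q Q' : (MvPolynomial σ k)[X]} {D D' : ℕ} (hQ : IsWH w Q D)
    (hQ' : IsWH w Q' D') : IsWH w (Q * Q') (D + D') := by
  intro j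
  constructor
  · intro i hij
    rw [coeff_mul]
    apply MvPolynomial.IsWeightedHomogeneous.sum
    rintro ⟨a, b⟩ hab
    rw [Finset.HasAntidiagonal.mem_antidiagonal] at hab
    simp only at hab ⊢
    by_cases ha : D < a
    · rw [(hQ a).2 ha, zero_mul]
      exact MvPolynomial.isWeightedHomogeneous_zero _ _ _
    by_cases hb : D' < b
    · rw [(hQ' b).2 hb, mul_zero]
      exact MvPolynomial.isWeightedHomogeneous_zero _ _ _
    have h1 := ((hQ a).1 (D - a) (by omega)).mul ((hQ' b).1 (D' - b) (by omega))
    have h2 : D - a + (D' - b) = i := by omega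
    rwa [h2] at h1
  · intro hj
    rw [coeff_mul]
    apply Finset.sum_eq_zero
    rintro ⟨a, b⟩ hab
    rw [Finset.HasAntidiagonal.mem_antidiagonal] at hab
    simp only at hab ⊢
    by_cases ha : D < a
    · rw [(hQ a).2 ha, zero_mul]
    · rw [(hQ' b).2 (by omega), mul_zero]

theorem IsWH.sub {Q Q' : (MvPolynomial σ k)[X]} {D : ℕ} (hQ : IsWH w Q D)
    (hQ' : IsWH w Q' D) : IsWH w (Q - Q') D := by
  intro j
  constructor
  · intro i hij
    rw [coeff_sub]
    exact ((hQ j).1 i hij).sub ((hQ' j).1 i hij)
  · intro hj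
    rw [coeff_sub, (hQ j).2 hj, (hQ' j).2 hj, sub_zero]

theorem IsWH.derivative {Q : (MvPolynomial σ k)[X]} {D : ℕ} (hQ : IsWH w Q D) :
    IsWH w (derivative Q) (D - 1) := by
  intro j
  have hc : ((j : MvPolynomial σ k) + 1) = MvPolynomial.C ((j : k) + 1) := by
    simp
  constructor
  · intro i hij
    rw [coeff_derivative, hc]
    by_cases hD : D < j + 1
    · rw [(hQ (j + 1)).2 hD, zero_mul]
      exact MvPolynomial.isWeightedHomogeneous_zero _ _ _
    · have h1 := ((hQ (j + 1)).1 i (by omega)).mul (MvPolynomial.isWeightedHomogeneous_C w ((j : k) + 1))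
      rwa [add_zero] at h1
  · intro hj
    rw [coeff_derivative, (hQ (j + 1)).2 (by omega), zero_mul]

theorem IsWH.wronskian {F G : (MvPolynomial σ k)[X]} {r : ℕ} (hr : 0 < r) (hF : IsWH w F (r + 1))
    (hG : IsWH w G r) : IsWH w (wronskian F G) (2 * r) := by
  unfold Polynomial.wronskian
  have h1 := hF.mul hG.derivative
  have h2 := hF.derivative.mul hG
  have e1 : r + 1 + (r - 1) = 2 * r := by omega
  have e2 : r + 1 - 1 + r = 2 * r := by omega
  rw [e1] at h1
  rw [e2] at h2
  exact h1.sub h2

end wh

/-! ### The zero fibre -/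

section zero

variable {k : Type u} [Field k]

theorem exists_ord0 {A : k[X]} (hA : A ≠ 0) :
    ∃ (u : ℕ) (A2 : k[X]), A = X ^ u * A2 ∧ A2.coeff 0 ≠ 0 := by
  obtain ⟨q, hq, hnd⟩ := exists_eq_pow_rootMultiplicity_mul_and_not_dvd A hA 0
  rw [C_0, sub_zero] at hq hnd
  exact ⟨_, q, hq, fun h => hnd (X_dvd_iff.mpr h)⟩

theorem X_mul_derivative_X_pow (u : ℕ) :
    (X : k[X]) * derivative (X ^ u) = C (u : k) * X ^ u := by
  rw [derivative_X_pow]
  rcases u with _ | u
  · simp
  · rw [Nat.add_sub_cancel, pow_succ]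
    ring

theorem X_mul_wronskian_pow (u v : ℕ) (A B : k[X]) :
    X * wronskian (X ^ u * A) (X ^ v * B) =
      X ^ (u + v) * ((C (v : k) - C (u : k)) * (A * B) + X * wronskian A B) := by
  unfold wronskian
  rw [derivative_mul, derivative_mul]
  have hu := X_mul_derivative_X_pow (k := k) u
  have hv := X_mul_derivative_X_pow (k := k) v
  have h1 : X * (X ^ u * A * (derivative (X ^ v) * B + X ^ v * derivative B) -
      (derivative (X ^ u) * A + X ^ u * derivative A) * (X ^ v * B)) =
      X ^ u * A * ((X * derivative (X ^ v)) * B + X ^ v * X * derivative B) -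
        ((X * derivative (X ^ u)) * A + X ^ u * X * derivative A) * (X ^ v * B) := by ring
  rw [h1, hu, hv, pow_add]
  ring

theorem wronskian_sub_C_mul (lam : k) (F G : k[X]) :
    wronskian (F - C lam * G) G = wronskian F G := by
  simp only [wronskian, derivative_sub, derivative_C_mul]
  ring

/-- a normalised pair with Wronskian `-X^(2r)` is `(X^(r+1), X^r)` -/
theorem eq_X_pow_of_wronskian {r : ℕ} (hchar : ∀ m : ℕ, 0 < m → m ≤ r + 1 → (m : k) ≠ 0)
    {F G : k[X]} (hF : F.Monic) (hFd : F.natDegree = r + 1) (hG : G.Monic)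
    (hGd : G.natDegree = r) (hFr : F.coeff r = 0) (hW : wronskian F G = - X ^ (2 * r)) :
    F = X ^ (r + 1) ∧ G = X ^ r := by
  have hG0 : G ≠ 0 := hG.ne_zero
  obtain ⟨v, G1, hG1, hG10⟩ := exists_ord0 hG0
  have hG1ne : G1 ≠ 0 := by
    rintro rfl
    simp at hG10
  have hv : v ≤ r := by
    have h1 := congrArg natDegree hG1
    rw [hGd, natDegree_mul (pow_ne_zero _ X_ne_zero) hG1ne, natDegree_X_pow] at h1
    omega
  -- subtract a multiple of `G` to get a different order of vanishing
  have hdeglt : ∀ lam : k, (C lam * G).natDegree < F.natDegree := by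
    intro lam
    have := natDegree_C_mul_le lam G
    omega
  have key : ∃ (lam : k) (u : ℕ) (F2 : k[X]), F - C lam * G = X ^ u * F2 ∧ F2.coeff 0 ≠ 0 ∧
      u ≠ v := by
    obtain ⟨u', F1, hF1, hF10⟩ := exists_ord0 hF.ne_zero
    by_cases huv : u' = v
    · subst huv
      set lam := F1.coeff 0 / G1.coeff 0 with hlam
      have hmon : (F - C lam * G).Monic := hF.sub_of_left (degree_lt_degree (hdeglt lam))
      obtain ⟨u, F2, hF2, hF20⟩ := exists_ord0 hmon.ne_zero
      refine ⟨lam, u, F2, hF2, hF20, ?_⟩
      intro huv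
      subst huv
      have h1 : X ^ u * F2 = X ^ u * (F1 - C lam * G1) := by
        rw [← hF2]
        conv_lhs => rw [hF1, hG1]
        ring
      have h2 : F2 = F1 - C lam * G1 := mul_left_cancel₀ (pow_ne_zero _ X_ne_zero) h1
      apply hF20
      rw [h2, coeff_sub, coeff_C_mul, hlam, div_mul_cancel₀ _ hG10, sub_self]
    · exact ⟨0, u', F1, by rw [C_0, zero_mul, sub_zero]; exact hF1, hF10, huv⟩
  obtain ⟨lam, u, F2, hF2, hF20, huv⟩ := key
  have hF2ne : F2 ≠ 0 := by
    rintro rfl
    simp at hF20
  have hmon : (F - C lam * G).Monic := hF.sub_of_left (degree_lt_degree (hdeglt lam))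
  have hFtd : (F - C lam * G).natDegree = r + 1 := by
    rw [natDegree_sub_eq_left_of_natDegree_lt (hdeglt lam), hFd]
  have hu : u ≤ r + 1 := by
    have h1 := congrArg natDegree hF2
    rw [hFtd, natDegree_mul (pow_ne_zero _ X_ne_zero) hF2ne, natDegree_X_pow] at h1
    omega
  -- the key identity
  have hWt : wronskian (F - C lam * G) G = - X ^ (2 * r) := by
    rw [wronskian_sub_C_mul, hW]
  have hkey := X_mul_wronskian_pow u v F2 G1
  rw [← hF2, ← hG1, hWt] at hkey
  set Q := (C (v : k) - C (u : k)) * (F2 * G1) + X * wronskian F2 G1 with hQ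
  have hQ0 : Q.coeff 0 ≠ 0 := by
    have h1 : Q.coeff 0 = ((v : k) - (u : k)) * (F2.coeff 0 * G1.coeff 0) := by
      rw [hQ, coeff_add, mul_coeff_zero, mul_coeff_zero, mul_coeff_zero, coeff_X_zero, zero_mul,
        add_zero, coeff_sub, coeff_C_zero, coeff_C_zero]
    rw [h1]
    refine mul_ne_zero ?_ (mul_ne_zero hF20 hG10)
    rcases Nat.lt_or_gt_of_ne huv with h | h
    · have h2 : ((v : k) - (u : k)) = ((v - u : ℕ) : k) := by
        rw [Nat.cast_sub h.le]
      rw [h2]
      exact hchar _ (by omega) (by omega)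
    · have h2 : ((v : k) - (u : k)) = -((u - v : ℕ) : k) := by
        rw [Nat.cast_sub h.le]
        ring
      rw [h2]
      exact neg_ne_zero.mpr (hchar _ (by omega) (by omega))
  have huvle : u + v ≤ 2 * r + 1 := by omega
  have huv2 : u + v = 2 * r + 1 := by
    by_contra hne
    have h1 : X ^ (u + v) * (- X ^ (2 * r + 1 - (u + v))) = X ^ (u + v) * Q := by
      rw [← hkey, mul_neg, ← pow_add]
      have : u + v + (2 * r + 1 - (u + v)) = 2 * r + 1 := by omega
      rw [this, pow_succ]
      ring
    have h2 : - X ^ (2 * r + 1 - (u + v)) = Q := mul_left_cancel₀ (pow_ne_zero _ X_ne_zero) h1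
    apply hQ0
    rw [← h2, coeff_neg, coeff_X_pow, if_neg (by omega), neg_zero]
  have hur : u = r + 1 := by omega
  have hvr : v = r := by omega
  subst hvr
  have hGe : G = X ^ v :=
    eq_of_monic_of_dvd_of_natDegree_le (monic_X_pow v) hG ⟨G1, hG1⟩
      (by rw [hGd, natDegree_X_pow])
  have hFte : F - C lam * G = X ^ (v + 1) :=
    eq_of_monic_of_dvd_of_natDegree_le (monic_X_pow (v + 1)) hmon ⟨F2, by rw [hF2, hur]⟩
      (by rw [hFtd, natDegree_X_pow])
  have hFe : F = X ^ (v + 1) + C lam * X ^ v := by
    rw [← hFte, hGe]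
    ring
  have hlam : lam = 0 := by
    have h1 := hFr
    rw [hFe, coeff_add, coeff_X_pow, if_neg (by omega), coeff_C_mul, coeff_X_pow, if_pos rfl,
      zero_add, mul_one] at h1
    exact h1
  refine ⟨?_, hGe⟩
  rw [hFe, hlam, C_0, zero_mul, add_zero]

end zero

/-! ### The parametrised family of normalised pairs -/

section param

/-- index type of the unknown coefficients -/
abbrev Idx (r : ℕ) : Type := Fin r ⊕ Fin r

/-- the first member `X^(r+1) + ∑_{i<r} x_i X^i` -/
noncomputable def Fx {R : Type*} [CommRing R] (r : ℕ) (x : Idx r → R) : R[X] :=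
  mk (r + 1) (fun i => x (Sum.inl i))

/-- the second member `X^r + ∑_{i<r} y_i X^i` -/
noncomputable def Gx {R : Type*} [CommRing R] (r : ℕ) (x : Idx r → R) : R[X] :=
  mk r (fun i => x (Sum.inr i))

/-- the weights of the unknowns -/
def wt (r : ℕ) : Idx r → ℕ := Sum.elim (fun i => r + 1 - i) (fun i => r - i)

variable (k : Type u) [Field k]

/-- the lower coefficients of the Wronskian as polynomials in the unknowns -/
noncomputable def Phi (r : ℕ) (j : Fin (2 * r)) : MvPolynomial (Idx r) k :=
  (wronskian (Fx r (MvPolynomial.X : Idx r → MvPolynomial (Idx r) k))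
    (Gx r (MvPolynomial.X : Idx r → MvPolynomial (Idx r) k))).coeff j

variable {k}

theorem eval_Phi (r : ℕ) (x : Idx r → k) (j : Fin (2 * r)) :
    MvPolynomial.eval x (Phi k r j) = (wronskian (Fx r x) (Gx r x)).coeff j := by
  unfold Phi
  rw [← Polynomial.coeff_map, wronskian_map]
  have h1 : (Fx r (MvPolynomial.X : Idx r → MvPolynomial (Idx r) k)).map (MvPolynomial.eval x) =
      Fx r x := by
    unfold Fx
    rw [map_mk]
    simp
  have h2 : (Gx r (MvPolynomial.X : Idx r → MvPolynomial (Idx r) k)).map (MvPolynomial.eval x) =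
      Gx r x := by
    unfold Gx
    rw [map_mk]
    simp
  rw [h1, h2]

theorem isWH_Fx (r : ℕ) :
    IsWH (wt r) (Fx r (MvPolynomial.X : Idx r → MvPolynomial (Idx r) k)) (r + 1) := by
  intro j
  unfold Fx
  rw [coeff_mk]
  constructor
  · intro i hij
    by_cases hj : j < r
    · rw [dif_pos hj, if_neg (by omega), zero_add]
      have h1 := MvPolynomial.isWeightedHomogeneous_X (R := k) (wt r) (Sum.inl ⟨j, hj⟩)
      have e : wt r (Sum.inl ⟨j, hj⟩) = i := by
        simp only [wt, Sum.elim_inl]
        omega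
      rwa [e] at h1
    · rw [dif_neg hj, add_zero]
      by_cases hjn : j = r + 1
      · rw [if_pos hjn]
        have hi : i = 0 := by omega
        rw [hi]
        exact MvPolynomial.isWeightedHomogeneous_one _ _
      · rw [if_neg hjn]
        exact MvPolynomial.isWeightedHomogeneous_zero _ _ _
  · intro hj
    rw [if_neg (by omega), dif_neg (by omega), add_zero]

theorem isWH_Gx (r : ℕ) :
    IsWH (wt r) (Gx r (MvPolynomial.X : Idx r → MvPolynomial (Idx r) k)) r := by
  intro j
  unfold Gx
  rw [coeff_mk]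
  constructor
  · intro i hij
    by_cases hj : j < r
    · rw [dif_pos hj, if_neg (by omega), zero_add]
      have h1 := MvPolynomial.isWeightedHomogeneous_X (R := k) (wt r) (Sum.inr ⟨j, hj⟩)
      have e : wt r (Sum.inr ⟨j, hj⟩) = i := by
        simp only [wt, Sum.elim_inr]
        omega
      rwa [e] at h1
    · rw [dif_neg hj, add_zero]
      by_cases hjn : j = r
      · rw [if_pos hjn]
        have hi : i = 0 := by omega
        rw [hi]
        exact MvPolynomial.isWeightedHomogeneous_one _ _
      · rw [if_neg hjn]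
        exact MvPolynomial.isWeightedHomogeneous_zero _ _ _
  · intro hj
    rw [if_neg (by omega), dif_neg (by omega), add_zero]

theorem monic_Fx {R : Type*} [CommRing R] (r : ℕ) (x : Idx r → R) : (Fx r x).Monic :=
  monic_of_natDegree_le_of_coeff_eq_one (r + 1) (natDegree_mk_le (by omega) _)
    (coeff_mk_self (by omega) _)

theorem monic_Gx {R : Type*} [CommRing R] (r : ℕ) (x : Idx r → R) : (Gx r x).Monic :=
  monic_of_natDegree_le_of_coeff_eq_one r (natDegree_mk_le le_rfl _) (coeff_mk_self le_rfl _)

theorem natDegree_Fx {R : Type*} [CommRing R] [Nontrivial R] (r : ℕ) (x : Idx r → R) :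
    (Fx r x).natDegree = r + 1 :=
  natDegree_eq_of_le_of_coeff_ne_zero (natDegree_mk_le (by omega) _)
    (by rw [Fx, coeff_mk_self (by omega)]; exact one_ne_zero)

theorem natDegree_Gx {R : Type*} [CommRing R] [Nontrivial R] (r : ℕ) (x : Idx r → R) :
    (Gx r x).natDegree = r :=
  natDegree_eq_of_le_of_coeff_ne_zero (natDegree_mk_le le_rfl _)
    (by rw [Gx, coeff_mk_self le_rfl]; exact one_ne_zero)

/-- a polynomial of degree at most `2r` with top coefficient `-1` and vanishing lower coefficients -/
theorem eq_neg_X_pow {R : Type*} [CommRing R] {N : ℕ} {W : R[X]} (hd : W.natDegree ≤ N)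
    (htop : W.coeff N = -1) (hlow : ∀ j, j < N → W.coeff j = 0) : W = - X ^ N := by
  ext j
  rw [coeff_neg, coeff_X_pow]
  rcases Nat.lt_trichotomy j N with h | h | h
  · rw [hlow j h, if_neg (by omega), neg_zero]
  · rw [h, htop, if_pos rfl]
  · rw [coeff_eq_zero_of_natDegree_lt (by omega), if_neg (by omega), neg_zero]

/-- **finiteness of the fibres of the Wronski map on normalised pairs** -/
theorem finite_param [IsAlgClosed k] (r : ℕ)
    (hchar : ∀ m : ℕ, 0 < m → m ≤ r + 1 → (m : k) ≠ 0) (c : Fin (2 * r) → k) :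
    {x : Idx r → k | ∀ j : Fin (2 * r), (wronskian (Fx r x) (Gx r x)).coeff j = c j}.Finite := by
  have h := WHFinite.finite_fibre (wt r) (Phi k r) (fun j => 2 * r - j)
    (fun j => by have := j.2; omega)
    (fun j => by
      have hr : 0 < r := by have := j.2; omega
      exact (((isWH_Fx (k := k) r).wronskian hr (isWH_Gx r)) j).1 (2 * r - j)
        (by have := j.2; omega))
    (by
      intro x hx
      simp only [eval_Phi] at hx
      have hW : wronskian (Fx r x) (Gx r x) = - X ^ (2 * r) :=
        eq_neg_X_pow (natDegree_wronskian_le (natDegree_Fx r x).le (natDegree_Gx r x).le)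
          (coeff_wronskian_top (natDegree_Fx r x).le (natDegree_Gx r x).le
            (coeff_mk_self (by omega) _) (coeff_mk_self le_rfl _))
          (fun j hj => hx ⟨j, hj⟩)
      obtain ⟨hFe, hGe⟩ := eq_X_pow_of_wronskian hchar (monic_Fx r x) (natDegree_Fx r x)
        (monic_Gx r x) (natDegree_Gx r x) (coeff_mk_mid _ le_rfl (by omega)) hW
      funext i
      rcases i with i | i
      · have h1 : (Fx r x).coeff i = x (Sum.inl i) := coeff_mk_low (by omega) _ i
        rw [hFe, coeff_X_pow, if_neg (by have := i.2; omega)] at h1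
        exact h1.symm
      · have h1 : (Gx r x).coeff i = x (Sum.inr i) := coeff_mk_low le_rfl _ i
        rw [hGe, coeff_X_pow, if_neg (by have := i.2; omega)] at h1
        exact h1.symm)
    c
  simpa only [eval_Phi] using h

end param

end Groth.Agent.Lib.Helper44.Pencil
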