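import Groth.Agent.Lib.Helper44.WronskiA

/-! Finiteness of the set of pencils with a fully specified ramification divisor. (helper44)

A separable base-point-free pencil of degree `d` with ramification index `e i` at `P i`,
`∑ (e i - 1) = 2d - 2`, has a unique normalised basis `F = X^d + (degree < d - 1)`,
`G = X^(d-1) + ...`, whose Wronskian is `-∏ (X - P i)^(e i - 1)`. So the pencils inject into one
fibre of the Wronski map on normalised pairs, which is finite when `p = 0` or `d < p`. -/

set_option autoImplicit false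
set_option linter.style.haveILetI false
set_option linter.unusedSectionVars false

universe u

namespace Groth.Agent.Lib.Helper44.Pencil

open Polynomial W4c1limliniiii

variable {k : Type u} [Field k]

/-- the expected Wronskian -/
noncomputable def W0 {n : ℕ} (P : Fin n → k) (e : Fin n → ℕ) : k[X] :=
  ∏ i, (X - C (P i)) ^ (e i - 1)

theorem monic_W0 {n : ℕ} (P : Fin n → k) (e : Fin n → ℕ) : (W0 P e).Monic :=
  monic_prod_of_monic _ _ fun _ _ => (monic_X_sub_C _).pow _

theorem natDegree_W0 {n : ℕ} (P : Fin n → k) (e : Fin n → ℕ) :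
    (W0 P e).natDegree = ∑ i, (e i - 1) := by
  unfold W0
  rw [natDegree_prod_of_monic _ _ fun i _ => (monic_X_sub_C _).pow _]
  exact Finset.sum_congr rfl fun i _ => natDegree_X_sub_C_pow _ _

theorem W0_dvd {n : ℕ} {P : Fin n → k} (hP : Function.Injective P) (e : Fin n → ℕ) {Q : k[X]}
    (h : ∀ i, (X - C (P i)) ^ (e i - 1) ∣ Q) : W0 P e ∣ Q := by
  unfold W0
  apply Finset.prod_dvd_of_coprime
  · intro i _ j _ hij
    exact isCoprime_pow_X_sub_C (fun h => hij (hP h)) _ _
  · intro i _
    exact h i

/-- the Wronskian of a basis of a pencil with the given ramification -/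
theorem wronskian_facts {d n : ℕ} {P : Fin n → k} (hP : Function.Injective P) {e : Fin n → ℕ}
    {V : Submodule k k[X]} (hV : V ∈ ramMaps d P e) {A B : k[X]} (hA : A ∈ V) (hB : B ∈ V)
    (hind : ∀ x y : k, x • A + y • B = 0 → x = 0 ∧ y = 0) :
    wronskian A B ≠ 0 ∧ W0 P e ∣ wronskian A B := by
  obtain ⟨hpen, hsep, hram⟩ := hV
  have hspan := exists_repr hpen.2.1 hA hB hind
  constructor
  · obtain ⟨F, hF, G, hG, hW⟩ := hsep
    obtain ⟨a1, b1, rfl⟩ := hspan F hF
    obtain ⟨a2, b2, rfl⟩ := hspan G hG
    rw [wronskian_lin] at hW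
    intro h0
    rw [h0, smul_zero] at hW
    exact hW rfl
  · apply W0_dvd hP
    intro i
    obtain ⟨s, hs, hs0, hmult⟩ := (hram i).1
    obtain ⟨x, y, rfl⟩ := hspan s hs
    exact dvd_wronskian_basis (P i) hs0 ((le_rootMultiplicity_iff hs0).mp hmult)

/-- the normalised basis -/
theorem exists_normalised {d n : ℕ} (hd : 1 ≤ d) {P : Fin n → k} (hP : Function.Injective P)
    {e : Fin n → ℕ} (hsum : ∑ i, (e i - 1) = 2 * (d - 1)) {V : Submodule k k[X]}
    (hV : V ∈ ramMaps d P e) :
    ∃ F G : k[X], F ∈ V ∧ G ∈ V ∧ F.Monic ∧ F.natDegree = d ∧ G.Monic ∧ G.natDegree = d - 1 ∧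
      F.coeff (d - 1) = 0 ∧ (∀ x y : k, x • F + y • G = 0 → x = 0 ∧ y = 0) := by
  have hpen := hV.1
  obtain ⟨hle, h2, ⟨s, hsV, hsd⟩, -⟩ := hpen
  have hs0 : s ≠ 0 := by
    rintro rfl
    rw [natDegree_zero] at hsd
    omega
  have hslc : s.coeff d ≠ 0 := by
    rw [← hsd]
    exact leadingCoeff_ne_zero.mpr hs0
  -- a second member, not a multiple of `s`
  have ht0 : ∃ t0 ∈ V, ∀ c : k, t0 ≠ c • s := by
    by_contra hcon
    push Not at hcon
    have h1 : Module.finrank k V ≤ 1 := by
      apply finrank_le_one (⟨s, hsV⟩ : V)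
      intro w
      obtain ⟨c, hc⟩ := hcon w.1 w.2
      exact ⟨c, Subtype.ext hc.symm⟩
    omega
  obtain ⟨t0, ht0V, ht0⟩ := ht0
  set t := t0 - (t0.coeff d / s.coeff d) • s with ht
  have htV : t ∈ V := V.sub_mem ht0V (V.smul_mem _ hsV)
  have htne : t ≠ 0 := by
    intro h
    exact ht0 _ (sub_eq_zero.mp h)
  have htd0 : t.coeff d = 0 := by
    rw [ht, coeff_sub, coeff_smul, smul_eq_mul, div_mul_cancel₀ _ hslc, sub_self]
  have htle : t.natDegree ≤ d := natDegree_le_of_mem hle htV
  have htlt : t.natDegree < d := by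
    apply lt_of_le_of_ne htle
    intro h
    apply leadingCoeff_ne_zero.mpr htne
    rw [leadingCoeff, h, htd0]
  have hindst : ∀ x y : k, x • s + y • t = 0 → x = 0 ∧ y = 0 := by
    intro x y hxy
    have h1 := congrArg (fun q => q.coeff d) hxy
    simp only [coeff_add, coeff_smul, smul_eq_mul, htd0, mul_zero, add_zero, coeff_zero] at h1
    have hx : x = 0 := (mul_eq_zero.mp h1).resolve_right hslc
    refine ⟨hx, ?_⟩
    rw [hx, zero_smul, zero_add] at hxy
    exact (smul_eq_zero.mp hxy).resolve_right htne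
  -- the degree of `t`
  obtain ⟨hW0, hdvd⟩ := wronskian_facts hP hV hsV htV hindst
  have h3 := natDegree_le_of_dvd hdvd hW0
  rw [natDegree_W0, hsum] at h3
  have h4 := natDegree_wronskian_lt_add hW0
  rw [hsd] at h4
  have htd : t.natDegree = d - 1 := by omega
  -- normalise
  have htlc : t.leadingCoeff ≠ 0 := leadingCoeff_ne_zero.mpr htne
  have hslc' : s.leadingCoeff ≠ 0 := leadingCoeff_ne_zero.mpr hs0
  set G := (t.leadingCoeff)⁻¹ • t with hG
  set F0 := (s.leadingCoeff)⁻¹ • s with hF0
  have hGV : G ∈ V := V.smul_mem _ htV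
  have hF0V : F0 ∈ V := V.smul_mem _ hsV
  have hGm : G.Monic := by
    rw [hG, smul_eq_C_mul]
    exact monic_C_mul_of_mul_leadingCoeff_eq_one (inv_mul_cancel₀ htlc)
  have hF0m : F0.Monic := by
    rw [hF0, smul_eq_C_mul]
    exact monic_C_mul_of_mul_leadingCoeff_eq_one (inv_mul_cancel₀ hslc')
  have hGd : G.natDegree = d - 1 := by
    rw [hG, smul_eq_C_mul, natDegree_C_mul (inv_ne_zero htlc), htd]
  have hF0d : F0.natDegree = d := by
    rw [hF0, smul_eq_C_mul, natDegree_C_mul (inv_ne_zero hslc'), hsd]
  set c := F0.coeff (d - 1) with hc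
  have hdeglt : (C c * G).natDegree < F0.natDegree := by
    have := natDegree_C_mul_le c G
    omega
  set F := F0 - C c * G with hF
  have hFV : F ∈ V := by
    rw [hF, ← smul_eq_C_mul]
    exact V.sub_mem hF0V (V.smul_mem _ hGV)
  have hFm : F.Monic := hF0m.sub_of_left (degree_lt_degree hdeglt)
  have hFd : F.natDegree = d := by
    rw [hF, natDegree_sub_eq_left_of_natDegree_lt hdeglt, hF0d]
  have hGc : G.coeff (d - 1) = 1 := by
    rw [← hGd]
    exact hGm.coeff_natDegree
  have hFc : F.coeff (d - 1) = 0 := by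
    rw [hF, coeff_sub, coeff_C_mul, hGc, mul_one, hc, sub_self]
  refine ⟨F, G, hFV, hGV, hFm, hFd, hGm, hGd, hFc, ?_⟩
  intro x y hxy
  have h1 := congrArg (fun q => q.coeff d) hxy
  have hFcd : F.coeff d = 1 := by
    rw [← hFd]
    exact hFm.coeff_natDegree
  have hGcd : G.coeff d = 0 := coeff_eq_zero_of_natDegree_lt (by omega)
  simp only [coeff_add, coeff_smul, smul_eq_mul, hFcd, hGcd, mul_zero, add_zero, coeff_zero,
    mul_one] at h1
  refine ⟨h1, ?_⟩
  rw [h1, zero_smul, zero_add] at hxy
  exact (smul_eq_zero.mp hxy).resolve_right hGm.ne_zero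

/-- **finiteness of the pencils with a fully specified ramification divisor** -/
theorem ramMaps_finite [IsAlgClosed k] (p : ℕ) [CharP k p] (d n : ℕ) (P : Fin n → k)
    (hP : Function.Injective P) (e : Fin n → ℕ) (he : Admissible p d e) (hp : p = 0 ∨ d < p) :
    (ramMaps d P e).Finite := by
  obtain ⟨he1, he2⟩ := he
  -- numerology
  have hsum1 : ∑ i, (e i - 1) + n = ∑ i, e i := by
    have h1 : ∑ i : Fin n, ((e i - 1) + 1) = ∑ i, e i :=
      Finset.sum_congr rfl fun i _ => by have := (he1 i).1; omega
    rw [Finset.sum_add_distrib] at h1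
    simpa using h1
  have hge : 2 * n ≤ ∑ i, e i := by
    have h1 : ∑ _i : Fin n, 2 ≤ ∑ i, e i := Finset.sum_le_sum fun i _ => (he1 i).1
    simpa [mul_comm] using h1
  have hd : 1 ≤ d := by omega
  obtain ⟨r, rfl⟩ : ∃ r, d = r + 1 := ⟨d - 1, by omega⟩
  have hsum : ∑ i, (e i - 1) = 2 * (r + 1 - 1) := by omega
  have hchar : ∀ m : ℕ, 0 < m → m ≤ r + 1 → (m : k) ≠ 0 := by
    intro m hm0 hm h
    rw [CharP.cast_eq_zero_iff k p m] at h
    rcases hp with hp | hp
    · subst hp
      rw [zero_dvd_iff] at h
      omega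
    · have := Nat.le_of_dvd hm0 h
      omega
  set c : Fin (2 * r) → k := fun j => (- W0 P e).coeff j with hc
  have hfin := finite_param r hchar c
  have hsub : ramMaps (r + 1) P e ⊆ (fun x : Idx r → k => Submodule.span k {Fx r x, Gx r x}) ''
      {x : Idx r → k | ∀ j : Fin (2 * r), (wronskian (Fx r x) (Gx r x)).coeff j = c j} := by
    intro V hV
    obtain ⟨F, G, hFV, hGV, hFm, hFd, hGm, hGd, hFr, hind⟩ := exists_normalised hd hP hsum hV
    rw [Nat.add_sub_cancel] at hGd hFr
    obtain ⟨hW0, hdvd⟩ := wronskian_facts hP hV hFV hGV hind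
    have hFc : F.coeff (r + 1) = 1 := by
      rw [← hFd]
      exact hFm.coeff_natDegree
    have hGc : G.coeff r = 1 := by
      rw [← hGd]
      exact hGm.coeff_natDegree
    have hWle : (wronskian F G).natDegree ≤ 2 * r := natDegree_wronskian_le hFd.le hGd.le
    have htop : (wronskian F G).coeff (2 * r) = -1 := coeff_wronskian_top hFd.le hGd.le hFc hGc
    have hW0d : (W0 P e).natDegree = 2 * r := by
      rw [natDegree_W0, hsum, Nat.add_sub_cancel]
    have hWeq : wronskian F G = - W0 P e := by
      obtain ⟨q, hq⟩ := hdvd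
      have hq0 : q ≠ 0 := by
        rintro rfl
        rw [mul_zero] at hq
        exact hW0 hq
      have h1 := congrArg natDegree hq
      rw [natDegree_mul (monic_W0 P e).ne_zero hq0, hW0d] at h1
      have hqd : q.natDegree = 0 := by omega
      have hqC : q = C (q.coeff 0) := eq_C_of_natDegree_eq_zero hqd
      rw [hqC] at hq
      have h5 : (wronskian F G).coeff (2 * r) = q.coeff 0 := by
        rw [hq, coeff_mul_C, ← hW0d, (monic_W0 P e).coeff_natDegree, one_mul]
      rw [htop] at h5
      rw [hq, ← h5, C_neg, C_1, mul_neg, mul_one]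
    -- the coefficient vector
    refine ⟨Sum.elim (fun i : Fin r => F.coeff i) (fun i : Fin r => G.coeff i), ?_, ?_⟩
    · have hFx : Fx r (Sum.elim (fun i : Fin r => F.coeff i) (fun i : Fin r => G.coeff i)) = F := by
        unfold Fx
        simp only [Sum.elim_inl]
        apply mk_eq_of_coeff (by omega) hFc
        · intro j hj
          exact coeff_eq_zero_of_natDegree_lt (by omega)
        · intro j hj1 hj2
          have : j = r := by omega
          rw [this, hFr]
      have hGx : Gx r (Sum.elim (fun i : Fin r => F.coeff i) (fun i : Fin r => G.coeff i)) = G := by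
        unfold Gx
        simp only [Sum.elim_inr]
        apply mk_eq_of_coeff le_rfl hGc
        · intro j hj
          exact coeff_eq_zero_of_natDegree_lt (by omega)
        · intro j hj1 hj2
          omega
      intro j
      rw [hFx, hGx, hWeq]
    · have hFx : Fx r (Sum.elim (fun i : Fin r => F.coeff i) (fun i : Fin r => G.coeff i)) = F := by
        unfold Fx
        simp only [Sum.elim_inl]
        apply mk_eq_of_coeff (by omega) hFc
        · intro j hj
          exact coeff_eq_zero_of_natDegree_lt (by omega)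
        · intro j hj1 hj2
          have : j = r := by omega
          rw [this, hFr]
      have hGx : Gx r (Sum.elim (fun i : Fin r => F.coeff i) (fun i : Fin r => G.coeff i)) = G := by
        unfold Gx
        simp only [Sum.elim_inr]
        apply mk_eq_of_coeff le_rfl hGc
        · intro j hj
          exact coeff_eq_zero_of_natDegree_lt (by omega)
        · intro j hj1 hj2
          omega
      simp only [hFx, hGx]
      apply le_antisymm
      · rw [Submodule.span_le]
        rintro s (rfl | rfl)
        · exact hFV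
        · exact hGV
      · intro s hs
        obtain ⟨a, b, rfl⟩ := exists_repr hV.1.2.1 hFV hGV hind s hs
        exact Submodule.add_mem _ (Submodule.smul_mem _ _ (Submodule.subset_span (by simp)))
          (Submodule.smul_mem _ _ (Submodule.subset_span (by simp)))
  exact (hfin.image _).subset hsub

end Groth.Agent.Lib.Helper44.Pencil
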