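import Groth.Agent.Lib.Helper51.FinFibre
import Groth.Agent.Lib.Helper78.GalTrans
import Groth.Prelude.Def_ResDeg

/-!
# helper44: closed points of `X_{k̄}` over closed points of `X` (perfect `k`)

* `resAlg`, `residueDegree_eq_finrank`: the prelude residue degree over `Spec k` is `[κ(x) : k]`.
* `finite_of_isClosed`: residue fields of closed points are finite over `k`.
* `card_fibre`: for `k` perfect and `x` closed, the fibre of `X_{k̄} ⟶ X` over `x` has exactly
  `[κ(x) : k]` points.
* `isClosed_of_isClosed_fst`: points over closed points are closed.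
* `finsum_comp_eq`: fibrewise counting for finitely supported functions.
-/

set_option autoImplicit false
set_option linter.style.haveILetI false
set_option linter.unusedSectionVars false
universe u
open CategoryTheory CategoryTheory.Limits AlgebraicGeometry TensorProduct

namespace Groth.Agent.Lib.Helper44.ZeroCycGal

open Groth.Agent.Lib.Helper51

section Count

/-- fibrewise counting for finitely supported `ℕ`-valued functions -/
theorem finsum_comp_eq {α β : Type*} (p : α → β) (c : β → ℕ) (deg : β → ℕ)
    (hc : (Function.support c).Finite)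
    (hfin : ∀ x, c x ≠ 0 → Finite ↥(p ⁻¹' {x}))
    (hcard : ∀ x, c x ≠ 0 → Nat.card ↥(p ⁻¹' {x}) = deg x) :
    ∑ᶠ y, c (p y) = ∑ᶠ x, c x * deg x := by
  classical
  set s : Finset β := hc.toFinset with hs
  have hsmem : ∀ x, x ∈ s ↔ c x ≠ 0 := fun x => by rw [hs, Set.Finite.mem_toFinset]; rfl
  have hfibfin : ∀ x ∈ s, (p ⁻¹' {x}).Finite := fun x hx =>
    Set.finite_coe_iff.mp (hfin x ((hsmem x).1 hx))
  have hpre : (p ⁻¹' (Function.support c)).Finite := by
    have : p ⁻¹' (Function.support c) = ⋃ x ∈ s, p ⁻¹' {x} := by
      ext y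
      simp only [Set.mem_preimage, Function.mem_support, Set.mem_iUnion, Set.mem_singleton_iff,
        exists_prop]
      constructor
      · intro h; exact ⟨p y, (hsmem _).2 h, rfl⟩
      · rintro ⟨x, hx, rfl⟩; exact (hsmem _).1 hx
    rw [this]
    exact Set.Finite.biUnion s.finite_toSet (fun x hx => hfibfin x hx)
  set t : Finset α := hpre.toFinset with ht
  have htmem : ∀ y, y ∈ t ↔ c (p y) ≠ 0 := fun y => by
    rw [ht, Set.Finite.mem_toFinset]; rfl
  have h1 : ∑ᶠ y, c (p y) = ∑ y ∈ t, c (p y) := by
    apply finsum_eq_sum_of_support_subset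
    intro y hy
    exact Finset.mem_coe.2 ((htmem y).2 hy)
  have h2 : ∑ᶠ x, c x * deg x = ∑ x ∈ s, c x * deg x := by
    apply finsum_eq_sum_of_support_subset
    intro x hx
    refine Finset.mem_coe.2 ((hsmem x).2 ?_)
    intro h0
    apply hx
    show c x * deg x = 0
    rw [h0, zero_mul]
  rw [h1, h2, ← Finset.sum_fiberwise_of_maps_to (s := t) (t := s) (g := p)
    (fun y hy => (hsmem _).2 ((htmem y).1 hy))]
  apply Finset.sum_congr rfl
  intro x hx
  have hx0 := (hsmem x).1 hx
  have h3 : ∀ y ∈ t.filter (fun y => p y = x), c (p y) = c x := by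
    intro y hy
    rw [(Finset.mem_filter.1 hy).2]
  rw [Finset.sum_congr rfl h3, Finset.sum_const, smul_eq_mul, mul_comm]
  congr 1
  rw [← hcard x hx0]
  haveI := hfin x hx0
  rw [Nat.card_eq_card_finite_toFinset (hfibfin x hx)]
  congr 1
  ext y
  simp only [Finset.mem_filter, Set.Finite.mem_toFinset, Set.mem_preimage, Set.mem_singleton_iff]
  constructor
  · exact fun h => h.2
  · intro h
    exact ⟨(htmem y).2 (by rw [h]; exact hx0), h⟩

end Count

variable {k : Type u} [Field k] {X : Scheme.{u}} (f : X ⟶ Spec (CommRingCat.of k))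

/-- the `k`-algebra structure of a residue field -/
noncomputable def resAlg (x : X) : CommRingCat.of k ⟶ X.residueField x :=
  Spec.preimage (X.fromSpecResidueField x ≫ f)

theorem SpecMap_resAlg (x : X) : Spec.map (resAlg f x) = X.fromSpecResidueField x ≫ f :=
  Spec.map_preimage _

theorem residueDegree_eq_finrank (x : X) :
    EGA4loc.residueDegree f x =
      @Module.finrank k (X.residueField x) _ _ (resAlg f x).hom.toAlgebra.toModule := by
  set y := f x with hy
  haveI : y.asIdeal.IsMaximal := by
    have : y.asIdeal = ⊥ := Ideal.eq_bot_of_prime y.asIdeal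
    rw [this]
    exact Ideal.bot_isMaximal
  set β : CommRingCat.of k ⟶ (Spec (CommRingCat.of k)).residueField y :=
    CommRingCat.ofHom (algebraMap k y.asIdeal.ResidueField) ≫
      (Scheme.Spec.residueFieldIso (CommRingCat.of k) y).inv with hβdef
  have hSβ : Spec.map β = (Spec (CommRingCat.of k)).fromSpecResidueField y := by
    rw [hβdef, Spec.map_comp]
    exact Scheme.Spec.map_residueFieldIso_inv_eq_fromSpecResidueField _ _
  have hβ : β ≫ f.residueFieldMap x = resAlg f x := by
    apply Spec.map_injective
    rw [Spec.map_comp, SpecMap_resAlg, hSβ,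
      Scheme.Hom.SpecMap_residueFieldMap_fromSpecResidueField]
  have hbij : Function.Bijective β.hom := by
    refine ⟨β.hom.injective, ?_⟩
    intro z
    obtain ⟨c, hc⟩ := Ideal.algebraMap_residueField_surjective y.asIdeal
      ((Scheme.Spec.residueFieldIso (CommRingCat.of k) y).hom.hom z)
    refine ⟨c, ?_⟩
    show (Scheme.Spec.residueFieldIso (CommRingCat.of k) y).inv.hom
      (algebraMap k y.asIdeal.ResidueField c) = z
    rw [hc]
    have := congrArg (fun g => g.hom z) (Scheme.Spec.residueFieldIso (CommRingCat.of k) y).hom_inv_id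
    exact this
  unfold EGA4loc.residueDegree
  letI a1 : Algebra ((Spec (CommRingCat.of k)).residueField y) (X.residueField x) :=
    (f.residueFieldMap x).hom.toAlgebra
  letI a2 : Algebra k (X.residueField x) := (resAlg f x).hom.toAlgebra
  refine (Algebra.finrank_eq_of_equiv_equiv (RingEquiv.ofBijective β.hom hbij)
    (RingEquiv.refl _) ?_).symm
  ext c
  exact congrArg (fun g => g.hom c) hβ

/-- residue fields of closed points are finite over `k` -/
theorem finite_of_isClosed [LocallyOfFiniteType f] (x : X) (hx : IsClosed ({x} : Set X)) :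
    (resAlg f x).hom.Finite := by
  haveI : JacobsonSpace X := LocallyOfFiniteType.jacobsonSpace f
  haveI := isClosed_singleton_iff_isClosedImmersion.mp hx
  have h2 : IsFinite (X.fromSpecResidueField x ≫ f) :=
    (isFinite_iff_locallyOfFiniteType_of_jacobsonSpace
      (f := X.fromSpecResidueField x ≫ f)).mpr inferInstance
  rw [← SpecMap_resAlg, IsFinite.SpecMap_iff] at h2
  exact h2

local notation "π" => pullback.fst f (Spec.map (CommRingCat.ofHom
  (algebraMap k (AlgebraicClosure k))))

/-- the number of points of `X_{k̄}` over a closed point `x` is `[κ(x) : k]` (`k` perfect) -/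
theorem card_fibre [PerfectField k] [LocallyOfFiniteType f] (x : X)
    (hx : IsClosed ({x} : Set X)) :
    Nat.card ↥((pullback.fst f (Spec.map (CommRingCat.ofHom
      (algebraMap k (AlgebraicClosure k))))) ⁻¹' {x}) = EGA4loc.residueDegree f x := by
  rw [residueDegree_eq_finrank]
  letI alg : Algebra k (X.residueField x) := (resAlg f x).hom.toAlgebra
  have hφ : Spec.map (CommRingCat.ofHom (algebraMap k (X.residueField x))) =
      X.fromSpecResidueField x ≫ f := SpecMap_resAlg f x
  haveI hfin : Module.Finite k (X.residueField x) := finite_of_isClosed f x hx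
  haveI : Algebra.IsSeparable k (X.residueField x) :=
    Algebra.IsAlgebraic.isSeparable_of_perfectField
  have htop : separableClosure k (X.residueField x) = ⊤ :=
    (separableClosure.eq_top_iff k (X.residueField x)).mpr inferInstance
  have hsplit : ∀ a : separableClosure k (X.residueField x),
      ((minpoly k a).map (algebraMap k (AlgebraicClosure k))).Splits := fun a =>
    IsSepClosed.splits_codomain _ (Algebra.IsSeparable.isSeparable k a)
  rw [Nat.card_congr (fibreHomeo (K := AlgebraicClosure k) f x hφ).toEquiv,
    card_primeSpectrum_tensor_eq hsplit, htop, IntermediateField.finrank_top']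

/-- points of `X_{k̄}` lying over closed points are closed -/
theorem isClosed_of_isClosed_fst
    (y : ↥(pullback f (Spec.map (CommRingCat.ofHom (algebraMap k (AlgebraicClosure k))))))
    (hx : IsClosed ({(pullback.fst f (Spec.map (CommRingCat.ofHom
      (algebraMap k (AlgebraicClosure k))))) y} : Set X)) :
    IsClosed ({y} : Set ↥(pullback f (Spec.map (CommRingCat.ofHom
      (algebraMap k (AlgebraicClosure k)))))) := by
  obtain ⟨x, hxdef⟩ : ∃ x, x = (pullback.fst f (Spec.map (CommRingCat.ofHom
      (algebraMap k (AlgebraicClosure k))))) y := ⟨_, rfl⟩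
  rw [← hxdef] at hx
  letI alg : Algebra k (X.residueField x) := (resAlg f x).hom.toAlgebra
  have hφ : Spec.map (CommRingCat.ofHom (algebraMap k (X.residueField x))) =
      X.fromSpecResidueField x ≫ f := SpecMap_resAlg f x
  haveI : Algebra.IsIntegral (X.residueField x)
      (X.residueField x ⊗[k] AlgebraicClosure k) := inferInstance
  let e := fibreHomeo (K := AlgebraicClosure k) f x hφ
  rw [← closure_eq_iff_isClosed]
  refine Set.Subset.antisymm ?_ subset_closure
  intro z hz
  have hyz : y ⤳ z := specializes_iff_mem_closure.mpr hz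
  have h1 : (pullback.fst f (Spec.map (CommRingCat.ofHom
      (algebraMap k (AlgebraicClosure k))))) y ⤳ (pullback.fst f (Spec.map (CommRingCat.ofHom
      (algebraMap k (AlgebraicClosure k))))) z :=
    hyz.map (Scheme.Hom.continuous _)
  have h2 : (pullback.fst f (Spec.map (CommRingCat.ofHom
      (algebraMap k (AlgebraicClosure k))))) z = x := by
    have := h1.mem_closed hx (by rw [← hxdef]; exact Set.mem_singleton _)
    exact this
  have h4 : (⟨y, hxdef.symm⟩ : ↥((pullback.fst f (Spec.map (CommRingCat.ofHom
      (algebraMap k (AlgebraicClosure k))))) ⁻¹' {x})) ⤳ ⟨z, h2⟩ :=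
    Topology.IsInducing.subtypeVal.specializes_iff.mp hyz
  have h5 : e ⟨y, hxdef.symm⟩ ⤳ e ⟨z, h2⟩ := h4.map e.continuous
  have h6 := eq_of_specializes_of_isIntegral_field (X.residueField x) _ h5
  have h7 := e.injective h6
  exact (congrArg Subtype.val h7).symm

/-- the projection `X_{k̄} ⟶ X` is surjective -/
theorem fst_surjective : Function.Surjective (pullback.fst f (Spec.map (CommRingCat.ofHom
    (algebraMap k (AlgebraicClosure k))))) := by
  haveI : Surjective (Spec.map (CommRingCat.ofHom (algebraMap k (AlgebraicClosure k)))) := by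
    refine ⟨fun a => ?_⟩
    haveI : Subsingleton ↥(Spec (CommRingCat.of k)) :=
      inferInstanceAs (Subsingleton (PrimeSpectrum k))
    haveI : Nonempty ↥(Spec (CommRingCat.of (AlgebraicClosure k))) :=
      inferInstanceAs (Nonempty (PrimeSpectrum (AlgebraicClosure k)))
    exact ⟨Classical.arbitrary _, Subsingleton.elim _ _⟩
  exact (pullback.fst f (Spec.map (CommRingCat.ofHom
    (algebraMap k (AlgebraicClosure k))))).surjective

/-- a family of automorphisms pinned by its projections is the standard Galois action -/
theorem eq_gal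
    (τ : pullback f (Spec.map (CommRingCat.ofHom (algebraMap k (AlgebraicClosure k)))) ⟶
        pullback f (Spec.map (CommRingCat.ofHom (algebraMap k (AlgebraicClosure k)))))
    (σ : AlgebraicClosure k ≃ₐ[k] AlgebraicClosure k)
    (hτ1 : τ ≫ pullback.fst f _ = pullback.fst f _)
    (hτ2 : τ ≫ pullback.snd f (Spec.map (CommRingCat.ofHom
        (algebraMap k (AlgebraicClosure k)))) =
      pullback.snd f _ ≫ Spec.map (CommRingCat.ofHom
        (σ : AlgebraicClosure k →+* AlgebraicClosure k))) :
    τ = Groth.Agent.Lib.Helper78.GalTrans.gal f (AlgebraicClosure k) σ := by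
  apply pullback.hom_ext
  · rw [hτ1, Groth.Agent.Lib.Helper78.GalTrans.gal_fst]
  · rw [hτ2, Groth.Agent.Lib.Helper78.GalTrans.gal_snd]
    rfl

end Groth.Agent.Lib.Helper44.ZeroCycGal
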